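import Mathlib
import Cfsg.Prelude.Def_Sz

set_option autoImplicit false

namespace Cfsg.Agent.Helper39

open Matrix

/-- Hypotheses on the exponent `r` making `x ↦ x ^ r` a Tits endomorphism in characteristic two. -/
structure TitsHyp (F : Type*) [Field F] (r : ℕ) : Prop where
  rpos : 0 < r
  two : (2 : F) = 0
  add : ∀ x y : F, (x + y) ^ r = x ^ r + y ^ r
  sq : ∀ x : F, (x ^ r) ^ r = x ^ 2

variable {F : Type*} [Field F]

/-- The lower unitriangular Suzuki matrices. -/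
def sMat (r : ℕ) (a b : F) : Matrix (Fin 4) (Fin 4) F :=
  !![1, 0, 0, 0;
     a, 1, 0, 0;
     a * a ^ r + b, a ^ r, 1, 0;
     a ^ 2 * a ^ r + a * b + b ^ r, b, a, 1]

/-- The antidiagonal matrix. -/
def tMat : Matrix (Fin 4) (Fin 4) F :=
  !![0, 0, 0, 1;
     0, 0, 1, 0;
     0, 1, 0, 0;
     1, 0, 0, 0]

theorem tMat_mul_tMat : (tMat : Matrix (Fin 4) (Fin 4) F) * tMat = 1 := by
  ext i j
  fin_cases i <;> fin_cases j <;> simp [tMat, Matrix.mul_apply, Fin.sum_univ_four]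

theorem sMat_zero {r : ℕ} (hr : 0 < r) : sMat r (0 : F) 0 = 1 := by
  ext i j
  fin_cases i <;> fin_cases j <;> simp [sMat, hr.ne']

theorem sMat_mul {r : ℕ} (h : TitsHyp F r) (a b a' b' : F) :
    sMat r a b * sMat r a' b' = sMat r (a + a') (b + b' + a * a' ^ r) := by
  have h2 := h.two
  have e1 : (a + a') ^ r = a ^ r + a' ^ r := h.add a a'
  have e2 : (b + b' + a * a' ^ r) ^ r = b ^ r + b' ^ r + a ^ r * a' ^ 2 := by
    rw [h.add, h.add, mul_pow, h.sq]
  ext i j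
  fin_cases i <;> fin_cases j <;>
    simp [sMat, Matrix.mul_apply, Fin.sum_univ_four, e1, e2] <;>
    (rw [← sub_eq_zero]; ring_nf; try simp [h2])

theorem sMat_mul_inv {r : ℕ} (h : TitsHyp F r) (a b : F) :
    sMat r a b * sMat r a (a * a ^ r + b) = 1 := by
  rw [sMat_mul h, ← sMat_zero (F := F) h.rpos]
  have h2 := h.two
  congr 1
  · linear_combination a * h2
  · linear_combination (b + a * a ^ r) * h2

theorem sMat_inv_mul {r : ℕ} (h : TitsHyp F r) (a b : F) :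
    sMat r a (a * a ^ r + b) * sMat r a b = 1 := by
  rw [sMat_mul h, ← sMat_zero (F := F) h.rpos]
  have h2 := h.two
  congr 1
  · linear_combination a * h2
  · linear_combination (b + a * a ^ r) * h2

/-- The Suzuki unipotent elements in `GL₄`. -/
def gS {r : ℕ} (h : TitsHyp F r) (a b : F) : GL (Fin 4) F :=
  ⟨sMat r a b, sMat r a (a * a ^ r + b), sMat_mul_inv h a b, sMat_inv_mul h a b⟩

/-- The Weyl element in `GL₄`. -/
def gT : GL (Fin 4) F := ⟨tMat, tMat, tMat_mul_tMat, tMat_mul_tMat⟩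

theorem gS_val {r : ℕ} (h : TitsHyp F r) (a b : F) :
    ((gS h a b : GL (Fin 4) F) : Matrix (Fin 4) (Fin 4) F) = sMat r a b := rfl

theorem gS_inv_val {r : ℕ} (h : TitsHyp F r) (a b : F) :
    (((gS h a b)⁻¹ : GL (Fin 4) F) : Matrix (Fin 4) (Fin 4) F) = sMat r a (a * a ^ r + b) := rfl

theorem gT_val : ((gT : GL (Fin 4) F) : Matrix (Fin 4) (Fin 4) F) = tMat := rfl

theorem gT_inv_val : (((gT : GL (Fin 4) F)⁻¹ : GL (Fin 4) F) : Matrix (Fin 4) (Fin 4) F) = tMat := rfl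

theorem sMat_altForm {r : ℕ} (h : TitsHyp F r) (a b : F) (u v : Fin 4 → F) :
    Cfsg.Lie.altForm4 (sMat r a b *ᵥ u) (sMat r a b *ᵥ v) = Cfsg.Lie.altForm4 u v := by
  have h2 := h.two
  have h4 : (4 : F) = 0 := by linear_combination 2 * h2
  simp only [Cfsg.Lie.altForm4, sMat, Matrix.mulVec, dotProduct, Fin.sum_univ_four]
  simp
  rw [← sub_eq_zero]
  ring_nf
  try simp [h2, h4]

theorem tMat_altForm (u v : Fin 4 → F) :
    Cfsg.Lie.altForm4 ((tMat : Matrix (Fin 4) (Fin 4) F) *ᵥ u) (tMat *ᵥ v) =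
      Cfsg.Lie.altForm4 u v := by
  simp only [Cfsg.Lie.altForm4, tMat, Matrix.mulVec, dotProduct, Fin.sum_univ_four]
  simp
  ring

theorem sMat_star {r : ℕ} (h : TitsHyp F r) (a b : F) :
    Cfsg.Lie.star4 (sMat r a b) = (sMat r a b).map (fun x => x ^ r) := by
  have h2 := h.two
  have e1 : ∀ x : F, (x ^ r) ^ r = x ^ 2 := h.sq
  have e2 : ∀ x y : F, (x + y) ^ r = x ^ r + y ^ r := h.add
  have e3 : (0 : F) ^ r = 0 := zero_pow h.rpos.ne'
  ext i j
  fin_cases i <;> fin_cases j <;>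
    simp [Cfsg.Lie.star4, Cfsg.Lie.pairOf, sMat, e1, e2, e3, mul_pow] <;>
    (rw [← sub_eq_zero]; ring_nf; try simp [h2])

theorem tMat_star {r : ℕ} (h : TitsHyp F r) :
    Cfsg.Lie.star4 (tMat : Matrix (Fin 4) (Fin 4) F) = (tMat).map (fun x => x ^ r) := by
  have h2 := h.two
  have hr := h.rpos
  ext i j
  fin_cases i <;> fin_cases j <;>
    simp [Cfsg.Lie.star4, Cfsg.Lie.pairOf, tMat, hr.ne'] <;>
    linear_combination (-1 : F) * h2

theorem gS_mem_Sz {r : ℕ} (h : TitsHyp F r) (a b : F) : gS h a b ∈ Cfsg.Lie.Sz F r := by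
  apply Subgroup.subset_closure
  refine ⟨?_, ?_⟩
  · intro u v
    exact sMat_altForm h a b u v
  · exact sMat_star h a b

theorem gT_mem_Sz {r : ℕ} (h : TitsHyp F r) : (gT : GL (Fin 4) F) ∈ Cfsg.Lie.Sz F r := by
  apply Subgroup.subset_closure
  refine ⟨?_, ?_⟩
  · intro u v
    exact tMat_altForm u v
  · exact tMat_star h

/-- The Tits hypotheses hold for the field with `2 ^ (2 m + 1)` elements and `r = 2 ^ (m + 1)`. -/
theorem titsHyp_of_card [Fintype F] (m : ℕ) (hF : Fintype.card F = 2 ^ (2 * m + 1)) :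
    TitsHyp F (2 ^ (m + 1)) := by
  obtain ⟨p, hp⟩ := CharP.exists F
  obtain ⟨n, hpr, hn⟩ := FiniteField.card F p
  have hp2 : p = 2 := by
    have h1 : p ∣ 2 ^ (2 * m + 1) := by
      rw [← hF, hn]
      exact dvd_pow_self p (by
        intro h0
        rw [h0, pow_zero] at hn
        rw [hn] at hF
        have : 2 ≤ 2 ^ (2 * m + 1) := Nat.le_self_pow (by omega) 2
        omega)
    exact (Nat.prime_dvd_prime_iff_eq hpr Nat.prime_two).mp (hpr.dvd_of_dvd_pow h1)
  subst hp2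
  have : Fact (Nat.Prime 2) := ⟨Nat.prime_two⟩
  refine ⟨by positivity, CharTwo.two_eq_zero, fun x y => add_pow_char_pow x y 2 (m + 1), fun x => ?_⟩
  rw [← pow_mul]
  have : 2 ^ (m + 1) * 2 ^ (m + 1) = Fintype.card F * 2 := by
    rw [hF]; ring
  rw [this, pow_mul, FiniteField.pow_card]

end Cfsg.Agent.Helper39
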