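import Mathlib
import Cfsg.Prelude.Def_Sz
import Cfsg.Agent.Lib.Helper39.SuzukiMat

set_option autoImplicit false

namespace Cfsg.Agent.Helper39

open Matrix Cfsg.Lie

variable {F : Type*} [Field F]

/-- The antidiagonal Gram matrix of `altForm4`. -/
def J4 (F : Type*) [Field F] : Matrix (Fin 4) (Fin 4) F :=
  !![0, 0, 0, 1; 0, 0, 1, 0; 0, 1, 0, 0; 1, 0, 0, 0]

theorem J4_eq_tMat : J4 F = tMat := rfl

theorem J4_mul_self : J4 F * J4 F = 1 := tMat_mul_tMat

theorem J4_transpose : (J4 F)ᵀ = J4 F := by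
  ext i j
  fin_cases i <;> fin_cases j <;> simp [J4]

/-- Matrix form of the symplectic condition. -/
def IsSp (g : Matrix (Fin 4) (Fin 4) F) : Prop := gᵀ * J4 F * g = J4 F

theorem IsSp.col {g : Matrix (Fin 4) (Fin 4) F} (h : IsSp g) (i j : Fin 4) :
    g 0 i * g 3 j + g 1 i * g 2 j + g 2 i * g 1 j + g 3 i * g 0 j = J4 F i j := by
  have := congrFun (congrFun h i) j
  rw [← this]
  simp [Matrix.mul_apply, Fin.sum_univ_four, J4]
  ring

theorem IsSp.mul_transpose {g : Matrix (Fin 4) (Fin 4) F} (h : IsSp g) :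
    g * J4 F * gᵀ = J4 F := by
  have h1 : (J4 F * gᵀ * J4 F) * g = 1 := by
    rw [Matrix.mul_assoc, Matrix.mul_assoc, ← Matrix.mul_assoc gᵀ, h, J4_mul_self]
  have h2 : g * (J4 F * gᵀ * J4 F) = 1 := mul_eq_one_comm.mp h1
  calc g * J4 F * gᵀ = g * (J4 F * gᵀ * J4 F) * J4 F := by
        simp only [Matrix.mul_assoc, J4_mul_self, Matrix.mul_one]
    _ = J4 F := by rw [h2, Matrix.one_mul]

theorem IsSp.inv_mul {g : Matrix (Fin 4) (Fin 4) F} (h : IsSp g) :
    (J4 F * gᵀ * J4 F) * g = 1 := by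
  rw [Matrix.mul_assoc, Matrix.mul_assoc, ← Matrix.mul_assoc gᵀ, h, J4_mul_self]

theorem IsSp.mul_inv {g : Matrix (Fin 4) (Fin 4) F} (h : IsSp g) :
    g * (J4 F * gᵀ * J4 F) = 1 := mul_eq_one_comm.mp h.inv_mul

theorem IsSp.row {g : Matrix (Fin 4) (Fin 4) F} (h : IsSp g) (k l : Fin 4) :
    g k 0 * g l 3 + g k 1 * g l 2 + g k 2 * g l 1 + g k 3 * g l 0 = J4 F k l := by
  have := congrFun (congrFun h.mul_transpose k) l
  rw [← this]
  simp [Matrix.mul_apply, Fin.sum_univ_four, J4]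
  ring

theorem IsSp.mul {g h : Matrix (Fin 4) (Fin 4) F} (hg : IsSp g) (hh : IsSp h) : IsSp (g * h) := by
  unfold IsSp at *
  calc (g * h)ᵀ * J4 F * (g * h) = hᵀ * (gᵀ * J4 F * g) * h := by
        rw [Matrix.transpose_mul]; simp only [Matrix.mul_assoc]
    _ = J4 F := by rw [hg, hh]

theorem isSp_one : IsSp (1 : Matrix (Fin 4) (Fin 4) F) := by
  unfold IsSp; simp

theorem IsSp.inv {g : Matrix (Fin 4) (Fin 4) F} (h : IsSp g) : IsSp (J4 F * gᵀ * J4 F) := by
  unfold IsSp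
  have h1 := h.mul_transpose
  rw [Matrix.transpose_mul, Matrix.transpose_mul, Matrix.transpose_transpose, J4_transpose]
  calc J4 F * (g * J4 F) * J4 F * (J4 F * gᵀ * J4 F)
      = J4 F * (g * (J4 F * (J4 F * J4 F) * gᵀ)) * J4 F := by simp only [Matrix.mul_assoc]
    _ = J4 F * (g * J4 F * gᵀ) * J4 F := by
        rw [J4_mul_self, Matrix.mul_one]; simp only [Matrix.mul_assoc]
    _ = J4 F := by rw [h1, J4_mul_self, Matrix.one_mul]

/-- True 2×2 minor on rows `k l`, columns `i j`. -/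
def minor2 (g : Matrix (Fin 4) (Fin 4) F) (k l i j : Fin 4) : F :=
  g k i * g l j - g l i * g k j

theorem star4_apply (g : Matrix (Fin 4) (Fin 4) F) (p r : Fin 4) :
    star4 g p r = minor2 g (pairOf p).1 (pairOf p).2 (pairOf r).1 (pairOf r).2 := rfl

theorem IsSp.colMinor (h2 : (2 : F) = 0) {g : Matrix (Fin 4) (Fin 4) F} (h : IsSp g)
    (i j : Fin 4) : minor2 g 0 3 i j + minor2 g 1 2 i j = J4 F i j := by
  have := h.col i j
  unfold minor2
  linear_combination this - (g 3 i * g 0 j + g 2 i * g 1 j) * h2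

theorem IsSp.rowMinor (h2 : (2 : F) = 0) {g : Matrix (Fin 4) (Fin 4) F} (h : IsSp g)
    (k l : Fin 4) : minor2 g k l 0 3 + minor2 g k l 1 2 = J4 F k l := by
  have := h.row k l
  unfold minor2
  linear_combination this - (g l 0 * g k 3 + g l 1 * g k 2) * h2

theorem J4_pair (p : Fin 4) : J4 F (pairOf p).1 (pairOf p).2 = 0 := by
  fin_cases p <;> simp [J4, pairOf]

/-- Cauchy–Binet for 2×2 minors of 4×4 matrices. -/
theorem minor2_mul (g h : Matrix (Fin 4) (Fin 4) F) (k l i j : Fin 4) :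
    minor2 (g * h) k l i j =
      minor2 g k l 0 1 * minor2 h 0 1 i j + minor2 g k l 0 2 * minor2 h 0 2 i j +
      minor2 g k l 0 3 * minor2 h 0 3 i j + minor2 g k l 1 2 * minor2 h 1 2 i j +
      minor2 g k l 1 3 * minor2 h 1 3 i j + minor2 g k l 2 3 * minor2 h 2 3 i j := by
  simp only [minor2, Matrix.mul_apply, Fin.sum_univ_four]
  ring

/-- `star4` is multiplicative on symplectic matrices in characteristic 2. -/
theorem star4_mul (h2 : (2 : F) = 0) {g h : Matrix (Fin 4) (Fin 4) F} (hg : IsSp g)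
    (hh : IsSp h) : star4 (g * h) = star4 g * star4 h := by
  ext p r
  rw [Matrix.mul_apply, Fin.sum_univ_four]
  simp only [star4_apply]
  rw [minor2_mul]
  have hr := hg.rowMinor h2 (pairOf p).1 (pairOf p).2
  have hc := hh.colMinor h2 (pairOf r).1 (pairOf r).2
  rw [J4_pair] at hr hc
  have e0 : pairOf (0 : Fin 4) = (0, 1) := rfl
  have e1 : pairOf (1 : Fin 4) = (0, 2) := rfl
  have e2 : pairOf (2 : Fin 4) = (1, 3) := rfl
  have e3 : pairOf (3 : Fin 4) = (2, 3) := rfl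
  simp only [e0, e1, e2, e3]
  generalize (pairOf p).1 = k at *
  generalize (pairOf p).2 = l at *
  generalize (pairOf r).1 = i at *
  generalize (pairOf r).2 = j at *
  linear_combination (minor2 h 0 3 i j) * hr + (minor2 g k l 1 2) * hc
    - (minor2 g k l 1 2) * (minor2 h 0 3 i j) * h2

/-- The Tits endomorphism as a ring homomorphism. -/
def thetaHom {r : ℕ} (h : TitsHyp F r) : F →+* F where
  toFun x := x ^ r
  map_one' := one_pow r
  map_mul' x y := mul_pow x y r
  map_zero' := zero_pow h.rpos.ne'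
  map_add' := h.add

theorem thetaHom_apply {r : ℕ} (h : TitsHyp F r) (x : F) : thetaHom h x = x ^ r := rfl

theorem theta_injective {r : ℕ} (h : TitsHyp F r) {x y : F} (hxy : x ^ r = y ^ r) : x = y :=
  (thetaHom h).injective hxy

/-- The defining condition of the Suzuki group, for matrices. -/
def IsSz (r : ℕ) (M : Matrix (Fin 4) (Fin 4) F) : Prop :=
  IsSp M ∧ star4 M = M.map (fun x => x ^ r)

theorem isSz_one {r : ℕ} (h : TitsHyp F r) : IsSz r (1 : Matrix (Fin 4) (Fin 4) F) := by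
  refine ⟨isSp_one, ?_⟩
  have h2 := h.two
  have hr := h.rpos.ne'
  ext i j
  fin_cases i <;> fin_cases j <;> simp [star4, pairOf, Matrix.one_apply, hr]

theorem IsSz.mul {r : ℕ} (h : TitsHyp F r) {M N : Matrix (Fin 4) (Fin 4) F} (hM : IsSz r M)
    (hN : IsSz r N) : IsSz r (M * N) := by
  refine ⟨hM.1.mul hN.1, ?_⟩
  rw [star4_mul h.two hM.1 hN.1, hM.2, hN.2]
  exact (Matrix.map_mul (f := thetaHom h)).symm

theorem star4_one {r : ℕ} (h : TitsHyp F r) : star4 (1 : Matrix (Fin 4) (Fin 4) F) = 1 := by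
  have := (isSz_one h).2
  rw [this]
  ext i j
  fin_cases i <;> fin_cases j <;> simp [h.rpos.ne']

theorem IsSz.inv {r : ℕ} (h : TitsHyp F r) {M : Matrix (Fin 4) (Fin 4) F} (hM : IsSz r M) :
    IsSz r (J4 F * Mᵀ * J4 F) := by
  refine ⟨hM.1.inv, ?_⟩
  set N := J4 F * Mᵀ * J4 F with hN
  have h1 : star4 M * star4 N = 1 := by
    rw [← star4_mul h.two hM.1 hM.1.inv, hM.1.mul_inv, star4_one h]
  have h2 : M.map (thetaHom h) * N.map (thetaHom h) = 1 := by
    rw [← Matrix.map_mul, hM.1.mul_inv]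
    ext i j
    fin_cases i <;> fin_cases j <;> simp
  have h3 : star4 M = M.map (thetaHom h) := hM.2
  rw [h3] at h1
  have h4 : N.map (thetaHom h) * M.map (thetaHom h) = 1 := mul_eq_one_comm.mp h2
  calc star4 N = (N.map (thetaHom h) * M.map (thetaHom h)) * star4 N := by
        rw [h4, Matrix.one_mul]
    _ = N.map (thetaHom h) * (M.map (thetaHom h) * star4 N) := Matrix.mul_assoc _ _ _
    _ = N.map (thetaHom h) := by rw [h1, Matrix.mul_one]

theorem isSp_sMat {r : ℕ} (h : TitsHyp F r) (a b : F) : IsSp (sMat r a b) := by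
  have h2 := h.two
  have h4 : (4 : F) = 0 := by linear_combination 2 * h2
  ext i j
  fin_cases i <;> fin_cases j <;>
    simp [sMat, J4, Matrix.mul_apply, Fin.sum_univ_four] <;>
    (rw [← sub_eq_zero]; ring_nf; try simp [h2, h4])

theorem isSp_tMat : IsSp (tMat : Matrix (Fin 4) (Fin 4) F) := by
  ext i j
  fin_cases i <;> fin_cases j <;> simp [tMat, J4, Matrix.mul_apply, Fin.sum_univ_four]

theorem isSz_sMat {r : ℕ} (h : TitsHyp F r) (a b : F) : IsSz r (sMat r a b) :=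
  ⟨isSp_sMat h a b, sMat_star h a b⟩

theorem isSz_tMat {r : ℕ} (h : TitsHyp F r) : IsSz r (tMat : Matrix (Fin 4) (Fin 4) F) :=
  ⟨isSp_tMat, tMat_star h⟩

end Cfsg.Agent.Helper39
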