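import Mathlib
import Cfsg.Agent.Lib.Helper39.SzCore

set_option autoImplicit false

namespace Cfsg.Agent.Helper39

open Matrix Cfsg.Lie

variable {F : Type*} [Field F]

/-- The diagonal (torus) elements. -/
def mMat (r : ℕ) (k : F) : Matrix (Fin 4) (Fin 4) F :=
  !![k, 0, 0, 0;
     0, k ^ r / k, 0, 0;
     0, 0, k / k ^ r, 0;
     0, 0, 0, 1 / k]

/-- The upper unitriangular Suzuki matrices. -/
def uMat (r : ℕ) (a b : F) : Matrix (Fin 4) (Fin 4) F :=
  !![1, a, b, a ^ 2 * a ^ r + a * b + b ^ r;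
     0, 1, a ^ r, a * a ^ r + b;
     0, 0, 1, a;
     0, 0, 0, 1]

theorem uMat_eq (r : ℕ) (a b : F) : uMat r a b = tMat * sMat r a b * tMat := by
  ext i j
  fin_cases i <;> fin_cases j <;>
    simp [uMat, tMat, sMat, Matrix.mul_apply, Fin.sum_univ_four]

theorem isSz_uMat {r : ℕ} (h : TitsHyp F r) (a b : F) : IsSz r (uMat r a b) := by
  rw [uMat_eq]
  exact ((isSz_tMat h).mul h (isSz_sMat h a b)).mul h (isSz_tMat h)

theorem isSz_mMat {r : ℕ} (h : TitsHyp F r) {k : F} (hk : k ≠ 0) : IsSz r (mMat r k) := by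
  have hkr : k ^ r ≠ 0 := pow_ne_zero _ hk
  have e3 : (0 : F) ^ r = 0 := zero_pow h.rpos.ne'
  refine ⟨?_, ?_⟩
  · ext i j
    fin_cases i <;> fin_cases j <;>
      simp [mMat, J4, Matrix.mul_apply, Fin.sum_univ_four] <;> field_simp
  · have e1 : (k ^ r / k) ^ r = k ^ 2 / k ^ r := by rw [div_pow, h.sq]
    have e2 : (k / k ^ r) ^ r = k ^ r / k ^ 2 := by rw [div_pow, h.sq]
    ext i j
    fin_cases i <;> fin_cases j <;>
      simp [star4, pairOf, mMat, e1, e2, e3] <;> field_simp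

theorem mMat_mul (r : ℕ) {k l : F} (hk : k ≠ 0) (hl : l ≠ 0) :
    mMat r k * mMat r l = mMat r (k * l) := by
  have hkr : k ^ r ≠ 0 := pow_ne_zero _ hk
  have hlr : l ^ r ≠ 0 := pow_ne_zero _ hl
  ext i j
  fin_cases i <;> fin_cases j <;>
    simp [mMat, Matrix.mul_apply, Fin.sum_univ_four, mul_pow] <;> field_simp

theorem mMat_one (r : ℕ) : mMat r (1 : F) = 1 := by
  ext i j
  fin_cases i <;> fin_cases j <;> simp [mMat]

theorem mMat_mul_inv (r : ℕ) {k : F} (hk : k ≠ 0) : mMat r k * mMat r k⁻¹ = 1 := by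
  rw [mMat_mul r hk (inv_ne_zero hk), mul_inv_cancel₀ hk, mMat_one]

theorem mMat_inv_mul (r : ℕ) {k : F} (hk : k ≠ 0) : mMat r k⁻¹ * mMat r k = 1 := by
  rw [mMat_mul r (inv_ne_zero hk) hk, inv_mul_cancel₀ hk, mMat_one]

/-- The defining relations of `IsSz`, entrywise. -/
theorem IsSz.rel {r : ℕ} {M : Matrix (Fin 4) (Fin 4) F} (hM : IsSz r M) (p q : Fin 4) :
    M (pairOf p).1 (pairOf q).1 * M (pairOf p).2 (pairOf q).2 -
      M (pairOf p).2 (pairOf q).1 * M (pairOf p).1 (pairOf q).2 = (M p q) ^ r := by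
  have := congrFun (congrFun hM.2 p) q
  exact this

/-- First column: if the top entry vanishes, the column is a multiple of `e₄`. -/
theorem IsSz.col_zero {r : ℕ} (h : TitsHyp F r) {M : Matrix (Fin 4) (Fin 4) F} (hM : IsSz r M)
    (h00 : M 0 0 = 0) : M 1 0 = 0 ∧ M 2 0 = 0 := by
  have e3 : (0 : F) ^ r = 0 := zero_pow h.rpos.ne'
  have R0 : M 0 0 * M 1 1 - M 1 0 * M 0 1 = (M 0 0) ^ r := hM.rel 0 0
  have R1 : M 0 0 * M 2 1 - M 2 0 * M 0 1 = (M 1 0) ^ r := hM.rel 1 0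
  have R2 : M 1 0 * M 3 1 - M 3 0 * M 1 1 = (M 2 0) ^ r := hM.rel 2 0
  have SP : M 0 0 * M 3 1 + M 1 0 * M 2 1 + M 2 0 * M 1 1 + M 3 0 * M 0 1 = J4 F 0 1 :=
    hM.1.col 0 1
  have hJ : J4 F 0 1 = 0 := by simp [J4]
  rw [h00, hJ] at SP
  rw [h00, e3] at R0
  rw [h00] at R1
  have h10 : M 1 0 = 0 := by
    by_contra hne
    have h01 : M 0 1 = 0 := by
      have : M 1 0 * M 0 1 = 0 := by linear_combination -R0
      exact (mul_eq_zero.mp this).resolve_left hne
    rw [h01] at R1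
    have : (M 1 0) ^ r = 0 := by linear_combination -R1
    exact hne ((pow_eq_zero_iff h.rpos.ne').mp this)
  refine ⟨h10, ?_⟩
  rw [h10] at R1 R2 SP
  rw [e3] at R1
  by_contra hne
  have h01 : M 0 1 = 0 := by
    have : M 2 0 * M 0 1 = 0 := by linear_combination -R1
    exact (mul_eq_zero.mp this).resolve_left hne
  rw [h01] at SP
  have h11 : M 1 1 = 0 := by
    have : M 2 0 * M 1 1 = 0 := by linear_combination SP
    exact (mul_eq_zero.mp this).resolve_left hne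
  rw [h11] at R2
  have : (M 2 0) ^ r = 0 := by linear_combination -R2
  exact hne ((pow_eq_zero_iff h.rpos.ne').mp this)

/-- First column: if the middle entries vanish and the top one does not, the bottom one
vanishes. -/
theorem IsSz.col_top {r : ℕ} (h : TitsHyp F r) {M : Matrix (Fin 4) (Fin 4) F} (hM : IsSz r M)
    (h00 : M 0 0 ≠ 0) (h10 : M 1 0 = 0) (h20 : M 2 0 = 0) : M 3 0 = 0 := by
  have e3 : (0 : F) ^ r = 0 := zero_pow h.rpos.ne'
  have R1 : M 0 0 * M 2 1 - M 2 0 * M 0 1 = (M 1 0) ^ r := hM.rel 1 0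
  have R3 : M 2 0 * M 3 1 - M 3 0 * M 2 1 = (M 3 0) ^ r := hM.rel 3 0
  rw [h10, h20, e3] at R1
  have h21 : M 2 1 = 0 := by
    have : M 0 0 * M 2 1 = 0 := by linear_combination R1
    exact (mul_eq_zero.mp this).resolve_left h00
  rw [h20, h21] at R3
  have : (M 3 0) ^ r = 0 := by linear_combination -R3
  exact (pow_eq_zero_iff h.rpos.ne').mp this

/-- The parabolic condition: the first column is a multiple of `e₁`. -/
def IsPar (M : Matrix (Fin 4) (Fin 4) F) : Prop := M 1 0 = 0 ∧ M 2 0 = 0 ∧ M 3 0 = 0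

/-- Unipotent parabolic elements are the `uMat`. -/
theorem IsSz.eq_uMat {r : ℕ} (h : TitsHyp F r) {N : Matrix (Fin 4) (Fin 4) F} (hN : IsSz r N)
    (hP : IsPar N) (h00 : N 0 0 = 1) : N = uMat r (N 0 1) (N 0 2) := by
  obtain ⟨h10, h20, h30⟩ := hP
  have h2 := h.two
  have e3 : (0 : F) ^ r = 0 := zero_pow h.rpos.ne'
  have hJ03 : J4 F 0 3 = 1 := by simp [J4]
  have hJ01 : J4 F 0 1 = 0 := by simp [J4]
  have hJ02 : J4 F 0 2 = 0 := by simp [J4]
  have hJ13 : J4 F 1 3 = 0 := by simp [J4]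
  have hJ23 : J4 F 2 3 = 0 := by simp [J4]
  have S03 := hN.1.col 0 3
  have S01 := hN.1.col 0 1
  have S02 := hN.1.col 0 2
  have S13 := hN.1.col 1 3
  have S23 := hN.1.col 2 3
  have R00 : N 0 0 * N 1 1 - N 1 0 * N 0 1 = (N 0 0) ^ r := hN.rel 0 0
  have R10 : N 0 0 * N 2 1 - N 2 0 * N 0 1 = (N 1 0) ^ r := hN.rel 1 0
  have R01 : N 0 0 * N 1 2 - N 1 0 * N 0 2 = (N 0 1) ^ r := hN.rel 0 1
  have R11 : N 0 0 * N 2 2 - N 2 0 * N 0 2 = (N 1 1) ^ r := hN.rel 1 1
  have R02 : N 0 1 * N 1 3 - N 1 1 * N 0 3 = (N 0 2) ^ r := hN.rel 0 2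
  rw [hJ03, h00, h10, h20, h30] at S03
  rw [hJ01, h00, h10, h20, h30] at S01
  rw [hJ02, h00, h10, h20, h30] at S02
  rw [h00, h10, one_pow] at R00
  rw [h00, h10, h20, e3] at R10
  rw [h00, h10] at R01
  rw [h00, h20] at R11
  have h33 : N 3 3 = 1 := by linear_combination S03
  have h31 : N 3 1 = 0 := by linear_combination S01
  have h32 : N 3 2 = 0 := by linear_combination S02
  have h11 : N 1 1 = 1 := by linear_combination R00
  have h21 : N 2 1 = 0 := by linear_combination R10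
  have h12 : N 1 2 = (N 0 1) ^ r := by linear_combination R01
  have h22 : N 2 2 = 1 := by rw [h11, one_pow] at R11; linear_combination R11
  rw [hJ13, h33, h11, h21, h31] at S13
  rw [hJ23, h33, h12, h22, h32] at S23
  have h23 : N 2 3 = N 0 1 := by linear_combination S13 - N 0 1 * h2
  have h13 : N 1 3 = N 0 1 * (N 0 1) ^ r + N 0 2 := by
    rw [h23] at S23
    linear_combination S23 - (N 0 2 + N 0 1 ^ r * N 0 1) * h2
  rw [h13, h11] at R02
  have h03 : N 0 3 = (N 0 1) ^ 2 * (N 0 1) ^ r + N 0 1 * N 0 2 + (N 0 2) ^ r := by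
    linear_combination -R02 - (N 0 2) ^ r * h2
  ext i j
  fin_cases i <;> fin_cases j <;>
    simp [uMat, h00, h10, h20, h30, h11, h21, h31, h12, h22, h32, h13, h23, h33, h03]

/-- Parabolic elements are products of a torus element and a unipotent element. -/
theorem IsSz.eq_mMat_mul_uMat {r : ℕ} (h : TitsHyp F r) {N : Matrix (Fin 4) (Fin 4) F}
    (hN : IsSz r N) (hP : IsPar N) :
    ∃ (k a b : F), k ≠ 0 ∧ N = mMat r k * uMat r a b := by
  obtain ⟨h10, h20, h30⟩ := hP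
  have hJ03 : J4 F 0 3 = 1 := by simp [J4]
  have S03 := hN.1.col 0 3
  rw [hJ03, h10, h20, h30] at S03
  have hk : N 0 0 ≠ 0 := by
    intro h0
    rw [h0] at S03
    simp at S03
  set k := N 0 0 with hkdef
  set N' := mMat r k⁻¹ * N with hN'
  have hN'sz : IsSz r N' := (isSz_mMat h (inv_ne_zero hk)).mul h hN
  have hN'par : IsPar N' := by
    refine ⟨?_, ?_, ?_⟩ <;>
      (rw [hN', Matrix.mul_apply, Fin.sum_univ_four, h10, h20, h30]; simp [mMat])
  have hN'00 : N' 0 0 = 1 := by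
    rw [hN', Matrix.mul_apply, Fin.sum_univ_four, h10, h20, h30, ← hkdef]
    simp [mMat, hk]
  have := hN'sz.eq_uMat h hN'par hN'00
  refine ⟨k, N' 0 1, N' 0 2, hk, ?_⟩
  rw [← this, hN', ← Matrix.mul_assoc, mMat_mul_inv r hk, Matrix.one_mul]

/-- The left factors: `tMat` or a lower unitriangular element. -/
def lMat (r : ℕ) : Option (F × F) → Matrix (Fin 4) (Fin 4) F
  | none => tMat
  | some ab => sMat r ab.1 ab.2

theorem isSz_lMat {r : ℕ} (h : TitsHyp F r) (o : Option (F × F)) : IsSz r (lMat r o) := by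
  cases o with
  | none => exact isSz_tMat h
  | some ab => exact isSz_sMat h _ _

/-- Bruhat-type normal form for all Suzuki matrices. -/
theorem IsSz.classify {r : ℕ} (h : TitsHyp F r) {M : Matrix (Fin 4) (Fin 4) F} (hM : IsSz r M) :
    ∃ (o : Option (F × F)) (k a b : F), k ≠ 0 ∧ M = lMat r o * mMat r k * uMat r a b := by
  have h2 := h.two
  by_cases h00 : M 0 0 = 0
  · obtain ⟨h10, h20⟩ := hM.col_zero h h00
    have hN : IsSz r (tMat * M) := (isSz_tMat h).mul h hM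
    have hP : IsPar (tMat * M) := by
      refine ⟨?_, ?_, ?_⟩ <;> simp [tMat, Matrix.mul_apply, Fin.sum_univ_four, h00, h10, h20]
    obtain ⟨k, a, b, hk, hkab⟩ := hN.eq_mMat_mul_uMat h hP
    refine ⟨none, k, a, b, hk, ?_⟩
    have : M = tMat * (tMat * M) := by
      rw [← Matrix.mul_assoc, tMat_mul_tMat, Matrix.one_mul]
    rw [this, hkab]
    simp only [lMat, Matrix.mul_assoc]
  · set a₀ := M 1 0 / M 0 0 with ha₀
    set b₀ := M 2 0 / M 0 0 + a₀ * a₀ ^ r with hb₀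
    have hN : IsSz r (sMat r a₀ (a₀ * a₀ ^ r + b₀) * M) := (isSz_sMat h _ _).mul h hM
    have e1 : a₀ * M 0 0 = M 1 0 := by rw [ha₀]; field_simp
    have e2 : (b₀ + a₀ * a₀ ^ r) * M 0 0 = M 2 0 + (2 * (a₀ * a₀ ^ r)) * M 0 0 := by
      rw [hb₀]; field_simp; ring
    have h10 : (sMat r a₀ (a₀ * a₀ ^ r + b₀) * M) 1 0 = 0 := by
      simp only [sMat, Matrix.mul_apply, Fin.sum_univ_four]
      simp
      linear_combination e1 + M 1 0 * h2
    have h20 : (sMat r a₀ (a₀ * a₀ ^ r + b₀) * M) 2 0 = 0 := by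
      simp only [sMat, Matrix.mul_apply, Fin.sum_univ_four]
      simp
      linear_combination e2 + a₀ ^ r * e1 + (M 2 0 + a₀ * a₀ ^ r * M 0 0 + a₀ ^ r * M 1 0) * h2
    have h00' : (sMat r a₀ (a₀ * a₀ ^ r + b₀) * M) 0 0 ≠ 0 := by
      simp only [sMat, Matrix.mul_apply, Fin.sum_univ_four]
      simpa using h00
    have h30 := hN.col_top h h00' h10 h20
    obtain ⟨k, a, b, hk, hkab⟩ := hN.eq_mMat_mul_uMat h ⟨h10, h20, h30⟩
    refine ⟨some (a₀, b₀), k, a, b, hk, ?_⟩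
    have : M = sMat r a₀ b₀ * (sMat r a₀ (a₀ * a₀ ^ r + b₀) * M) := by
      rw [← Matrix.mul_assoc, sMat_mul_inv h, Matrix.one_mul]
    rw [this, hkab]
    simp only [lMat, Matrix.mul_assoc]

end Cfsg.Agent.Helper39
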