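import Mathlib
import Cfsg.Agent.Lib.Helper39.SzClass

set_option autoImplicit false

namespace Cfsg.Agent.Helper39

open Matrix Cfsg.Lie

variable {F : Type*} [Field F]

/-- The parameter space of the Bruhat normal form. -/
abbrev SzParam (F : Type*) [Field F] := Option (F × F) × Fˣ × F × F

/-- The matrix attached to a parameter. -/
def szOfParam (r : ℕ) (p : SzParam F) : Matrix (Fin 4) (Fin 4) F :=
  lMat r p.1 * mMat r (p.2.1 : F) * uMat r p.2.2.1 p.2.2.2

theorem isSz_szOfParam {r : ℕ} (h : TitsHyp F r) (p : SzParam F) : IsSz r (szOfParam r p) :=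
  ((isSz_lMat h p.1).mul h (isSz_mMat h (Units.ne_zero _))).mul h (isSz_uMat h _ _)

theorem mMat_mul_uMat_col (r : ℕ) (k a b : F) (j : Fin 4) :
    (mMat r k * uMat r a b) j 0 = if j = 0 then k else 0 := by
  fin_cases j <;> simp [mMat, uMat, Matrix.mul_apply, Fin.sum_univ_four]

theorem szOfParam_col (r : ℕ) (p : SzParam F) (i : Fin 4) :
    szOfParam r p i 0 = lMat r p.1 i 0 * (p.2.1 : F) := by
  unfold szOfParam
  rw [Matrix.mul_assoc, Matrix.mul_apply, Fin.sum_univ_four]
  simp only [mMat_mul_uMat_col]
  simp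

theorem left_cancel_of_isSp {A X Y : Matrix (Fin 4) (Fin 4) F} (hA : IsSp A)
    (hXY : A * X = A * Y) : X = Y := by
  have := congrArg (fun Z => (J4 F * Aᵀ * J4 F) * Z) hXY
  simp only [← Matrix.mul_assoc, hA.inv_mul, Matrix.one_mul] at this
  exact this

theorem szOfParam_injective {r : ℕ} (h : TitsHyp F r) :
    Function.Injective (szOfParam (F := F) r) := by
  rintro ⟨o, k, a, b⟩ ⟨o', k', a', b'⟩ heq
  have hk : (k : F) ≠ 0 := Units.ne_zero k
  have hk' : (k' : F) ≠ 0 := Units.ne_zero k'
  have c0 := congrFun (congrFun heq 0) 0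
  have c1 := congrFun (congrFun heq 1) 0
  have c2 := congrFun (congrFun heq 2) 0
  have c3 := congrFun (congrFun heq 3) 0
  rw [szOfParam_col, szOfParam_col] at c0 c1 c2 c3
  have hok : o = o' ∧ (k : F) = k' := by
    cases o with
    | none =>
      cases o' with
      | none =>
        have e : lMat r (none : Option (F × F)) 3 0 = 1 := by simp [lMat, tMat]
        rw [e, one_mul, one_mul] at c3
        exact ⟨rfl, c3⟩
      | some ab' =>
        have e : lMat r (none : Option (F × F)) 0 0 = 0 := by simp [lMat, tMat]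
        have e' : lMat r (some ab') 0 0 = 1 := by simp [lMat, sMat]
        rw [e, e', zero_mul, one_mul] at c0
        exact absurd c0.symm hk'
    | some ab =>
      cases o' with
      | none =>
        have e : lMat r (none : Option (F × F)) 0 0 = 0 := by simp [lMat, tMat]
        have e' : lMat r (some ab) 0 0 = 1 := by simp [lMat, sMat]
        rw [e, e', zero_mul, one_mul] at c0
        exact absurd c0 hk
      | some ab' =>
        obtain ⟨a₀, b₀⟩ := ab
        obtain ⟨a₁, b₁⟩ := ab'
        have e0 : ∀ x y : F, lMat r (some (x, y)) 0 0 = 1 := by intro x y; simp [lMat, sMat]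
        have e1 : ∀ x y : F, lMat r (some (x, y)) 1 0 = x := by intro x y; simp [lMat, sMat]
        have e2 : ∀ x y : F, lMat r (some (x, y)) 2 0 = x * x ^ r + y := by
          intro x y; simp [lMat, sMat]
        rw [e0, e0, one_mul, one_mul] at c0
        rw [e1, e1, ← c0] at c1
        rw [e2, e2, ← c0] at c2
        have ha : a₀ = a₁ := mul_right_cancel₀ hk c1
        rw [ha] at c2
        have hb : b₀ = b₁ := add_left_cancel (mul_right_cancel₀ hk c2)
        rw [ha, hb]
        exact ⟨rfl, c0⟩
  obtain ⟨rfl, hkk⟩ := hok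
  have hkk' : k = k' := Units.ext hkk
  subst hkk'
  unfold szOfParam at heq
  simp only [Matrix.mul_assoc] at heq
  have h1 := left_cancel_of_isSp (isSz_lMat h o).1 heq
  have h2 := left_cancel_of_isSp (isSz_mMat h hk).1 h1
  have ha := congrFun (congrFun h2 0) 1
  have hb := congrFun (congrFun h2 0) 2
  simp [uMat] at ha hb
  subst ha
  subst hb
  rfl

theorem szOfParam_surjective {r : ℕ} (h : TitsHyp F r) {M : Matrix (Fin 4) (Fin 4) F}
    (hM : IsSz r M) : ∃ p : SzParam F, szOfParam r p = M := by
  obtain ⟨o, k, a, b, hk, rfl⟩ := hM.classify h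
  exact ⟨(o, Units.mk0 k hk, a, b), rfl⟩

/-- The set of Suzuki matrices is in bijection with the parameter space. -/
noncomputable def szEquivParam {r : ℕ} (h : TitsHyp F r) :
    SzParam F ≃ {M : Matrix (Fin 4) (Fin 4) F // IsSz r M} :=
  Equiv.ofBijective (fun p => ⟨szOfParam r p, isSz_szOfParam h p⟩) (by
    constructor
    · intro p p' hpp
      exact szOfParam_injective h (congrArg Subtype.val hpp)
    · rintro ⟨M, hM⟩
      obtain ⟨p, hp⟩ := szOfParam_surjective h hM
      exact ⟨p, Subtype.ext hp⟩)

theorem card_szParam [Fintype F] : Nat.card (SzParam F) =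
    (Fintype.card F ^ 2 + 1) * ((Fintype.card F - 1) * (Fintype.card F * Fintype.card F)) := by
  classical
  rw [Nat.card_eq_fintype_card]
  simp only [Fintype.card_prod, Fintype.card_option, Fintype.card_units]
  ring

theorem card_isSz [Fintype F] {r : ℕ} (h : TitsHyp F r) :
    Nat.card {M : Matrix (Fin 4) (Fin 4) F // IsSz r M} =
      (Fintype.card F ^ 2 + 1) * ((Fintype.card F - 1) * (Fintype.card F * Fintype.card F)) := by
  rw [← Nat.card_congr (szEquivParam h), card_szParam]

end Cfsg.Agent.Helper39
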