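import Mathlib
import Cfsg.Prelude.Def_LieExceptional
import Cfsg.Agent.Lib.Helper39.SzCount

set_option autoImplicit false

namespace Cfsg.Agent.Helper39

open Matrix Cfsg.Lie Polynomial

variable {F : Type*} [Field F]

/-- The ovoid function. -/
def fOv (r : ℕ) (x y : F) : F := x * y + x ^ (r + 2) + y ^ r

/-- The first basis vector. -/
def e1F : Fin 4 → F := ![1, 0, 0, 0]

/-- The affine points of the ovoid. -/
def ovPt (r : ℕ) (x y : F) : Fin 4 → F := ![fOv r x y, y, x, 1]

/-- Vectors spanning a point of the ovoid. -/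
def OvVec (r : ℕ) (v : Fin 4 → F) : Prop :=
  ∃ c : F, c ≠ 0 ∧ (v = c • e1F ∨ ∃ x y : F, v = c • ovPt r x y)

theorem mulVec_e1F (M : Matrix (Fin 4) (Fin 4) F) : M *ᵥ e1F = fun i => M i 0 := by
  ext i
  simp [e1F, Matrix.mulVec, dotProduct, Fin.sum_univ_four]

theorem fS_eq_fOv {r : ℕ} (h : TitsHyp F r) (a b : F) :
    a ^ 2 * a ^ r + a * b + b ^ r = fOv r a (a * a ^ r + b) := by
  have h2 := h.two
  unfold fOv
  rw [h.add, mul_pow, h.sq, pow_add]
  linear_combination (-(a ^ 2 * a ^ r)) * h2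

/-- Poly lemma: a polynomial function with four monomials vanishing everywhere is zero. -/
theorem poly4_zero [Fintype F] (A B C D : F) (r : ℕ) (hr : 4 ≤ r) (hcard : r + 2 < Fintype.card F)
    (H : ∀ y : F, A * y ^ (r + 2) + B * y ^ r + C * y ^ 2 + D * y = 0) :
    A = 0 ∧ B = 0 ∧ C = 0 ∧ D = 0 := by
  set P : F[X] := Polynomial.C A * X ^ (r + 2) + Polynomial.C B * X ^ r + Polynomial.C C * X ^ 2 +
    Polynomial.C D * X with hP
  have hdeg : P.natDegree ≤ r + 2 := by
    rw [hP]; compute_degree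
  have hzero : P = 0 := by
    apply Polynomial.eq_zero_of_natDegree_lt_card_of_eval_eq_zero P (f := id)
      Function.injective_id
    · intro y
      simp only [hP, id, eval_add, eval_mul, eval_C, eval_pow, eval_X]
      exact H y
    · exact lt_of_le_of_lt hdeg hcard
  have hr0 : r ≠ 0 := by omega
  have hr1 : r ≠ 1 := by omega
  have hr2 : r ≠ 2 := by omega
  have hr1' : 1 ≠ r := by omega
  have hr2' : 2 ≠ r := by omega
  have c1 : P.coeff (r + 2) = A := by
    rw [hP]
    simp only [coeff_add, coeff_C_mul_X_pow, coeff_C_mul_X]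
    simp [hr0]
  have c2 : P.coeff r = B := by
    rw [hP]
    simp only [coeff_add, coeff_C_mul_X_pow, coeff_C_mul_X]
    simp [hr1, hr2]
  have c3 : P.coeff 2 = C := by
    rw [hP]
    simp only [coeff_add, coeff_C_mul_X_pow, coeff_C_mul_X]
    simp [hr0, hr2']
  have c4 : P.coeff 1 = D := by
    rw [hP]
    simp only [coeff_add, coeff_C_mul_X_pow, coeff_C_mul_X]
    simp [hr1']
  rw [hzero] at c1 c2 c3 c4
  simp only [coeff_zero] at c1 c2 c3 c4
  exact ⟨c1.symm, c2.symm, c3.symm, c4.symm⟩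

theorem isSp_det (h2 : (2 : F) = 0) {M : Matrix (Fin 4) (Fin 4) F} (hM : IsSp M) : M.det = 1 := by
  have h1 := congrArg Matrix.det hM
  rw [Matrix.det_mul, Matrix.det_mul, Matrix.det_transpose] at h1
  have hJ : (J4 F).det ≠ 0 := by
    have := congrArg Matrix.det (J4_mul_self (F := F))
    rw [Matrix.det_mul, Matrix.det_one] at this
    intro h0
    rw [h0, mul_zero] at this
    exact zero_ne_one this
  have h3 : M.det * M.det = 1 := by
    have : (M.det * M.det - 1) * (J4 F).det = 0 := by linear_combination h1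
    rcases mul_eq_zero.mp this with h4 | h4
    · linear_combination h4
    · exact absurd h4 hJ
  have h5 : (M.det - 1) ^ 2 = 0 := by linear_combination h3 - M.det * h2 + h2
  have := pow_eq_zero_iff (n := 2) (by norm_num) |>.mp h5
  linear_combination this

section ovvec

variable {r : ℕ} (h : TitsHyp F r)
include h

theorem ovVec_of_isSz {M : Matrix (Fin 4) (Fin 4) F} (hM : IsSz r M) : OvVec r (M *ᵥ e1F) := by
  have hT : IsSz r (tMat * M) := (isSz_tMat h).mul h hM
  obtain ⟨o, k, a, b, hk, hkab⟩ := hT.classify h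
  have hMeq : M = tMat * (lMat r o * mMat r k * uMat r a b) := by
    rw [← hkab, ← Matrix.mul_assoc, tMat_mul_tMat, Matrix.one_mul]
  refine ⟨k, hk, ?_⟩
  rw [mulVec_e1F]
  cases o with
  | none =>
    left
    rw [hMeq]
    simp only [lMat]
    rw [Matrix.mul_assoc tMat, ← Matrix.mul_assoc tMat, tMat_mul_tMat, Matrix.one_mul]
    ext i
    rw [mMat_mul_uMat_col]
    fin_cases i <;> simp [e1F]
  | some ab =>
    right
    obtain ⟨a₀, b₀⟩ := ab
    refine ⟨a₀, a₀ * a₀ ^ r + b₀, ?_⟩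
    rw [hMeq]
    simp only [lMat]
    ext i
    rw [Matrix.mul_assoc (sMat r a₀ b₀), ← Matrix.mul_assoc tMat, Matrix.mul_apply,
      Fin.sum_univ_four]
    simp only [mMat_mul_uMat_col]
    have key := fS_eq_fOv h a₀ b₀
    fin_cases i <;>
      simp [ovPt, tMat, sMat, Matrix.mul_apply, Fin.sum_univ_four, ← key, mul_comm]

theorem isSz_of_ovVec {v : Fin 4 → F} (hv : OvVec r v) :
    ∃ M : Matrix (Fin 4) (Fin 4) F, IsSz r M ∧ v = M *ᵥ e1F := by
  obtain ⟨c, hc, hv | ⟨x, y, hv⟩⟩ := hv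
  · refine ⟨mMat r c, isSz_mMat h hc, ?_⟩
    rw [hv, mulVec_e1F]
    ext i
    fin_cases i <;> simp [e1F, mMat]
  · refine ⟨tMat * sMat r x (x * x ^ r + y) * mMat r c,
      ((isSz_tMat h).mul h (isSz_sMat h _ _)).mul h (isSz_mMat h hc), ?_⟩
    rw [hv, mulVec_e1F]
    have h2 := h.two
    have key := fS_eq_fOv h x (x * x ^ r + y)
    have e : x * x ^ r + (x * x ^ r + y) = y := by linear_combination (x * x ^ r) * h2
    rw [e] at key
    ext i
    fin_cases i <;>
      simp [ovPt, tMat, sMat, mMat, Matrix.mul_apply, Fin.sum_univ_four, ← key, e, mul_comm]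

theorem ovVec_mul {M : Matrix (Fin 4) (Fin 4) F} (hM : IsSz r M) {v : Fin 4 → F}
    (hv : OvVec r v) : OvVec r (M *ᵥ v) := by
  obtain ⟨N, hN, rfl⟩ := isSz_of_ovVec h hv
  rw [Matrix.mulVec_mulVec]
  exact ovVec_of_isSz h (hM.mul h hN)

end ovvec

end Cfsg.Agent.Helper39
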