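import Mathlib
import Cfsg.Agent.Lib.Helper39.SzOvoid

set_option autoImplicit false

namespace Cfsg.Agent.Helper39

open Matrix Cfsg.Lie

variable {F : Type*} [Field F]

theorem mulVec_ovPt (N : Matrix (Fin 4) (Fin 4) F) (r : ℕ) (x y : F) (i : Fin 4) :
    (N *ᵥ ovPt r x y) i = N i 0 * fOv r x y + N i 1 * y + N i 2 * x + N i 3 := by
  simp [ovPt, Matrix.mulVec, dotProduct, Fin.sum_univ_four]

theorem mulVec_injective_of_det_one {N : Matrix (Fin 4) (Fin 4) F} (hdet : N.det = 1) :
    Function.Injective (N *ᵥ ·) := by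
  intro u v huv
  have hu : IsUnit N.det := by rw [hdet]; exact isUnit_one
  have := congrArg (N⁻¹ *ᵥ ·) huv
  simp only [Matrix.mulVec_mulVec, Matrix.nonsing_inv_mul N hu, Matrix.one_mulVec] at this
  exact this

/-- The ovoid relation in polynomial form. -/
theorem ovPt_rel (r : ℕ) (c x y : F) :
    (c * fOv r x y) * c ^ (r + 1) = (c * y) * (c * x) * c ^ r + (c * x) ^ (r + 2) +
      (c * y) ^ r * c ^ 2 := by
  unfold fOv
  rw [mul_pow, mul_pow]
  ring

section rigid

variable [Fintype F] {r : ℕ} (h : TitsHyp F r) (hr : 4 ≤ r) (hcard : r + 2 < Fintype.card F)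
include h hr hcard

/-- A determinant-one matrix fixing `e₁`, scaling `e₄` and preserving the ovoid is trivial. -/
theorem eq_one_of_preserves {N : Matrix (Fin 4) (Fin 4) F} (hdet : N.det = 1)
    (hc0 : ∀ i, N i 0 = (e1F : Fin 4 → F) i) (c : F) (hc : c ≠ 0)
    (hc3 : ∀ i, N i 3 = c * (![0, 0, 0, 1] : Fin 4 → F) i)
    (hpres : ∀ v, OvVec r v → OvVec r (N *ᵥ v)) : N = 1 := by
  have h2 := h.two
  have hrpos := h.rpos
  have e3 : (0 : F) ^ r = 0 := zero_pow hrpos.ne'
  have e3' : (0 : F) ^ (r + 2) = 0 := zero_pow (by omega)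
  have N00 : N 0 0 = 1 := by simpa [e1F] using hc0 0
  have N10 : N 1 0 = 0 := by simpa [e1F] using hc0 1
  have N20 : N 2 0 = 0 := by simpa [e1F] using hc0 2
  have N30 : N 3 0 = 0 := by simpa [e1F] using hc0 3
  have N03 : N 0 3 = 0 := by simpa using hc3 0
  have N13 : N 1 3 = 0 := by simpa using hc3 1
  have N23 : N 2 3 = 0 := by simpa using hc3 2
  have N33 : N 3 3 = c := by simpa using hc3 3
  have hinj := mulVec_injective_of_det_one hdet
  have hNe1 : N *ᵥ e1F = e1F := by
    rw [mulVec_e1F]; ext i; exact hc0 i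
  -- the key relation
  have key : ∀ x y : F, (N *ᵥ ovPt r x y) 3 ≠ 0 ∧
      (N *ᵥ ovPt r x y) 0 * ((N *ᵥ ovPt r x y) 3) ^ (r + 1) =
        (N *ᵥ ovPt r x y) 1 * (N *ᵥ ovPt r x y) 2 * ((N *ᵥ ovPt r x y) 3) ^ r +
        ((N *ᵥ ovPt r x y) 2) ^ (r + 2) + ((N *ᵥ ovPt r x y) 1) ^ r * ((N *ᵥ ovPt r x y) 3) ^ 2 := by
    intro x y
    have hov : OvVec r (ovPt r x y) := ⟨1, one_ne_zero, Or.inr ⟨x, y, by simp⟩⟩
    obtain ⟨c', hc', hw | ⟨x', y', hw⟩⟩ := hpres _ hov
    · exfalso
      have : N *ᵥ ovPt r x y = N *ᵥ (c' • e1F) := by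
        rw [Matrix.mulVec_smul, hNe1, hw]
      have := hinj this
      have h3 := congrFun this 3
      simp [ovPt, e1F] at h3
    · rw [hw]
      simp only [Pi.smul_apply, smul_eq_mul, ovPt]
      simp only [Matrix.cons_val_zero, Matrix.cons_val_one, Matrix.cons_val]
      refine ⟨by simpa using hc', ?_⟩
      have := ovPt_rel r c' x' y'
      simpa using this
  simp only [mulVec_ovPt, N00, N10, N20, N30, N03, N13, N23, N33] at key
  -- last row
  have N31 : N 3 1 = 0 := by
    by_contra hne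
    have := (key 0 (c / N 3 1)).1
    apply this
    field_simp
    linear_combination c * h2
  have N32 : N 3 2 = 0 := by
    by_contra hne
    have := (key (c / N 3 2) 0).1
    apply this
    field_simp
    linear_combination c * h2
  simp only [N31, N32, zero_mul, add_zero, zero_add, one_mul] at key
  -- x = 0
  have hy : ∀ y : F, (N 2 1) ^ (r + 2) * y ^ (r + 2) + ((N 1 1) ^ r * c ^ 2 - c ^ (r + 1)) * y ^ r +
      (N 1 1 * N 2 1 * c ^ r) * y ^ 2 + (-(N 0 1 * c ^ (r + 1))) * y = 0 := by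
    intro y
    have := (key 0 y).2
    simp only [fOv, zero_mul, mul_zero, add_zero, zero_add, e3'] at this
    rw [mul_pow, mul_pow] at this
    linear_combination -this
  obtain ⟨hA, hB, _, hD⟩ := poly4_zero _ _ _ _ r hr hcard hy
  have N21 : N 2 1 = 0 := (pow_eq_zero_iff (by omega)).mp hA
  have N01 : N 0 1 = 0 := by
    have : N 0 1 * c ^ (r + 1) = 0 := by linear_combination -hD
    exact (mul_eq_zero.mp this).resolve_right (pow_ne_zero _ hc)
  -- y = 0
  have hx : ∀ x : F, ((N 2 2) ^ (r + 2) - c ^ (r + 1)) * x ^ (r + 2) + ((N 1 2) ^ r * c ^ 2) * x ^ r +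
      (N 1 2 * N 2 2 * c ^ r) * x ^ 2 + (-(N 0 2 * c ^ (r + 1))) * x = 0 := by
    intro x
    have := (key x 0).2
    simp only [fOv, mul_zero, add_zero, zero_add, e3] at this
    rw [mul_pow, mul_pow] at this
    linear_combination -this
  obtain ⟨hA', hB', _, hD'⟩ := poly4_zero _ _ _ _ r hr hcard hx
  have N12 : N 1 2 = 0 := by
    have : (N 1 2) ^ r = 0 := (mul_eq_zero.mp hB').resolve_right (pow_ne_zero _ hc)
    exact (pow_eq_zero_iff hrpos.ne').mp this
  have N02 : N 0 2 = 0 := by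
    have : N 0 2 * c ^ (r + 1) = 0 := by linear_combination -hD'
    exact (mul_eq_zero.mp this).resolve_right (pow_ne_zero _ hc)
  -- x = y = 1
  have h11 := (key 1 1).2
  simp only [fOv, N01, N02, N12, N21, one_pow, mul_one, add_zero, zero_add] at h11
  have hcc : c = N 1 1 * N 2 2 := by
    have : (c - N 1 1 * N 2 2) * c ^ r = 0 := by
      have e1 : c ^ (r + 1) = c ^ r * c := pow_succ c r
      linear_combination h11 + hA' + hB - e1
    have := (mul_eq_zero.mp this).resolve_right (pow_ne_zero _ hc)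
    linear_combination this
  -- determinant
  have hdiag : N = Matrix.diagonal ![1, N 1 1, N 2 2, c] := by
    ext i j
    fin_cases i <;> fin_cases j <;>
      simp [N00, N10, N20, N30, N03, N13, N23, N33, N31, N32, N21, N01, N12, N02]
  have hdet' : N 1 1 * N 2 2 * c = 1 := by
    rw [hdiag, Matrix.det_diagonal, Fin.prod_univ_four] at hdet
    simpa [mul_assoc] using hdet
  have hc1 : c = 1 := by
    have : (c - 1) ^ 2 = 0 := by
      rw [← hcc] at hdet'
      linear_combination hdet' - c * h2 + h2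
    have := (pow_eq_zero_iff (n := 2) (by norm_num)).mp this
    linear_combination this
  subst hc1
  have h111 : N 1 1 = 1 := by
    have : (N 1 1) ^ r = (1 : F) ^ r := by
      rw [one_pow]
      simp only [one_pow, mul_one] at hB
      linear_combination hB
    exact theta_injective h this
  have h221 : N 2 2 = 1 := by
    rw [h111, one_mul] at hcc
    exact hcc.symm
  rw [hdiag, h111, h221]
  ext i j
  fin_cases i <;> fin_cases j <;> simp

/-- A determinant-one matrix preserving the ovoid is a Suzuki matrix. -/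
theorem isSz_of_preserves {G : Matrix (Fin 4) (Fin 4) F} (hdet : G.det = 1)
    (hpres : ∀ v, OvVec r v → OvVec r (G *ᵥ v)) : IsSz r G := by
  have h2 := h.two
  have hrpos := h.rpos
  -- step a
  have hov1 : OvVec r (e1F : Fin 4 → F) := ⟨1, one_ne_zero, Or.inl (by simp)⟩
  obtain ⟨M₁, hM₁, hGM⟩ := isSz_of_ovVec h (hpres _ hov1)
  set M₁' := J4 F * M₁ᵀ * J4 F with hM₁'
  have hM₁'sz : IsSz r M₁' := hM₁.inv h
  set G₁ := M₁' * G with hG₁
  have hG₁e : G₁ *ᵥ e1F = e1F := by
    rw [hG₁, ← Matrix.mulVec_mulVec, hGM, Matrix.mulVec_mulVec, hM₁', hM₁.1.inv_mul,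
      Matrix.one_mulVec]
  have hG₁det : G₁.det = 1 := by
    rw [hG₁, Matrix.det_mul, hdet, isSp_det h2 hM₁'sz.1, one_mul]
  have hG₁pres : ∀ v, OvVec r v → OvVec r (G₁ *ᵥ v) := by
    intro v hv
    rw [hG₁, ← Matrix.mulVec_mulVec]
    exact ovVec_mul h hM₁'sz (hpres v hv)
  have hG₁inj := mulVec_injective_of_det_one hG₁det
  -- step b
  have hov4 : OvVec r (ovPt r (0 : F) 0) := ⟨1, one_ne_zero, Or.inr ⟨0, 0, by simp⟩⟩
  have he4 : ovPt r (0 : F) 0 = ![0, 0, 0, 1] := by
    simp [ovPt, fOv, zero_pow hrpos.ne']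
  obtain ⟨c, hc, hw | ⟨x, y, hw⟩⟩ := hG₁pres _ hov4
  · exfalso
    have : G₁ *ᵥ ovPt r 0 0 = G₁ *ᵥ (c • e1F) := by
      rw [Matrix.mulVec_smul, hG₁e, hw]
    have := hG₁inj this
    have h3 := congrFun this 3
    simp [ovPt, e1F] at h3
  · set b := x * x ^ r + y with hb
    have hU : IsSz r (uMat r x b) := isSz_uMat h x b
    set U' := J4 F * (uMat r x b)ᵀ * J4 F with hU'
    have hU'sz : IsSz r U' := hU.inv h
    have hUe4 : uMat r x b *ᵥ ![0, 0, 0, 1] = ovPt r x y := by
      have key := fS_eq_fOv h x b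
      have e : x * x ^ r + b = y := by
        rw [hb]; linear_combination (x * x ^ r) * h2
      rw [e] at key
      ext i
      fin_cases i <;>
        simp [uMat, ovPt, Matrix.mulVec, dotProduct, Fin.sum_univ_four, ← key, e]
    have hUe1 : uMat r x b *ᵥ e1F = e1F := by
      rw [mulVec_e1F]
      ext i
      fin_cases i <;> simp [uMat, e1F]
    set G₂ := U' * G₁ with hG₂
    have hG₂det : G₂.det = 1 := by
      rw [hG₂, Matrix.det_mul, hG₁det, isSp_det h2 hU'sz.1, one_mul]
    have hG₂pres : ∀ v, OvVec r v → OvVec r (G₂ *ᵥ v) := by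
      intro v hv
      rw [hG₂, ← Matrix.mulVec_mulVec]
      exact ovVec_mul h hU'sz (hG₁pres v hv)
    have hG₂e1 : G₂ *ᵥ e1F = e1F := by
      rw [hG₂, ← Matrix.mulVec_mulVec, hG₁e]
      nth_rewrite 1 [← hUe1]
      rw [Matrix.mulVec_mulVec, hU', hU.1.inv_mul, Matrix.one_mulVec]
    have hG₂e4 : G₂ *ᵥ ![0, 0, 0, 1] = c • ![0, 0, 0, 1] := by
      calc G₂ *ᵥ ![0, 0, 0, 1] = U' *ᵥ (G₁ *ᵥ ovPt r 0 0) := by
            rw [hG₂, ← Matrix.mulVec_mulVec, he4]
        _ = U' *ᵥ (c • (uMat r x b *ᵥ ![0, 0, 0, 1])) := by rw [hw, hUe4]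
        _ = c • ![0, 0, 0, 1] := by
            rw [Matrix.mulVec_smul, Matrix.mulVec_mulVec, hU', hU.1.inv_mul, Matrix.one_mulVec]
    have hG₂one : G₂ = 1 := by
      apply eq_one_of_preserves h hr hcard hG₂det _ c hc _ hG₂pres
      · intro i
        have := congrFun hG₂e1 i
        rw [mulVec_e1F] at this
        exact this
      · intro i
        have := congrFun hG₂e4 i
        have e : (G₂ *ᵥ ![0, 0, 0, 1]) i = G₂ i 3 := by
          simp [Matrix.mulVec, dotProduct, Fin.sum_univ_four]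
        rw [← e, this]
        rfl
    have hG₁eq : G₁ = uMat r x b := by
      have : uMat r x b * G₂ = uMat r x b * 1 := by rw [hG₂one]
      rw [hG₂, ← Matrix.mul_assoc, hU', hU.1.mul_inv, Matrix.one_mul, Matrix.mul_one] at this
      exact this
    have hGeq : G = M₁ * uMat r x b := by
      have : M₁ * G₁ = M₁ * uMat r x b := by rw [hG₁eq]
      rw [hG₁, ← Matrix.mul_assoc, hM₁', hM₁.1.mul_inv, Matrix.one_mul] at this
      exact this
    rw [hGeq]
    exact hM₁.mul h hU

end rigid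

end Cfsg.Agent.Helper39
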