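import Mathlib
import Cfsg.Prelude.Def_LieExceptional
import Cfsg.Prelude.Def_Sz
import Cfsg.Agent.Lib.Helper39.SzRigid

set_option autoImplicit false

namespace Cfsg.Agent.Helper39

open Matrix Cfsg.Lie
open scoped Pointwise

variable {F : Type*} [Field F]

theorem isSz_of_mul_eq_one {r : ℕ} (h : TitsHyp F r) {M N : Matrix (Fin 4) (Fin 4) F}
    (hM : IsSz r M) (hNM : N * M = 1) : IsSz r N := by
  have : N = J4 F * Mᵀ * J4 F := by
    calc N = N * (M * (J4 F * Mᵀ * J4 F)) := by rw [hM.1.mul_inv, Matrix.mul_one]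
      _ = (N * M) * (J4 F * Mᵀ * J4 F) := (Matrix.mul_assoc _ _ _).symm
      _ = J4 F * Mᵀ * J4 F := by rw [hNM, Matrix.one_mul]
  rw [this]
  exact hM.inv h

theorem mem_suzukiOvoid_iff (m : ℕ) (v : Fin 4 → F) (hv : v ≠ 0) :
    Projectivization.mk F v hv ∈ Cfsg.suzukiOvoid F m ↔ OvVec (2 ^ (m + 1)) v := by
  constructor
  · rintro ⟨w, hw, hvw, hw'⟩
    rw [Projectivization.mk_eq_mk_iff] at hvw
    obtain ⟨a, ha⟩ := hvw
    refine ⟨(a : F), Units.ne_zero a, ?_⟩
    rcases hw' with rfl | ⟨x, y, rfl⟩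
    · left
      rw [← ha]
      rfl
    · right
      refine ⟨x, y, ?_⟩
      rw [← ha]
      rfl
  · rintro ⟨c, hc, rfl | ⟨x, y, rfl⟩⟩
    · refine ⟨![1, 0, 0, 0], by simp, ?_, Or.inl rfl⟩
      rw [Projectivization.mk_eq_mk_iff]
      exact ⟨Units.mk0 c hc, rfl⟩
    · refine ⟨![x * y + x ^ (2 ^ (m + 1) + 2) + y ^ (2 ^ (m + 1)), y, x, 1], ?_, ?_,
        Or.inr ⟨x, y, rfl⟩⟩
      · intro h0
        have := congrFun h0 3
        simp at this
      · rw [Projectivization.mk_eq_mk_iff]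
        exact ⟨Units.mk0 c hc, rfl⟩

theorem ovVec_ne_zero {r : ℕ} {v : Fin 4 → F} (hv : OvVec r v) : v ≠ 0 := by
  obtain ⟨c, hc, rfl | ⟨x, y, rfl⟩⟩ := hv
  · intro h0
    have := congrFun h0 0
    simp [e1F, hc] at this
  · intro h0
    have := congrFun h0 3
    simp [ovPt, hc] at this

section link

variable [Fintype F] (m : ℕ) (hm : 1 ≤ m) (hF : Fintype.card F = 2 ^ (2 * m + 1))
include hm hF

omit [Field F] [Fintype F] hF in
theorem r_add_two_lt : 2 ^ (m + 1) + 2 < 2 ^ (2 * m + 1) := by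
  have h4 : 4 ≤ 2 ^ (m + 1) := by
    have : 2 ^ 2 ≤ 2 ^ (m + 1) := Nat.pow_le_pow_right (by norm_num) (by omega)
    simpa using this
  have : 2 ^ (m + 1) * 2 ^ (m + 1) = 2 * 2 ^ (2 * m + 1) := by ring
  nlinarith

/-- The ovoid-stabiliser Suzuki group consists exactly of the Suzuki matrices. -/
theorem mem_CfsgSz_iff (g : Matrix.SpecialLinearGroup (Fin 4) F) :
    g ∈ Cfsg.Sz F m ↔ IsSz (2 ^ (m + 1)) (g : Matrix (Fin 4) (Fin 4) F) := by
  have h := titsHyp_of_card m hF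
  have hr : 4 ≤ 2 ^ (m + 1) := by
    have : 2 ^ 2 ≤ 2 ^ (m + 1) := Nat.pow_le_pow_right (by norm_num) (by omega)
    simpa using this
  have hcard : 2 ^ (m + 1) + 2 < Fintype.card F := by
    rw [hF]; exact r_add_two_lt m hm
  have keyA : ∀ g' : Matrix.SpecialLinearGroup (Fin 4) F,
      IsSz (2 ^ (m + 1)) (g' : Matrix (Fin 4) (Fin 4) F) →
      ∀ p ∈ Cfsg.suzukiOvoid F m, g' • p ∈ Cfsg.suzukiOvoid F m := by
    intro g' hg' p hp
    induction p using Projectivization.ind with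
    | h v hv =>
      rw [Projectivization.smul_mk, mem_suzukiOvoid_iff]
      rw [mem_suzukiOvoid_iff] at hp
      exact ovVec_mul h hg' hp
  constructor
  · intro hg
    rw [MulAction.mem_stabilizer_iff] at hg
    apply isSz_of_preserves h hr hcard g.2
    intro v hv
    have hv0 := ovVec_ne_zero hv
    have h1 : Projectivization.mk F v hv0 ∈ Cfsg.suzukiOvoid F m :=
      (mem_suzukiOvoid_iff m v hv0).mpr hv
    have h2 : g • Projectivization.mk F v hv0 ∈ g • Cfsg.suzukiOvoid F m :=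
      Set.smul_mem_smul_set h1
    rw [hg, Projectivization.smul_mk, mem_suzukiOvoid_iff] at h2
    exact h2
  · intro hg
    rw [MulAction.mem_stabilizer_iff]
    have hginv : IsSz (2 ^ (m + 1)) ((g⁻¹ : Matrix.SpecialLinearGroup (Fin 4) F) :
        Matrix (Fin 4) (Fin 4) F) := by
      apply isSz_of_mul_eq_one h hg
      rw [← Matrix.SpecialLinearGroup.coe_mul, inv_mul_cancel, Matrix.SpecialLinearGroup.coe_one]
    ext p
    rw [Set.mem_smul_set_iff_inv_smul_mem]
    constructor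
    · intro hp
      have := keyA g hg _ hp
      rwa [smul_inv_smul] at this
    · intro hp
      exact keyA g⁻¹ hginv p hp

end link

/-- Symplectic condition in matrix form. -/
theorem mem_Sp4_iff (g : GL (Fin 4) F) :
    g ∈ Sp4 F ↔ IsSp (g : Matrix (Fin 4) (Fin 4) F) := by
  have altForm4_eq : ∀ u v : Fin 4 → F, altForm4 u v = u ⬝ᵥ (J4 F *ᵥ v) := by
    intro u v
    simp [altForm4, J4, dotProduct, Matrix.mulVec, Fin.sum_univ_four]
  change (∀ u v : Fin 4 → F, altForm4 ((g : Matrix (Fin 4) (Fin 4) F) *ᵥ u)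
    ((g : Matrix (Fin 4) (Fin 4) F) *ᵥ v) = altForm4 u v) ↔ _
  simp only [altForm4_eq]
  unfold IsSp
  constructor
  · intro h
    ext i j
    have := h (Pi.single i 1) (Pi.single j 1)
    simp only [Matrix.mulVec_mulVec, Matrix.dotProduct_mulVec, Matrix.vecMul_mulVec] at this
    simpa [Matrix.mul_assoc, Matrix.vecMul_mulVec] using this
  · intro h u v
    have h1 : (g : Matrix (Fin 4) (Fin 4) F) *ᵥ u ⬝ᵥ J4 F *ᵥ (g : Matrix (Fin 4) (Fin 4) F) *ᵥ v
        = u ⬝ᵥ (((g : Matrix (Fin 4) (Fin 4) F)ᵀ * J4 F * (g : Matrix (Fin 4) (Fin 4) F)) *ᵥ v) := by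
      rw [Matrix.mulVec_mulVec, Matrix.dotProduct_mulVec, Matrix.vecMul_mulVec,
        ← Matrix.dotProduct_mulVec, Matrix.mul_assoc]
    rw [h1, h]

/-- The matrix-defined Suzuki group consists exactly of the Suzuki matrices. -/
theorem mem_LieSz_iff {r : ℕ} (h : TitsHyp F r) (g : GL (Fin 4) F) :
    g ∈ Cfsg.Lie.Sz F r ↔ IsSz r (g : Matrix (Fin 4) (Fin 4) F) := by
  constructor
  · intro hg
    induction hg using Subgroup.closure_induction with
    | mem x hx => exact ⟨(mem_Sp4_iff x).mp hx.1, hx.2⟩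
    | one => exact isSz_one h
    | mul x y _ _ hx hy => exact hx.mul h hy
    | inv x _ hx =>
      apply isSz_of_mul_eq_one h hx
      rw [← Units.val_mul, inv_mul_cancel, Units.val_one]
  · intro hg
    exact Subgroup.subset_closure ⟨(mem_Sp4_iff g).mpr hg.1, hg.2⟩

end Cfsg.Agent.Helper39
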