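import Mathlib
import Cfsg.Agent.Lib.Helper39.SzLink

set_option autoImplicit false

namespace Cfsg.Agent.Helper39

open Matrix Cfsg.Lie

variable {F : Type*} [Field F]

/-- The ovoid-stabiliser Suzuki group is in bijection with the Suzuki matrices. -/
noncomputable def cfsgSzEquiv [Fintype F] (m : ℕ) (hm : 1 ≤ m)
    (hF : Fintype.card F = 2 ^ (2 * m + 1)) :
    ↥(Cfsg.Sz F m) ≃ {M : Matrix (Fin 4) (Fin 4) F // IsSz (2 ^ (m + 1)) M} where
  toFun g := ⟨((g : Matrix.SpecialLinearGroup (Fin 4) F) : Matrix (Fin 4) (Fin 4) F),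
    (mem_CfsgSz_iff m hm hF g.1).mp g.2⟩
  invFun M := ⟨⟨M.1, isSp_det (titsHyp_of_card m hF).two M.2.1⟩,
    (mem_CfsgSz_iff m hm hF _).mpr M.2⟩
  left_inv g := by
    apply Subtype.ext
    apply Subtype.ext
    rfl
  right_inv M := by
    apply Subtype.ext
    rfl

/-- The matrix-defined Suzuki group is in bijection with the Suzuki matrices. -/
noncomputable def lieSzEquiv {r : ℕ} (h : TitsHyp F r) :
    ↥(Cfsg.Lie.Sz F r) ≃ {M : Matrix (Fin 4) (Fin 4) F // IsSz r M} where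
  toFun g := ⟨((g : GL (Fin 4) F) : Matrix (Fin 4) (Fin 4) F), (mem_LieSz_iff h g.1).mp g.2⟩
  invFun M := ⟨⟨M.1, J4 F * M.1ᵀ * J4 F, M.2.1.mul_inv, M.2.1.inv_mul⟩,
    (mem_LieSz_iff h _).mpr M.2⟩
  left_inv g := by
    apply Subtype.ext
    apply Units.ext
    rfl
  right_inv M := by
    apply Subtype.ext
    rfl

theorem card_cfsgSz [Fintype F] (m : ℕ) (hm : 1 ≤ m) (hF : Fintype.card F = 2 ^ (2 * m + 1)) :
    Nat.card (Cfsg.Sz F m) =
      (Fintype.card F ^ 2 + 1) * ((Fintype.card F - 1) * (Fintype.card F * Fintype.card F)) := by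
  rw [Nat.card_congr (cfsgSzEquiv m hm hF), card_isSz (titsHyp_of_card m hF)]

theorem card_lieSz [Fintype F] {r : ℕ} (h : TitsHyp F r) :
    Nat.card (Cfsg.Lie.Sz F r) =
      (Fintype.card F ^ 2 + 1) * ((Fintype.card F - 1) * (Fintype.card F * Fintype.card F)) := by
  rw [Nat.card_congr (lieSzEquiv h), card_isSz h]

end Cfsg.Agent.Helper39
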