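import Mathlib
import Cfsg.Agent.Lib.Helper39.SzCount

set_option autoImplicit false

namespace Cfsg.Agent.Helper39

open Matrix Cfsg.Lie

variable {F : Type*} [Field F]

theorem uMat_zero {r : ℕ} (hr : 0 < r) : uMat r (0 : F) 0 = 1 := by
  ext i j
  fin_cases i <;> fin_cases j <;> simp [uMat, hr.ne']

theorem uMat_mul {r : ℕ} (h : TitsHyp F r) (a b c d : F) :
    uMat r a b * uMat r c d = uMat r (a + c) (b + d + a * c ^ r) := by
  rw [uMat_eq, uMat_eq, uMat_eq]
  calc tMat * sMat r a b * tMat * (tMat * sMat r c d * tMat)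
      = tMat * sMat r a b * (tMat * tMat) * sMat r c d * tMat := by
        simp only [Matrix.mul_assoc]
    _ = tMat * (sMat r a b * sMat r c d) * tMat := by
        rw [tMat_mul_tMat, Matrix.mul_one]; simp only [Matrix.mul_assoc]
    _ = _ := by rw [sMat_mul h]

theorem uMat_inj {r : ℕ} {a b c d : F} (hab : uMat r a b = uMat r c d) : a = c ∧ b = d := by
  have h1 := congrFun (congrFun hab 0) 1
  have h2 := congrFun (congrFun hab 0) 2
  simp [uMat] at h1 h2
  exact ⟨h1, h2⟩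

theorem uMat_mul_inv {r : ℕ} (h : TitsHyp F r) (a b : F) :
    uMat r a b * uMat r a (a * a ^ r + b) = 1 := by
  rw [uMat_mul h, ← uMat_zero (F := F) h.rpos]
  have h2 := h.two
  congr 1
  · linear_combination a * h2
  · linear_combination (b + a * a ^ r) * h2

theorem uMat_inv_mul {r : ℕ} (h : TitsHyp F r) (a b : F) :
    uMat r a (a * a ^ r + b) * uMat r a b = 1 := by
  rw [uMat_mul h, ← uMat_zero (F := F) h.rpos]
  have h2 := h.two
  congr 1
  · linear_combination a * h2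
  · linear_combination (b + a * a ^ r) * h2

theorem TitsHyp.mul_pow' {r : ℕ} (x y : F) : (x * y) ^ r = x ^ r * y ^ r := mul_pow x y r

/-- The torus normalises the unipotent group. -/
theorem mMat_mul_uMat {r : ℕ} (h : TitsHyp F r) {k : F} (hk : k ≠ 0) (a b : F) :
    mMat r k * uMat r a b = uMat r (a * k ^ 2 / k ^ r) (b * k ^ r) * mMat r k := by
  have hkr : k ^ r ≠ 0 := pow_ne_zero _ hk
  have e1 : (a * k ^ 2 / k ^ r) ^ r = a ^ r * (k ^ r) ^ 2 / k ^ 2 := by
    rw [div_pow, mul_pow, h.sq, ← pow_mul, mul_comm 2 r, pow_mul]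
  have e2 : (b * k ^ r) ^ r = b ^ r * k ^ 2 := by
    rw [mul_pow, h.sq]
  ext i j
  fin_cases i <;> fin_cases j <;>
    simp [mMat, uMat, Matrix.mul_apply, Fin.sum_univ_four, e1, e2] <;> field_simp

theorem tMat_mul_mMat (r : ℕ) {k : F} (hk : k ≠ 0) :
    tMat * mMat r k = mMat r k⁻¹ * tMat := by
  have hkr : k ^ r ≠ 0 := pow_ne_zero _ hk
  ext i j
  fin_cases i <;> fin_cases j <;>
    simp [mMat, tMat, Matrix.mul_apply, Fin.sum_univ_four] <;> ring

theorem isPar_one : IsPar (1 : Matrix (Fin 4) (Fin 4) F) := by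
  simp [IsPar]

theorem IsPar.mul {M N : Matrix (Fin 4) (Fin 4) F} (hM : IsPar M) (hN : IsPar N) :
    IsPar (M * N) := by
  obtain ⟨m1, m2, m3⟩ := hM
  obtain ⟨n1, n2, n3⟩ := hN
  refine ⟨?_, ?_, ?_⟩ <;> simp [Matrix.mul_apply, Fin.sum_univ_four, *]

theorem IsPar.mul_apply_zero {M N : Matrix (Fin 4) (Fin 4) F} (hN : IsPar N) :
    (M * N) 0 0 = M 0 0 * N 0 0 := by
  obtain ⟨n1, n2, n3⟩ := hN
  simp [Matrix.mul_apply, Fin.sum_univ_four, *]

theorem isPar_mMat (r : ℕ) (k : F) : IsPar (mMat r k) := by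
  simp [IsPar, mMat]

theorem isPar_uMat (r : ℕ) (a b : F) : IsPar (uMat r a b) := by
  simp [IsPar, uMat]

theorem not_isPar_tMat : ¬ IsPar (tMat : Matrix (Fin 4) (Fin 4) F) := by
  simp [IsPar, tMat]

theorem isPar_sMat_iff {r : ℕ} (hr : 0 < r) (a b : F) : IsPar (sMat r a b) ↔ a = 0 ∧ b = 0 := by
  constructor
  · rintro ⟨h1, h2, h3⟩
    simp [sMat] at h1 h2
    subst h1
    refine ⟨rfl, ?_⟩
    simpa [hr.ne'] using h2
  · rintro ⟨rfl, rfl⟩
    simp [IsPar, sMat, hr.ne']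

/-- Bruhat decomposition: a Suzuki matrix outside the Borel lies in `U t T U`. -/
theorem IsSz.bruhat {r : ℕ} (h : TitsHyp F r) {M : Matrix (Fin 4) (Fin 4) F} (hM : IsSz r M)
    (hnp : ¬ IsPar M) :
    ∃ a b k c d : F, k ≠ 0 ∧ M = uMat r a b * tMat * mMat r k * uMat r c d := by
  have hM' : IsSz r (tMat * M) := (isSz_tMat h).mul h hM
  obtain ⟨o, k, c, d, hk, hEq⟩ := hM'.classify h
  have hMeq : M = tMat * (tMat * M) := by
    rw [← Matrix.mul_assoc, tMat_mul_tMat, Matrix.one_mul]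
  cases o with
  | none =>
    exfalso
    apply hnp
    have : M = mMat r k * uMat r c d := by
      have h1 : tMat * M = tMat * (mMat r k * uMat r c d) := by
        rw [hEq]; simp only [lMat, Matrix.mul_assoc]
      exact left_cancel_of_isSp (isSz_tMat h).1 h1
    rw [this]
    exact (isPar_mMat r k).mul (isPar_uMat r c d)
  | some ab =>
    refine ⟨ab.1, ab.2, k, c, d, hk, ?_⟩
    rw [hMeq, hEq, uMat_eq r ab.1 ab.2]
    simp only [lMat, Matrix.mul_assoc]
    rw [← Matrix.mul_assoc tMat tMat, tMat_mul_tMat, Matrix.one_mul]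

/-- The only vectors fixed by the unipotent group are multiples of `e₀`. -/
theorem uMat_fix {r : ℕ} {v : Fin 4 → F} (hv : uMat r 1 0 *ᵥ v = v) :
    v 1 = 0 ∧ v 2 = 0 ∧ v 3 = 0 := by
  have h0 := congrFun hv 0
  have h1 := congrFun hv 1
  have h2 := congrFun hv 2
  simp [uMat, Matrix.mulVec, dotProduct, Fin.sum_univ_four] at h0 h1 h2
  rw [h2] at h1 h0
  simp at h1
  simp at h0
  exact ⟨h0, h1, h2⟩

theorem TitsHyp.pow_eq_self {r : ℕ} (h : TitsHyp F r) {x : F} (hx : x ^ r = x) :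
    x = 0 ∨ x = 1 := by
  have h1 : x ^ 2 = x := by
    rw [← h.sq, hx, hx]
  have : x * (x - 1) = 0 := by linear_combination h1
  rcases mul_eq_zero.mp this with h0 | h0
  · exact Or.inl h0
  · exact Or.inr (sub_eq_zero.mp h0)

theorem TitsHyp.pow_injective {r : ℕ} (h : TitsHyp F r) : Function.Injective (fun x : F => x ^ r) := by
  intro x y hxy
  have h2 := h.two
  have h1 : (x ^ r) ^ r = (y ^ r) ^ r := congrArg (· ^ r) hxy
  rw [h.sq, h.sq] at h1
  have : (x - y) ^ 2 = 0 := by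
    have : (x - y) ^ 2 = x ^ 2 - y ^ 2 - 2 * (y * (x - y)) := by ring
    rw [this, h1, h2]; ring
  exact sub_eq_zero.mp (pow_eq_zero_iff (two_ne_zero) |>.mp this)

theorem TitsHyp.eq_one_of_pow_eq_one {r : ℕ} (h : TitsHyp F r) {k : F} (hk : k ^ r = 1) :
    k = 1 := by
  apply h.pow_injective
  simp only [hk, one_pow]

theorem TitsHyp.eq_one_of_pow_eq_sq {r : ℕ} (h : TitsHyp F r) {k : F} (hk0 : k ≠ 0)
    (hk : k ^ r = k ^ 2) : k = 1 := by
  have h1 : (k ^ r) ^ r = (k ^ 2) ^ r := congrArg (· ^ r) hk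
  rw [h.sq, ← pow_mul, mul_comm, pow_mul] at h1
  -- k^2 = (k^r)^2
  have h2 : k ^ r = k := by
    have h3 : (k ^ r) ^ r = (k) ^ r := by
      rw [h.sq]; rw [hk]
    exact h.pow_injective h3
  rcases h.pow_eq_self h2 with h0 | h0
  · exact absurd h0 hk0
  · exact h0

/-- `x ↦ x^(r+1)` is onto. -/
theorem TitsHyp.exists_pow_succ_eq {r : ℕ} (h : TitsHyp F r) (y : F) :
    ∃ x : F, x * x ^ r = y := by
  by_cases hy : y = 0
  · exact ⟨0, by simp [hy]⟩
  · refine ⟨y ^ r / y, ?_⟩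
    have hyr : y ^ r ≠ 0 := pow_ne_zero _ hy
    rw [div_pow, h.sq]
    field_simp

end Cfsg.Agent.Helper39
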