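import Mathlib
import Cfsg.Agent.Lib.Helper39.SzMat2

set_option autoImplicit false

namespace Cfsg.Agent.Helper39

open Matrix Cfsg.Lie

/-- A group realised faithfully as the set of all Suzuki matrices. -/
structure SzModel (F : Type*) [Field F] (r : ℕ) (G : Type*) [Group G] where
  /-- the matrix realisation -/
  φ : G →* Matrix (Fin 4) (Fin 4) F
  inj : Function.Injective φ
  isSz : ∀ g, IsSz r (φ g)
  surj : ∀ M, IsSz r M → ∃ g, φ g = M

namespace SzModel

variable {F : Type*} [Field F] {r : ℕ} {G : Type*} [Group G] (X : SzModel F r G)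

/-- The group element with a given Suzuki matrix. -/
noncomputable def lift (M : Matrix (Fin 4) (Fin 4) F) (hM : IsSz r M) : G :=
  Classical.choose (X.surj M hM)

@[simp] theorem φ_lift (M : Matrix (Fin 4) (Fin 4) F) (hM : IsSz r M) :
    X.φ (X.lift M hM) = M := Classical.choose_spec (X.surj M hM)

theorem eq_lift {g : G} {M : Matrix (Fin 4) (Fin 4) F} (hM : IsSz r M) (hg : X.φ g = M) :
    g = X.lift M hM := X.inj (by rw [hg, φ_lift])

variable (h : TitsHyp F r)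

/-- unipotent elements -/
noncomputable def uEl (a b : F) : G := X.lift _ (isSz_uMat h a b)

/-- the Weyl involution -/
noncomputable def tEl : G := X.lift _ (isSz_tMat h)

/-- the torus -/
noncomputable def mEl : Fˣ →* G where
  toFun k := X.lift _ (isSz_mMat h k.ne_zero)
  map_one' := X.inj (by simp [mMat_one])
  map_mul' k l := X.inj (by simp [mMat_mul r k.ne_zero l.ne_zero])

@[simp] theorem φ_uEl (a b : F) : X.φ (X.uEl h a b) = uMat r a b := X.φ_lift _ _

@[simp] theorem φ_tEl : X.φ (X.tEl h) = tMat := X.φ_lift _ _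

@[simp] theorem φ_mEl (k : Fˣ) : X.φ (X.mEl h k) = mMat r (k : F) :=
  X.φ_lift _ (isSz_mMat h k.ne_zero)

theorem uEl_mul (a b c d : F) :
    X.uEl h a b * X.uEl h c d = X.uEl h (a + c) (b + d + a * c ^ r) :=
  X.inj (by simp [uMat_mul h])

theorem uEl_zero : X.uEl h 0 0 = 1 := X.inj (by simp [uMat_zero h.rpos])

theorem uEl_inv (a b : F) : (X.uEl h a b)⁻¹ = X.uEl h a (a * a ^ r + b) := by
  apply inv_eq_of_mul_eq_one_right
  apply X.inj
  simp [uMat_mul_inv h]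

theorem uEl_inj {a b c d : F} (hab : X.uEl h a b = X.uEl h c d) : a = c ∧ b = d := by
  have := congrArg X.φ hab
  simp only [φ_uEl] at this
  exact uMat_inj this

theorem tEl_mul_tEl : X.tEl h * X.tEl h = 1 := X.inj (by simp [tMat_mul_tMat])

theorem tEl_inv : (X.tEl h)⁻¹ = X.tEl h := inv_eq_of_mul_eq_one_right (X.tEl_mul_tEl h)

theorem mEl_injective : Function.Injective (X.mEl h) := by
  intro k l hkl
  have := congrArg X.φ hkl
  simp only [φ_mEl] at this
  have h0 := congrFun (congrFun this 0) 0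
  simp [mMat] at h0
  exact Units.ext h0

/-- torus conjugation on unipotents -/
theorem mEl_mul_uEl (k : Fˣ) (a b : F) :
    X.mEl h k * X.uEl h a b =
      X.uEl h (a * (k : F) ^ 2 / (k : F) ^ r) (b * (k : F) ^ r) * X.mEl h k :=
  X.inj (by simp [mMat_mul_uMat h k.ne_zero])

theorem tEl_mul_mEl (k : Fˣ) : X.tEl h * X.mEl h k = X.mEl h k⁻¹ * X.tEl h :=
  X.inj (by rw [map_mul, map_mul, φ_tEl, φ_mEl, φ_mEl, tMat_mul_mMat r k.ne_zero]; simp)

/-- The Borel subgroup (stabiliser of the point at infinity). -/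
def Bor : Subgroup G where
  carrier := {g | IsPar (X.φ g)}
  one_mem' := by simp [isPar_one]
  mul_mem' := by
    intro a b ha hb
    change IsPar (X.φ (a * b))
    rw [map_mul]
    exact IsPar.mul ha hb
  inv_mem' := by
    intro g hg
    change IsPar (X.φ g) at hg
    change IsPar (X.φ g⁻¹)
    obtain ⟨k, a, b, hk, hgk⟩ := (X.isSz g).eq_mMat_mul_uMat h hg
    have hg' : g = X.mEl h (Units.mk0 k hk) * X.uEl h a b := X.inj (by simp [hgk])
    rw [hg', _root_.mul_inv_rev, uEl_inv, ← map_inv, map_mul]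
    simp only [φ_uEl, φ_mEl]
    exact (isPar_uMat r _ _).mul (isPar_mMat r _)

theorem mem_Bor {g : G} : g ∈ X.Bor h ↔ IsPar (X.φ g) := Iff.rfl

theorem mem_Bor_iff {g : G} : g ∈ X.Bor h ↔ ∃ (k : Fˣ) (a b : F), g = X.mEl h k * X.uEl h a b := by
  constructor
  · intro hg
    obtain ⟨k, a, b, hk, hgk⟩ := (X.isSz g).eq_mMat_mul_uMat h hg
    exact ⟨Units.mk0 k hk, a, b, X.inj (by simp [hgk])⟩
  · rintro ⟨k, a, b, rfl⟩
    rw [mem_Bor, map_mul]
    simp only [φ_uEl, φ_mEl]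
    exact (isPar_mMat r _).mul (isPar_uMat r _ _)

/-- The unipotent radical (a Sylow 2-subgroup). -/
def Uni : Subgroup G where
  carrier := {g | ∃ a b : F, X.φ g = uMat r a b}
  one_mem' := ⟨0, 0, by simp [uMat_zero h.rpos]⟩
  mul_mem' := by
    rintro x y ⟨a, b, hx⟩ ⟨c, d, hy⟩
    exact ⟨_, _, by rw [map_mul, hx, hy, uMat_mul h]⟩
  inv_mem' := by
    rintro x ⟨a, b, hx⟩
    have : x = X.uEl h a b := X.inj (by simp [hx])
    rw [this, uEl_inv]
    exact ⟨_, _, X.φ_uEl h _ _⟩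

theorem mem_Uni {g : G} : g ∈ X.Uni h ↔ ∃ a b : F, g = X.uEl h a b := by
  constructor
  · rintro ⟨a, b, hg⟩
    exact ⟨a, b, X.inj (by simp [hg])⟩
  · rintro ⟨a, b, rfl⟩
    exact ⟨a, b, X.φ_uEl h a b⟩

theorem uEl_mem_Uni (a b : F) : X.uEl h a b ∈ X.Uni h := (X.mem_Uni h).mpr ⟨a, b, rfl⟩

theorem mem_Uni_iff {g : G} : g ∈ X.Uni h ↔ IsPar (X.φ g) ∧ X.φ g 0 0 = 1 := by
  constructor
  · rintro ⟨a, b, hg⟩
    rw [hg]
    exact ⟨isPar_uMat r a b, by simp [uMat]⟩
  · rintro ⟨hP, h00⟩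
    exact ⟨_, _, (X.isSz g).eq_uMat h hP h00⟩

theorem Uni_le_Bor : X.Uni h ≤ X.Bor h := fun _ hg => ((X.mem_Uni_iff h).mp hg).1

/-- The torus. -/
noncomputable def Tor : Subgroup G := (X.mEl h).range

theorem mEl_mem_Bor (k : Fˣ) : X.mEl h k ∈ X.Bor h := by
  rw [mem_Bor, φ_mEl]; exact isPar_mMat r _

theorem Tor_le_Bor : X.Tor h ≤ X.Bor h := by
  rintro _ ⟨k, rfl⟩
  exact X.mEl_mem_Bor h k

theorem tEl_not_mem_Bor : X.tEl h ∉ X.Bor h := by
  rw [mem_Bor, φ_tEl]; exact not_isPar_tMat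

/-- Bruhat decomposition in the group. -/
theorem bruhat {g : G} (hg : g ∉ X.Bor h) :
    ∃ (a b : F) (k : Fˣ) (c d : F),
      g = X.uEl h a b * X.tEl h * X.mEl h k * X.uEl h c d := by
  obtain ⟨a, b, k, c, d, hk, hgk⟩ := (X.isSz g).bruhat h hg
  exact ⟨a, b, Units.mk0 k hk, c, d, X.inj (by simp [hgk])⟩

theorem bruhat' {g : G} (hg : g ∉ X.Bor h) :
    ∃ (a b : F) (b' : G), b' ∈ X.Bor h ∧ g = X.uEl h a b * X.tEl h * b' := by
  obtain ⟨a, b, k, c, d, hgk⟩ := X.bruhat h hg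
  refine ⟨a, b, X.mEl h k * X.uEl h c d, (X.mem_Bor_iff h).mpr ⟨k, c, d, rfl⟩, ?_⟩
  rw [hgk]; simp only [mul_assoc]

end SzModel

end Cfsg.Agent.Helper39
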