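import Mathlib
import Cfsg.Agent.Lib.Helper39.SzModel
import Cfsg.Agent.Lib.Helper39.SzGroups

set_option autoImplicit false

namespace Cfsg.Agent.Helper39

open Matrix Cfsg.Lie

variable {F : Type*} [Field F]

/-- The ovoid-stabiliser Suzuki group as a model. -/
noncomputable def cfsgSzModel [Fintype F] (m : ℕ) (hm : 1 ≤ m)
    (hF : Fintype.card F = 2 ^ (2 * m + 1)) : SzModel F (2 ^ (m + 1)) ↥(Cfsg.Sz F m) where
  φ := { toFun := fun g => ((g : Matrix.SpecialLinearGroup (Fin 4) F) : Matrix (Fin 4) (Fin 4) F)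
         map_one' := rfl
         map_mul' := fun a b => by simp }
  inj := by
    intro a b hab
    apply Subtype.ext
    apply Subtype.ext
    exact hab
  isSz := fun g => (mem_CfsgSz_iff m hm hF g.1).mp g.2
  surj := fun M hM => ⟨(cfsgSzEquiv m hm hF).symm ⟨M, hM⟩, rfl⟩

@[simp] theorem cfsgSzModel_φ [Fintype F] (m : ℕ) (hm : 1 ≤ m)
    (hF : Fintype.card F = 2 ^ (2 * m + 1)) (g : ↥(Cfsg.Sz F m)) :
    (cfsgSzModel m hm hF).φ g =
      ((g : Matrix.SpecialLinearGroup (Fin 4) F) : Matrix (Fin 4) (Fin 4) F) := rfl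

/-- The matrix-defined Suzuki group as a model. -/
noncomputable def lieSzModel {r : ℕ} (h : TitsHyp F r) : SzModel F r ↥(Cfsg.Lie.Sz F r) where
  φ := { toFun := fun g => ((g : GL (Fin 4) F) : Matrix (Fin 4) (Fin 4) F)
         map_one' := rfl
         map_mul' := fun a b => by simp }
  inj := by
    intro a b hab
    apply Subtype.ext
    apply Units.ext
    exact hab
  isSz := fun g => (mem_LieSz_iff h g.1).mp g.2
  surj := fun M hM => ⟨(lieSzEquiv h).symm ⟨M, hM⟩, rfl⟩

@[simp] theorem lieSzModel_φ {r : ℕ} (h : TitsHyp F r) (g : ↥(Cfsg.Lie.Sz F r)) :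
    (lieSzModel h).φ g = ((g : GL (Fin 4) F) : Matrix (Fin 4) (Fin 4) F) := rfl

end Cfsg.Agent.Helper39
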