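import Mathlib
import Cfsg.Agent.Lib.Helper39.SzModel

set_option autoImplicit false

namespace Cfsg.Agent.Helper39

open Matrix Cfsg.Lie

namespace SzModel

variable {F : Type*} [Field F] {r : ℕ} {G : Type*} [Group G] (X : SzModel F r G)
variable (h : TitsHyp F r)

/-- Parametrisation of the unipotent subgroup. -/
noncomputable def uniEquiv : F × F ≃ X.Uni h :=
  Equiv.ofBijective (fun p => ⟨X.uEl h p.1 p.2, X.uEl_mem_Uni h _ _⟩) (by
    constructor
    · rintro ⟨a, b⟩ ⟨c, d⟩ hp
      have hp' : X.uEl h a b = X.uEl h c d := congrArg Subtype.val hp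
      have := X.uEl_inj h hp'
      exact Prod.ext this.1 this.2
    · rintro ⟨g, hg⟩
      obtain ⟨a, b, rfl⟩ := (X.mem_Uni h).mp hg
      exact ⟨(a, b), rfl⟩)

theorem mEl_mul_uEl_inj {k l : Fˣ} {a b c d : F}
    (heq : X.mEl h k * X.uEl h a b = X.mEl h l * X.uEl h c d) : k = l ∧ a = c ∧ b = d := by
  have h1 := congrArg X.φ heq
  simp only [map_mul, φ_mEl, φ_uEl] at h1
  have h00 := congrFun (congrFun h1 0) 0
  rw [mMat_mul_uMat_col, mMat_mul_uMat_col] at h00
  simp only [if_true] at h00
  have hkl : k = l := Units.ext h00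
  subst hkl
  have h2 := left_cancel_of_isSp (isSz_mMat h k.ne_zero).1 h1
  exact ⟨rfl, uMat_inj h2⟩

/-- Parametrisation of the Borel subgroup. -/
noncomputable def borEquiv : Fˣ × F × F ≃ X.Bor h :=
  Equiv.ofBijective (fun p => ⟨X.mEl h p.1 * X.uEl h p.2.1 p.2.2,
      (X.mem_Bor_iff h).mpr ⟨_, _, _, rfl⟩⟩) (by
    constructor
    · rintro ⟨k, a, b⟩ ⟨l, c, d⟩ hp
      have hp' : X.mEl h k * X.uEl h a b = X.mEl h l * X.uEl h c d := congrArg Subtype.val hp
      obtain ⟨h1, h2, h3⟩ := X.mEl_mul_uEl_inj h hp'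
      subst h1 h2 h3
      rfl
    · rintro ⟨g, hg⟩
      obtain ⟨k, a, b, rfl⟩ := (X.mem_Bor_iff h).mp hg
      exact ⟨(k, a, b), rfl⟩)

/-- The group is in bijection with the Suzuki matrices. -/
noncomputable def matEquiv : G ≃ {M : Matrix (Fin 4) (Fin 4) F // IsSz r M} :=
  Equiv.ofBijective (fun g => ⟨X.φ g, X.isSz g⟩) (by
    constructor
    · intro a b hab
      exact X.inj (congrArg Subtype.val hab)
    · rintro ⟨M, hM⟩
      obtain ⟨g, hg⟩ := X.surj M hM
      exact ⟨g, Subtype.ext hg⟩)

section card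

variable [Fintype F]

theorem card_Uni : Nat.card (X.Uni h) = Fintype.card F ^ 2 := by
  rw [← Nat.card_congr (X.uniEquiv h), Nat.card_eq_fintype_card, Fintype.card_prod, sq]

theorem card_Bor : Nat.card (X.Bor h) = (Fintype.card F - 1) * Fintype.card F ^ 2 := by
  classical
  rw [← Nat.card_congr (X.borEquiv h), Nat.card_eq_fintype_card, Fintype.card_prod,
    Fintype.card_prod, Fintype.card_units, sq]

theorem card_Tor : Nat.card (X.Tor h) = Fintype.card F - 1 := by
  classical
  unfold Tor
  rw [← Nat.card_congr (MonoidHom.ofInjective (X.mEl_injective h)).toEquiv,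
    Nat.card_eq_fintype_card, Fintype.card_units]

include X h in
theorem card_G : Nat.card G =
    (Fintype.card F ^ 2 + 1) * ((Fintype.card F - 1) * (Fintype.card F * Fintype.card F)) := by
  rw [Nat.card_congr X.matEquiv, card_isSz h]

include X in
theorem finite_G : Finite G := by
  have : Finite {M : Matrix (Fin 4) (Fin 4) F // IsSz r M} := inferInstance
  exact Finite.of_equiv _ X.matEquiv.symm

end card

/-- The torus is isomorphic to the multiplicative group. -/
noncomputable def torEquiv : Fˣ ≃* X.Tor h := MonoidHom.ofInjective (X.mEl_injective h)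

end SzModel

end Cfsg.Agent.Helper39
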