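import Mathlib
import Cfsg.Agent.Lib.Helper39.SzModelCard

set_option autoImplicit false

namespace Cfsg.Agent.Helper39

open Matrix Cfsg.Lie
open scoped commutatorElement

theorem exists_ne_zero_one {F : Type*} [Field F] [Fintype F] (hcard : 2 < Fintype.card F) :
    ∃ w : F, w ≠ 0 ∧ w ≠ 1 := by
  classical
  by_contra hcon
  push Not at hcon
  have hsub : (Finset.univ : Finset F) ⊆ {0, 1} := by
    intro x _
    by_cases hx : x = 0
    · simp [hx]
    · simp [hcon x hx]
  have := Finset.card_le_card hsub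
  rw [Finset.card_univ] at this
  have h2 : ({0, 1} : Finset F).card ≤ 2 := Finset.card_le_two
  omega

namespace SzModel

variable {F : Type*} [Field F] {r : ℕ} {G : Type*} [Group G] (X : SzModel F r G)
variable (h : TitsHyp F r)

/-- Elements of the unipotent subgroup, as a subtype. -/
noncomputable def uS (a b : F) : ↥(X.Uni h) := ⟨X.uEl h a b, X.uEl_mem_Uni h a b⟩

theorem uS_mul (a b c d : F) :
    X.uS h a b * X.uS h c d = X.uS h (a + c) (b + d + a * c ^ r) :=
  Subtype.ext (X.uEl_mul h a b c d)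

theorem uS_zero : X.uS h 0 0 = 1 := Subtype.ext (X.uEl_zero h)

theorem uS_inj {a b c d : F} (hab : X.uS h a b = X.uS h c d) : a = c ∧ b = d :=
  X.uEl_inj h (congrArg Subtype.val hab)

theorem uS_surj (x : ↥(X.Uni h)) : ∃ a b : F, x = X.uS h a b := by
  obtain ⟨a, b, hx⟩ := (X.mem_Uni h).mp x.2
  exact ⟨a, b, Subtype.ext hx⟩

theorem uS_sq (a b : F) : X.uS h a b ^ 2 = X.uS h 0 (a * a ^ r) := by
  have h2 := h.two
  rw [sq, uS_mul]
  congr 1
  · linear_combination a * h2
  · linear_combination b * h2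

theorem uS_zero_sq (c : F) : X.uS h 0 c ^ 2 = 1 := by
  rw [uS_sq, zero_mul, uS_zero]

theorem uS_pow_four (a b : F) : X.uS h a b ^ 4 = 1 := by
  have : (4 : ℕ) = 2 * 2 := rfl
  rw [this, pow_mul, uS_sq, uS_zero_sq]

theorem exponent_Uni : Monoid.exponent (X.Uni h) = 4 := by
  have hdvd : Monoid.exponent (X.Uni h) ∣ 2 ^ 2 := by
    apply Monoid.exponent_dvd_of_forall_pow_eq_one
    intro g
    obtain ⟨a, b, rfl⟩ := X.uS_surj h g
    exact X.uS_pow_four h a b
  obtain ⟨k, hk, hek⟩ := (Nat.dvd_prime_pow Nat.prime_two).mp hdvd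
  have hne : X.uS h 1 0 ^ 2 ≠ 1 := by
    rw [uS_sq, ← uS_zero]
    intro hcon
    have := (X.uS_inj h hcon).2
    simp at this
  have hpow := Monoid.pow_exponent_eq_one (X.uS h 1 0)
  interval_cases k
  · exfalso
    rw [hek] at hpow
    apply hne
    rw [sq]
    simp only [pow_zero, pow_one] at hpow
    rw [hpow, one_mul]
  · exfalso
    rw [hek] at hpow
    simp only [pow_one] at hpow
    exact hne hpow
  · rw [hek]; norm_num

theorem uS_comm_iff (a b c d : F) :
    X.uS h a b * X.uS h c d = X.uS h c d * X.uS h a b ↔ a * c ^ r = c * a ^ r := by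
  rw [uS_mul, uS_mul]
  constructor
  · intro heq
    have := (X.uS_inj h heq).2
    linear_combination this
  · intro heq
    congr 1
    · ring
    · rw [heq]; ring

theorem mem_center_Uni (hw : ∃ w : F, w ≠ 0 ∧ w ≠ 1) (x : ↥(X.Uni h)) :
    x ∈ Subgroup.center (X.Uni h) ↔ ∃ b : F, x = X.uS h 0 b := by
  rw [Subgroup.mem_center_iff]
  constructor
  · intro hx
    obtain ⟨a, b, rfl⟩ := X.uS_surj h x
    obtain ⟨w, hw0, hw1⟩ := hw
    by_cases ha : a = 0
    · exact ⟨b, by rw [ha]⟩
    · exfalso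
      have h1 := (X.uS_comm_iff h (a * w) 0 a b).mp (hx (X.uS h (a * w) 0))
      rw [mul_pow] at h1
      have har : a ^ r ≠ 0 := pow_ne_zero _ ha
      have h2 : w ^ r = w := by
        have : a * a ^ r * (w ^ r - w) = 0 := by linear_combination -h1
        rcases mul_eq_zero.mp this with h3 | h3
        · exact absurd h3 (mul_ne_zero ha har)
        · exact sub_eq_zero.mp h3
      rcases h.pow_eq_self h2 with h3 | h3
      · exact hw0 h3
      · exact hw1 h3
  · rintro ⟨b, rfl⟩ y
    obtain ⟨c, d, rfl⟩ := X.uS_surj h y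
    rw [uS_comm_iff]
    simp [h.rpos.ne']

theorem uS_commutator (a b c d : F) :
    ⁅X.uS h a b, X.uS h c d⁆ = X.uS h 0 (a * c ^ r + c * a ^ r) := by
  have h2 := h.two
  rw [commutatorElement_def, mul_inv_eq_iff_eq_mul, mul_inv_eq_iff_eq_mul, uS_mul, uS_mul, uS_mul]
  congr 1
  · ring
  · simp only [zero_add, zero_mul, add_zero]
    linear_combination (-(c * a ^ r)) * h2

theorem center_Uni_eq_commutator (hw : ∃ w : F, w ≠ 0 ∧ w ≠ 1) :
    Subgroup.center (X.Uni h) = commutator (X.Uni h) := by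
  apply le_antisymm
  · intro x hx
    obtain ⟨b, rfl⟩ := (X.mem_center_Uni h hw x).mp hx
    obtain ⟨w, hw0, hw1⟩ := hw
    have he : w ^ r + w ≠ 0 := by
      intro he
      have h2 := h.two
      have : w ^ r = w := by linear_combination he - w * h2
      rcases h.pow_eq_self this with h3 | h3
      · exact hw0 h3
      · exact hw1 h3
    obtain ⟨a, ha⟩ := h.exists_pow_succ_eq (b / (w ^ r + w))
    have hb : b = a * (a * w) ^ r + a * w * a ^ r := by
      rw [mul_pow]
      have : a * (a ^ r * w ^ r) + a * w * a ^ r = (a * a ^ r) * (w ^ r + w) := by ring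
      rw [this, ha]
      field_simp
    have : X.uS h 0 b = ⁅X.uS h a 0, X.uS h (a * w) 0⁆ := by
      rw [uS_commutator, ← hb]
    rw [this]
    exact Subgroup.commutator_mem_commutator (Subgroup.mem_top _) (Subgroup.mem_top _)
  · rw [commutator_def, Subgroup.commutator_le]
    intro x _ y _
    obtain ⟨a, b, rfl⟩ := X.uS_surj h x
    obtain ⟨c, d, rfl⟩ := X.uS_surj h y
    rw [uS_commutator]
    exact (X.mem_center_Uni h hw _).mpr ⟨_, rfl⟩

theorem card_center_Uni [Fintype F] (hw : ∃ w : F, w ≠ 0 ∧ w ≠ 1) :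
    Nat.card (Subgroup.center (X.Uni h)) = Fintype.card F := by
  rw [← Nat.card_eq_fintype_card]
  symm
  apply Nat.card_congr
  exact Equiv.ofBijective
    (fun b => (⟨X.uS h 0 b, (X.mem_center_Uni h hw _).mpr ⟨b, rfl⟩⟩ :
      Subgroup.center (X.Uni h))) (by
    constructor
    · intro b c hbc
      have hbc' : X.uS h 0 b = X.uS h 0 c := congrArg Subtype.val hbc
      exact (X.uS_inj h hbc').2
    · rintro ⟨x, hx⟩
      obtain ⟨b, rfl⟩ := (X.mem_center_Uni h hw x).mp hx
      exact ⟨b, rfl⟩)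

end SzModel

end Cfsg.Agent.Helper39
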