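import Mathlib
import Cfsg.Agent.Lib.Helper39.SzSylow

set_option autoImplicit false

namespace Cfsg.Agent.Helper39

open Matrix Cfsg.Lie
open scoped commutatorElement

/-- `centre = commutator subgroup` transfers along isomorphisms. -/
theorem center_eq_commutator_of_mulEquiv {H K : Type*} [Group H] [Group K] (e : H ≃* K)
    (hK : Subgroup.center K = commutator K) : Subgroup.center H = commutator H := by
  ext x
  have h1 : x ∈ Subgroup.center H ↔ e x ∈ Subgroup.center K := by
    simp only [Subgroup.mem_center_iff]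
    constructor
    · intro hx k
      obtain ⟨y, rfl⟩ := e.surjective k
      rw [← map_mul, ← map_mul, hx]
    · intro hx y
      apply e.injective
      rw [map_mul, map_mul, hx]
  have h2 : x ∈ commutator H ↔ e x ∈ commutator K := by
    have hmap : (commutator H).map e.toMonoidHom = commutator K := by
      rw [commutator_def, Subgroup.map_commutator, commutator_def,
        Subgroup.map_top_of_surjective e.toMonoidHom e.surjective]
    rw [← hmap]
    exact (Subgroup.mem_map_iff_mem (f := e.toMonoidHom) e.injective).symm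
  rw [h1, h2, hK]

/-- Two-transitivity from a Bruhat-type decomposition. -/
theorem two_pretransitive_of_bruhat {G α : Type*} [Group G] [MulAction G α] (o p : α)
    (htrans : ∀ x : α, ∃ g : G, g • o = x)
    (hstab : ∀ x : α, x ≠ o → ∃ g : G, g • o = o ∧ g • p = x) :
    MulAction.IsMultiplyPretransitive G α 2 := by
  rw [MulAction.is_two_pretransitive_iff]
  have key : ∀ a b : α, a ≠ b → ∃ g : G, g • o = a ∧ g • p = b := by
    intro a b hab
    obtain ⟨g₁, hg₁⟩ := htrans a
    have hne : g₁⁻¹ • b ≠ o := by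
      intro hcon
      apply hab
      rw [← hg₁, ← hcon, smul_inv_smul]
    obtain ⟨g₂, hg₂o, hg₂p⟩ := hstab _ hne
    refine ⟨g₁ * g₂, ?_, ?_⟩
    · rw [mul_smul, hg₂o, hg₁]
    · rw [mul_smul, hg₂p, smul_inv_smul]
  intro a b c d hab hcd
  obtain ⟨g, hga, hgb⟩ := key a b hab
  obtain ⟨g', hgc, hgd⟩ := key c d hcd
  refine ⟨g' * g⁻¹, ?_, ?_⟩
  · rw [mul_smul, ← hga, inv_smul_smul, hgc]
  · rw [mul_smul, ← hgb, inv_smul_smul, hgd]

theorem mulVec_e0' {F : Type*} [Field F] (M : Matrix (Fin 4) (Fin 4) F) :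
    M *ᵥ ![1, 0, 0, 0] = fun i => M i 0 := by
  ext i
  simp [Matrix.mulVec, dotProduct, Fin.sum_univ_four]

namespace SzModel

variable {F : Type*} [Field F] {r : ℕ} {G : Type*} [Group G] (X : SzModel F r G)
variable (h : TitsHyp F r)

theorem φ_zero_zero_mul {g g' : G} (hg' : g' ∈ X.Bor h) :
    X.φ (g * g') 0 0 = X.φ g 0 0 * X.φ g' 0 0 := by
  rw [map_mul]
  exact IsPar.mul_apply_zero ((X.mem_Bor h).mp hg')

theorem conj_mem_Uni {g x : G} (hg : g ∈ X.Bor h) (hx : x ∈ X.Uni h) :
    g * x * g⁻¹ ∈ X.Uni h := by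
  have hxB := X.Uni_le_Bor h hx
  have hgi := (X.Bor h).inv_mem hg
  rw [mem_Uni_iff]
  refine ⟨(X.mem_Bor h).mp ((X.Bor h).mul_mem ((X.Bor h).mul_mem hg hxB) hgi), ?_⟩
  rw [mul_assoc, X.φ_zero_zero_mul h ((X.Bor h).mul_mem hxB hgi), X.φ_zero_zero_mul h hgi,
    ((X.mem_Uni_iff h).mp hx).2, one_mul, ← X.φ_zero_zero_mul h hgi, mul_inv_cancel, map_one]
  simp

theorem normalizer_Uni : Subgroup.normalizer ((X.Uni h : Subgroup G) : Set G) = X.Bor h := by
  ext g
  rw [Subgroup.mem_normalizer_iff]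
  constructor
  · intro hg
    -- x' := uEl 1 0 = g x g⁻¹ with x ∈ U
    have hx : g⁻¹ * X.uEl h 1 0 * g ∈ X.Uni h := by
      rw [hg]
      have : g * (g⁻¹ * X.uEl h 1 0 * g) * g⁻¹ = X.uEl h 1 0 := by group
      rw [this]
      exact X.uEl_mem_Uni h 1 0
    obtain ⟨c, d, hcd⟩ := (X.mem_Uni h).mp hx
    have heq : X.uEl h 1 0 * g = g * X.uEl h c d := by
      rw [← hcd]; group
    have hM := congrArg X.φ heq
    simp only [map_mul, φ_uEl] at hM
    have hv : uMat r 1 0 *ᵥ (X.φ g *ᵥ ![1, 0, 0, 0]) = X.φ g *ᵥ ![1, 0, 0, 0] := by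
      rw [Matrix.mulVec_mulVec, hM, ← Matrix.mulVec_mulVec]
      congr 1
      rw [mulVec_e0']
      ext i
      fin_cases i <;> simp [uMat]
    obtain ⟨h1, h2, h3⟩ := uMat_fix hv
    rw [mulVec_e0'] at h1 h2 h3
    exact ⟨h1, h2, h3⟩
  · intro hg x
    constructor
    · intro hx
      exact X.conj_mem_Uni h hg hx
    · intro hx
      have := X.conj_mem_Uni h ((X.Bor h).inv_mem hg) hx
      have e : g⁻¹ * (g * x * g⁻¹) * g⁻¹⁻¹ = x := by group
      rwa [e] at this

section sylow

variable [Fintype F] {n : ℕ} (hq : Fintype.card F = 2 ^ n) (hn : 1 ≤ n)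

include hq hn in
theorem odd_part : ¬ 2 ∣ (Fintype.card F ^ 2 + 1) * (Fintype.card F - 1) := by
  have h2q : 2 ∣ Fintype.card F := by
    rw [hq]; exact dvd_pow_self 2 (by omega)
  have h2q2 : 2 ∣ Fintype.card F ^ 2 := dvd_pow h2q (by norm_num)
  have hpos : 1 ≤ Fintype.card F := Fintype.card_pos
  intro hdvd
  rcases (Nat.Prime.dvd_mul Nat.prime_two).mp hdvd with h1 | h1
  · omega
  · omega

theorem index_Uni : (X.Uni h).index = (Fintype.card F ^ 2 + 1) * (Fintype.card F - 1) := by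
  have h1 := (X.Uni h).card_mul_index
  rw [X.card_Uni h, X.card_G h] at h1
  have hpos : 0 < Fintype.card F ^ 2 := pow_pos Fintype.card_pos 2
  apply Nat.eq_of_mul_eq_mul_left hpos
  rw [h1]; ring

theorem index_Bor : (X.Bor h).index = Fintype.card F ^ 2 + 1 := by
  have h1 := (X.Bor h).card_mul_index
  rw [X.card_Bor h, X.card_G h] at h1
  have hq1 : 0 < Fintype.card F - 1 := by
    have : 1 < Fintype.card F := Fintype.one_lt_card
    omega
  have hpos : 0 < (Fintype.card F - 1) * Fintype.card F ^ 2 :=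
    Nat.mul_pos hq1 (pow_pos Fintype.card_pos 2)
  apply Nat.eq_of_mul_eq_mul_left hpos
  rw [h1]; ring

include hq in
theorem isPGroup_Uni : IsPGroup 2 (X.Uni h) := by
  apply IsPGroup.of_card (n := 2 * n)
  rw [X.card_Uni h, hq, ← pow_mul, mul_comm]

/-- The unipotent subgroup as a Sylow 2-subgroup. -/
noncomputable def sylU : Sylow 2 G :=
  (X.isPGroup_Uni h hq).toSylow (by
    rw [X.index_Uni h]; exact odd_part hq hn)

theorem coe_sylU : ((X.sylU h hq hn : Sylow 2 G) : Subgroup G) = X.Uni h := rfl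

include X h hq hn in
theorem sylow_props (hw : ∃ w : F, w ≠ 0 ∧ w ≠ 1) (P : Sylow 2 G) :
    Nat.card P = Fintype.card F ^ 2 ∧ Monoid.exponent P = 4 ∧
      Subgroup.center P = commutator P ∧ Nat.card (Subgroup.center P) = Fintype.card F := by
  have : Finite G := X.finite_G
  have e : ↥P ≃* ↥(X.Uni h) := Sylow.equiv P (X.sylU h hq hn)
  refine ⟨?_, ?_, ?_, ?_⟩
  · exact (Nat.card_congr e.toEquiv).trans (X.card_Uni h)
  · exact (Monoid.exponent_eq_of_mulEquiv e).trans (X.exponent_Uni h)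
  · exact center_eq_commutator_of_mulEquiv e (X.center_Uni_eq_commutator h hw)
  · exact (Nat.card_congr (Subgroup.centerCongr e).toEquiv).trans (X.card_center_Uni h hw)

end sylow

/-- Two-transitivity on the cosets of the Borel subgroup. -/
theorem two_pretransitive_quot :
    MulAction.IsMultiplyPretransitive G (G ⧸ X.Bor h) 2 := by
  apply two_pretransitive_of_bruhat (QuotientGroup.mk 1 : G ⧸ X.Bor h)
    (QuotientGroup.mk (X.tEl h))
  · intro x
    induction x using QuotientGroup.induction_on with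
    | H g => exact ⟨g, by rw [MulAction.Quotient.smul_mk, smul_eq_mul, mul_one]⟩
  · intro x hx
    induction x using QuotientGroup.induction_on with
    | H g =>
      have hg : g ∉ X.Bor h := by
        intro hg
        apply hx
        rw [QuotientGroup.eq]
        exact (X.Bor h).mul_mem ((X.Bor h).inv_mem hg) (X.Bor h).one_mem
      obtain ⟨a, b, b', hb', rfl⟩ := X.bruhat' h hg
      refine ⟨X.uEl h a b, ?_, ?_⟩
      · rw [MulAction.Quotient.smul_mk, smul_eq_mul, mul_one, QuotientGroup.eq]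
        rw [mul_one]
        exact (X.Bor h).inv_mem (X.Uni_le_Bor h (X.uEl_mem_Uni h a b))
      · rw [MulAction.Quotient.smul_mk, smul_eq_mul, QuotientGroup.eq]
        have : (X.uEl h a b * X.tEl h)⁻¹ * (X.uEl h a b * X.tEl h * b') = b' := by group
        rw [this]
        exact hb'

theorem tEl_conj_uEl_mem_Bor {a b : F} (hab : X.tEl h * X.uEl h a b * X.tEl h ∈ X.Bor h) :
    a = 0 ∧ b = 0 := by
  rw [mem_Bor, map_mul, map_mul, φ_tEl, φ_uEl, uMat_eq] at hab
  have : tMat * (tMat * sMat r a b * tMat) * tMat = sMat r a b := by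
    simp only [Matrix.mul_assoc, tMat_mul_tMat, Matrix.mul_one]
    rw [← Matrix.mul_assoc, tMat_mul_tMat, Matrix.one_mul]
  rw [this] at hab
  exact (isPar_sMat_iff h.rpos a b).mp hab

/-- The unipotent subgroup acts regularly on the cosets other than the base coset. -/
theorem regular_quot (x y : G ⧸ X.Bor h) (hx : x ≠ QuotientGroup.mk 1)
    (hy : y ≠ QuotientGroup.mk 1) : ∃! s : ↥(X.Uni h), (s : G) • x = y := by
  have key : ∀ z : G ⧸ X.Bor h, z ≠ QuotientGroup.mk 1 →
      ∃ a b : F, z = QuotientGroup.mk (X.uEl h a b * X.tEl h) := by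
    intro z hz
    induction z using QuotientGroup.induction_on with
    | H g =>
      have hg : g ∉ X.Bor h := by
        intro hg
        apply hz
        rw [QuotientGroup.eq]
        exact (X.Bor h).mul_mem ((X.Bor h).inv_mem hg) (X.Bor h).one_mem
      obtain ⟨a, b, b', hb', rfl⟩ := X.bruhat' h hg
      refine ⟨a, b, ?_⟩
      rw [QuotientGroup.eq]
      have : (X.uEl h a b * X.tEl h * b')⁻¹ * (X.uEl h a b * X.tEl h) = b'⁻¹ := by group
      rw [this]
      exact (X.Bor h).inv_mem hb'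
  obtain ⟨a, b, rfl⟩ := key x hx
  obtain ⟨c, d, rfl⟩ := key y hy
  refine ⟨⟨X.uEl h c d * (X.uEl h a b)⁻¹, (X.Uni h).mul_mem (X.uEl_mem_Uni h c d)
    ((X.Uni h).inv_mem (X.uEl_mem_Uni h a b))⟩, ?_, ?_⟩
  · simp only [MulAction.Quotient.smul_mk, smul_eq_mul]
    congr 1
    group
  · rintro ⟨s, hs⟩ hs'
    simp only [MulAction.Quotient.smul_mk, smul_eq_mul] at hs'
    rw [QuotientGroup.eq] at hs'
    apply Subtype.ext
    simp only
    -- u := (u a b)⁻¹ s⁻¹ (u c d) ∈ U and t u t ∈ B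
    have hu : (X.uEl h a b)⁻¹ * s⁻¹ * X.uEl h c d ∈ X.Uni h :=
      (X.Uni h).mul_mem ((X.Uni h).mul_mem ((X.Uni h).inv_mem (X.uEl_mem_Uni h a b))
        ((X.Uni h).inv_mem hs)) (X.uEl_mem_Uni h c d)
    obtain ⟨e, f, hef⟩ := (X.mem_Uni h).mp hu
    have h1 : X.tEl h * X.uEl h e f * X.tEl h ∈ X.Bor h := by
      rw [← hef]
      have : (s * (X.uEl h a b * X.tEl h))⁻¹ * (X.uEl h c d * X.tEl h) =
          X.tEl h * ((X.uEl h a b)⁻¹ * s⁻¹ * X.uEl h c d) * X.tEl h := by
        rw [_root_.mul_inv_rev, _root_.mul_inv_rev, X.tEl_inv h]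
        simp only [mul_assoc]
      rw [← this]
      exact hs'
    obtain ⟨he, hf⟩ := X.tEl_conj_uEl_mem_Bor h h1
    rw [he, hf, X.uEl_zero h] at hef
    -- s = u c d * (u a b)⁻¹
    have : s = X.uEl h c d * (X.uEl h a b)⁻¹ := by
      have h2 : s⁻¹ = X.uEl h a b * (X.uEl h c d)⁻¹ := by
        have : s⁻¹ = X.uEl h a b * ((X.uEl h a b)⁻¹ * s⁻¹ * X.uEl h c d) * (X.uEl h c d)⁻¹ := by
          group
        rw [this, hef, mul_one]
      have h3 : s = (s⁻¹)⁻¹ := (inv_inv s).symm
      rw [h3, h2, _root_.mul_inv_rev, inv_inv]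
    exact this

end SzModel

end Cfsg.Agent.Helper39
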