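import Mathlib

/-!
# A group with a normal `D₈` section and cyclic quotient of odd order above it

Piece (GA) of helper13's lemma server for S2606: `A/I ≅ D₈ × C_f` when `P/I ≅ D₈` and `A/P` is
cyclic of odd order `f`.
-/

set_option autoImplicit false
set_option linter.unusedSectionVars false
set_option linter.style.haveILetI false

namespace Cfsg.Agent.Helper39.OMinOdd

open DihedralGroup

/-- an automorphism of odd order of the dihedral group of order eight is trivial -/
theorem dihedral4_aut_odd (α : MulAut (DihedralGroup 4)) (m : ℕ) (hm : Odd m) (hα : α ^ m = 1) :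
    α = 1 := by
  have hinj := (α : DihedralGroup 4 ≃* DihedralGroup 4).injective
  -- `α` fixes the rotation
  have h1 : α (r 1) = r 1 ∨ α (r 1) = r 3 := by
    have key : ∀ g : DihedralGroup 4, g ^ 2 ≠ 1 → g = r 1 ∨ g = r 3 := by decide
    apply key
    rw [← map_pow]
    intro hc
    have : (r 1 : DihedralGroup 4) ^ 2 = 1 := hinj (hc.trans (map_one α).symm)
    revert this
    decide
  have h2 : (α ^ 2) (r 1) = r 1 := by
    rw [pow_two, MulAut.mul_apply]
    rcases h1 with h | h
    · rw [h, h]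
    · rw [h]
      have : (r 3 : DihedralGroup 4) = (r 1) ^ 3 := by decide
      rw [this, map_pow, h]
      decide
  have hr : α (r 1) = r 1 := by
    obtain ⟨k, hk⟩ := hm
    have h3 : ∀ j : ℕ, ((α ^ 2) ^ j) (r 1) = r 1 := by
      intro j
      induction j with
      | zero => rfl
      | succ j ih => rw [pow_succ, MulAut.mul_apply, h2, ih]
    have h4 : α = (α ^ 2) ^ (k + 1) := by
      rw [← pow_mul]
      have : 2 * (k + 1) = m + 1 := by omega
      rw [this, pow_succ, hα, one_mul]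
    rw [h4]
    exact h3 _
  have hrj : ∀ j : ℕ, α ((r 1) ^ j) = (r 1) ^ j := by
    intro j
    rw [map_pow, hr]
  -- `α` fixes a reflection
  have hs : ∃ j : ℕ, α (sr 0) = sr 0 * (r 1) ^ j := by
    have key : ∀ g : DihedralGroup 4, g * r 1 ≠ r 1 * g → ∃ j : ℕ, g = sr 0 * (r 1) ^ j := by
      intro g
      rcases g with i | i
      · intro h
        exfalso
        apply h
        rw [r_mul_r, r_mul_r, add_comm]
      · intro _
        refine ⟨i.val, ?_⟩
        rw [r_one_pow, sr_mul_r, zero_add, ZMod.natCast_zmod_val]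
    apply key
    intro hc
    rw [← hr, ← map_mul, ← map_mul] at hc
    have := hinj hc
    revert this
    decide
  obtain ⟨j, hj⟩ := hs
  have hsk : ∀ k : ℕ, (α ^ k) (sr 0) = sr 0 * (r 1) ^ (k * j) := by
    intro k
    induction k with
    | zero => simp
    | succ k ih =>
      rw [pow_succ', MulAut.mul_apply, ih, map_mul, hj, hrj, mul_assoc, ← pow_add]
      congr 2
      ring
  have hs0 : α (sr 0) = sr 0 := by
    have h5 := hsk m
    rw [hα, MulAut.one_apply] at h5
    have h6 : ((r 1 : DihedralGroup 4)) ^ (m * j) = 1 := by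
      have := mul_left_cancel (a := (sr 0 : DihedralGroup 4)) (b := 1)
        (c := (r 1) ^ (m * j)) (by rw [mul_one]; exact h5)
      exact this.symm
    have h7 : 4 ∣ m * j := by
      have := orderOf_dvd_of_pow_eq_one h6
      rwa [orderOf_r_one] at this
    have h8 : 4 ∣ j := by
      have hco : Nat.Coprime 4 m := by
        obtain ⟨k, hk⟩ := hm
        rw [hk]
        have : Nat.Coprime 2 (2 * k + 1) := by
          rw [Nat.coprime_two_left]
          exact ⟨k, rfl⟩
        exact Nat.Coprime.pow_left 2 this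
      exact hco.dvd_of_dvd_mul_left h7
    have h9 : ((r 1 : DihedralGroup 4)) ^ j = 1 := by
      apply orderOf_dvd_iff_pow_eq_one.mp
      rwa [orderOf_r_one]
    rw [hj, h9, mul_one]
  -- hence `α` is the identity
  apply MulEquiv.ext
  intro g
  rw [MulAut.one_apply]
  rcases g with i | i
  · have : (r i : DihedralGroup 4) = (r 1) ^ i.val := by
      rw [r_one_pow, ZMod.natCast_zmod_val]
    rw [this, hrj]
  · have : (sr i : DihedralGroup 4) = sr 0 * (r 1) ^ i.val := by
      rw [r_one_pow, sr_mul_r, zero_add, ZMod.natCast_zmod_val]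
    rw [this, map_mul, hs0, hrj]

/-- (GA) `A/I ≅ D₈ × C_f`: `P/I ≅ D₈` (via `φ`), `A/P` cyclic of odd order `f` generated by `x` -/
theorem out_dihedral {A : Type*} [Group A] [Finite A] (I P : Subgroup A) [I.Normal] [P.Normal]
    (hIP : I ≤ P) (φ : ↥P →* DihedralGroup 4) (hφ : Function.Surjective φ)
    (hker : φ.ker = I.subgroupOf P) (x : A) (f : ℕ) (hf : Odd f)
    (hgen : ∀ β : A, ∃ i : ℕ, β * x ^ i ∈ P)
    (hord : ∀ j : ℕ, x ^ j ∈ P → f ∣ j) (hxf : x ^ f ∈ P) :
    Nonempty (A ⧸ I ≃* DihedralGroup 4 × Multiplicative (ZMod f)) := by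
  classical
  let π : A →* A ⧸ I := QuotientGroup.mk' I
  have hπ1 : ∀ a : A, π a = 1 ↔ a ∈ I := fun a => QuotientGroup.eq_one_iff a
  let θ : ↥P →* A ⧸ I := π.comp P.subtype
  have hθ : ∀ p : ↥P, θ p = π (p : A) := fun _ => rfl
  have hθker : θ.ker = φ.ker := by
    rw [hker]
    ext p
    rw [MonoidHom.mem_ker, hθ, hπ1, Subgroup.mem_subgroupOf]
  -- `N = P/I` is normal in `G = A/I` and isomorphic to `D₈`
  set N : Subgroup (A ⧸ I) := θ.range with hN
  have hmemN : ∀ a : A, π a ∈ N ↔ a ∈ P := by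
    intro a
    constructor
    · rintro ⟨p, hp⟩
      rw [hθ] at hp
      have h1 : π ((p : A)⁻¹ * a) = 1 := by rw [map_mul, map_inv, hp, inv_mul_cancel]
      have h2 : (p : A)⁻¹ * a ∈ P := hIP ((hπ1 _).mp h1)
      have h3 := P.mul_mem p.2 h2
      rwa [mul_inv_cancel_left] at h3
    · intro ha
      exact ⟨⟨a, ha⟩, rfl⟩
  haveI hNn : N.Normal := by
    refine ⟨fun n hn g => ?_⟩
    obtain ⟨b, rfl⟩ := QuotientGroup.mk'_surjective I g
    obtain ⟨p, rfl⟩ := hn
    have : (QuotientGroup.mk' I) b * θ p * ((QuotientGroup.mk' I) b)⁻¹ = π (b * (p : A) * b⁻¹) := by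
      rw [hθ, map_mul, map_mul, map_inv]
    rw [this, hmemN]
    exact ‹P.Normal›.conj_mem _ p.2 b
  let eN : ↥N ≃* DihedralGroup 4 :=
    (QuotientGroup.quotientKerEquivRange θ).symm.trans
      ((QuotientGroup.quotientMulEquivOfEq hθker).trans
        (QuotientGroup.quotientKerEquivOfSurjective φ hφ))
  have hNcard : Nat.card N = 8 := by
    rw [Nat.card_congr eN.toEquiv, DihedralGroup.nat_card]
  have hN8 : ∀ n ∈ N, n ^ 8 = 1 := by
    intro n hn
    have h1 : (⟨n, hn⟩ : N) ^ 8 = 1 := by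
      rw [← hNcard]
      exact pow_card_eq_one'
    exact congrArg Subtype.val h1
  -- the complement
  set u : A ⧸ I := π x with hu
  set y : A ⧸ I := u ^ 8 with hy
  have hupow : ∀ j : ℕ, u ^ j = π (x ^ j) := fun j => (map_pow π x j).symm
  have hufN : u ^ f ∈ N := by rw [hupow, hmemN]; exact hxf
  have hyf : y ^ f = 1 := by
    rw [hy, ← pow_mul, mul_comm, pow_mul]
    exact hN8 _ hufN
  have hf0 : 0 < f := by
    obtain ⟨k, hk⟩ := hf
    omega
  have hco : Nat.Coprime 8 f := by
    obtain ⟨k, hk⟩ := hf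
    rw [hk]
    have : Nat.Coprime 2 (2 * k + 1) := by
      rw [Nat.coprime_two_left]
      exact ⟨k, rfl⟩
    exact Nat.Coprime.pow_left 3 this
  have hyN : ∀ j : ℕ, y ^ j ∈ N → y ^ j = 1 := by
    intro j hj
    rw [hy, ← pow_mul, hupow, hmemN] at hj
    have h1 : f ∣ j := hco.symm.dvd_of_dvd_mul_left (hord _ hj)
    obtain ⟨c, rfl⟩ := h1
    rw [pow_mul, hyf, one_pow]
  have hyord : orderOf y = f := by
    apply Nat.dvd_antisymm (orderOf_dvd_of_pow_eq_one hyf)
    have h1 : y ^ orderOf y = 1 := pow_orderOf_eq_one y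
    have h2 : y ^ orderOf y ∈ N := by rw [h1]; exact one_mem _
    rw [hy, ← pow_mul, hupow, hmemN] at h2
    exact hco.symm.dvd_of_dvd_mul_left (hord _ h2)
  -- `y` centralises `N`
  have hcent : ∀ n ∈ N, y * n = n * y := by
    intro n hn
    set β : MulAut N := MulAut.conjNormal y with hβ
    have hβf : β ^ f = 1 := by
      rw [hβ, ← map_pow, hyf, map_one]
    have h1 : (MulAut.congr eN β) ^ f = 1 := by
      rw [← map_pow, hβf, map_one]
    have h2 := dihedral4_aut_odd _ f hf h1
    have h3 : β = 1 := by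
      have := (MulAut.congr eN).injective (h2.trans (map_one (MulAut.congr eN)).symm)
      exact this
    have h4 : ((β ⟨n, hn⟩ : N) : A ⧸ I) = y * n * y⁻¹ := MulAut.conjNormal_apply y ⟨n, hn⟩
    rw [h3, MulAut.one_apply] at h4
    calc y * n = (y * n * y⁻¹) * y := by group
      _ = n * y := by rw [← h4]
  have hcentz : ∀ n ∈ N, ∀ z ∈ Subgroup.zpowers y, z * n = n * z := by
    intro n hn z hz
    obtain ⟨k, rfl⟩ := Subgroup.mem_zpowers_iff.mp hz
    have : Commute y n := hcent n hn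
    exact (this.zpow_left k).eq
  -- the product map
  let F : ↥N × ↥(Subgroup.zpowers y) →* A ⧸ I :=
    MonoidHom.mk' (fun p => (p.1 : A ⧸ I) * (p.2 : A ⧸ I)) (by
      intro a b
      show ((a.1 : A ⧸ I) * b.1) * ((a.2 : A ⧸ I) * b.2) = (a.1 : A ⧸ I) * a.2 * ((b.1 : A ⧸ I) * b.2)
      have hc := hcentz b.1 b.1.2 a.2 a.2.2
      calc ((a.1 : A ⧸ I) * b.1) * ((a.2 : A ⧸ I) * b.2)
          = (a.1 : A ⧸ I) * ((b.1 : A ⧸ I) * a.2) * b.2 := by group
        _ = (a.1 : A ⧸ I) * ((a.2 : A ⧸ I) * b.1) * b.2 := by rw [hc]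
        _ = (a.1 : A ⧸ I) * a.2 * ((b.1 : A ⧸ I) * b.2) := by group)
  have hF : ∀ p, F p = (p.1 : A ⧸ I) * (p.2 : A ⧸ I) := fun _ => rfl
  have hinj : Function.Injective F := by
    rw [injective_iff_map_eq_one]
    rintro ⟨⟨a, ha⟩, ⟨b, hb⟩⟩ hab
    rw [hF] at hab
    simp only at hab
    obtain ⟨j, rfl⟩ := (mem_powers_iff_mem_zpowers.mpr hb)
    change a * y ^ j = 1 at hab
    have h1 : y ^ j ∈ N := by
      have : y ^ j = a⁻¹ := eq_inv_of_mul_eq_one_right hab
      rw [this]
      exact N.inv_mem ha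
    have h2 := hyN j h1
    have h3 : a = 1 := by rwa [h2, mul_one] at hab
    apply Prod.ext
    · exact Subtype.ext h3
    · exact Subtype.ext h2
  have hsurj : Function.Surjective F := by
    rw [← MonoidHom.range_eq_top, eq_top_iff]
    intro g _
    have hNF : ∀ n ∈ N, n ∈ F.range := by
      intro n hn
      exact ⟨(⟨n, hn⟩, 1), by rw [hF]; simp⟩
    have hyF : y ∈ F.range := ⟨(1, ⟨y, Subgroup.mem_zpowers y⟩), by rw [hF]; simp⟩
    have huF : u ∈ F.range := by
      have hb := Int.gcd_eq_gcd_ab 8 f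
      have hg : Int.gcd 8 f = 1 := by
        have : Int.gcd ((8 : ℕ) : ℤ) (f : ℤ) = Nat.gcd 8 f := Int.gcd_natCast_natCast 8 f
        simpa using this.trans hco
      have hu1 : u = (u ^ 8) ^ (Int.gcdA 8 f) * (u ^ f) ^ (Int.gcdB 8 f) := by
        have h1 : (u ^ 8) ^ (Int.gcdA 8 f) = u ^ ((8 : ℤ) * Int.gcdA 8 f) := by
          rw [zpow_mul]
          norm_cast
        have h2 : (u ^ f) ^ (Int.gcdB 8 f) = u ^ ((f : ℤ) * Int.gcdB 8 f) := by
          rw [zpow_mul]
          norm_cast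
        rw [h1, h2, ← zpow_add, ← hb, hg]
        simp
      rw [hu1]
      exact F.range.mul_mem (F.range.zpow_mem hyF _) (F.range.zpow_mem (hNF _ hufN) _)
    obtain ⟨b, rfl⟩ := QuotientGroup.mk'_surjective I g
    obtain ⟨i, hi⟩ := hgen b
    have h1 : (QuotientGroup.mk' I) b = π (b * x ^ i) * (u ^ i)⁻¹ := by
      rw [hupow, map_mul]
      show π b = _
      group
    rw [h1]
    exact F.range.mul_mem (hNF _ ((hmemN _).mpr hi)) (F.range.inv_mem (F.range.pow_mem huF _))
  have eZ : Nonempty (Multiplicative (ZMod f) ≃* ↥(Subgroup.zpowers y)) := by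
    have hcard : Nat.card (Subgroup.zpowers y) = f := by rw [Nat.card_zpowers, hyord]
    rw [← hcard]
    exact ⟨zmodCyclicMulEquiv (inferInstance : IsCyclic (Subgroup.zpowers y))⟩
  obtain ⟨eZ⟩ := eZ
  exact ⟨(MulEquiv.ofBijective F ⟨hinj, hsurj⟩).symm.trans (MulEquiv.prodCongr eN eZ.symm)⟩

end Cfsg.Agent.Helper39.OMinOdd
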