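import Cfsg.Agent.Lib.Helper39.StbDefs

/-!
# Steinberg character irreducibility: bi-minimal double coset representatives
-/

set_option autoImplicit false

namespace Cfsg.Agent.Helper39.Stb

open Cfsg.Agent.Helper6.Weyl Matrix

variable {n : ℕ} (D : VDatum n)

/-- `w` is the minimal representative of the double coset `W_J w W_K`: `w⁻¹` keeps the simple roots
of `J` positive and `w` keeps the simple roots of `K` positive -/
def IsBiMin (J K : Fin n → Prop) (w : (Mat n)ˣ) : Prop :=
  IsMin D J w⁻¹ ∧ IsMin D K w

end Cfsg.Agent.Helper39.Stb
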