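import Mathlib

set_option autoImplicit false

namespace Cfsg.Agent.Helper39

open Module

/-- Operators satisfying Heisenberg-type commutation relations with pairwise distinct
"conjugation characters" are linearly independent. -/
theorem heis_linearIndependent {K : Type*} [Field K] {W : Type*} [AddCommGroup W] [Module K W]
    [FiniteDimensional K W] [Nontrivial W] {E : Type*} (B : E → (W →ₗ[K] W))
    (hB : ∀ e, Function.Injective (B e)) (c : E → E → K)
    (hcomm : ∀ f e, B f ∘ₗ B e = c f e • (B e ∘ₗ B f))
    {ι : Type*} (s : ι → E) (hsep : ∀ i j, i ≠ j → ∃ f, c f (s i) ≠ c f (s j)) :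
    LinearIndependent K (fun i => B (s i)) := by
  classical
  rw [linearIndependent_iff']
  intro t
  induction t using Finset.strongInduction with
  | H t ih =>
    intro g hg
    by_contra hcon
    push Not at hcon
    obtain ⟨i₀, hi₀, hgi₀⟩ := hcon
    by_cases hex : ∃ i₁ ∈ t, i₁ ≠ i₀
    · obtain ⟨i₁, hi₁, hne⟩ := hex
      obtain ⟨f, hf⟩ := hsep i₀ i₁ hne.symm
      have hsurj : Function.Surjective (B f) := LinearMap.injective_iff_surjective.mp (hB f)
      have hconj : ∑ i ∈ t, (g i * c f (s i)) • B (s i) = 0 := by
        apply LinearMap.ext
        intro w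
        obtain ⟨w', rfl⟩ := hsurj w
        have h1 : ∀ i, (B (s i)) ((B f) w') = (c f (s i))⁻¹ • (B f) ((B (s i)) w') ∨
            c f (s i) = 0 := by
          intro i
          by_cases hc0 : c f (s i) = 0
          · exact Or.inr hc0
          · left
            have := LinearMap.congr_fun (hcomm f (s i)) w'
            simp only [LinearMap.comp_apply, LinearMap.smul_apply] at this
            rw [this, smul_smul, inv_mul_cancel₀ hc0, one_smul]
        have h2 : ∀ i, (g i * c f (s i)) • (B (s i)) ((B f) w') =
            g i • (B f) ((B (s i)) w') := by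
          intro i
          have := LinearMap.congr_fun (hcomm f (s i)) w'
          simp only [LinearMap.comp_apply, LinearMap.smul_apply] at this
          rw [this, smul_smul]
        simp only [LinearMap.sum_apply, LinearMap.smul_apply, LinearMap.zero_apply, h2]
        have h3 := LinearMap.congr_fun hg w'
        simp only [LinearMap.sum_apply, LinearMap.smul_apply, LinearMap.zero_apply] at h3
        have h4 := congrArg (B f) h3
        rw [map_sum, map_zero] at h4
        simpa only [map_smul] using h4
      have hsub : ∑ i ∈ t.erase i₁, (g i * (c f (s i) - c f (s i₁))) • B (s i) = 0 := by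
        have h1 : ∑ i ∈ t, (g i * (c f (s i) - c f (s i₁))) • B (s i) = 0 := by
          have : ∀ i, (g i * (c f (s i) - c f (s i₁))) • B (s i) =
              (g i * c f (s i)) • B (s i) - c f (s i₁) • (g i • B (s i)) := by
            intro i
            rw [smul_smul, ← sub_smul]
            congr 1
            ring
          simp only [this, Finset.sum_sub_distrib, ← Finset.smul_sum, hconj, hg, smul_zero,
            sub_zero]
        rw [← Finset.add_sum_erase t _ hi₁] at h1
        simpa using h1
      have h5 := ih (t.erase i₁) (Finset.erase_ssubset hi₁) _ hsub i₀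
        (Finset.mem_erase.mpr ⟨hne.symm, hi₀⟩)
      rcases mul_eq_zero.mp h5 with h6 | h6
      · exact hgi₀ h6
      · exact hf (sub_eq_zero.mp h6)
    · push Not at hex
      have ht : t = {i₀} := by
        ext i
        simp only [Finset.mem_singleton]
        constructor
        · intro hi
          exact hex i hi
        · rintro rfl
          exact hi₀
      rw [ht, Finset.sum_singleton] at hg
      have h1 : B (s i₀) = 0 := by
        rcases smul_eq_zero.mp hg with h2 | h2
        · exact absurd h2 hgi₀
        · exact h2
      obtain ⟨w, hw⟩ := exists_ne (0 : W)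
      have h2 : B (s i₀) w = B (s i₀) 0 := by rw [h1]; simp
      exact hw (hB (s i₀) h2)

/-- The Heisenberg bound. -/
theorem heis_bound {K : Type*} [Field K] {W : Type*} [AddCommGroup W] [Module K W]
    [FiniteDimensional K W] [Nontrivial W] {E : Type*} (B : E → (W →ₗ[K] W))
    (hB : ∀ e, Function.Injective (B e)) (c : E → E → K)
    (hcomm : ∀ f e, B f ∘ₗ B e = c f e • (B e ∘ₗ B f))
    {ι : Type*} [Fintype ι] (s : ι → E) (hsep : ∀ i j, i ≠ j → ∃ f, c f (s i) ≠ c f (s j)) :
    Fintype.card ι ≤ finrank K W * finrank K W := by
  have h1 := (heis_linearIndependent B hB c hcomm s hsep).fintype_card_le_finrank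
  rwa [Module.finrank_linearMap] at h1

end Cfsg.Agent.Helper39
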