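import Mathlib

set_option autoImplicit false

namespace Cfsg.Agent.Helper39

open Matrix

variable {F : Type*} [Field F]

/-- `A ↦ fromBlocks A 0 0 1` as a monoid homomorphism. -/
def blockHomL (ι₁ ι₂ : Type*) [Fintype ι₁] [DecidableEq ι₁] [Fintype ι₂] [DecidableEq ι₂] :
    Matrix ι₁ ι₁ F →* Matrix (ι₁ ⊕ ι₂) (ι₁ ⊕ ι₂) F where
  toFun A := Matrix.fromBlocks A 0 0 1
  map_one' := Matrix.fromBlocks_one
  map_mul' A B := by simp [Matrix.fromBlocks_multiply]

/-- `A ↦ fromBlocks 1 0 0 A` as a monoid homomorphism. -/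
def blockHomR (ι₁ ι₂ : Type*) [Fintype ι₁] [DecidableEq ι₁] [Fintype ι₂] [DecidableEq ι₂] :
    Matrix ι₂ ι₂ F →* Matrix (ι₁ ⊕ ι₂) (ι₁ ⊕ ι₂) F where
  toFun A := Matrix.fromBlocks 1 0 0 A
  map_one' := Matrix.fromBlocks_one
  map_mul' A B := by simp [Matrix.fromBlocks_multiply]

theorem blockHomL_injective (ι₁ ι₂ : Type*) [Fintype ι₁] [DecidableEq ι₁] [Fintype ι₂]
    [DecidableEq ι₂] : Function.Injective (blockHomL (F := F) ι₁ ι₂) := by
  intro A B h
  have := congrArg Matrix.toBlocks₁₁ h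
  simpa [blockHomL] using this

theorem blockHomR_injective (ι₁ ι₂ : Type*) [Fintype ι₁] [DecidableEq ι₁] [Fintype ι₂]
    [DecidableEq ι₂] : Function.Injective (blockHomR (F := F) ι₁ ι₂) := by
  intro A B h
  have := congrArg Matrix.toBlocks₂₂ h
  simpa [blockHomR] using this

theorem det_blockHomL (ι₁ ι₂ : Type*) [Fintype ι₁] [DecidableEq ι₁] [Fintype ι₂]
    [DecidableEq ι₂] (A : Matrix ι₁ ι₁ F) : (blockHomL ι₁ ι₂ A).det = A.det := by
  simp [blockHomL]

/-- Reindexing as a monoid homomorphism. -/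
def reindexHom {ι κ : Type*} [Fintype ι] [DecidableEq ι] [Fintype κ] [DecidableEq κ] (e : ι ≃ κ) :
    Matrix ι ι F →* Matrix κ κ F :=
  (Matrix.reindexAlgEquiv F F e).toRingEquiv.toMulEquiv.toMonoidHom

theorem reindexHom_injective {ι κ : Type*} [Fintype ι] [DecidableEq ι] [Fintype κ] [DecidableEq κ]
    (e : ι ≃ κ) : Function.Injective (reindexHom (F := F) e) :=
  (Matrix.reindexAlgEquiv F F e).toRingEquiv.toMulEquiv.injective

theorem det_reindexHom {ι κ : Type*} [Fintype ι] [DecidableEq ι] [Fintype κ] [DecidableEq κ]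
    (e : ι ≃ κ) (A : Matrix ι ι F) : (reindexHom e A).det = A.det :=
  Matrix.det_reindexAlgEquiv F F e A

/-- The index equivalence `Fin 2 ⊕ Fin (m - 2) ≃ Fin m`. -/
def finTwoSumEquiv (m : ℕ) (hm : 2 ≤ m) : Fin 2 ⊕ Fin (m - 2) ≃ Fin m :=
  finSumFinEquiv.trans (finCongr (by omega))

/-- The matrix-level embedding of `2 × 2` matrices into `m × m` matrices. -/
def twoToMat (m : ℕ) (hm : 2 ≤ m) : Matrix (Fin 2) (Fin 2) F →* Matrix (Fin m) (Fin m) F :=
  (reindexHom (finTwoSumEquiv m hm)).comp (blockHomL (Fin 2) (Fin (m - 2)))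

theorem twoToMat_injective (m : ℕ) (hm : 2 ≤ m) : Function.Injective (twoToMat (F := F) m hm) :=
  (reindexHom_injective _).comp (blockHomL_injective _ _)

theorem det_twoToMat (m : ℕ) (hm : 2 ≤ m) (A : Matrix (Fin 2) (Fin 2) F) :
    (twoToMat m hm A).det = A.det := by
  unfold twoToMat
  rw [MonoidHom.comp_apply, det_reindexHom, det_blockHomL]

/-- `SL₂(F) → GL_m(F)`. -/
def sl2ToGL (m : ℕ) (hm : 2 ≤ m) :
    Matrix.SpecialLinearGroup (Fin 2) F →* Matrix.GeneralLinearGroup (Fin m) F :=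
  (Units.map (twoToMat m hm)).comp Matrix.SpecialLinearGroup.toGL

theorem sl2ToGL_val (m : ℕ) (hm : 2 ≤ m) (A : Matrix.SpecialLinearGroup (Fin 2) F) :
    (sl2ToGL m hm A : Matrix (Fin m) (Fin m) F) = twoToMat m hm A.1 := rfl

theorem sl2ToGL_injective (m : ℕ) (hm : 2 ≤ m) : Function.Injective (sl2ToGL (F := F) m hm) := by
  intro A B h
  have h1 : (sl2ToGL m hm A : Matrix (Fin m) (Fin m) F) =
      (sl2ToGL m hm B : Matrix (Fin m) (Fin m) F) := by rw [h]
  rw [sl2ToGL_val, sl2ToGL_val] at h1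
  exact Subtype.ext (twoToMat_injective m hm h1)

theorem det_sl2ToGL (m : ℕ) (hm : 2 ≤ m) (A : Matrix.SpecialLinearGroup (Fin 2) F) :
    (sl2ToGL m hm A : Matrix (Fin m) (Fin m) F).det = 1 := by
  rw [sl2ToGL_val, det_twoToMat]
  exact A.2

/-- Permutation matrices, as a homomorphism into `GL`. -/
def permGL (n : ℕ) : Equiv.Perm (Fin n) →* Matrix.GeneralLinearGroup (Fin n) F :=
  (Matrix.permMatrixHom (n := Fin n) (R := F)).toHomUnits

theorem permGL_val (n : ℕ) (σ : Equiv.Perm (Fin n)) :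
    (permGL (F := F) n σ : Matrix (Fin n) (Fin n) F) = σ⁻¹.permMatrix F := rfl

theorem permGL_injective (n : ℕ) : Function.Injective (permGL (F := F) n) := by
  intro σ τ h
  have h1 : (permGL (F := F) n σ : Matrix (Fin n) (Fin n) F) =
      (permGL (F := F) n τ : Matrix (Fin n) (Fin n) F) := by rw [h]
  rw [permGL_val, permGL_val] at h1
  have h2 := PEquiv.toMatrix_injective h1
  have h3 : σ⁻¹ = τ⁻¹ := by
    ext i
    have h4 := congrArg (fun p : Fin n ≃. Fin n => p i) h2
    simp only [Equiv.toPEquiv_apply, Option.some.injEq] at h4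
    rw [h4]
  exact inv_injective h3

theorem det_permGL (n : ℕ) (σ : Equiv.Perm (Fin n)) :
    (permGL (F := F) n σ : Matrix (Fin n) (Fin n) F).det = ((Equiv.Perm.sign σ⁻¹ : ℤ) : F) := by
  rw [permGL_val, Matrix.det_permutation]

/-- Even permutations, as a homomorphism into `GL`. -/
def altGL (n : ℕ) : alternatingGroup (Fin n) →* Matrix.GeneralLinearGroup (Fin n) F :=
  (permGL n).comp (alternatingGroup (Fin n)).subtype

theorem altGL_injective (n : ℕ) : Function.Injective (altGL (F := F) n) :=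
  (permGL_injective n).comp Subtype.val_injective

theorem det_altGL (n : ℕ) (σ : alternatingGroup (Fin n)) :
    (altGL (F := F) n σ : Matrix (Fin n) (Fin n) F).det = 1 := by
  have h1 : (altGL (F := F) n σ : Matrix (Fin n) (Fin n) F) =
      (permGL (F := F) n σ.1 : Matrix (Fin n) (Fin n) F) := rfl
  rw [h1, det_permGL]
  have : Equiv.Perm.sign σ.1 = 1 := Equiv.Perm.mem_alternatingGroup.mp σ.2
  simp [this]

/-- Build a homomorphism into `SL` from one into `GL` with determinant one. -/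
def toSLOfDet {H : Type*} [Group H] {n : Type*} [Fintype n] [DecidableEq n]
    (φ : H →* Matrix.GeneralLinearGroup n F) (hdet : ∀ h, (φ h : Matrix n n F).det = 1) :
    H →* Matrix.SpecialLinearGroup n F where
  toFun h := (⟨(φ h : Matrix n n F), hdet h⟩ : Matrix.SpecialLinearGroup n F)
  map_one' := by
    apply Subtype.ext
    simp
  map_mul' a b := by
    apply Subtype.ext
    change (φ (a * b) : Matrix n n F) = (φ a : Matrix n n F) * (φ b : Matrix n n F)
    simp

theorem toSLOfDet_val {H : Type*} [Group H] {n : Type*} [Fintype n] [DecidableEq n]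
    (φ : H →* Matrix.GeneralLinearGroup n F) (hdet : ∀ h, (φ h : Matrix n n F).det = 1) (h : H) :
    (toSLOfDet φ hdet h : Matrix n n F) = (φ h : Matrix n n F) := rfl

theorem toSLOfDet_injective {H : Type*} [Group H] {n : Type*} [Fintype n] [DecidableEq n]
    (φ : H →* Matrix.GeneralLinearGroup n F) (hdet : ∀ h, (φ h : Matrix n n F).det = 1)
    (hφ : Function.Injective φ) : Function.Injective (toSLOfDet φ hdet) := by
  intro a b h
  apply hφ
  apply Units.ext
  have := congrArg (fun x : Matrix.SpecialLinearGroup n F => (x : Matrix n n F)) h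
  simpa [toSLOfDet_val] using this

/-- The hyperbolic embedding `g ↦ diag(g, g⁻ᵀ)` at the level of matrices. -/
def hypMat {ι : Type*} [Fintype ι] [DecidableEq ι] (g : Matrix.GeneralLinearGroup ι F) :
    Matrix (ι ⊕ ι) (ι ⊕ ι) F :=
  Matrix.fromBlocks (g : Matrix ι ι F) 0 0 ((g⁻¹ : Matrix.GeneralLinearGroup ι F) : Matrix ι ι F)ᵀ

/-- The hyperbolic embedding `GL(ι) → GL(ι ⊕ ι)`. -/
def hypHom (ι : Type*) [Fintype ι] [DecidableEq ι] :
    Matrix.GeneralLinearGroup ι F →* Matrix.GeneralLinearGroup (ι ⊕ ι) F :=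
  MonoidHom.toHomUnits
    { toFun := hypMat
      map_one' := by simp [hypMat, Matrix.fromBlocks_one]
      map_mul' := fun a b => by
        simp only [hypMat, Matrix.fromBlocks_multiply, _root_.mul_inv_rev, Units.val_mul,
          Matrix.transpose_mul, Matrix.mul_zero, Matrix.zero_mul, add_zero, zero_add] }

theorem hypHom_val {ι : Type*} [Fintype ι] [DecidableEq ι] (g : Matrix.GeneralLinearGroup ι F) :
    (hypHom ι g : Matrix (ι ⊕ ι) (ι ⊕ ι) F) = hypMat g := rfl

theorem hypHom_injective (ι : Type*) [Fintype ι] [DecidableEq ι] :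
    Function.Injective (hypHom (F := F) ι) := by
  intro a b h
  have h1 : (hypHom ι a : Matrix (ι ⊕ ι) (ι ⊕ ι) F) = (hypHom ι b : Matrix (ι ⊕ ι) (ι ⊕ ι) F) := by
    rw [h]
  rw [hypHom_val, hypHom_val] at h1
  have := congrArg Matrix.toBlocks₁₁ h1
  apply Units.ext
  simpa [hypMat] using this

theorem hypMat_mulVec_inl {ι : Type*} [Fintype ι] [DecidableEq ι]
    (g : Matrix.GeneralLinearGroup ι F) (v : ι ⊕ ι → F) (i : ι) :
    (hypMat g *ᵥ v) (Sum.inl i) = ((g : Matrix ι ι F) *ᵥ (v ∘ Sum.inl)) i := by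
  simp [hypMat, Matrix.fromBlocks_mulVec]

theorem hypMat_mulVec_inr {ι : Type*} [Fintype ι] [DecidableEq ι]
    (g : Matrix.GeneralLinearGroup ι F) (v : ι ⊕ ι → F) (i : ι) :
    (hypMat g *ᵥ v) (Sum.inr i) =
      (((g⁻¹ : Matrix.GeneralLinearGroup ι F) : Matrix ι ι F)ᵀ *ᵥ (v ∘ Sum.inr)) i := by
  simp [hypMat, Matrix.fromBlocks_mulVec]

/-- The hyperbolic embedding preserves the hyperbolic pairing. -/
theorem hypMat_preserves {ι : Type*} [Fintype ι] [DecidableEq ι]
    (g : Matrix.GeneralLinearGroup ι F) (v : ι ⊕ ι → F) :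
    ∑ i, (hypMat g *ᵥ v) (Sum.inl i) * (hypMat g *ᵥ v) (Sum.inr i) =
      ∑ i, v (Sum.inl i) * v (Sum.inr i) := by
  simp only [hypMat_mulVec_inl, hypMat_mulVec_inr]
  have h1 : ∑ i, ((g : Matrix ι ι F) *ᵥ (v ∘ Sum.inl)) i *
      (((g⁻¹ : Matrix.GeneralLinearGroup ι F) : Matrix ι ι F)ᵀ *ᵥ (v ∘ Sum.inr)) i =
      ((g : Matrix ι ι F) *ᵥ (v ∘ Sum.inl)) ⬝ᵥ
        (((g⁻¹ : Matrix.GeneralLinearGroup ι F) : Matrix ι ι F)ᵀ *ᵥ (v ∘ Sum.inr)) := rfl
  rw [h1, Matrix.dotProduct_mulVec, Matrix.vecMul_transpose, Matrix.mulVec_mulVec,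
    ← Units.val_mul, inv_mul_cancel, Units.val_one, Matrix.one_mulVec]
  rfl

theorem hypMat_one {ι : Type*} [Fintype ι] [DecidableEq ι] :
    hypMat (1 : Matrix.GeneralLinearGroup ι F) = 1 := by
  simp [hypMat, Matrix.fromBlocks_one]

theorem hypMat_mul {ι : Type*} [Fintype ι] [DecidableEq ι] (a b : Matrix.GeneralLinearGroup ι F) :
    hypMat (a * b) = hypMat a * hypMat b := by
  simp only [hypMat, Matrix.fromBlocks_multiply, _root_.mul_inv_rev, Units.val_mul,
    Matrix.transpose_mul, Matrix.mul_zero, Matrix.zero_mul, add_zero, zero_add]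

theorem hypMat_mem_symplectic {ι : Type*} [Fintype ι] [DecidableEq ι]
    (g : Matrix.GeneralLinearGroup ι F) : hypMat g ∈ Matrix.symplecticGroup ι F := by
  rw [SymplecticGroup.mem_iff]
  have h1 : (g : Matrix ι ι F) * ((g⁻¹ : Matrix.GeneralLinearGroup ι F) : Matrix ι ι F) = 1 := by
    rw [← Units.val_mul, mul_inv_cancel, Units.val_one]
  have h2 : ((g⁻¹ : Matrix.GeneralLinearGroup ι F) : Matrix ι ι F)ᵀ * (g : Matrix ι ι F)ᵀ = 1 := by
    rw [← Matrix.transpose_mul, h1, Matrix.transpose_one]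
  simp only [hypMat, Matrix.J, Matrix.fromBlocks_multiply, Matrix.fromBlocks_transpose,
    Matrix.mul_zero, Matrix.zero_mul, Matrix.mul_one, Matrix.mul_neg, Matrix.neg_mul, add_zero,
    zero_add, Matrix.transpose_zero, Matrix.transpose_transpose, neg_zero, h1, h2]

/-- The hyperbolic embedding `GL(ι) → Sp(ι ⊕ ι)`. -/
def hypSp (ι : Type*) [Fintype ι] [DecidableEq ι] :
    Matrix.GeneralLinearGroup ι F →* Matrix.symplecticGroup ι F where
  toFun g := ⟨hypMat g, hypMat_mem_symplectic g⟩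
  map_one' := Subtype.ext hypMat_one
  map_mul' a b := Subtype.ext (hypMat_mul a b)

theorem hypSp_injective (ι : Type*) [Fintype ι] [DecidableEq ι] :
    Function.Injective (hypSp (F := F) ι) := by
  intro a b h
  have h1 : hypMat a = hypMat b := congrArg Subtype.val h
  have := congrArg Matrix.toBlocks₁₁ h1
  apply Units.ext
  simpa [hypMat] using this

end Cfsg.Agent.Helper39
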