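import Mathlib
import Cfsg.Prelude.Def_Classical
import Cfsg.Agent.Lib.Helper39.Embeddings

set_option autoImplicit false

namespace Cfsg.Agent.Helper39

open Matrix

variable {F : Type*} [Field F]

/-- A perfect group maps into the commutator subgroup. -/
def toCommutator {H K : Type*} [Group H] [Group K] (hH : commutator H = ⊤) (φ : H →* K) :
    H →* commutator K :=
  φ.codRestrict (commutator K) (fun h => by
    have h1 : h ∈ commutator H := by rw [hH]; trivial
    have h2 : φ h ∈ Subgroup.map φ (commutator H) := Subgroup.mem_map_of_mem φ h1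
    rw [commutator_def, Subgroup.map_commutator] at h2
    exact Subgroup.commutator_mono le_top le_top h2)

theorem toCommutator_injective {H K : Type*} [Group H] [Group K] (hH : commutator H = ⊤)
    (φ : H →* K) (hφ : Function.Injective φ) : Function.Injective (toCommutator hH φ) := by
  intro a b h
  apply hφ
  exact congrArg Subtype.val h

theorem mem_isometryGroup_iff {ι : Type} [Fintype ι] [DecidableEq ι] (Q : (ι → F) → F)
    (g : Matrix.GeneralLinearGroup ι F) :
    g ∈ Cfsg.isometryGroup F Q ↔ ∀ u : ι → F, Q ((g : Matrix ι ι F) *ᵥ u) = Q u := by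
  constructor
  · intro h u
    exact h u u
  · intro h u _
    exact h u

/-- Plus type: `GL_m → O⁺_{2m}`. -/
def isoPlus (m : ℕ) : Matrix.GeneralLinearGroup (Fin m) F →*
    Cfsg.isometryGroup F (Cfsg.quadFormPlus m F) :=
  (hypHom (Fin m)).codRestrict _ (fun g => by
    rw [mem_isometryGroup_iff]
    intro u
    rw [hypHom_val]
    exact hypMat_preserves g u)

theorem isoPlus_injective (m : ℕ) : Function.Injective (isoPlus (F := F) m) := by
  intro a b h
  apply hypHom_injective (Fin m)
  exact congrArg Subtype.val h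

/-- Odd type: `GL_m → O_{2m+1}`. -/
def isoOdd (m : ℕ) : Matrix.GeneralLinearGroup (Fin m) F →*
    Cfsg.isometryGroup F (Cfsg.quadFormOdd m F) :=
  ((Units.map (blockHomR Unit (Fin m ⊕ Fin m))).comp (hypHom (Fin m))).codRestrict _ (fun g => by
    rw [mem_isometryGroup_iff]
    intro u
    change Cfsg.quadFormOdd m F (Matrix.fromBlocks 1 0 0 (hypMat g) *ᵥ u) = _
    unfold Cfsg.quadFormOdd
    have h1 : ∀ i, (Matrix.fromBlocks (1 : Matrix Unit Unit F) 0 0 (hypMat g) *ᵥ u)
        (Sum.inr (Sum.inl i)) = (hypMat g *ᵥ (u ∘ Sum.inr)) (Sum.inl i) := by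
      intro i; simp [Matrix.fromBlocks_mulVec]
    have h2 : ∀ i, (Matrix.fromBlocks (1 : Matrix Unit Unit F) 0 0 (hypMat g) *ᵥ u)
        (Sum.inr (Sum.inr i)) = (hypMat g *ᵥ (u ∘ Sum.inr)) (Sum.inr i) := by
      intro i; simp [Matrix.fromBlocks_mulVec]
    have h3 : (Matrix.fromBlocks (1 : Matrix Unit Unit F) 0 0 (hypMat g) *ᵥ u) (Sum.inl ()) =
        u (Sum.inl ()) := by
      simp [Matrix.fromBlocks_mulVec]
    simp only [h1, h2, h3]
    rw [hypMat_preserves g (u ∘ Sum.inr)]
    rfl)

theorem isoOdd_injective (m : ℕ) : Function.Injective (isoOdd (F := F) m) := by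
  intro a b h
  apply hypHom_injective (Fin m)
  have h1 := congrArg Subtype.val h
  apply Units.ext
  have h2 := congrArg Units.val h1
  exact blockHomR_injective Unit (Fin m ⊕ Fin m) h2

/-- Minus type: `GL_m → O⁻_{2m+2}`. -/
def isoMinus (m : ℕ) (a b : F) : Matrix.GeneralLinearGroup (Fin m) F →*
    Cfsg.isometryGroup F (Cfsg.quadFormMinus m F a b) :=
  ((Units.map (blockHomL (Fin m ⊕ Fin m) (Fin 2))).comp (hypHom (Fin m))).codRestrict _
    (fun g => by
    rw [mem_isometryGroup_iff]
    intro u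
    change Cfsg.quadFormMinus m F a b (Matrix.fromBlocks (hypMat g) 0 0 1 *ᵥ u) = _
    unfold Cfsg.quadFormMinus
    have h1 : ∀ i, (Matrix.fromBlocks (hypMat g) 0 0 (1 : Matrix (Fin 2) (Fin 2) F) *ᵥ u)
        (Sum.inl (Sum.inl i)) = (hypMat g *ᵥ (u ∘ Sum.inl)) (Sum.inl i) := by
      intro i; simp [Matrix.fromBlocks_mulVec]
    have h2 : ∀ i, (Matrix.fromBlocks (hypMat g) 0 0 (1 : Matrix (Fin 2) (Fin 2) F) *ᵥ u)
        (Sum.inl (Sum.inr i)) = (hypMat g *ᵥ (u ∘ Sum.inl)) (Sum.inr i) := by
      intro i; simp [Matrix.fromBlocks_mulVec]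
    have h3 : ∀ j, (Matrix.fromBlocks (hypMat g) 0 0 (1 : Matrix (Fin 2) (Fin 2) F) *ᵥ u)
        (Sum.inr j) = u (Sum.inr j) := by
      intro j; simp [Matrix.fromBlocks_mulVec]
    simp only [h1, h2, h3]
    rw [hypMat_preserves g (u ∘ Sum.inl)]
    rfl)

theorem isoMinus_injective (m : ℕ) (a b : F) : Function.Injective (isoMinus (F := F) m a b) := by
  intro x y h
  apply hypHom_injective (Fin m)
  have h1 := congrArg Subtype.val h
  apply Units.ext
  have h2 := congrArg Units.val h1
  exact blockHomL_injective (Fin m ⊕ Fin m) (Fin 2) h2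

end Cfsg.Agent.Helper39
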