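import Mathlib
import Cfsg.Agent.S2352
import Cfsg.Agent.S2353

set_option autoImplicit false

namespace Cfsg.Agent.Helper39

open Polynomial

/-- Naturality of `FreeGroup.lift`. -/
theorem map_lift {G H : Type*} [Group G] [Group H] (φ : G →* H) (f : ℕ → G) (w : FreeGroup ℕ) :
    φ (FreeGroup.lift f w) = FreeGroup.lift (fun i => φ (f i)) w := by
  have : φ.comp (FreeGroup.lift f) = FreeGroup.lift (fun i => φ (f i)) := by
    apply FreeGroup.ext_hom
    intro i
    simp
  exact DFunLike.congr_fun this w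

/-- If `w` is a law in `Gt ⧸ Z(Gt)` and `H` embeds in `Gt`, then all values of `w` on `H` are
central in `H`. -/
theorem lift_mem_center_of_law_quotient {H Gt : Type*} [Group H] [Group Gt] (ι : H →* Gt)
    (hι : Function.Injective ι) (w : FreeGroup ℕ)
    (hlaw : ∀ f : ℕ → Gt ⧸ Subgroup.center Gt, FreeGroup.lift f w = 1) (x : ℕ → H) :
    FreeGroup.lift x w ∈ Subgroup.center H := by
  have h1 := hlaw (fun i => QuotientGroup.mk' (Subgroup.center Gt) (ι (x i)))
  rw [← map_lift, ← map_lift, QuotientGroup.mk'_apply, QuotientGroup.eq_one_iff] at h1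
  rw [Subgroup.mem_center_iff] at h1 ⊢
  intro h
  apply hι
  rw [map_mul, map_mul]
  exact h1 (ι h)

/-- Laws transfer along isomorphisms. -/
theorem law_of_mulEquiv {G G' : Type*} [Group G] [Group G'] (e : G ≃* G') (w : FreeGroup ℕ)
    (h : ∀ f : ℕ → G, FreeGroup.lift f w = 1) (f : ℕ → G') : FreeGroup.lift f w = 1 := by
  have h1 := h (fun i => e.symm (f i))
  have h2 := map_lift e.toMonoidHom (fun i => e.symm (f i)) w
  rw [h1, map_one] at h2
  simpa using h2.symm

/-- No large alternating group embeds in `Gt` when `w` is a law in `Gt ⧸ Z(Gt)`. -/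
theorem alt_contra (w : FreeGroup ℕ) (N₁ : ℕ)
    (h₁ : ∀ n : ℕ, N₁ ≤ n → ∃ f : ℕ → alternatingGroup (Fin n), FreeGroup.lift f w ≠ 1)
    {Gt : Type*} [Group Gt] (k : ℕ) (hk : N₁ ≤ k) (hk4 : 4 ≤ k)
    (ι : alternatingGroup (Fin k) →* Gt) (hι : Function.Injective ι)
    (hlaw : ∀ f : ℕ → Gt ⧸ Subgroup.center Gt, FreeGroup.lift f w = 1) : False := by
  obtain ⟨f, hf⟩ := h₁ k hk
  have := lift_mem_center_of_law_quotient ι hι w hlaw f
  rw [alternatingGroup.center_eq_bot (by simpa using hk4), Subgroup.mem_bot] at this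
  exact hf this

/-- The bound on the field size attached to a word. -/
def lawBound (w : FreeGroup ℕ) : ℕ :=
  max (2 * w.toWord.length + 1) ((w.toWord.map Prod.fst).sum + 2)

/-- Variant of `S2353.exists_offdiag` where the specialisation is taken from a finite set. -/
theorem exists_offdiag_finset {F : Type*} [Field F] (c : ℕ → F) (S : Finset F)
    (L : List (ℕ × Bool)) (hL : L ≠ [])
    (hred : FreeGroup.IsReduced L)
    (h0 : ∀ l ∈ L, c l.1 ≠ 0) (hinj : ∀ l ∈ L, ∀ l' ∈ L, c l.1 = c l'.1 → l.1 = l'.1)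
    (hcard : 2 * L.length < S.card) :
    ∃ s ∈ S, ((FreeGroup.lift (S2353.gen c s) (FreeGroup.mk L) :
      Matrix.SpecialLinearGroup (Fin 2) F) : Matrix (Fin 2) (Fin 2) F) 0 1 ≠ 0 := by
  obtain ⟨hne, hdeg⟩ := S2353.row_ne_zero c L hL hred h0 hinj
  by_contra hcon
  push Not at hcon
  apply hne
  refine Polynomial.eq_zero_of_natDegree_lt_card_of_eval_eq_zero' _ S ?_ (lt_of_le_of_lt hdeg hcard)
  intro s hs
  have h3 := hcon s hs
  rw [S2353.lift_gen_val, ← S2353.vecMul_e1 (L.map (S2353.mat c s)).prod] at h3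
  have h1 := S2353.evalRow_foldl c s L ((1 : F[X]), (0 : F[X]))
  have h2 : S2353.evalRow s ((1 : F[X]), (0 : F[X])) = ![1, 0] := by
    simp [S2353.evalRow]
  rw [h2] at h1
  rw [← h1] at h3
  simpa [S2353.evalRow] using h3

/-- Data extracted from a nontrivial word: constants in a set `T` and specialisations in a set `S`
produce generators of `SL₂` on which the word has a nonzero off-diagonal entry. -/
theorem exists_offdiag_sets {F : Type*} [Field F] (w : FreeGroup ℕ) (hw : w ≠ 1)
    (S T : Finset F) (hS : lawBound w ≤ S.card) (hT : lawBound w ≤ T.card) :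
    ∃ c : ℕ → F, (∀ i, c i ∈ T) ∧ ∃ s ∈ S,
      ((FreeGroup.lift (S2353.gen c s) w : Matrix.SpecialLinearGroup (Fin 2) F) :
        Matrix (Fin 2) (Fin 2) F) 0 1 ≠ 0 := by
  classical
  set L := w.toWord with hLdef
  have hred : FreeGroup.IsReduced L := FreeGroup.isReduced_toWord
  have hLne : L ≠ [] := fun h => hw (FreeGroup.toWord_eq_nil_iff.mp h)
  have hwL : w = FreeGroup.mk L := FreeGroup.mk_toWord.symm
  set M := (L.map Prod.fst).sum + 1 with hM
  have hlt : ∀ l ∈ L, l.1 < M := by
    intro l hl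
    have : l.1 ≤ (L.map Prod.fst).sum := List.le_sum_of_mem (List.mem_map_of_mem hl)
    omega
  have hb1 : 2 * L.length + 1 ≤ lawBound w := le_max_left _ _
  have hb2 : (L.map Prod.fst).sum + 2 ≤ lawBound w := le_max_right _ _
  have hS1 : 2 * L.length < S.card := by omega
  have hT1 : M ≤ (T.erase 0).card := by
    have h2 := Finset.pred_card_le_card_erase (s := T) (a := (0 : F))
    omega
  obtain ⟨e⟩ : Nonempty (Fin M ↪ {x // x ∈ T.erase 0}) :=
    Function.Embedding.nonempty_of_card_le (by simpa using hT1)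
  have hTne : T.Nonempty := by
    rw [← Finset.card_pos]
    omega
  obtain ⟨t₀, ht₀⟩ := hTne
  set c : ℕ → F := fun i => if h : i < M then ((e ⟨i, h⟩ : {x // x ∈ T.erase 0}) : F) else t₀ with hc
  have hcT : ∀ i, c i ∈ T := by
    intro i
    by_cases h : i < M
    · simp only [hc, dif_pos h]
      exact Finset.mem_of_mem_erase (e ⟨i, h⟩).2
    · simp only [hc, dif_neg h]
      exact ht₀
  have h0 : ∀ l ∈ L, c l.1 ≠ 0 := by
    intro l hl
    simp only [hc, dif_pos (hlt l hl)]
    exact Finset.ne_of_mem_erase (e ⟨l.1, hlt l hl⟩).2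
  have hinj : ∀ l ∈ L, ∀ l' ∈ L, c l.1 = c l'.1 → l.1 = l'.1 := by
    intro l hl l' hl' h
    simp only [hc, dif_pos (hlt l hl), dif_pos (hlt l' hl')] at h
    have := e.injective (Subtype.ext h)
    simpa using this
  obtain ⟨s, hsS, hs⟩ := exists_offdiag_finset c S L hLne hred h0 hinj hS1
  refine ⟨c, hcT, s, hsS, ?_⟩
  rw [hwL]
  exact hs

/-- For a large field, some value of the word in `SL₂(F)` is not central. -/
theorem exists_sl2_not_center {F : Type*} [Field F] [Fintype F] (w : FreeGroup ℕ) (hw : w ≠ 1)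
    (hF : lawBound w ≤ Fintype.card F) :
    ∃ X : ℕ → Matrix.SpecialLinearGroup (Fin 2) F,
      FreeGroup.lift X w ∉ Subgroup.center (Matrix.SpecialLinearGroup (Fin 2) F) := by
  classical
  obtain ⟨c, -, s, -, hs⟩ := exists_offdiag_sets w hw (Finset.univ : Finset F) Finset.univ
    (by simpa using hF) (by simpa using hF)
  refine ⟨S2353.gen c s, fun hcen => hs ?_⟩
  obtain ⟨r, _, hr⟩ := Matrix.SpecialLinearGroup.mem_center_iff.mp hcen
  rw [← hr]
  simp

/-- `SL₂` over a large field does not embed in `Gt` when `w` is a law in `Gt ⧸ Z(Gt)`. -/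
theorem sl2_contra (w : FreeGroup ℕ) (hw : w ≠ 1) {F : Type*} [Field F] [Fintype F]
    (hF : lawBound w ≤ Fintype.card F) {Gt : Type*} [Group Gt]
    (ι : Matrix.SpecialLinearGroup (Fin 2) F →* Gt) (hι : Function.Injective ι)
    (hlaw : ∀ f : ℕ → Gt ⧸ Subgroup.center Gt, FreeGroup.lift f w = 1) : False := by
  obtain ⟨X, hX⟩ := exists_sl2_not_center w hw hF
  exact hX (lift_mem_center_of_law_quotient ι hι w hlaw X)

end Cfsg.Agent.Helper39
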