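import Mathlib
import Cfsg.Prelude.Def_Classical
import Cfsg.Agent.Lib.Helper39.Embeddings
import Cfsg.Agent.Lib.Helper39.LawBasics

set_option autoImplicit false

namespace Cfsg.Agent.Helper39

open Matrix

variable {F : Type*} [Field F]

/-- The hypotheses on `q`: `x ↦ x ^ q` is an additive involution. -/
structure FrobHyp (F : Type*) [Field F] (q : ℕ) : Prop where
  qpos : 0 < q
  add : ∀ x y : F, (x + y) ^ q = x ^ q + y ^ q
  invol : ∀ x : F, (x ^ q) ^ q = x

namespace FrobHyp

variable {q : ℕ} (hq : FrobHyp F q)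
include hq

theorem zero_pow' : (0 : F) ^ q = 0 := zero_pow hq.qpos.ne'

theorem neg (x : F) : (-x) ^ q = -(x ^ q) := by
  have h := hq.add x (-x)
  rw [add_neg_cancel, hq.zero_pow'] at h
  exact (neg_eq_of_add_eq_zero_right h.symm).symm

theorem sub (x y : F) : (x - y) ^ q = x ^ q - y ^ q := by
  rw [sub_eq_add_neg, hq.add, hq.neg, ← sub_eq_add_neg]

theorem sum {ι : Type*} (s : Finset ι) (f : ι → F) : (∑ i ∈ s, f i) ^ q = ∑ i ∈ s, (f i) ^ q := by
  classical
  induction s using Finset.induction_on with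
  | empty => simp [hq.zero_pow']
  | insert a s ha ih => rw [Finset.sum_insert ha, Finset.sum_insert ha, hq.add, ih]

end FrobHyp

/-- Symmetry of the Hermitian form. -/
theorem hermForm_symm {q : ℕ} (hq : FrobHyp F q) (n : ℕ) (u v : Fin n → F) :
    (Cfsg.hermForm n F q u v) ^ q = Cfsg.hermForm n F q v u := by
  unfold Cfsg.hermForm
  rw [hq.sum]
  apply Finset.sum_congr rfl
  intro i _
  rw [mul_pow, hq.invol, mul_comm]

/-- The unitary transvection matrix `v ↦ v + β h(v,c) c`. -/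
def utvMat (n q : ℕ) (c : Fin n → F) (β : F) : Matrix (Fin n) (Fin n) F :=
  1 + Matrix.vecMulVec (β • c) (fun j => (c j) ^ q)

theorem utvMat_mulVec (n q : ℕ) (c : Fin n → F) (β : F) (v : Fin n → F) :
    utvMat n q c β *ᵥ v = v + (β * Cfsg.hermForm n F q v c) • c := by
  unfold utvMat Cfsg.hermForm
  rw [Matrix.add_mulVec, Matrix.one_mulVec, Matrix.vecMulVec_mulVec]
  ext i
  simp only [Pi.add_apply, Pi.smul_apply, smul_eq_mul, MulOpposite.smul_eq_mul_unop,
    MulOpposite.unop_op, dotProduct]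
  congr 1
  have : ∑ j, (c j) ^ q * v j = ∑ j, v j * (c j) ^ q := by
    apply Finset.sum_congr rfl; intro j _; ring
  rw [this]
  ring

theorem det_utvMat (n q : ℕ) (c : Fin n → F) (β : F) (hc : Cfsg.hermForm n F q c c = 0) :
    (utvMat n q c β).det = 1 := by
  unfold utvMat
  rw [Matrix.vecMulVec_eq (Fin 1), Matrix.det_one_add_replicateCol_mul_replicateRow]
  have : (fun j => (c j) ^ q) ⬝ᵥ (β • c) = β * Cfsg.hermForm n F q c c := by
    unfold Cfsg.hermForm dotProduct
    rw [Finset.mul_sum]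
    apply Finset.sum_congr rfl
    intro j _
    simp only [Pi.smul_apply, smul_eq_mul]
    ring
  rw [this, hc, mul_zero, add_zero]

theorem hermForm_add_smul {q : ℕ} (hq : FrobHyp F q) (n : ℕ) (u v c : Fin n → F) (a b : F) :
    Cfsg.hermForm n F q (u + a • c) (v + b • c) =
      Cfsg.hermForm n F q u v + b ^ q * Cfsg.hermForm n F q u c +
        a * Cfsg.hermForm n F q c v + a * b ^ q * Cfsg.hermForm n F q c c := by
  unfold Cfsg.hermForm
  simp only [Pi.add_apply, Pi.smul_apply, smul_eq_mul, hq.add, mul_pow, Finset.mul_sum,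
    ← Finset.sum_add_distrib]
  apply Finset.sum_congr rfl
  intro i _
  ring

/-- Unitary transvections preserve the Hermitian form. -/
theorem utvMat_preserves {q : ℕ} (hq : FrobHyp F q) (n : ℕ) (c : Fin n → F) (β : F)
    (hc : Cfsg.hermForm n F q c c = 0) (hβ : β ^ q = -β) (u v : Fin n → F) :
    Cfsg.hermForm n F q (utvMat n q c β *ᵥ u) (utvMat n q c β *ᵥ v) = Cfsg.hermForm n F q u v := by
  rw [utvMat_mulVec, utvMat_mulVec, hermForm_add_smul hq, hc, mul_zero, add_zero, mul_pow, hβ,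
    hermForm_symm hq]
  ring

/-- Unitary transvections as elements of `SU`. -/
def utv {q : ℕ} (hq : FrobHyp F q) (n : ℕ) (c : Fin n → F) (β : F)
    (hc : Cfsg.hermForm n F q c c = 0) (hβ : β ^ q = -β) : Cfsg.SU n F q :=
  ⟨⟨utvMat n q c β, det_utvMat n q c β hc⟩, fun u v => utvMat_preserves hq n c β hc hβ u v⟩

/-- A hyperbolic pair of isotropic vectors, with a coordinate separating them. -/
structure HypPair (n q : ℕ) (F : Type*) [Field F] where
  c1 : Fin n → F
  c2 : Fin n → F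
  i1 : Fin n
  ζ : F
  ζ_ne : ζ ≠ 0
  h11 : Cfsg.hermForm n F q c1 c1 = 0
  h22 : Cfsg.hermForm n F q c2 c2 = 0
  h12 : Cfsg.hermForm n F q c1 c2 = 1
  h21 : Cfsg.hermForm n F q c2 c1 = 1
  c1_i1 : c1 i1 = ζ
  c2_i1 : c2 i1 = 0

namespace HypPair

variable {n q : ℕ} (P : HypPair n q F)

/-- The `n × 2` matrix with columns `c1`, `c2`. -/
def cmat : Matrix (Fin n) (Fin 2) F := Matrix.of fun i j => if j = 0 then P.c1 i else P.c2 i

theorem mul_cmat (g : Matrix (Fin n) (Fin n) F) (M : Matrix (Fin 2) (Fin 2) F)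
    (h1 : g *ᵥ P.c1 = M 0 0 • P.c1 + M 1 0 • P.c2) (h2 : g *ᵥ P.c2 = M 0 1 • P.c1 + M 1 1 • P.c2) :
    g * P.cmat = P.cmat * M := by
  ext i j
  fin_cases j
  · have := congrFun h1 i
    simp only [Matrix.mulVec, dotProduct, Pi.add_apply, Pi.smul_apply, smul_eq_mul] at this
    simp only [Matrix.mul_apply, cmat, Matrix.of_apply, Fin.sum_univ_two, Fin.zero_eta, Fin.isValue,
      if_true, one_ne_zero, if_false]
    rw [this]
    ring
  · have := congrFun h2 i
    simp only [Matrix.mulVec, dotProduct, Pi.add_apply, Pi.smul_apply, smul_eq_mul] at this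
    simp only [Matrix.mul_apply, cmat, Matrix.of_apply, Fin.sum_univ_two, Fin.mk_one, Fin.isValue,
      one_ne_zero, if_false, if_true]
    rw [this]
    ring

theorem utv1_cmat (β : F) :
    utvMat n q P.c1 β * P.cmat = P.cmat * !![1, β; 0, 1] := by
  apply P.mul_cmat
  · rw [utvMat_mulVec, P.h11]
    ext i
    simp
  · rw [utvMat_mulVec, P.h21]
    ext i
    simp
    ring

theorem utv2_cmat (β : F) :
    utvMat n q P.c2 β * P.cmat = P.cmat * !![1, 0; β, 1] := by
  apply P.mul_cmat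
  · rw [utvMat_mulVec, P.h12]
    ext i
    simp
  · rw [utvMat_mulVec, P.h22]
    ext i
    simp

/-- Row `i1` of `cmat * N`. -/
theorem cmat_mul_row (N : Matrix (Fin 2) (Fin 2) F) (j : Fin 2) :
    (P.cmat * N) P.i1 j = P.ζ * N 0 j := by
  simp [Matrix.mul_apply, cmat, P.c1_i1, P.c2_i1]

/-- The subgroup of pairs `(g, h)` with `g * cmat = cmat * h`. -/
def intertw : Subgroup (Matrix.SpecialLinearGroup (Fin n) F × Matrix.SpecialLinearGroup (Fin 2) F) where
  carrier := {p | (p.1 : Matrix (Fin n) (Fin n) F) * P.cmat = P.cmat * (p.2 : Matrix (Fin 2) (Fin 2) F)}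
  one_mem' := by simp
  mul_mem' {a b} ha hb := by
    simp only [Set.mem_ofPred_eq, Prod.fst_mul, Prod.snd_mul, Matrix.SpecialLinearGroup.coe_mul] at *
    rw [Matrix.mul_assoc, hb, ← Matrix.mul_assoc, ha, Matrix.mul_assoc]
  inv_mem' {a} ha := by
    simp only [Set.mem_ofPred_eq, Prod.fst_inv, Prod.snd_inv] at *
    have h1 : (a.1⁻¹ : Matrix.SpecialLinearGroup (Fin n) F).1 * a.1.1 = 1 := by
      rw [← Matrix.SpecialLinearGroup.coe_mul, inv_mul_cancel]; rfl
    have h2 : a.2.1 * (a.2⁻¹ : Matrix.SpecialLinearGroup (Fin 2) F).1 = 1 := by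
      rw [← Matrix.SpecialLinearGroup.coe_mul, mul_inv_cancel]; rfl
    calc (a.1⁻¹ : Matrix.SpecialLinearGroup (Fin n) F).1 * P.cmat
        = (a.1⁻¹ : Matrix.SpecialLinearGroup (Fin n) F).1 * (P.cmat * (a.2.1 *
            (a.2⁻¹ : Matrix.SpecialLinearGroup (Fin 2) F).1)) := by rw [h2, Matrix.mul_one]
      _ = (a.1⁻¹ : Matrix.SpecialLinearGroup (Fin n) F).1 * ((a.1.1 * P.cmat) *
            (a.2⁻¹ : Matrix.SpecialLinearGroup (Fin 2) F).1) := by
          rw [ha, Matrix.mul_assoc]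
      _ = ((a.1⁻¹ : Matrix.SpecialLinearGroup (Fin n) F).1 * a.1.1) * P.cmat *
            (a.2⁻¹ : Matrix.SpecialLinearGroup (Fin 2) F).1 := by
          simp only [Matrix.mul_assoc]
      _ = P.cmat * (a.2⁻¹ : Matrix.SpecialLinearGroup (Fin 2) F).1 := by
          rw [h1, Matrix.one_mul]

end HypPair

/-- The key statement: with a hyperbolic pair, enough trace-zero constants and enough fixed
specialisations, the word is not a law in `PSU`. -/
theorem psu_no_law_of_pair {n q : ℕ} (hq : FrobHyp F q) (P : HypPair n q F)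
    (w : FreeGroup ℕ) (hw : w ≠ 1) (S T : Finset F) (hS : ∀ s ∈ S, s ^ q = s)
    (hT : ∀ t ∈ T, t ^ q = -t) (hSc : lawBound w ≤ S.card) (hTc : lawBound w ≤ T.card) :
    ∃ f : ℕ → Cfsg.PSU n F q, FreeGroup.lift f w ≠ 1 := by
  obtain ⟨c, hcT, s, hsS, hs⟩ := exists_offdiag_sets w hw S T hSc hTc
  have hb : ∀ i, (c i * s) ^ q = -(c i * s) := by
    intro i
    rw [mul_pow, hT _ (hcT i), hS _ hsS]
    ring
  -- the generators
  set X : ℕ → Cfsg.SU n F q := fun i =>
    utv hq n P.c1 (c i * s) P.h11 (hb i) * utv hq n P.c2 (c i * s) P.h22 (hb i) with hX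
  refine ⟨fun i => QuotientGroup.mk' (Subgroup.center (Cfsg.SU n F q)) (X i), ?_⟩
  intro h1
  rw [← map_lift, QuotientGroup.mk'_apply, QuotientGroup.eq_one_iff] at h1
  -- the pair-valued lift
  set Y : ℕ → P.intertw := fun i => ⟨((X i : Cfsg.SU n F q).1, S2353.gen c s i), by
    change ((X i : Cfsg.SU n F q).1 : Matrix (Fin n) (Fin n) F) * P.cmat =
      P.cmat * (S2353.gen c s i : Matrix (Fin 2) (Fin 2) F)
    have e1 : ((X i : Cfsg.SU n F q).1 : Matrix (Fin n) (Fin n) F) =
        utvMat n q P.c1 (c i * s) * utvMat n q P.c2 (c i * s) := rfl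
    have e2 : (S2353.gen c s i : Matrix (Fin 2) (Fin 2) F) =
        !![1, c i * s; 0, 1] * !![1, 0; c i * s, 1] := by
      simp only [S2353.gen, Matrix.mul_fin_two]
      ext a b
      fin_cases a <;> fin_cases b <;> simp <;> ring
    rw [e1, e2, Matrix.mul_assoc, P.utv2_cmat, ← Matrix.mul_assoc, P.utv1_cmat, Matrix.mul_assoc]⟩
    with hY
  have hYmem := (FreeGroup.lift Y w).2
  have e1 : ((FreeGroup.lift Y w : P.intertw) : Matrix.SpecialLinearGroup (Fin n) F ×
      Matrix.SpecialLinearGroup (Fin 2) F).1 = ((FreeGroup.lift X w : Cfsg.SU n F q) :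
        Matrix.SpecialLinearGroup (Fin n) F) := by
    have h2 := map_lift ((MonoidHom.fst _ _).comp P.intertw.subtype) Y w
    have h3 := map_lift (Cfsg.SU n F q).subtype X w
    simp only [MonoidHom.coe_comp, Subgroup.coe_subtype, Function.comp_apply, MonoidHom.coe_fst] at h2 h3
    rw [h2, h3]
  have e2 : ((FreeGroup.lift Y w : P.intertw) : Matrix.SpecialLinearGroup (Fin n) F ×
      Matrix.SpecialLinearGroup (Fin 2) F).2 = FreeGroup.lift (S2353.gen c s) w := by
    have h2 := map_lift ((MonoidHom.snd _ _).comp P.intertw.subtype) Y w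
    simp only [MonoidHom.coe_comp, Subgroup.coe_subtype, Function.comp_apply, MonoidHom.coe_snd] at h2
    rw [h2]
  have hint : (((FreeGroup.lift X w : Cfsg.SU n F q) : Matrix.SpecialLinearGroup (Fin n) F) :
      Matrix (Fin n) (Fin n) F) * P.cmat = P.cmat *
        ((FreeGroup.lift (S2353.gen c s) w : Matrix.SpecialLinearGroup (Fin 2) F) :
          Matrix (Fin 2) (Fin 2) F) := by
    rw [← e1, ← e2]
    exact hYmem
  -- a nonzero trace-zero constant
  obtain ⟨β₀, hβ₀T, hβ₀⟩ : ∃ β₀ ∈ T, β₀ ≠ 0 := by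
    have h2 : 2 ≤ T.card := by
      have : 2 ≤ lawBound w := le_trans (by omega) (le_max_right _ _)
      omega
    by_contra hcon
    push Not at hcon
    have : T ⊆ {0} := fun x hx => by simp [hcon x hx]
    have := Finset.card_le_card this
    simp at this
    omega
  set t2 : Cfsg.SU n F q := utv hq n P.c2 β₀ P.h22 (hT β₀ hβ₀T) with ht2
  have hcomm := Subgroup.mem_center_iff.mp h1 t2
  have hcommM : utvMat n q P.c2 β₀ * (((FreeGroup.lift X w : Cfsg.SU n F q) :
      Matrix.SpecialLinearGroup (Fin n) F) : Matrix (Fin n) (Fin n) F) =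
      (((FreeGroup.lift X w : Cfsg.SU n F q) : Matrix.SpecialLinearGroup (Fin n) F) :
        Matrix (Fin n) (Fin n) F) * utvMat n q P.c2 β₀ := by
    have := congrArg (fun g : Cfsg.SU n F q => ((g : Matrix.SpecialLinearGroup (Fin n) F) :
      Matrix (Fin n) (Fin n) F)) hcomm
    exact this
  set W : Matrix (Fin 2) (Fin 2) F :=
    ((FreeGroup.lift (S2353.gen c s) w : Matrix.SpecialLinearGroup (Fin 2) F) :
      Matrix (Fin 2) (Fin 2) F) with hW
  set G : Matrix (Fin n) (Fin n) F := (((FreeGroup.lift X w : Cfsg.SU n F q) :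
    Matrix.SpecialLinearGroup (Fin n) F) : Matrix (Fin n) (Fin n) F) with hG
  have hkey : P.cmat * (W * !![1, 0; β₀, 1]) = P.cmat * (!![1, 0; β₀, 1] * W) := by
    calc P.cmat * (W * !![1, 0; β₀, 1]) = G * (utvMat n q P.c2 β₀ * P.cmat) := by
          rw [P.utv2_cmat, ← Matrix.mul_assoc, ← Matrix.mul_assoc, hint]
      _ = utvMat n q P.c2 β₀ * (G * P.cmat) := by
          rw [← Matrix.mul_assoc, ← Matrix.mul_assoc, hcommM]
      _ = P.cmat * (!![1, 0; β₀, 1] * W) := by
          rw [hint, ← Matrix.mul_assoc, P.utv2_cmat, Matrix.mul_assoc]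
  have hrow := congrFun (congrFun hkey P.i1) 0
  rw [P.cmat_mul_row, P.cmat_mul_row] at hrow
  have hrow2 := mul_left_cancel₀ P.ζ_ne hrow
  simp only [Matrix.mul_apply, Fin.sum_univ_two, Matrix.of_apply, Matrix.cons_val', Matrix.cons_val_zero,
    Matrix.cons_val_one, Matrix.cons_val_fin_one] at hrow2
  apply hs
  have : W 0 1 * β₀ = 0 := by linear_combination hrow2
  rcases mul_eq_zero.mp this with h | h
  · exact h
  · exact absurd h hβ₀

end Cfsg.Agent.Helper39
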