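import Mathlib
import Cfsg.Prelude.Def_Classical
import Cfsg.Agent.Lib.Helper39.Unitary

set_option autoImplicit false

namespace Cfsg.Agent.Helper39

open Matrix Polynomial

variable {F : Type*} [Field F] [Fintype F]

theorem two_le_of_card {q : ℕ} (hF : Fintype.card F = q ^ 2) : 2 ≤ q := by
  have h1 : 1 < Fintype.card F := Fintype.one_lt_card
  rw [hF] at h1
  by_contra h
  have : q = 0 ∨ q = 1 := by omega
  rcases this with rfl | rfl <;> simp at h1

/-- The Frobenius hypotheses hold when `|F| = q²`. -/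
theorem frobHyp_of_card {q : ℕ} (hF : Fintype.card F = q ^ 2) : FrobHyp F q := by
  have hq2 := two_le_of_card hF
  obtain ⟨p, hchar⟩ := CharP.exists F
  obtain ⟨k, hp, hk⟩ := FiniteField.card F p
  have : Fact p.Prime := ⟨hp⟩
  have hdvd : q ∣ p ^ (k : ℕ) := by
    rw [← hk, hF]
    exact dvd_pow_self q (by norm_num)
  obtain ⟨j, _, hj⟩ := (Nat.dvd_prime_pow hp).1 hdvd
  refine ⟨by omega, ?_, ?_⟩
  · intro x y
    rw [hj]
    exact add_pow_char_pow x y p j
  · intro x
    rw [← pow_mul, ← pow_two, ← hF, FiniteField.pow_card]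

variable [DecidableEq F]

/-- The fixed points of `x ↦ x ^ q`. -/
def fixSet (F : Type*) [Field F] [Fintype F] [DecidableEq F] (q : ℕ) : Finset F :=
  Finset.univ.filter fun s => s ^ q = s

/-- The trace-zero elements. -/
def antiSet (F : Type*) [Field F] [Fintype F] [DecidableEq F] (q : ℕ) : Finset F :=
  Finset.univ.filter fun t => t ^ q = -t

theorem card_fixSet_le {q : ℕ} (hq2 : 2 ≤ q) : (fixSet F q).card ≤ q := by
  have hne : (X ^ q - X : F[X]) ≠ 0 := FiniteField.X_pow_card_sub_X_ne_zero F (by omega)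
  have hsub : fixSet F q ⊆ (X ^ q - X : F[X]).roots.toFinset := by
    intro s hs
    simp only [fixSet, Finset.mem_filter, Finset.mem_univ, true_and] at hs
    rw [Multiset.mem_toFinset, mem_roots hne]
    simp [hs]
  calc (fixSet F q).card ≤ (X ^ q - X : F[X]).roots.toFinset.card := Finset.card_le_card hsub
    _ ≤ Multiset.card (X ^ q - X : F[X]).roots := Multiset.toFinset_card_le _
    _ ≤ (X ^ q - X : F[X]).natDegree := card_roots' _
    _ = q := FiniteField.X_pow_card_sub_X_natDegree_eq F (by omega)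

theorem card_antiSet_ge {q : ℕ} (hF : Fintype.card F = q ^ 2) : q ≤ (antiSet F q).card := by
  have hq2 := two_le_of_card hF
  have hq := frobHyp_of_card hF
  have himg : (Finset.univ.image fun x : F => x - x ^ q) ⊆ antiSet F q := by
    intro y hy
    obtain ⟨x, _, rfl⟩ := Finset.mem_image.mp hy
    simp only [antiSet, Finset.mem_filter, Finset.mem_univ, true_and]
    rw [hq.sub, hq.invol]
    ring
  have hfib : ∀ y ∈ Finset.univ.image (fun x : F => x - x ^ q),
      (Finset.univ.filter fun x : F => x - x ^ q = y).card ≤ q := by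
    intro y _
    have hdeg : (X ^ q - X + C y : F[X]).natDegree = q := by
      rw [natDegree_add_C, FiniteField.X_pow_card_sub_X_natDegree_eq F (by omega)]
    have hne : (X ^ q - X + C y : F[X]) ≠ 0 := by
      intro h0
      rw [h0] at hdeg
      simp at hdeg
      omega
    have hsub : (Finset.univ.filter fun x : F => x - x ^ q = y) ⊆
        (X ^ q - X + C y : F[X]).roots.toFinset := by
      intro x hx
      simp only [Finset.mem_filter, Finset.mem_univ, true_and] at hx
      rw [Multiset.mem_toFinset, mem_roots hne]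
      simp only [IsRoot.def, eval_add, eval_sub, eval_pow, eval_X, eval_C]
      rw [← hx]
      ring
    calc _ ≤ (X ^ q - X + C y : F[X]).roots.toFinset.card := Finset.card_le_card hsub
      _ ≤ Multiset.card (X ^ q - X + C y : F[X]).roots := Multiset.toFinset_card_le _
      _ ≤ (X ^ q - X + C y : F[X]).natDegree := card_roots' _
      _ = q := hdeg
  have h1 := Finset.card_le_mul_card_image (Finset.univ : Finset F) q hfib
  rw [Finset.card_univ, hF] at h1
  have h2 : q ≤ (Finset.univ.image fun x : F => x - x ^ q).card := by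
    by_contra hlt
    rw [not_le] at hlt
    have : q * (Finset.univ.image fun x : F => x - x ^ q).card < q * q :=
      Nat.mul_lt_mul_of_pos_left hlt (by omega)
    rw [pow_two] at h1
    omega
  exact le_trans h2 (Finset.card_le_card himg)

theorem norm_image_eq {q : ℕ} (hF : Fintype.card F = q ^ 2) :
    (Finset.univ.image fun x : F => x * x ^ q) = fixSet F q := by
  have hq2 := two_le_of_card hF
  have hq := frobHyp_of_card hF
  have himg : (Finset.univ.image fun x : F => x * x ^ q) ⊆ fixSet F q := by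
    intro y hy
    obtain ⟨x, _, rfl⟩ := Finset.mem_image.mp hy
    simp only [fixSet, Finset.mem_filter, Finset.mem_univ, true_and]
    rw [mul_pow, hq.invol]
    ring
  have hfib : ∀ y ∈ Finset.univ.image (fun x : F => x * x ^ q),
      (Finset.univ.filter fun x : F => x * x ^ q = y).card ≤ q + 1 := by
    intro y _
    have hdeg : (X ^ (q + 1) - C y : F[X]).natDegree = q + 1 := natDegree_X_pow_sub_C
    have hne : (X ^ (q + 1) - C y : F[X]) ≠ 0 := by
      intro h0
      rw [h0] at hdeg
      simp at hdeg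
    have hsub : (Finset.univ.filter fun x : F => x * x ^ q = y) ⊆
        (X ^ (q + 1) - C y : F[X]).roots.toFinset := by
      intro x hx
      simp only [Finset.mem_filter, Finset.mem_univ, true_and] at hx
      rw [Multiset.mem_toFinset, mem_roots hne]
      simp only [IsRoot.def, eval_sub, eval_pow, eval_X, eval_C]
      rw [← hx]
      ring
    calc _ ≤ (X ^ (q + 1) - C y : F[X]).roots.toFinset.card := Finset.card_le_card hsub
      _ ≤ Multiset.card (X ^ (q + 1) - C y : F[X]).roots := Multiset.toFinset_card_le _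
      _ ≤ (X ^ (q + 1) - C y : F[X]).natDegree := card_roots' _
      _ = q + 1 := hdeg
  have h1 := Finset.card_le_mul_card_image (Finset.univ : Finset F) (q + 1) hfib
  rw [Finset.card_univ, hF] at h1
  have h2 : q ≤ (Finset.univ.image fun x : F => x * x ^ q).card := by
    by_contra hlt
    rw [not_le] at hlt
    have h3 : (Finset.univ.image fun x : F => x * x ^ q).card ≤ q - 1 := by omega
    have h4 : (q + 1) * (Finset.univ.image fun x : F => x * x ^ q).card ≤ (q + 1) * (q - 1) :=
      Nat.mul_le_mul_left _ h3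
    have h5 : (q + 1) * (q - 1) < q ^ 2 := by
      obtain ⟨r, rfl⟩ : ∃ r, q = r + 1 := ⟨q - 1, by omega⟩
      simp only [Nat.add_sub_cancel]
      ring_nf
      omega
    omega
  exact Finset.eq_of_subset_of_card_le himg (le_trans (card_fixSet_le hq2) h2)

theorem card_fixSet_ge {q : ℕ} (hF : Fintype.card F = q ^ 2) : q ≤ (fixSet F q).card := by
  have hq2 := two_le_of_card hF
  rw [← norm_image_eq hF]
  -- reuse the counting from `norm_image_eq`
  have h := norm_image_eq hF
  have hle := card_fixSet_le (F := F) hq2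
  by_contra hlt
  rw [not_le] at hlt
  -- the image has at least `q` elements by the fibre count
  have hfib : ∀ y ∈ Finset.univ.image (fun x : F => x * x ^ q),
      (Finset.univ.filter fun x : F => x * x ^ q = y).card ≤ q + 1 := by
    intro y _
    have hdeg : (X ^ (q + 1) - C y : F[X]).natDegree = q + 1 := natDegree_X_pow_sub_C
    have hne : (X ^ (q + 1) - C y : F[X]) ≠ 0 := by
      intro h0
      rw [h0] at hdeg
      simp at hdeg
    have hsub : (Finset.univ.filter fun x : F => x * x ^ q = y) ⊆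
        (X ^ (q + 1) - C y : F[X]).roots.toFinset := by
      intro x hx
      simp only [Finset.mem_filter, Finset.mem_univ, true_and] at hx
      rw [Multiset.mem_toFinset, mem_roots hne]
      simp only [IsRoot.def, eval_sub, eval_pow, eval_X, eval_C]
      rw [← hx]
      ring
    calc _ ≤ (X ^ (q + 1) - C y : F[X]).roots.toFinset.card := Finset.card_le_card hsub
      _ ≤ Multiset.card (X ^ (q + 1) - C y : F[X]).roots := Multiset.toFinset_card_le _
      _ ≤ (X ^ (q + 1) - C y : F[X]).natDegree := card_roots' _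
      _ = q + 1 := hdeg
  have h1 := Finset.card_le_mul_card_image (Finset.univ : Finset F) (q + 1) hfib
  rw [Finset.card_univ, hF] at h1
  have h3 : (Finset.univ.image fun x : F => x * x ^ q).card ≤ q - 1 := by omega
  have h4 : (q + 1) * (Finset.univ.image fun x : F => x * x ^ q).card ≤ (q + 1) * (q - 1) :=
    Nat.mul_le_mul_left _ h3
  have h5 : (q + 1) * (q - 1) < q ^ 2 := by
    obtain ⟨r, rfl⟩ : ∃ r, q = r + 1 := ⟨q - 1, by omega⟩
    simp only [Nat.add_sub_cancel]
    ring_nf
    omega
  omega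

/-- An element of norm `-1`. -/
theorem exists_norm_neg_one {q : ℕ} (hF : Fintype.card F = q ^ 2) : ∃ ζ : F, ζ * ζ ^ q = -1 := by
  have hq := frobHyp_of_card hF
  have hmem : (-1 : F) ∈ fixSet F q := by
    simp only [fixSet, Finset.mem_filter, Finset.mem_univ, true_and]
    rw [hq.neg, one_pow]
  rw [← norm_image_eq hF] at hmem
  obtain ⟨ζ, _, hζ⟩ := Finset.mem_image.mp hmem
  exact ⟨ζ, hζ⟩

omit [Fintype F] [DecidableEq F] in
/-- The Hermitian form of vectors supported on three coordinates. -/
theorem hermForm_three (n q : ℕ) (i0 i1 i2 : Fin n) (h01 : i0 ≠ i1) (h02 : i0 ≠ i2)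
    (h12 : i1 ≠ i2) (u v : Fin n → F) (hu : ∀ i, i ≠ i0 → i ≠ i1 → i ≠ i2 → u i = 0) :
    Cfsg.hermForm n F q u v = u i0 * v i0 ^ q + u i1 * v i1 ^ q + u i2 * v i2 ^ q := by
  unfold Cfsg.hermForm
  have hsub : ({i0, i1, i2} : Finset (Fin n)) ⊆ Finset.univ := Finset.subset_univ _
  rw [← Finset.sum_subset hsub]
  · rw [Finset.sum_insert (by simp [h01, h02]), Finset.sum_insert (by simp [h12]),
      Finset.sum_singleton]
    ring
  · intro i _ hi
    simp only [Finset.mem_insert, Finset.mem_singleton, not_or] at hi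
    rw [hu i hi.1 hi.2.1 hi.2.2, zero_mul]

omit [Fintype F] [DecidableEq F] in
/-- A hyperbolic pair exists in dimension at least three. -/
theorem exists_hypPair {n q : ℕ} (hn : 3 ≤ n) (hq : FrobHyp F q) (ζ : F) (hζ : ζ * ζ ^ q = -1) :
    Nonempty (HypPair n q F) := by
  set i0 : Fin n := ⟨0, by omega⟩ with hi0
  set i1 : Fin n := ⟨1, by omega⟩ with hi1
  set i2 : Fin n := ⟨2, by omega⟩ with hi2
  have h01 : i0 ≠ i1 := by simp [hi0, hi1, Fin.ext_iff]
  have h02 : i0 ≠ i2 := by simp [hi0, hi2, Fin.ext_iff]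
  have h12 : i1 ≠ i2 := by simp [hi1, hi2, Fin.ext_iff]
  have hζ0 : ζ ≠ 0 := by
    rintro rfl
    simp at hζ
  set c1 : Fin n → F := fun i => if i = i0 then 1 else if i = i1 then ζ else 0 with hc1
  set c2 : Fin n → F := fun i => if i = i0 then 1 else if i = i2 then ζ else 0 with hc2
  have z : (0 : F) ^ q = 0 := hq.zero_pow'
  have hu1 : ∀ i, i ≠ i0 → i ≠ i1 → i ≠ i2 → c1 i = 0 := by
    intro i h0 h1 _
    simp [hc1, h0, h1]
  have hu2 : ∀ i, i ≠ i0 → i ≠ i1 → i ≠ i2 → c2 i = 0 := by
    intro i h0 _ h2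
    simp [hc2, h0, h2]
  have e10 : c1 i0 = 1 := by simp [hc1]
  have e11 : c1 i1 = ζ := by simp [hc1, h01.symm]
  have e12 : c1 i2 = 0 := by simp [hc1, h02.symm, h12.symm]
  have e20 : c2 i0 = 1 := by simp [hc2]
  have e21 : c2 i1 = 0 := by simp [hc2, h01.symm, h12]
  have e22 : c2 i2 = ζ := by simp [hc2, h02.symm]
  refine ⟨⟨c1, c2, i1, ζ, hζ0, ?_, ?_, ?_, ?_, e11, e21⟩⟩
  · rw [hermForm_three n q i0 i1 i2 h01 h02 h12 c1 c1 hu1, e10, e11, e12, z]
    simp [hζ]
  · rw [hermForm_three n q i0 i1 i2 h01 h02 h12 c2 c2 hu2, e20, e21, e22, z]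
    simp [hζ]
  · rw [hermForm_three n q i0 i1 i2 h01 h02 h12 c1 c2 hu1, e10, e11, e12, e20, e21, e22, z]
    simp
  · rw [hermForm_three n q i0 i1 i2 h01 h02 h12 c2 c1 hu2, e10, e11, e12, e20, e21, e22, z]
    simp

/-- The word is not a law in `PSU_n(q)` once `q` is large. -/
theorem psu_no_law (w : FreeGroup ℕ) (hw : w ≠ 1) {n q : ℕ} (hn : 3 ≤ n)
    (hF : Fintype.card F = q ^ 2) (hqw : lawBound w ≤ q) :
    ∃ f : ℕ → Cfsg.PSU n F q, FreeGroup.lift f w ≠ 1 := by
  have hq := frobHyp_of_card hF
  obtain ⟨ζ, hζ⟩ := exists_norm_neg_one hF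
  obtain ⟨P⟩ := exists_hypPair hn hq ζ hζ
  refine psu_no_law_of_pair hq P w hw (fixSet F q) (antiSet F q) ?_ ?_
    (le_trans hqw (card_fixSet_ge hF)) (le_trans hqw (card_antiSet_ge hF))
  · intro s hs
    simpa [fixSet] using hs
  · intro t ht
    simpa [antiSet] using ht

end Cfsg.Agent.Helper39
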