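import Mathlib
import Cfsg.Prelude.Def_Classical
import Cfsg.Agent.Lib.Helper39.Classical
import Cfsg.Agent.Lib.Helper39.UnitaryData

set_option autoImplicit false

namespace Cfsg.Agent.Helper39

open Matrix

/-- Large alternating groups are perfect. -/
theorem alt_perfect (k : ℕ) (hk : 5 ≤ k) : commutator (alternatingGroup (Fin k)) = ⊤ := by
  have hs : IsSimpleGroup (alternatingGroup (Fin k)) :=
    alternatingGroup.isSimpleGroup (by simpa using hk)
  rcases hs.eq_bot_or_eq_top_of_normal (commutator (alternatingGroup (Fin k))) inferInstance with h | h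
  · exfalso
    rw [commutator_eq_bot_iff_center_eq_top,
      alternatingGroup.center_eq_bot (by simp; omega)] at h
    have : Nontrivial (alternatingGroup (Fin k)) := hs.toNontrivial
    exact bot_ne_top h
  · exact h

/-- `SL₂` over a field with at least four elements is perfect. -/
theorem sl2_perfect {F : Type*} [Field F] [Fintype F] (hF : 4 ≤ Fintype.card F) :
    commutator (Matrix.SpecialLinearGroup (Fin 2) F) = ⊤ := by
  open Polynomial in
  have hdeg : (X * (X ^ 2 - 1) : F[X]).natDegree ≤ 3 := by compute_degree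
  have hne : (X * (X ^ 2 - 1) : F[X]) ≠ 0 := by
    apply mul_ne_zero X_ne_zero
    exact X_pow_sub_C_ne_zero (by norm_num) (1 : F)
  obtain ⟨a, ha⟩ := Polynomial.exists_eval_ne_zero_of_natDegree_lt_card _ hne (by
    rw [Cardinal.mk_fintype]
    exact_mod_cast lt_of_le_of_lt hdeg (by omega))
  simp only [Polynomial.eval_mul, Polynomial.eval_X, Polynomial.eval_sub, Polynomial.eval_pow,
    Polynomial.eval_one, ne_eq, mul_eq_zero, not_or] at ha
  exact Matrix.SL2.commutator_eq_top ha.1 (fun h => ha.2 (by rw [h, sub_self]))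

section card

variable {F : Type*} [Field F] [Fintype F]

theorem card_matrix_le {ι : Type*} [Fintype ι] [DecidableEq ι] (d B : ℕ)
    (hd : Fintype.card ι ≤ d) (hB : Fintype.card F ≤ B) :
    Nat.card (Matrix ι ι F) ≤ B ^ (d ^ 2) := by
  have : Nat.card (Matrix ι ι F) = Fintype.card F ^ (Fintype.card ι * Fintype.card ι) := by
    change Nat.card (ι → ι → F) = _
    rw [Nat.card_fun, Nat.card_fun, ← pow_mul, Nat.card_eq_fintype_card, Nat.card_eq_fintype_card]
  rw [this]
  have hF1 : 1 ≤ Fintype.card F := Fintype.card_pos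
  calc Fintype.card F ^ (Fintype.card ι * Fintype.card ι)
      ≤ B ^ (Fintype.card ι * Fintype.card ι) := Nat.pow_le_pow_left hB _
    _ ≤ B ^ (d ^ 2) := by
        apply Nat.pow_le_pow_right (by omega)
        rw [pow_two]
        exact Nat.mul_le_mul hd hd

theorem card_GL_le {ι : Type*} [Fintype ι] [DecidableEq ι] (d B : ℕ)
    (hd : Fintype.card ι ≤ d) (hB : Fintype.card F ≤ B) :
    Nat.card (Matrix.GeneralLinearGroup ι F) ≤ B ^ (d ^ 2) := by
  refine le_trans ?_ (card_matrix_le (F := F) (ι := ι) d B hd hB)
  exact Nat.card_le_card_of_injective (fun g : Matrix.GeneralLinearGroup ι F => (g : Matrix ι ι F))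
    (fun a b h => Units.ext h)

theorem card_quot_le {G : Type*} [Group G] [Finite G] (N : Subgroup G) [N.Normal] :
    Nat.card (G ⧸ N) ≤ Nat.card G :=
  Nat.card_le_card_of_surjective _ (QuotientGroup.mk'_surjective N)

end card

end Cfsg.Agent.Helper39
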