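import Mathlib
import Cfsg.Prelude.Def_Classical
import Cfsg.Agent.Lib.Helper39.Families

set_option autoImplicit false

namespace Cfsg.Agent.Helper39

open Matrix

/-- Even permutations as unitary matrices. -/
def altSU (F : Type*) [Field F] (n q : ℕ) : alternatingGroup (Fin n) →* Cfsg.SU n F q :=
  (toSLOfDet (altGL (F := F) n) (det_altGL n)).codRestrict (Cfsg.SU n F q) (fun σ => by
    intro u v
    change Cfsg.hermForm n F q ((permGL (F := F) n σ.1 : Matrix (Fin n) (Fin n) F) *ᵥ u)
      ((permGL (F := F) n σ.1 : Matrix (Fin n) (Fin n) F) *ᵥ v) = _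
    rw [permGL_val, Matrix.permMatrix_mulVec, Matrix.permMatrix_mulVec]
    unfold Cfsg.hermForm
    exact Equiv.sum_comp (σ.1⁻¹) (fun i => u i * v i ^ q))

theorem altSU_injective (F : Type*) [Field F] (n q : ℕ) : Function.Injective (altSU F n q) := by
  intro a b h
  apply toSLOfDet_injective _ _ (altGL_injective (F := F) n)
  exact congrArg Subtype.val h

section

variable (w : FreeGroup ℕ) (hw : w ≠ 1) (N₁ : ℕ)
  (h₁ : ∀ n : ℕ, N₁ ≤ n → ∃ f : ℕ → alternatingGroup (Fin n), FreeGroup.lift f w ≠ 1)

include hw h₁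

/-- Rank and field bounds for `PSL`. -/
theorem psl_bounds (F : Type) [Field F] [Fintype F] (n : ℕ) (hn : 2 ≤ n)
    (hlaw : ∀ f : ℕ → Matrix.ProjectiveSpecialLinearGroup (Fin n) F, FreeGroup.lift f w = 1) :
    n < max N₁ 5 ∧ Fintype.card F < max (lawBound w) 4 := by
  constructor
  · by_contra hcon
    rw [not_lt] at hcon
    have hn1 : N₁ ≤ n := le_trans (le_max_left _ _) hcon
    have hn5 : 5 ≤ n := le_trans (le_max_right _ _) hcon
    exact alt_contra w N₁ h₁ n hn1 (by omega)
      (toSLOfDet (altGL (F := F) n) (det_altGL n))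
      (toSLOfDet_injective _ _ (altGL_injective n)) hlaw
  · by_contra hcon
    rw [not_lt] at hcon
    have hF : lawBound w ≤ Fintype.card F := le_trans (le_max_left _ _) hcon
    exact sl2_contra w hw hF
      (toSLOfDet (sl2ToGL (F := F) n hn) (det_sl2ToGL n hn))
      (toSLOfDet_injective _ _ (sl2ToGL_injective n hn)) hlaw

/-- Rank and field bounds for `PSp`. -/
theorem psp_bounds (F : Type) [Field F] [Fintype F] (m : ℕ) (hm : 2 ≤ m)
    (hlaw : ∀ f : ℕ → Cfsg.PSp m F, FreeGroup.lift f w = 1) :
    m < max N₁ 5 ∧ Fintype.card F < max (lawBound w) 4 := by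
  constructor
  · by_contra hcon
    rw [not_lt] at hcon
    have hn1 : N₁ ≤ m := le_trans (le_max_left _ _) hcon
    have hn5 : 5 ≤ m := le_trans (le_max_right _ _) hcon
    exact alt_contra w N₁ h₁ m hn1 (by omega)
      ((hypSp (Fin m)).comp (altGL (F := F) m))
      ((hypSp_injective (Fin m)).comp (altGL_injective m)) hlaw
  · by_contra hcon
    rw [not_lt] at hcon
    have hF : lawBound w ≤ Fintype.card F := le_trans (le_max_left _ _) hcon
    exact sl2_contra w hw hF
      ((hypSp (Fin m)).comp (sl2ToGL (F := F) m hm))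
      ((hypSp_injective (Fin m)).comp (sl2ToGL_injective m hm)) hlaw


/-- Rank and field bounds for `PSU`. -/
theorem psu_bounds (F : Type) [Field F] [Fintype F] (n q : ℕ) (hn : 3 ≤ n)
    (hF : Fintype.card F = q ^ 2)
    (hlaw : ∀ f : ℕ → Cfsg.PSU n F q, FreeGroup.lift f w = 1) :
    n < max N₁ 5 ∧ q < max (lawBound w) 4 := by
  classical
  constructor
  · by_contra hcon
    rw [not_lt] at hcon
    have hn1 : N₁ ≤ n := le_trans (le_max_left _ _) hcon
    have hn5 : 5 ≤ n := le_trans (le_max_right _ _) hcon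
    exact alt_contra w N₁ h₁ n hn1 (by omega) (altSU F n q) (altSU_injective F n q) hlaw
  · by_contra hcon
    rw [not_lt] at hcon
    have hq : lawBound w ≤ q := le_trans (le_max_left _ _) hcon
    obtain ⟨f, hf⟩ := psu_no_law w hw hn hF hq
    exact hf (hlaw f)

/-- Rank and field bounds for odd-dimensional orthogonal groups. -/
theorem pomega_odd_bounds (F : Type) [Field F] [Fintype F] (m : ℕ) (hm : 2 ≤ m)
    (hlaw : ∀ f : ℕ → Cfsg.POmega F (Cfsg.quadFormOdd m F), FreeGroup.lift f w = 1) :
    m < max N₁ 5 ∧ Fintype.card F < max (lawBound w) 4 := by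
  constructor
  · by_contra hcon
    rw [not_lt] at hcon
    have hn1 : N₁ ≤ m := le_trans (le_max_left _ _) hcon
    have hn5 : 5 ≤ m := le_trans (le_max_right _ _) hcon
    exact alt_contra w N₁ h₁ m hn1 (by omega)
      (toCommutator (alt_perfect m hn5) ((isoOdd (F := F) m).comp (altGL (F := F) m)))
      (toCommutator_injective _ _ ((isoOdd_injective m).comp (altGL_injective m))) hlaw
  · by_contra hcon
    rw [not_lt] at hcon
    have hF : lawBound w ≤ Fintype.card F := le_trans (le_max_left _ _) hcon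
    have hF4 : 4 ≤ Fintype.card F := le_trans (le_max_right _ _) hcon
    exact sl2_contra w hw hF
      (toCommutator (sl2_perfect hF4) ((isoOdd (F := F) m).comp (sl2ToGL (F := F) m hm)))
      (toCommutator_injective _ _ ((isoOdd_injective m).comp (sl2ToGL_injective m hm))) hlaw

/-- Rank and field bounds for plus-type orthogonal groups. -/
theorem pomega_plus_bounds (F : Type) [Field F] [Fintype F] (m : ℕ) (hm : 2 ≤ m)
    (hlaw : ∀ f : ℕ → Cfsg.POmega F (Cfsg.quadFormPlus m F), FreeGroup.lift f w = 1) :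
    m < max N₁ 5 ∧ Fintype.card F < max (lawBound w) 4 := by
  constructor
  · by_contra hcon
    rw [not_lt] at hcon
    have hn1 : N₁ ≤ m := le_trans (le_max_left _ _) hcon
    have hn5 : 5 ≤ m := le_trans (le_max_right _ _) hcon
    exact alt_contra w N₁ h₁ m hn1 (by omega)
      (toCommutator (alt_perfect m hn5) ((isoPlus (F := F) m).comp (altGL (F := F) m)))
      (toCommutator_injective _ _ ((isoPlus_injective m).comp (altGL_injective m))) hlaw
  · by_contra hcon
    rw [not_lt] at hcon
    have hF : lawBound w ≤ Fintype.card F := le_trans (le_max_left _ _) hcon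
    have hF4 : 4 ≤ Fintype.card F := le_trans (le_max_right _ _) hcon
    exact sl2_contra w hw hF
      (toCommutator (sl2_perfect hF4) ((isoPlus (F := F) m).comp (sl2ToGL (F := F) m hm)))
      (toCommutator_injective _ _ ((isoPlus_injective m).comp (sl2ToGL_injective m hm))) hlaw

/-- Rank and field bounds for minus-type orthogonal groups. -/
theorem pomega_minus_bounds (F : Type) [Field F] [Fintype F] (m : ℕ) (hm : 2 ≤ m) (a b : F)
    (hlaw : ∀ f : ℕ → Cfsg.POmega F (Cfsg.quadFormMinus m F a b), FreeGroup.lift f w = 1) :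
    m < max N₁ 5 ∧ Fintype.card F < max (lawBound w) 4 := by
  constructor
  · by_contra hcon
    rw [not_lt] at hcon
    have hn1 : N₁ ≤ m := le_trans (le_max_left _ _) hcon
    have hn5 : 5 ≤ m := le_trans (le_max_right _ _) hcon
    exact alt_contra w N₁ h₁ m hn1 (by omega)
      (toCommutator (alt_perfect m hn5) ((isoMinus (F := F) m a b).comp (altGL (F := F) m)))
      (toCommutator_injective _ _ ((isoMinus_injective m a b).comp (altGL_injective m))) hlaw
  · by_contra hcon
    rw [not_lt] at hcon
    have hF : lawBound w ≤ Fintype.card F := le_trans (le_max_left _ _) hcon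
    have hF4 : 4 ≤ Fintype.card F := le_trans (le_max_right _ _) hcon
    exact sl2_contra w hw hF
      (toCommutator (sl2_perfect hF4) ((isoMinus (F := F) m a b).comp (sl2ToGL (F := F) m hm)))
      (toCommutator_injective _ _ ((isoMinus_injective m a b).comp (sl2ToGL_injective m hm))) hlaw

omit hw in
/-- Degree bound for alternating groups. -/
theorem alt_bound (n : ℕ)
    (hlaw : ∀ f : ℕ → alternatingGroup (Fin n), FreeGroup.lift f w = 1) : n < max N₁ 5 := by
  by_contra hcon
  rw [not_lt] at hcon
  have hn1 : N₁ ≤ n := le_trans (le_max_left _ _) hcon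
  obtain ⟨f, hf⟩ := h₁ n hn1
  exact hf (hlaw f)

end

section cards

variable {F : Type*} [Field F] [Fintype F]

theorem card_quot_le_of_inj {G : Type*} [Group G] (N : Subgroup G) [N.Normal] {X : Type*}
    [Finite X] (f : G → X) (hf : Function.Injective f) : Nat.card (G ⧸ N) ≤ Nat.card X := by
  have : Finite G := Finite.of_injective f hf
  exact le_trans (card_quot_le N) (Nat.card_le_card_of_injective f hf)

theorem card_alt_le (n R : ℕ) (hn : n ≤ R) : Nat.card (alternatingGroup (Fin n)) ≤ R.factorial := by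
  calc Nat.card (alternatingGroup (Fin n)) ≤ Nat.card (Equiv.Perm (Fin n)) :=
        Subgroup.card_le_card_group _
    _ = n.factorial := by
        rw [Nat.card_eq_fintype_card, Fintype.card_perm, Fintype.card_fin]
    _ ≤ R.factorial := Nat.factorial_le hn

theorem card_psl_le (n d B : ℕ) (hd : n ≤ d) (hB : Fintype.card F ≤ B) :
    Nat.card (Matrix.ProjectiveSpecialLinearGroup (Fin n) F) ≤ B ^ (d ^ 2) := by
  refine le_trans ?_ (card_matrix_le (F := F) (ι := Fin n) d B (by simpa using hd) hB)
  exact card_quot_le_of_inj _ (fun g : Matrix.SpecialLinearGroup (Fin n) F =>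
    (g : Matrix (Fin n) (Fin n) F)) Subtype.val_injective

theorem card_psp_le (m d B : ℕ) (hd : 2 * m ≤ d) (hB : Fintype.card F ≤ B) :
    Nat.card (Cfsg.PSp m F) ≤ B ^ (d ^ 2) := by
  refine le_trans ?_ (card_matrix_le (F := F) (ι := Fin m ⊕ Fin m) d B
    (by simp; omega) hB)
  exact card_quot_le_of_inj _ (fun g : Matrix.symplecticGroup (Fin m) F =>
    (g : Matrix (Fin m ⊕ Fin m) (Fin m ⊕ Fin m) F)) Subtype.val_injective

theorem card_psu_le (n q d B : ℕ) (hd : n ≤ d) (hB : Fintype.card F ≤ B) :
    Nat.card (Cfsg.PSU n F q) ≤ B ^ (d ^ 2) := by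
  refine le_trans ?_ (card_matrix_le (F := F) (ι := Fin n) d B (by simpa using hd) hB)
  exact card_quot_le_of_inj _ (fun g : Cfsg.SU n F q =>
    ((g : Matrix.SpecialLinearGroup (Fin n) F) : Matrix (Fin n) (Fin n) F))
    (Subtype.val_injective.comp Subtype.val_injective)

theorem card_pomega_le {ι : Type} [Fintype ι] [DecidableEq ι] (Q : (ι → F) → F) (d B : ℕ)
    (hd : Fintype.card ι ≤ d) (hB : Fintype.card F ≤ B) :
    Nat.card (Cfsg.POmega F Q) ≤ B ^ (d ^ 2) := by
  refine le_trans ?_ (card_matrix_le (F := F) (ι := ι) d B hd hB)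
  refine card_quot_le_of_inj _ (fun g : Cfsg.Omega F Q =>
    (((g : Cfsg.isometryGroup F Q) : Matrix.GeneralLinearGroup ι F) : Matrix ι ι F)) ?_
  intro x y h
  apply Subtype.ext
  apply Subtype.ext
  exact Units.ext h

end cards

end Cfsg.Agent.Helper39
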