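import Mathlib

/-!
# Groups of order 320 with derived subgroup of order 64 whose centre is a four-group: general lemmas

General facts about a finite group `Q = ⟨B, s⟩` with `B` abelian and normal (used for
`Q = G / P'`, `B = P / P'`, `s` of order 5).
-/

set_option autoImplicit false
set_option linter.unusedSectionVars false
set_option linter.style.haveILetI false

namespace Cfsg.Agent.Helper39.G320A

open Subgroup
open scoped commutatorElement

section gen

variable {Q : Type*} [Group Q]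

/-- If `Q = ⟨B, s⟩`, `B` abelian, `I` normal in `Q` containing all `⁅s, b⁆`, then `Q' ≤ I`. -/
theorem commutator_le_of_gen (B I : Subgroup Q) [I.Normal] (s : Q) (hBs : B ⊔ zpowers s = ⊤)
    (hBc : ∀ x ∈ B, ∀ y ∈ B, x * y = y * x) (hI : ∀ b ∈ B, ⁅s, b⁆ ∈ I) : commutator Q ≤ I := by
  have hsb : ∀ b ∈ B, (QuotientGroup.mk' I s) * (QuotientGroup.mk' I b) =
      (QuotientGroup.mk' I b) * (QuotientGroup.mk' I s) := by
    intro b hb
    have h1 : QuotientGroup.mk' I ⁅s, b⁆ = 1 := (QuotientGroup.eq_one_iff _).mpr (hI b hb)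
    rw [map_commutatorElement, commutatorElement_eq_one_iff_mul_comm] at h1
    exact h1
  -- the images of `B` are central
  have hBcen : ∀ b ∈ B, QuotientGroup.mk' I b ∈ center (Q ⧸ I) := by
    intro b hb
    have hle : B ⊔ zpowers s ≤ (centralizer {QuotientGroup.mk' I b}).comap (QuotientGroup.mk' I) := by
      apply sup_le
      · intro b' hb'
        rw [mem_comap, mem_centralizer_singleton_iff]
        rw [← map_mul, ← map_mul, hBc b' hb' b hb]
      · rw [zpowers_le, mem_comap, mem_centralizer_singleton_iff]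
        exact hsb b hb
    rw [mem_center_iff]
    intro g
    obtain ⟨g, rfl⟩ := QuotientGroup.mk'_surjective I g
    have hg : g ∈ B ⊔ zpowers s := by rw [hBs]; trivial
    have := hle hg
    rw [mem_comap, mem_centralizer_singleton_iff] at this
    exact this
  have hscen : QuotientGroup.mk' I s ∈ center (Q ⧸ I) := by
    have hle : B ⊔ zpowers s ≤ (centralizer {QuotientGroup.mk' I s}).comap (QuotientGroup.mk' I) := by
      apply sup_le
      · intro b' hb'
        rw [mem_comap, mem_centralizer_singleton_iff]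
        exact (hsb b' hb').symm
      · rw [zpowers_le, mem_comap, mem_centralizer_singleton_iff]
    rw [mem_center_iff]
    intro g
    obtain ⟨g, rfl⟩ := QuotientGroup.mk'_surjective I g
    have hg : g ∈ B ⊔ zpowers s := by rw [hBs]; trivial
    have := hle hg
    rw [mem_comap, mem_centralizer_singleton_iff] at this
    exact this
  have hall : ∀ g : Q, QuotientGroup.mk' I g ∈ center (Q ⧸ I) := by
    intro g
    have hle : B ⊔ zpowers s ≤ (center (Q ⧸ I)).comap (QuotientGroup.mk' I) := by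
      apply sup_le
      · intro b hb; exact hBcen b hb
      · rw [zpowers_le]; exact hscen
    have hg : g ∈ B ⊔ zpowers s := by rw [hBs]; trivial
    exact hle hg
  rw [commutator_def, Subgroup.commutator_le]
  intro g₁ _ g₂ _
  rw [← QuotientGroup.eq_one_iff, ← QuotientGroup.mk'_apply, map_commutatorElement,
    commutatorElement_eq_one_iff_mul_comm]
  have := hall g₂
  rw [mem_center_iff] at this
  exact this _

/-- the image of `x ↦ ⁅s, x⁆` on an abelian normal subgroup `B` -/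
def tauRange (B : Subgroup Q) [hBn : B.Normal] (hBc : ∀ x ∈ B, ∀ y ∈ B, x * y = y * x) (s : Q) :
    Subgroup Q where
  carrier := {y | ∃ x ∈ B, y = ⁅s, x⁆}
  one_mem' := ⟨1, B.one_mem, by simp⟩
  mul_mem' := by
    rintro _ _ ⟨x, hx, rfl⟩ ⟨y, hy, rfl⟩
    refine ⟨x * y, B.mul_mem hx hy, ?_⟩
    have hsx : s * x * s⁻¹ ∈ B := hBn.conj_mem x hx s
    have hsy : s * y * s⁻¹ ∈ B := hBn.conj_mem y hy s
    have e1 : x⁻¹ * (s * y * s⁻¹) = (s * y * s⁻¹) * x⁻¹ := hBc _ (B.inv_mem hx) _ hsy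
    have e2 : x⁻¹ * y⁻¹ = y⁻¹ * x⁻¹ := hBc _ (B.inv_mem hx) _ (B.inv_mem hy)
    rw [commutatorElement_def, commutatorElement_def, commutatorElement_def]
    calc s * x * s⁻¹ * x⁻¹ * (s * y * s⁻¹ * y⁻¹)
        = s * x * s⁻¹ * (x⁻¹ * (s * y * s⁻¹)) * y⁻¹ := by group
      _ = s * x * s⁻¹ * ((s * y * s⁻¹) * x⁻¹) * y⁻¹ := by rw [e1]
      _ = s * x * y * s⁻¹ * (x⁻¹ * y⁻¹) := by group
      _ = s * x * y * s⁻¹ * (y⁻¹ * x⁻¹) := by rw [e2]
      _ = s * (x * y) * s⁻¹ * (x * y)⁻¹ := by group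
  inv_mem' := by
    rintro _ ⟨x, hx, rfl⟩
    refine ⟨x⁻¹, B.inv_mem hx, ?_⟩
    have hsx : s * x⁻¹ * s⁻¹ ∈ B := hBn.conj_mem _ (B.inv_mem hx) s
    have e1 : x * (s * x⁻¹ * s⁻¹) = (s * x⁻¹ * s⁻¹) * x := hBc _ hx _ hsx
    rw [commutatorElement_def, commutatorElement_def]
    calc (s * x * s⁻¹ * x⁻¹)⁻¹ = x * (s * x⁻¹ * s⁻¹) := by group
      _ = (s * x⁻¹ * s⁻¹) * x := e1
      _ = s * x⁻¹ * s⁻¹ * x⁻¹⁻¹ := by group

lemma tauRange_le (B : Subgroup Q) [hBn : B.Normal] (hBc : ∀ x ∈ B, ∀ y ∈ B, x * y = y * x)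
    (s : Q) : tauRange B hBc s ≤ B := by
  rintro _ ⟨x, hx, rfl⟩
  rw [commutatorElement_def]
  exact B.mul_mem (hBn.conj_mem x hx s) (B.inv_mem hx)

lemma tauRange_normal (B : Subgroup Q) [hBn : B.Normal] (hBc : ∀ x ∈ B, ∀ y ∈ B, x * y = y * x)
    (s : Q) (hBs : B ⊔ zpowers s = ⊤) : (tauRange B hBc s).Normal := by
  rw [← normalizer_eq_top_iff, eq_top_iff, ← hBs]
  apply sup_le
  · intro b hb
    rw [mem_normalizer_iff]
    intro n
    constructor
    · intro hn
      have hnB := tauRange_le B hBc s hn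
      have : b * n * b⁻¹ = n := by rw [hBc b hb n hnB]; group
      rw [this]; exact hn
    · intro hn
      have hnB : b * n * b⁻¹ ∈ B := tauRange_le B hBc s hn
      have hnB' : n ∈ B := by
        have := B.mul_mem (B.mul_mem (B.inv_mem hb) hnB) hb
        have e : b⁻¹ * (b * n * b⁻¹) * b = n := by group
        rwa [e] at this
      have : b * n * b⁻¹ = n := by rw [hBc b hb n hnB']; group
      rwa [this] at hn
  · rw [zpowers_le, mem_normalizer_iff]
    intro n
    constructor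
    · rintro ⟨x, hx, rfl⟩
      refine ⟨s * x * s⁻¹, hBn.conj_mem x hx s, ?_⟩
      rw [commutatorElement_def, commutatorElement_def]; group
    · rintro ⟨x, hx, hn⟩
      refine ⟨s⁻¹ * x * s, ?_, ?_⟩
      · have := hBn.conj_mem x hx s⁻¹
        simpa using this
      · have : n = s⁻¹ * ⁅s, x⁆ * s := by rw [← hn]; group
        rw [this, commutatorElement_def, commutatorElement_def]; group

/-- if `B ≤ Q'` then `x ↦ ⁅s, x⁆` is onto `B` -/
theorem tau_surj (B : Subgroup Q) [hBn : B.Normal] (hBc : ∀ x ∈ B, ∀ y ∈ B, x * y = y * x)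
    (s : Q) (hBs : B ⊔ zpowers s = ⊤) (hcomm : B ≤ commutator Q) :
    ∀ y ∈ B, ∃ x ∈ B, y = ⁅s, x⁆ := by
  haveI := tauRange_normal B hBc s hBs
  have h1 : commutator Q ≤ tauRange B hBc s :=
    commutator_le_of_gen B (tauRange B hBc s) s hBs hBc (fun b hb => ⟨b, hb, rfl⟩)
  intro y hy
  exact h1 (hcomm hy)

/-- if `B ≤ Q'` and `B` is finite then `s` has no fixed points on `B` -/
theorem tau_inj [Finite Q] (B : Subgroup Q) [hBn : B.Normal]
    (hBc : ∀ x ∈ B, ∀ y ∈ B, x * y = y * x)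
    (s : Q) (hBs : B ⊔ zpowers s = ⊤) (hcomm : B ≤ commutator Q) :
    ∀ x ∈ B, s * x * s⁻¹ = x → x = 1 := by
  -- the map `x ↦ ⁅s, x⁆` on `B` is a surjective endomorphism of a finite group
  let f : B → B := fun x => ⟨⁅s, (x : Q)⁆, by
    rw [commutatorElement_def]
    exact B.mul_mem (hBn.conj_mem x x.2 s) (B.inv_mem x.2)⟩
  have hsurj : Function.Surjective f := by
    intro y
    obtain ⟨x, hx, hy⟩ := tau_surj B hBc s hBs hcomm y y.2
    exact ⟨⟨x, hx⟩, Subtype.ext hy.symm⟩
  have hinj : Function.Injective f := Finite.injective_iff_surjective.mpr hsurj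
  intro x hx hfix
  have h1 : f ⟨x, hx⟩ = f 1 := by
    apply Subtype.ext
    show ⁅s, x⁆ = ⁅s, (1 : Q)⁆
    rw [commutatorElement_def, hfix, commutatorElement_def]; group
  have := hinj h1
  exact congrArg Subtype.val this

/-- general count: a finite set with a map `f`, `f^5 = 1`: `|α| ≡ #fixed points mod 5` -/
theorem card_modEq_fixed {α : Type*} [Finite α] (f : α → α) (hf : ∀ x, f (f (f (f (f x)))) = x) :
    Nat.card α ≡ Nat.card {x : α // f x = x} [MOD 5] := by
  classical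
  let _ : Fintype α := Fintype.ofFinite α
  haveI : Fact (Nat.Prime 5) := ⟨by norm_num⟩
  let g : Function.End α := f
  have hg : g ^ 5 ^ 1 = 1 := by
    rw [pow_one]
    funext x
    show (g * (g * (g * (g * g)))) x = x
    exact hf x
  have h1 := Equiv.Perm.card_fixedPoints_modEq (p := 5) (n := 1) hg
  rw [← Nat.card_eq_fintype_card, ← Nat.card_eq_fintype_card] at h1
  exact h1

/-- a subgroup invariant under conjugation by `s`, `s^5 = 1`, with no nontrivial fixed point has
order `≡ 1 mod 5` -/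
theorem card_modEq_one [Finite Q] (W : Subgroup Q) (s : Q) (hs5 : s ^ 5 = 1)
    (hW : ∀ w ∈ W, s * w * s⁻¹ ∈ W) (hfix : ∀ w ∈ W, s * w * s⁻¹ = w → w = 1) :
    Nat.card W ≡ 1 [MOD 5] := by
  let f : W → W := fun w => ⟨s * w * s⁻¹, hW w w.2⟩
  have hf : ∀ x, f (f (f (f (f x)))) = x := by
    intro x
    apply Subtype.ext
    show s * (s * (s * (s * (s * (x : Q) * s⁻¹) * s⁻¹) * s⁻¹) * s⁻¹) * s⁻¹ = x
    have : s * (s * (s * (s * (s * (x : Q) * s⁻¹) * s⁻¹) * s⁻¹) * s⁻¹) * s⁻¹
        = s ^ 5 * x * (s ^ 5)⁻¹ := by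
      simp only [pow_succ, pow_zero, one_mul, mul_inv_rev, mul_assoc]
    rw [this, hs5]; group
  have h1 := card_modEq_fixed f hf
  have h2 : Nat.card {x : W // f x = x} = 1 := by
    rw [Nat.card_eq_one_iff_unique]
    refine ⟨⟨?_⟩, ⟨⟨1, ?_⟩⟩⟩
    · rintro ⟨x, hx⟩ ⟨y, hy⟩
      have hx1 : (x : Q) = 1 := hfix x x.2 (congrArg Subtype.val hx)
      have hy1 : (y : Q) = 1 := hfix y y.2 (congrArg Subtype.val hy)
      apply Subtype.ext; apply Subtype.ext
      rw [hx1, hy1]
    · apply Subtype.ext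
      show s * ((1 : W) : Q) * s⁻¹ = ((1 : W) : Q)
      simp
  rw [h2] at h1
  exact h1

end gen

end Cfsg.Agent.Helper39.G320A
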