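import Mathlib
import Cfsg.Agent.Lib.Helper39.G320A

/-!
# Groups of order 320 with derived subgroup of order 64 whose centre is a four-group: structure

`P = G'`, `D = P'`.  We show `|D| = 4`, `D = Z(P) ≤ Z(G)`, `P/D` elementary abelian of order 16 on
which an element `ζ` of order 5 acts without fixed points and irreducibly.
-/

set_option autoImplicit false
set_option linter.unusedSectionVars false
set_option linter.style.haveILetI false

namespace Cfsg.Agent.Helper39.G320A2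

open Subgroup
open scoped commutatorElement
open Cfsg.Agent.Helper39.G320A

variable {G : Type*} [Group G] [Finite G]

/-- the second derived subgroup -/
abbrev DD (G : Type*) [Group G] : Subgroup G := ⁅commutator G, commutator G⁆

lemma DD_le : DD G ≤ commutator G := Subgroup.commutator_le_right _ _

/-- an element of order five outside `G'` -/
theorem exists_zeta (hG : Nat.card G = 320) (hD : Nat.card (commutator G) = 64) :
    ∃ ζ : G, orderOf ζ = 5 ∧ ζ ∉ commutator G := by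
  haveI : Fact (Nat.Prime 5) := ⟨by norm_num⟩
  obtain ⟨ζ, hζ⟩ := exists_prime_orderOf_dvd_card' (G := G) 5 (by rw [hG]; norm_num)
  refine ⟨ζ, hζ, ?_⟩
  intro hmem
  have h1 : orderOf (⟨ζ, hmem⟩ : commutator G) ∣ Nat.card (commutator G) := orderOf_dvd_natCard _
  rw [Subgroup.orderOf_mk, hζ, hD] at h1
  norm_num at h1

theorem sup_zpowers (hG : Nat.card G = 320) (hD : Nat.card (commutator G) = 64) {ζ : G}
    (hζ : orderOf ζ = 5) : commutator G ⊔ zpowers ζ = ⊤ := by
  rw [← Subgroup.card_eq_iff_eq_top]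
  have h1 : Nat.card (commutator G) ∣ Nat.card ↥(commutator G ⊔ zpowers ζ) :=
    Subgroup.card_dvd_of_le le_sup_left
  have h2 : Nat.card (zpowers ζ) ∣ Nat.card ↥(commutator G ⊔ zpowers ζ) :=
    Subgroup.card_dvd_of_le le_sup_right
  rw [hD] at h1
  rw [Nat.card_zpowers, hζ] at h2
  have h3 : 64 * 5 ∣ Nat.card ↥(commutator G ⊔ zpowers ζ) :=
    Nat.Coprime.mul_dvd_of_dvd_of_dvd (by norm_num) h1 h2
  have h4 : Nat.card ↥(commutator G ⊔ zpowers ζ) ∣ Nat.card G := Subgroup.card_subgroup_dvd_card _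
  rw [hG] at h4 ⊢
  exact Nat.dvd_antisymm h4 h3

section quot

variable (hG : Nat.card G = 320) (hD : Nat.card (commutator G) = 64) {ζ : G} (hζ : orderOf ζ = 5)

/-- the image of `G'` in `G / G''` -/
abbrev BB (G : Type*) [Group G] : Subgroup (G ⧸ DD G) :=
  (commutator G).map (QuotientGroup.mk' (DD G))

lemma BB_normal : (BB G).Normal :=
  Subgroup.Normal.map inferInstance _ (QuotientGroup.mk'_surjective _)

lemma BB_comm : ∀ x ∈ BB G, ∀ y ∈ BB G, x * y = y * x := by
  rintro _ ⟨p, hp, rfl⟩ _ ⟨p', hp', rfl⟩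
  have h1 : ⁅p, p'⁆ ∈ DD G := Subgroup.commutator_mem_commutator hp hp'
  have h2 : QuotientGroup.mk' (DD G) ⁅p, p'⁆ = 1 := (QuotientGroup.eq_one_iff _).mpr h1
  rw [map_commutatorElement, commutatorElement_eq_one_iff_mul_comm] at h2
  exact h2

include hG hD hζ in
lemma BB_sup : BB G ⊔ zpowers (QuotientGroup.mk' (DD G) ζ) = ⊤ := by
  have h := sup_zpowers hG hD hζ
  have h2 : (commutator G ⊔ zpowers ζ).map (QuotientGroup.mk' (DD G)) = ⊤ := by
    rw [h]; exact Subgroup.map_top_of_surjective _ (QuotientGroup.mk'_surjective _)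
  rw [Subgroup.map_sup, MonoidHom.map_zpowers] at h2
  exact h2

lemma BB_le_commutator : BB G ≤ commutator (G ⧸ DD G) := by
  have h1 : Subgroup.map (QuotientGroup.mk' (DD G)) (⁅(⊤ : Subgroup G), (⊤ : Subgroup G)⁆) =
      ⁅(⊤ : Subgroup (G ⧸ DD G)), (⊤ : Subgroup (G ⧸ DD G))⁆ := by
    rw [Subgroup.map_commutator, Subgroup.map_top_of_surjective _ (QuotientGroup.mk'_surjective _)]
  exact h1.le

include hG hD hζ in
/-- `ζ` has no fixed points on `P / D` -/
theorem fpf {x : G} (hx : x ∈ commutator G) (hfix : ⁅ζ, x⁆ ∈ DD G) : x ∈ DD G := by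
  haveI := BB_normal (G := G)
  have h1 := tau_inj (BB G) BB_comm (QuotientGroup.mk' (DD G) ζ) (BB_sup hG hD hζ)
    BB_le_commutator (QuotientGroup.mk' (DD G) x) ⟨x, hx, rfl⟩
  rw [← QuotientGroup.eq_one_iff, ← QuotientGroup.mk'_apply]
  apply h1
  have h2 : QuotientGroup.mk' (DD G) ⁅ζ, x⁆ = 1 := (QuotientGroup.eq_one_iff _).mpr hfix
  rw [map_commutatorElement, commutatorElement_def] at h2
  have h3 := congrArg (fun t => t * QuotientGroup.mk' (DD G) x) h2
  simpa using h3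

include hG hD hζ in
/-- `x ↦ ⁅ζ, x⁆` is onto `P / D` -/
theorem tau_onto {y : G} (hy : y ∈ commutator G) :
    ∃ x ∈ commutator G, ∃ d ∈ DD G, y = ⁅ζ, x⁆ * d := by
  haveI := BB_normal (G := G)
  obtain ⟨_, ⟨x, hx, rfl⟩, h2⟩ := tau_surj (BB G) BB_comm (QuotientGroup.mk' (DD G) ζ)
    (BB_sup hG hD hζ) BB_le_commutator (QuotientGroup.mk' (DD G) y) ⟨y, hy, rfl⟩
  rw [← map_commutatorElement] at h2
  refine ⟨x, hx, (⁅ζ, x⁆)⁻¹ * y, ?_, by group⟩
  rw [← QuotientGroup.eq_one_iff, ← QuotientGroup.mk'_apply, map_mul, map_inv, h2]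
  group

omit [Finite G] in
lemma map_commutator_subtype (P : Subgroup G) :
    (commutator ↥P).map P.subtype = ⁅P, P⁆ := by
  have h1 : Subgroup.map P.subtype (⁅(⊤ : Subgroup ↥P), (⊤ : Subgroup ↥P)⁆) =
      ⁅Subgroup.map P.subtype ⊤, Subgroup.map P.subtype ⊤⁆ := Subgroup.map_commutator _ _ _
  rw [← MonoidHom.range_eq_map, Subgroup.range_subtype] at h1
  exact h1

include hD in
lemma DD_ne : DD G ≠ commutator G := by
  intro heq
  haveI : Fact (Nat.Prime 2) := ⟨Nat.prime_two⟩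
  have hp : IsPGroup 2 ↥(commutator G) := IsPGroup.of_card (n := 6) (by rw [hD]; norm_num)
  haveI : Group.IsNilpotent ↥(commutator G) := hp.isNilpotent
  haveI : Nontrivial ↥(commutator G) := by
    rw [← Finite.one_lt_card_iff_nontrivial, hD]; norm_num
  have h1 := Group.IsSolvable.commutator_lt_top_of_nontrivial ↥(commutator G)
  have h2 : (commutator ↥(commutator G)).map (commutator G).subtype =
      (⊤ : Subgroup ↥(commutator G)).map (commutator G).subtype := by
    rw [map_commutator_subtype, ← MonoidHom.range_eq_map, Subgroup.range_subtype]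
    exact heq
  have h3 := Subgroup.map_injective (commutator G).subtype_injective h2
  exact h1.ne h3

include hG hD hζ in
theorem zeta_pow : ζ ^ 5 = 1 := by rw [← hζ]; exact pow_orderOf_eq_one ζ

include hG hD hζ in
theorem card_BB_DD : Nat.card (BB G) = 16 ∧ Nat.card (DD G) = 4 := by
  haveI := BB_normal (G := G)
  have h1 : (DD G).index * Nat.card (DD G) = 320 := by rw [Subgroup.index_mul_card, hG]
  have h2 : Nat.card (G ⧸ DD G) = (DD G).index := (Subgroup.index_eq_card _).symm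
  have h3 : (BB G).index = (commutator G).index :=
    Subgroup.index_map_eq _ (QuotientGroup.mk'_surjective _) (by
      rw [QuotientGroup.ker_mk']; exact DD_le)
  have h4 : (commutator G).index = 5 := by
    have := Subgroup.card_mul_index (commutator G)
    rw [hD, hG] at this
    omega
  have h5 : Nat.card (BB G) * (BB G).index = Nat.card (G ⧸ DD G) := Subgroup.card_mul_index _
  rw [h3, h4, h2] at h5
  have h6 : Nat.card (BB G) ≡ 1 [MOD 5] := by
    apply card_modEq_one (BB G) (QuotientGroup.mk' (DD G) ζ)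
    · rw [← map_pow, zeta_pow hG hD hζ, map_one]
    · intro w hw
      exact (BB_normal (G := G)).conj_mem w hw _
    · exact tau_inj (BB G) BB_comm (QuotientGroup.mk' (DD G) ζ) (BB_sup hG hD hζ)
        BB_le_commutator
  have h7 : Nat.card (DD G) ≠ 64 := by
    intro h
    apply DD_ne (G := G) hD
    exact Subgroup.eq_of_le_of_card_ge DD_le (by rw [h, hD])
  have h8 : Nat.card (BB G) * Nat.card (DD G) = 64 := by
    have : Nat.card (BB G) * 5 * Nat.card (DD G) = 320 := by rw [h5]; exact h1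
    have e : Nat.card (BB G) * 5 * Nat.card (DD G) = (Nat.card (BB G) * Nat.card (DD G)) * 5 := by
      ring
    rw [e] at this
    omega
  have h9 : Nat.card (BB G) ≤ 64 := by
    have hpos : 0 < Nat.card (DD G) := Nat.card_pos
    nlinarith
  unfold Nat.ModEq at h6
  set b := Nat.card (BB G) with hb
  set d := Nat.card (DD G) with hd
  interval_cases b <;> omega

include hG hD hζ in
/-- `ζ` centralizes `D` -/
theorem zeta_comm_DD : ∀ d ∈ DD G, ζ * d * ζ⁻¹ = d := by
  have hn : (DD G).Normal := inferInstance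
  let f : DD G → DD G := fun d => ⟨ζ * d * ζ⁻¹, hn.conj_mem d d.2 ζ⟩
  have hf : ∀ x, f (f (f (f (f x)))) = x := by
    intro x
    apply Subtype.ext
    show ζ * (ζ * (ζ * (ζ * (ζ * (x : G) * ζ⁻¹) * ζ⁻¹) * ζ⁻¹) * ζ⁻¹) * ζ⁻¹ = x
    have : ζ * (ζ * (ζ * (ζ * (ζ * (x : G) * ζ⁻¹) * ζ⁻¹) * ζ⁻¹) * ζ⁻¹) * ζ⁻¹
        = ζ ^ 5 * x * (ζ ^ 5)⁻¹ := by
      simp only [pow_succ, pow_zero, one_mul, mul_inv_rev, mul_assoc]
    rw [this, zeta_pow hG hD hζ]; group
  have h1 := card_modEq_fixed f hf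
  rw [(card_BB_DD hG hD hζ).2] at h1
  intro d hd
  by_contra hne
  have h2 : Nat.card {x : DD G // f x = x} < Nat.card (DD G) :=
    Finite.card_subtype_lt (x := ⟨d, hd⟩) (by
      intro h
      exact hne (congrArg Subtype.val h))
  rw [(card_BB_DD hG hD hζ).2] at h2
  unfold Nat.ModEq at h1
  omega

include hG hD hζ in
theorem DD_abelian : ∀ x ∈ DD G, ∀ y ∈ DD G, x * y = y * x := by
  haveI : Fact (Nat.Prime 2) := ⟨Nat.prime_two⟩
  have h := IsPGroup.isMulCommutative_of_card_eq_prime_sq (p := 2) (G := DD G)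
    (by rw [(card_BB_DD hG hD hζ).2]; norm_num)
  intro x hx y hy
  exact congrArg Subtype.val (h.is_comm.comm ⟨x, hx⟩ ⟨y, hy⟩)

include hG hD hζ in
/-- `D` centralizes `P` -/
theorem DD_comm_P : ∀ d ∈ DD G, ∀ y ∈ commutator G, d * y = y * d := by
  have hn : (DD G).Normal := inferInstance
  intro d hd y hy
  obtain ⟨x, hx, d', hd', rfl⟩ := tau_onto hG hD hζ hy
  -- `d` commutes with `⁅ζ, x⁆`
  have hζd : ζ * d = d * ζ := by
    have := zeta_comm_DD hG hD hζ d hd
    calc ζ * d = ζ * d * ζ⁻¹ * ζ := by group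
      _ = d * ζ := by rw [this]
  -- `k = x⁻¹ d x d⁻¹ ∈ D` is centralized by `ζ`
  have hk : x⁻¹ * d * x * d⁻¹ ∈ DD G := by
    have h1 : x⁻¹ * d * x⁻¹⁻¹ ∈ DD G := hn.conj_mem d hd x⁻¹
    have h2 := (DD G).mul_mem h1 ((DD G).inv_mem hd)
    simpa using h2
  have hζk : ζ * (x⁻¹ * d * x * d⁻¹) = (x⁻¹ * d * x * d⁻¹) * ζ := by
    have := zeta_comm_DD hG hD hζ _ hk
    calc ζ * (x⁻¹ * d * x * d⁻¹) = ζ * (x⁻¹ * d * x * d⁻¹) * ζ⁻¹ * ζ := by group
      _ = (x⁻¹ * d * x * d⁻¹) * ζ := by rw [this]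
  have h1 : d * ⁅ζ, x⁆ = ⁅ζ, x⁆ * d := by
    -- `d ⁅ζ,x⁆ d⁻¹ = ⁅ζ, d x d⁻¹⁆ = ⁅ζ, x k'⁆`
    rw [commutatorElement_def]
    -- write `d x = x (x⁻¹ d x d⁻¹) d =: x k d`
    have e1 : d * x = x * (x⁻¹ * d * x * d⁻¹) * d := by group
    have e2 : x⁻¹ * d = (x⁻¹ * d * x * d⁻¹) * d * x⁻¹ := by group
    calc d * (ζ * x * ζ⁻¹ * x⁻¹) = (d * ζ) * x * ζ⁻¹ * x⁻¹ := by group
      _ = (ζ * d) * x * ζ⁻¹ * x⁻¹ := by rw [hζd]
      _ = ζ * (d * x) * ζ⁻¹ * x⁻¹ := by group
      _ = ζ * (x * (x⁻¹ * d * x * d⁻¹) * d) * ζ⁻¹ * x⁻¹ := by rw [e1]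
      _ = ζ * x * ((x⁻¹ * d * x * d⁻¹) * (d * ζ⁻¹)) * x⁻¹ := by group
      _ = ζ * x * ((x⁻¹ * d * x * d⁻¹) * (ζ⁻¹ * d)) * x⁻¹ := by
          have : d * ζ⁻¹ = ζ⁻¹ * d := by
            calc d * ζ⁻¹ = ζ⁻¹ * (ζ * d) * ζ⁻¹ := by group
              _ = ζ⁻¹ * (d * ζ) * ζ⁻¹ := by rw [hζd]
              _ = ζ⁻¹ * d := by group
          rw [this]
      _ = ζ * x * (((x⁻¹ * d * x * d⁻¹) * ζ⁻¹) * d) * x⁻¹ := by group
      _ = ζ * x * ((ζ⁻¹ * (x⁻¹ * d * x * d⁻¹)) * d) * x⁻¹ := by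
          have : (x⁻¹ * d * x * d⁻¹) * ζ⁻¹ = ζ⁻¹ * (x⁻¹ * d * x * d⁻¹) := by
            calc (x⁻¹ * d * x * d⁻¹) * ζ⁻¹ = ζ⁻¹ * (ζ * (x⁻¹ * d * x * d⁻¹)) * ζ⁻¹ := by group
              _ = ζ⁻¹ * ((x⁻¹ * d * x * d⁻¹) * ζ) * ζ⁻¹ := by rw [hζk]
              _ = ζ⁻¹ * (x⁻¹ * d * x * d⁻¹) := by group
          rw [this]
      _ = ζ * x * ζ⁻¹ * x⁻¹ * d := by group
  have h2 : d * d' = d' * d := DD_abelian hG hD hζ d hd d' hd'
  calc d * (⁅ζ, x⁆ * d') = (d * ⁅ζ, x⁆) * d' := by group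
    _ = ⁅ζ, x⁆ * (d * d') := by rw [h1]; group
    _ = ⁅ζ, x⁆ * d' * d := by rw [h2]; group

/-- the centre of `P` as a subgroup of `G` -/
abbrev ZP (G : Type*) [Group G] : Subgroup G :=
  (center (commutator G)).map (commutator G).subtype

variable (hZ : IsKleinFour (center (commutator G)))

include hG hD hζ hZ in
theorem DD_eq_ZP : DD G = ZP G := by
  apply Subgroup.eq_of_le_of_card_ge
  · intro d hd
    refine ⟨⟨d, DD_le hd⟩, ?_, rfl⟩
    rw [SetLike.mem_coe, mem_center_iff]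
    intro g
    apply Subtype.ext
    exact (DD_comm_P hG hD hζ d hd g g.2).symm
  · rw [(card_BB_DD hG hD hζ).2,
      Subgroup.card_map_of_injective (commutator G).subtype_injective, hZ.card_four]

include hG hD hζ hZ in
theorem DD_sq : ∀ d ∈ DD G, d * d = 1 := by
  intro d hd
  rw [DD_eq_ZP hG hD hζ hZ] at hd
  obtain ⟨z, hz, rfl⟩ := hd
  haveI := hZ
  have h1 := IsKleinFour.mul_self (⟨z, hz⟩ : center (commutator G))
  have h2 : z * z = 1 := congrArg Subtype.val h1
  show ((z * z : commutator G) : G) = 1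
  rw [h2]; rfl

include hG hD hζ in
theorem DD_le_center : DD G ≤ center G := by
  intro d hd
  rw [mem_center_iff]
  intro g
  have hle : commutator G ⊔ zpowers ζ ≤ centralizer {d} := by
    apply sup_le
    · intro y hy
      rw [mem_centralizer_singleton_iff]
      exact (DD_comm_P hG hD hζ d hd y hy).symm
    · rw [zpowers_le, mem_centralizer_singleton_iff]
      have := zeta_comm_DD hG hD hζ d hd
      calc ζ * d = ζ * d * ζ⁻¹ * ζ := by group
        _ = d * ζ := by rw [this]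
  have hg : g ∈ commutator G ⊔ zpowers ζ := by rw [sup_zpowers hG hD hζ]; trivial
  have := hle hg
  rw [mem_centralizer_singleton_iff] at this
  exact this

include hG hD hζ in
/-- irreducibility of `P / D` under `ζ` (quotient form) -/
theorem irred_quot (W : Subgroup (G ⧸ DD G)) (hWB : W ≤ BB G)
    (hinv : ∀ w ∈ W, (QuotientGroup.mk' (DD G) ζ) * w * (QuotientGroup.mk' (DD G) ζ)⁻¹ ∈ W)
    (hne : W ≠ ⊥) : W = BB G := by
  haveI := BB_normal (G := G)
  have h1 : Nat.card W ≡ 1 [MOD 5] := by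
    apply card_modEq_one W (QuotientGroup.mk' (DD G) ζ)
    · rw [← map_pow, zeta_pow hG hD hζ, map_one]
    · exact hinv
    · intro w hw
      exact tau_inj (BB G) BB_comm (QuotientGroup.mk' (DD G) ζ) (BB_sup hG hD hζ)
        BB_le_commutator w (hWB hw)
  have h2 : Nat.card W ∣ 16 := by
    rw [← (card_BB_DD hG hD hζ).1]; exact Subgroup.card_dvd_of_le hWB
  have h3 : Nat.card W ≠ 1 := by
    intro h
    exact hne (Subgroup.card_eq_one.mp h)
  have h4 : Nat.card W = 16 := by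
    have hle : Nat.card W ≤ 16 := Nat.le_of_dvd (by norm_num) h2
    unfold Nat.ModEq at h1
    set w := Nat.card W
    interval_cases w <;> omega
  exact Subgroup.eq_of_le_of_card_ge hWB (by rw [h4, (card_BB_DD hG hD hζ).1])

include hG hD hζ in
/-- irreducibility of `P / D` under `ζ` -/
theorem irred (W : Subgroup G) (hDW : DD G ≤ W) (hWP : W ≤ commutator G)
    (hinv : ∀ w ∈ W, ζ * w * ζ⁻¹ ∈ W) (hne : ∃ w ∈ W, w ∉ DD G) : W = commutator G := by
  have h1 : W.map (QuotientGroup.mk' (DD G)) = BB G := by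
    apply irred_quot hG hD hζ
    · exact Subgroup.map_mono hWP
    · rintro _ ⟨w, hw, rfl⟩
      refine ⟨ζ * w * ζ⁻¹, hinv w hw, ?_⟩
      simp
    · obtain ⟨w, hw, hwD⟩ := hne
      intro h
      have : QuotientGroup.mk' (DD G) w ∈ W.map (QuotientGroup.mk' (DD G)) := ⟨w, hw, rfl⟩
      rw [h, mem_bot, QuotientGroup.mk'_apply, QuotientGroup.eq_one_iff] at this
      exact hwD this
  have h2 := congrArg (Subgroup.comap (QuotientGroup.mk' (DD G))) h1
  rw [Subgroup.comap_map_eq, Subgroup.comap_map_eq, QuotientGroup.ker_mk',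
    sup_eq_left.mpr hDW, sup_eq_left.mpr DD_le] at h2
  exact h2

include hG hD hζ in
/-- squares of elements of `P` lie in `D` -/
theorem sq_mem {x : G} (hx : x ∈ commutator G) : x * x ∈ DD G := by
  haveI := BB_normal (G := G)
  -- the subgroup of elements of `B` of order at most two
  let Ω : Subgroup (G ⧸ DD G) :=
    { carrier := {b | b ∈ BB G ∧ b * b = 1}
      one_mem' := ⟨(BB G).one_mem, by simp⟩
      mul_mem' := by
        rintro a b ⟨ha, ha2⟩ ⟨hb, hb2⟩
        refine ⟨(BB G).mul_mem ha hb, ?_⟩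
        calc a * b * (a * b) = a * (b * a) * b := by group
          _ = a * (a * b) * b := by rw [BB_comm b hb a ha]
          _ = (a * a) * (b * b) := by group
          _ = 1 := by rw [ha2, hb2, mul_one]
      inv_mem' := by
        rintro a ⟨ha, ha2⟩
        refine ⟨(BB G).inv_mem ha, ?_⟩
        calc a⁻¹ * a⁻¹ = (a * a)⁻¹ := by group
          _ = 1 := by rw [ha2, inv_one] }
  have hΩ : Ω = BB G := by
    apply irred_quot hG hD hζ
    · intro b hb; exact hb.1
    · rintro w ⟨hw, hw2⟩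
      refine ⟨(BB_normal (G := G)).conj_mem w hw _, ?_⟩
      set s := QuotientGroup.mk' (DD G) ζ
      calc s * w * s⁻¹ * (s * w * s⁻¹) = s * (w * w) * s⁻¹ := by group
        _ = 1 := by rw [hw2]; group
    · -- an involution in `B`
      haveI : Fact (Nat.Prime 2) := ⟨Nat.prime_two⟩
      obtain ⟨b, hb⟩ := exists_prime_orderOf_dvd_card' (G := BB G) 2
        (by rw [(card_BB_DD hG hD hζ).1]; norm_num)
      intro h
      have hbΩ : (b : G ⧸ DD G) ∈ Ω := by
        refine ⟨b.2, ?_⟩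
        have : b ^ 2 = 1 := by rw [← hb]; exact pow_orderOf_eq_one b
        rw [pow_two] at this
        exact congrArg Subtype.val this
      rw [h, mem_bot] at hbΩ
      have hb1 : b = 1 := Subtype.ext hbΩ
      rw [hb1, orderOf_one] at hb
      norm_num at hb
  have hxΩ : QuotientGroup.mk' (DD G) x ∈ Ω := by rw [hΩ]; exact ⟨x, hx, rfl⟩
  have := hxΩ.2
  rw [← map_mul, QuotientGroup.mk'_apply, QuotientGroup.eq_one_iff] at this
  exact this

end quot

end Cfsg.Agent.Helper39.G320A2
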