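import Mathlib

/-!
# A group generated by two elements subject to the relations of `2^(2+4) : 5` has order `≤ 320`

Used for S1903 (the involution centralizer of `PSU₃(4)`).  We avoid presented groups: the order bound
is proved by a chain of subgroups, and the "von Dyck" step is replaced by the graph subgroup of
`G × M` generated by the two pairs of generators.
-/

set_option autoImplicit false
set_option linter.unusedSectionVars false
set_option linter.style.haveILetI false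

namespace Cfsg.Agent.Helper39.G320B

open Subgroup
open scoped commutatorElement

section chain

variable {Γ : Type*} [Group Γ]

lemma conj_pow_mem (H : Subgroup Γ) (x : Γ) (hx : ∀ h ∈ H, x * h * x⁻¹ ∈ H) (k : ℕ) :
    ∀ h ∈ H, x ^ k * h * (x ^ k)⁻¹ ∈ H := by
  induction k with
  | zero => intro h hh; simpa using hh
  | succ k ih =>
    intro h hh
    have h1 := hx _ (ih h hh)
    have e : x ^ (k + 1) * h * (x ^ (k + 1))⁻¹ = x * (x ^ k * h * (x ^ k)⁻¹) * x⁻¹ := by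
      rw [pow_succ']; group
    rw [e]; exact h1

/-- the subgroup `H ⟨x⟩` when `x` normalizes `H` and some positive power of `x` lies in `H` -/
def mulPow (H : Subgroup Γ) (x : Γ) (n : ℕ) (hn : 0 < n) (hx : ∀ h ∈ H, x * h * x⁻¹ ∈ H)
    (hxn : x ^ n ∈ H) : Subgroup Γ where
  carrier := {g | ∃ h ∈ H, ∃ k : ℕ, g = h * x ^ k}
  one_mem' := ⟨1, H.one_mem, 0, by simp⟩
  mul_mem' := by
    rintro g g' ⟨h, hh, k, rfl⟩ ⟨h', hh', l, rfl⟩
    refine ⟨h * (x ^ k * h' * (x ^ k)⁻¹), H.mul_mem hh (conj_pow_mem H x hx k h' hh'), k + l, ?_⟩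
    rw [pow_add]; group
  inv_mem' := by
    rintro g ⟨h, hh, k, rfl⟩
    have hk : k ≤ n * k := Nat.le_mul_of_pos_left k hn
    have hy : (x ^ n) ^ k ∈ H := H.pow_mem hxn k
    have e1 : (x ^ n) ^ k = x ^ (n * k - k) * x ^ k := by
      rw [← pow_add, Nat.sub_add_cancel hk, pow_mul]
    refine ⟨((x ^ n) ^ k)⁻¹ * (x ^ (n * k - k) * h⁻¹ * (x ^ (n * k - k))⁻¹),
      H.mul_mem (H.inv_mem hy) (conj_pow_mem H x hx _ _ (H.inv_mem hh)), n * k - k, ?_⟩
    rw [e1]; group

lemma le_mulPow (H : Subgroup Γ) (x : Γ) (n : ℕ) (hn : 0 < n) (hx : ∀ h ∈ H, x * h * x⁻¹ ∈ H)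
    (hxn : x ^ n ∈ H) : H ⊔ zpowers x ≤ mulPow H x n hn hx hxn := by
  apply sup_le
  · intro h hh
    exact ⟨h, hh, 0, by simp⟩
  · rw [zpowers_le]
    exact ⟨1, H.one_mem, 1, by simp⟩

lemma mulPow_subset (H : Subgroup Γ) (x : Γ) (n : ℕ) (hn : 0 < n) (hx : ∀ h ∈ H, x * h * x⁻¹ ∈ H)
    (hxn : x ^ n ∈ H) :
    (mulPow H x n hn hx hxn : Set Γ) ⊆ Set.range (fun p : H × Fin n => (p.1 : Γ) * x ^ (p.2 : ℕ)) := by
  rintro g ⟨h, hh, k, rfl⟩
  refine ⟨(⟨h * (x ^ n) ^ (k / n), H.mul_mem hh (H.pow_mem hxn _)⟩, ⟨k % n, Nat.mod_lt _ hn⟩), ?_⟩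
  simp only
  rw [mul_assoc, ← pow_mul, ← pow_add, Nat.div_add_mod]

/-- the chain step: adjoining an element normalizing `H` with `x ^ n ∈ H` multiplies the order by
at most `n` -/
theorem card_sup_zpowers_le (H : Subgroup Γ) [Finite H] (x : Γ) (n : ℕ) (hn : 0 < n)
    (hx : ∀ h ∈ H, x * h * x⁻¹ ∈ H) (hxn : x ^ n ∈ H) :
    Finite ↥(H ⊔ zpowers x) ∧ Nat.card ↥(H ⊔ zpowers x) ≤ n * Nat.card H := by
  have hsub : ((H ⊔ zpowers x : Subgroup Γ) : Set Γ) ⊆
      Set.range (fun p : H × Fin n => (p.1 : Γ) * x ^ (p.2 : ℕ)) :=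
    fun g hg => mulPow_subset H x n hn hx hxn (le_mulPow H x n hn hx hxn hg)
  have hfin : (Set.range (fun p : H × Fin n => (p.1 : Γ) * x ^ (p.2 : ℕ))).Finite :=
    Set.finite_range _
  have hfin2 : ((H ⊔ zpowers x : Subgroup Γ) : Set Γ).Finite := hfin.subset hsub
  refine ⟨hfin2.to_subtype, ?_⟩
  calc Nat.card ↥(H ⊔ zpowers x) = ((H ⊔ zpowers x : Subgroup Γ) : Set Γ).ncard :=
        (Nat.card_coe_set_eq _)
    _ ≤ (Set.range (fun p : H × Fin n => (p.1 : Γ) * x ^ (p.2 : ℕ))).ncard :=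
        Set.ncard_le_ncard hsub hfin
    _ ≤ Nat.card (H × Fin n) := by
        rw [← Set.image_univ]
        calc ((fun p : H × Fin n => (p.1 : Γ) * x ^ (p.2 : ℕ)) '' Set.univ).ncard
            ≤ (Set.univ : Set (H × Fin n)).ncard := Set.ncard_image_le Set.finite_univ
          _ = Nat.card (H × Fin n) := Set.ncard_univ _
    _ = n * Nat.card H := by
        rw [Nat.card_prod, Nat.card_fin, mul_comm]

/-- the chain step for closures -/
theorem card_closure_insert_le (S : Set Γ) [Finite ↥(closure S)] (x : Γ) (n : ℕ) (hn : 0 < n)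
    (hx : ∀ s ∈ S, x * s * x⁻¹ ∈ closure S) (hxn : x ^ n ∈ closure S) :
    Finite ↥(closure (insert x S)) ∧
      Nat.card ↥(closure (insert x S)) ≤ n * Nat.card ↥(closure S) := by
  have hx' : ∀ h ∈ closure S, x * h * x⁻¹ ∈ closure S := by
    intro h hh
    have hle : closure S ≤ (closure S).comap (MulAut.conj x).toMonoidHom := by
      rw [closure_le]
      intro s hs
      simpa using hx s hs
    simpa using hle hh
  have heq : closure (insert x S) = closure S ⊔ zpowers x := by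
    rw [Set.insert_eq, Subgroup.closure_union, zpowers_eq_closure, sup_comm]
  rw [heq]
  exact card_sup_zpowers_le (closure S) x n hn hx' hxn

end chain

section rel

variable {Γ : Type*} [Group Γ]

/-- the conjugate `ζ^i a ζ^-i` -/
def cj (a ζ : Γ) (i : ℕ) : Γ := ζ ^ i * a * (ζ ^ i)⁻¹

/-- the first structure constant -/
def c1 (a ζ : Γ) : Γ := ⁅a, cj a ζ 1⁆

/-- the second structure constant -/
def c2 (a ζ : Γ) : Γ := ⁅a, cj a ζ 2⁆

/-- the defining relations of `2^(2+4) : 5` on the generators `a, ζ`, except for the value of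
`a ^ 2` -/
structure PreRel (a ζ : Γ) : Prop where
  z5 : ζ ^ 5 = 1
  c1a : Commute (c1 a ζ) a
  c1z : Commute (c1 a ζ) ζ
  c2a : Commute (c2 a ζ) a
  c2z : Commute (c2 a ζ) ζ
  c1sq : c1 a ζ ^ 2 = 1
  c2sq : c2 a ζ ^ 2 = 1
  prod : cj a ζ 0 * cj a ζ 1 * cj a ζ 2 * cj a ζ 3 * cj a ζ 4 = 1

/-- the defining relations of `2^(2+4) : 5` on the generators `a, ζ` -/
structure Rel (a ζ : Γ) : Prop extends PreRel a ζ where
  asq : a ^ 2 = c1 a ζ * c2 a ζ

lemma cj_zero (a ζ : Γ) : cj a ζ 0 = a := by simp [cj]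

lemma conj_cj (a ζ : Γ) (i : ℕ) : ζ * cj a ζ i * ζ⁻¹ = cj a ζ (i + 1) := by
  unfold cj; rw [pow_succ']; group

lemma conj_pow_cj (a ζ : Γ) (i k : ℕ) : ζ ^ k * cj a ζ i * (ζ ^ k)⁻¹ = cj a ζ (i + k) := by
  unfold cj; rw [add_comm, pow_add]; group

lemma conj_pow_comm (a ζ : Γ) (i j k : ℕ) :
    ζ ^ k * ⁅cj a ζ i, cj a ζ j⁆ * (ζ ^ k)⁻¹ = ⁅cj a ζ (i + k), cj a ζ (j + k)⁆ := by
  rw [← conj_pow_cj a ζ i k, ← conj_pow_cj a ζ j k, commutatorElement_def, commutatorElement_def]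
  group

variable {a ζ : Γ} (h : PreRel a ζ)
include h

lemma PreRel.cj_add_five (i : ℕ) : cj a ζ (i + 5) = cj a ζ i := by
  unfold cj; rw [pow_add, h.z5, mul_one]

lemma PreRel.c1_cj (i : ℕ) : Commute (c1 a ζ) (cj a ζ i) := by
  unfold cj
  exact ((h.c1z.pow_right i).mul_right h.c1a).mul_right (h.c1z.pow_right i).inv_right

lemma PreRel.c2_cj (i : ℕ) : Commute (c2 a ζ) (cj a ζ i) := by
  unfold cj
  exact ((h.c2z.pow_right i).mul_right h.c2a).mul_right (h.c2z.pow_right i).inv_right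

lemma PreRel.c1_c2 : Commute (c1 a ζ) (c2 a ζ) := by
  have h1 := h.c1_cj 0
  have h2 := h.c1_cj 2
  rw [cj_zero] at h1
  unfold c2
  rw [commutatorElement_def]
  exact ((h1.mul_right h2).mul_right h1.inv_right).mul_right h2.inv_right

lemma PreRel.c1_inv : (c1 a ζ)⁻¹ = c1 a ζ := by
  have := h.c1sq
  rw [pow_two] at this
  exact inv_eq_of_mul_eq_one_left this

lemma PreRel.c2_inv : (c2 a ζ)⁻¹ = c2 a ζ := by
  have := h.c2sq
  rw [pow_two] at this
  exact inv_eq_of_mul_eq_one_left this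

/-- shifting a central commutator -/
lemma PreRel.comm_shift (i j k : ℕ) (hc : Commute ⁅cj a ζ i, cj a ζ j⁆ ζ) :
    ⁅cj a ζ (i + k), cj a ζ (j + k)⁆ = ⁅cj a ζ i, cj a ζ j⁆ := by
  rw [← conj_pow_comm]
  have := (hc.pow_right k).eq
  rw [← this]; group

lemma PreRel.comm01 : ⁅cj a ζ 0, cj a ζ 1⁆ = c1 a ζ := by rw [cj_zero]; rfl

lemma PreRel.comm02 : ⁅cj a ζ 0, cj a ζ 2⁆ = c2 a ζ := by rw [cj_zero]; rfl

lemma PreRel.comm10 : ⁅cj a ζ 1, cj a ζ 0⁆ = c1 a ζ := by
  rw [← commutatorElement_inv, h.comm01, h.c1_inv]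

lemma PreRel.comm20 : ⁅cj a ζ 2, cj a ζ 0⁆ = c2 a ζ := by
  rw [← commutatorElement_inv, h.comm02, h.c2_inv]

lemma PreRel.comm21 : ⁅cj a ζ 2, cj a ζ 1⁆ = c1 a ζ := by
  have := h.comm_shift 1 0 1 (by rw [h.comm10]; exact h.c1z)
  rw [this, h.comm10]

lemma PreRel.comm30 : ⁅cj a ζ 3, cj a ζ 0⁆ = c2 a ζ := by
  have h1 : cj a ζ 0 = cj a ζ 5 := (h.cj_add_five 0).symm
  rw [h1]
  have := h.comm_shift 0 2 3 (by rw [h.comm02]; exact h.c2z)
  rw [this, h.comm02]

lemma PreRel.comm31 : ⁅cj a ζ 3, cj a ζ 1⁆ = c2 a ζ := by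
  have := h.comm_shift 2 0 1 (by rw [h.comm20]; exact h.c2z)
  rw [this, h.comm20]

lemma PreRel.comm32 : ⁅cj a ζ 3, cj a ζ 2⁆ = c1 a ζ := by
  have := h.comm_shift 1 0 2 (by rw [h.comm10]; exact h.c1z)
  rw [this, h.comm10]

/-- the subgroup generated by the two structure constants has at most four elements -/
lemma PreRel.mem_C0 {x : Γ} (hx : x ∈ closure ({c1 a ζ, c2 a ζ} : Set Γ)) :
    x = 1 ∨ x = c1 a ζ ∨ x = c2 a ζ ∨ x = c1 a ζ * c2 a ζ := by
  have huu : c1 a ζ * c1 a ζ = 1 := by rw [← pow_two]; exact h.c1sq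
  have hvv : c2 a ζ * c2 a ζ = 1 := by rw [← pow_two]; exact h.c2sq
  have e6 : c2 a ζ * c1 a ζ = c1 a ζ * c2 a ζ := h.c1_c2.eq.symm
  have e1 : c1 a ζ * (c1 a ζ * c2 a ζ) = c2 a ζ := by rw [← mul_assoc, huu, one_mul]
  have e2 : c2 a ζ * (c1 a ζ * c2 a ζ) = c1 a ζ := by rw [← e6, ← mul_assoc, hvv, one_mul]
  have e3 : c1 a ζ * c2 a ζ * c1 a ζ = c2 a ζ := by rw [mul_assoc, e6, e1]
  have e4 : c1 a ζ * c2 a ζ * c2 a ζ = c1 a ζ := by rw [mul_assoc, hvv, mul_one]
  have e5 : c1 a ζ * c2 a ζ * (c1 a ζ * c2 a ζ) = 1 := by rw [mul_assoc, e2, huu]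
  let T : Subgroup Γ :=
    { carrier := {x | x = 1 ∨ x = c1 a ζ ∨ x = c2 a ζ ∨ x = c1 a ζ * c2 a ζ}
      one_mem' := Or.inl rfl
      mul_mem' := by
        rintro x y hx hy
        rcases hx with rfl | rfl | rfl | rfl <;> rcases hy with rfl | rfl | rfl | rfl <;>
          simp only [Set.mem_setOf_eq, one_mul, mul_one, huu, hvv, e1, e2, e3, e4, e5, e6,
            true_or, or_true]
      inv_mem' := by
        rintro x hx
        rcases hx with rfl | rfl | rfl | rfl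
        · simp
        · rw [h.c1_inv]; simp
        · rw [h.c2_inv]; simp
        · rw [mul_inv_rev, h.c1_inv, h.c2_inv, e6]; simp }
  have hle : closure ({c1 a ζ, c2 a ζ} : Set Γ) ≤ T := by
    rw [closure_le]
    intro y hy
    simp only [Set.mem_insert_iff, Set.mem_singleton_iff] at hy
    rcases hy with rfl | rfl
    · exact Or.inr (Or.inl rfl)
    · exact Or.inr (Or.inr (Or.inl rfl))
  exact hle hx

omit h in
lemma sq_mul_of_comm (x y : Γ) (hc : Commute ⁅y, x⁆ x) : (x * y) ^ 2 = ⁅y, x⁆ * x ^ 2 * y ^ 2 := by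
  rw [pow_two, pow_two, pow_two]
  have e : y * x = ⁅y, x⁆ * x * y := by rw [commutatorElement_def]; group
  calc x * y * (x * y) = x * (y * x) * y := by group
    _ = x * (⁅y, x⁆ * x * y) * y := by rw [e]
    _ = (x * ⁅y, x⁆) * x * y * y := by group
    _ = (⁅y, x⁆ * x) * x * y * y := by rw [hc.eq]
    _ = ⁅y, x⁆ * (x * x) * (y * y) := by group

omit h in
lemma comm_mul_right (y x₁ x₂ : Γ) (hc : Commute ⁅y, x₂⁆ x₁) :
    ⁅y, x₁ * x₂⁆ = ⁅y, x₁⁆ * ⁅y, x₂⁆ := by
  have e : ⁅y, x₁ * x₂⁆ = ⁅y, x₁⁆ * (x₁ * ⁅y, x₂⁆ * x₁⁻¹) := by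
    rw [commutatorElement_def, commutatorElement_def, commutatorElement_def]; group
  rw [e, ← hc.eq, mul_inv_cancel_right]

/-- the value of `a ^ 2` is forced by the other relations once `a ^ 2` is a `ζ`-invariant
involution -/
theorem PreRel.asq_of (ht1 : Commute (a ^ 2) ζ) (ht3 : (a ^ 2) ^ 2 = 1) :
    a ^ 2 = c1 a ζ * c2 a ζ := by
  have hsq : ∀ i, cj a ζ i ^ 2 = a ^ 2 := by
    intro i
    have e : cj a ζ i ^ 2 = ζ ^ i * a ^ 2 * (ζ ^ i)⁻¹ := by
      unfold cj; rw [pow_two, pow_two]; group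
    rw [e, ← (ht1.pow_right i).eq]; group
  have htt : a ^ 2 * a ^ 2 = 1 := by rw [← pow_two]; exact ht3
  have hc1 : c1 a ζ * c1 a ζ = 1 := by rw [← pow_two]; exact h.c1sq
  have hc2 : c2 a ζ * c2 a ζ = 1 := by rw [← pow_two]; exact h.c2sq
  -- step 1
  have s1 : (cj a ζ 0 * cj a ζ 1) ^ 2 = c1 a ζ := by
    rw [sq_mul_of_comm _ _ (by rw [h.comm10]; exact h.c1_cj 0), h.comm10, hsq, hsq, mul_assoc, htt,
      mul_one]
  -- step 2
  have k2 : ⁅cj a ζ 2, cj a ζ 0 * cj a ζ 1⁆ = c2 a ζ * c1 a ζ := by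
    rw [comm_mul_right _ _ _ (by rw [h.comm21]; exact h.c1_cj 0), h.comm20, h.comm21]
  have s2 : (cj a ζ 0 * cj a ζ 1 * cj a ζ 2) ^ 2 = c2 a ζ * a ^ 2 := by
    rw [sq_mul_of_comm _ _ (by
      rw [k2]; exact ((h.c2_cj 0).mul_right (h.c2_cj 1)).mul_left
        ((h.c1_cj 0).mul_right (h.c1_cj 1))), k2, s1, hsq]
    rw [mul_assoc (c2 a ζ), hc1, mul_one]
  -- step 3
  have k3a : ⁅cj a ζ 3, cj a ζ 0 * cj a ζ 1⁆ = c2 a ζ * c2 a ζ := by
    rw [comm_mul_right _ _ _ (by rw [h.comm31]; exact h.c2_cj 0), h.comm30, h.comm31]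
  have k3 : ⁅cj a ζ 3, cj a ζ 0 * cj a ζ 1 * cj a ζ 2⁆ = c1 a ζ := by
    rw [comm_mul_right _ _ _ (by
      rw [h.comm32]; exact (h.c1_cj 0).mul_right (h.c1_cj 1)), k3a, h.comm32, hc2, one_mul]
  have s3 : (cj a ζ 0 * cj a ζ 1 * cj a ζ 2 * cj a ζ 3) ^ 2 = c1 a ζ * c2 a ζ := by
    rw [sq_mul_of_comm _ _ (by
      rw [k3]; exact ((h.c1_cj 0).mul_right (h.c1_cj 1)).mul_right (h.c1_cj 2)), k3, s2, hsq,
      mul_assoc, mul_assoc, htt, mul_one]
  -- `a4 = S⁻¹`
  have h4 : cj a ζ 4 = (cj a ζ 0 * cj a ζ 1 * cj a ζ 2 * cj a ζ 3)⁻¹ :=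
    (inv_eq_of_mul_eq_one_right h.prod).symm
  have e4 := hsq 4
  rw [h4, inv_pow, s3] at e4
  rw [← e4, mul_inv_rev, h.c1_inv, h.c2_inv, h.c1_c2.eq]

end rel

section rel2

variable {Γ : Type*} [Group Γ] {a ζ : Γ} (h : Rel a ζ)
include h

lemma Rel.asq_comm : Commute (a ^ 2) ζ := by
  rw [h.asq]; exact h.c1z.mul_left h.c2z

lemma Rel.cj_sq (i : ℕ) : cj a ζ i ^ 2 = c1 a ζ * c2 a ζ := by
  have e : cj a ζ i ^ 2 = ζ ^ i * a ^ 2 * (ζ ^ i)⁻¹ := by
    unfold cj; rw [pow_two, pow_two]; group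
  rw [e, ← (h.asq_comm.pow_right i).eq, h.asq]; group

omit h in
/-- `x s x⁻¹` in terms of the commutator -/
lemma conj_eq_comm_mul (x s : Γ) : x * s * x⁻¹ = ⁅x, s⁆ * s := by
  rw [commutatorElement_def]; group

omit h in
lemma c_mem {S : Set Γ} {x : Γ} (hx : x ∈ S) : x ∈ closure S := subset_closure hx

omit h in
lemma conj_of_commute {x s : Γ} (hc : Commute s x) : x * s * x⁻¹ = s := by
  rw [← hc.eq, mul_inv_cancel_right]

/-- the order bound -/
theorem Rel.card_closure_le :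
    Finite ↥(closure ({a, ζ} : Set Γ)) ∧ Nat.card ↥(closure ({a, ζ} : Set Γ)) ≤ 320 := by
  -- step 0
  haveI f0 : Finite ↥(closure (∅ : Set Γ)) := by
    rw [Subgroup.closure_empty]; infer_instance
  have k0 : Nat.card ↥(closure (∅ : Set Γ)) = 1 := by
    rw [Subgroup.closure_empty]; exact Subgroup.card_bot
  -- step 1: adjoin u
  obtain ⟨f1, k1⟩ := card_closure_insert_le (∅ : Set Γ) (c1 a ζ) 2 (by norm_num)
    (by intro s hs; exact absurd hs (Set.notMem_empty s)) (by rw [h.c1sq]; exact one_mem _)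
  haveI := f1
  -- step 2: adjoin v
  obtain ⟨f2, k2⟩ := card_closure_insert_le (insert (c1 a ζ) (∅ : Set Γ)) (c2 a ζ) 2 (by norm_num)
    (by
      intro s hs
      simp only [Set.mem_insert_iff, Set.mem_empty_iff_false, or_false] at hs
      subst hs
      rw [conj_of_commute h.c1_c2]; exact c_mem (by simp))
    (by rw [h.c2sq]; exact one_mem _)
  haveI := f2
  -- step 3: adjoin a0
  obtain ⟨f3, k3⟩ := card_closure_insert_le (insert (c2 a ζ) (insert (c1 a ζ) (∅ : Set Γ))) (cj a ζ 0) 2 (by norm_num)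
    (by
      intro s hs
      simp only [Set.mem_insert_iff, Set.mem_empty_iff_false, or_false] at hs
      rcases hs with rfl | rfl
      · rw [conj_of_commute (h.c2_cj 0)]; exact c_mem (by simp)
      · rw [conj_of_commute (h.c1_cj 0)]; exact c_mem (by simp))
    (by rw [h.cj_sq]; exact mul_mem (c_mem (by simp)) (c_mem (by simp)))
  haveI := f3
  -- step 4: adjoin a1
  obtain ⟨f4, k4⟩ := card_closure_insert_le (insert (cj a ζ 0) (insert (c2 a ζ) (insert (c1 a ζ) (∅ : Set Γ)))) (cj a ζ 1) 2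
    (by norm_num)
    (by
      intro s hs
      simp only [Set.mem_insert_iff, Set.mem_empty_iff_false, or_false] at hs
      rcases hs with rfl | rfl | rfl
      · rw [conj_eq_comm_mul, h.comm10]
        exact mul_mem (c_mem (by simp)) (c_mem (by simp))
      · rw [conj_of_commute (h.c2_cj 1)]; exact c_mem (by simp)
      · rw [conj_of_commute (h.c1_cj 1)]; exact c_mem (by simp))
    (by rw [h.cj_sq]; exact mul_mem (c_mem (by simp)) (c_mem (by simp)))
  haveI := f4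
  -- step 5: adjoin a2
  obtain ⟨f5, k5⟩ := card_closure_insert_le
    (insert (cj a ζ 1) (insert (cj a ζ 0) (insert (c2 a ζ) (insert (c1 a ζ) (∅ : Set Γ))))) (cj a ζ 2) 2 (by norm_num)
    (by
      intro s hs
      simp only [Set.mem_insert_iff, Set.mem_empty_iff_false, or_false] at hs
      rcases hs with rfl | rfl | rfl | rfl
      · rw [conj_eq_comm_mul, h.comm21]
        exact mul_mem (c_mem (by simp)) (c_mem (by simp))
      · rw [conj_eq_comm_mul, h.comm20]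
        exact mul_mem (c_mem (by simp)) (c_mem (by simp))
      · rw [conj_of_commute (h.c2_cj 2)]; exact c_mem (by simp)
      · rw [conj_of_commute (h.c1_cj 2)]; exact c_mem (by simp))
    (by rw [h.cj_sq]; exact mul_mem (c_mem (by simp)) (c_mem (by simp)))
  haveI := f5
  -- step 6: adjoin a3
  obtain ⟨f6, k6⟩ := card_closure_insert_le
    (insert (cj a ζ 2) (insert (cj a ζ 1) (insert (cj a ζ 0) (insert (c2 a ζ) (insert (c1 a ζ) (∅ : Set Γ)))))) (cj a ζ 3) 2 (by norm_num)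
    (by
      intro s hs
      simp only [Set.mem_insert_iff, Set.mem_empty_iff_false, or_false] at hs
      rcases hs with rfl | rfl | rfl | rfl | rfl
      · rw [conj_eq_comm_mul, h.comm32]
        exact mul_mem (c_mem (by simp)) (c_mem (by simp))
      · rw [conj_eq_comm_mul, h.comm31]
        exact mul_mem (c_mem (by simp)) (c_mem (by simp))
      · rw [conj_eq_comm_mul, h.comm30]
        exact mul_mem (c_mem (by simp)) (c_mem (by simp))
      · rw [conj_of_commute (h.c2_cj 3)]; exact c_mem (by simp)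
      · rw [conj_of_commute (h.c1_cj 3)]; exact c_mem (by simp))
    (by rw [h.cj_sq]; exact mul_mem (c_mem (by simp)) (c_mem (by simp)))
  haveI := f6
  -- step 7: adjoin ζ
  obtain ⟨f7, k7⟩ := card_closure_insert_le
    (insert (cj a ζ 3) (insert (cj a ζ 2) (insert (cj a ζ 1) (insert (cj a ζ 0) (insert (c2 a ζ) (insert (c1 a ζ) (∅ : Set Γ))))))) ζ 5
    (by norm_num)
    (by
      intro s hs
      simp only [Set.mem_insert_iff, Set.mem_empty_iff_false, or_false] at hs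
      rcases hs with rfl | rfl | rfl | rfl | rfl | rfl
      · -- ζ a3 ζ⁻¹ = a4 = (a0 a1 a2 a3)⁻¹
        rw [conj_cj]
        have h4 : cj a ζ (3 + 1) = ((cj a ζ 0) * (cj a ζ 1) * (cj a ζ 2) * (cj a ζ 3))⁻¹ := by
          have := h.prod
          exact (inv_eq_of_mul_eq_one_right this).symm
        rw [h4]
        exact inv_mem (mul_mem (mul_mem (mul_mem (c_mem (by simp)) (c_mem (by simp)))
          (c_mem (by simp))) (c_mem (by simp)))
      · rw [conj_cj]; exact c_mem (by simp)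
      · rw [conj_cj]; exact c_mem (by simp)
      · rw [conj_cj]; exact c_mem (by simp)
      · rw [conj_of_commute h.c2z]; exact c_mem (by simp)
      · rw [conj_of_commute h.c1z]; exact c_mem (by simp))
    (by rw [h.z5]; exact one_mem _)
  haveI := f7
  have hle : closure ({a, ζ} : Set Γ) ≤ closure (insert ζ (insert (cj a ζ 3) (insert (cj a ζ 2) (insert (cj a ζ 1)
      (insert (cj a ζ 0) (insert (c2 a ζ) (insert (c1 a ζ) (∅ : Set Γ)))))))) := by
    rw [closure_le]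
    intro x hx
    simp only [Set.mem_insert_iff, Set.mem_singleton_iff] at hx
    rcases hx with hx | hx
    · subst hx
      have h0 : cj x ζ 0 ∈ closure (insert ζ (insert (cj x ζ 3) (insert (cj x ζ 2) (insert (cj x ζ 1)
          (insert (cj x ζ 0) (insert (c2 x ζ) (insert (c1 x ζ) (∅ : Set Γ)))))))) := c_mem (by simp)
      simpa only [cj_zero, SetLike.mem_coe] using h0
    · subst hx
      exact c_mem (by simp)
  refine ⟨Finite.of_injective _ (Subgroup.inclusion_injective hle), ?_⟩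
  calc Nat.card ↥(closure ({a, ζ} : Set Γ)) ≤ _ := Subgroup.card_le_of_le hle
    _ ≤ 320 := by omega

end rel2

section graph

variable {G M : Type*} [Group G] [Group M]

lemma cj_prod (a ζ : G) (a' ζ' : M) (i : ℕ) :
    cj ((a, a') : G × M) (ζ, ζ') i = (cj a ζ i, cj a' ζ' i) := by
  unfold cj
  ext <;> simp

lemma c1_prod (a ζ : G) (a' ζ' : M) :
    c1 ((a, a') : G × M) (ζ, ζ') = (c1 a ζ, c1 a' ζ') := by
  unfold c1
  rw [cj_prod, commutatorElement_def, commutatorElement_def, commutatorElement_def]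
  ext <;> simp

lemma c2_prod (a ζ : G) (a' ζ' : M) :
    c2 ((a, a') : G × M) (ζ, ζ') = (c2 a ζ, c2 a' ζ') := by
  unfold c2
  rw [cj_prod, commutatorElement_def, commutatorElement_def, commutatorElement_def]
  ext <;> simp

lemma commute_prod {x y : G} {x' y' : M} (h : Commute x y) (h' : Commute x' y') :
    Commute ((x, x') : G × M) (y, y') := by
  show (x, x') * (y, y') = (y, y') * (x, x')
  ext
  · exact h.eq
  · exact h'.eq

/-- the relations hold in the product for the pairs of generators -/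
theorem rel_prod {a ζ : G} {a' ζ' : M} (h : Rel a ζ) (h' : Rel a' ζ') :
    Rel ((a, a') : G × M) (ζ, ζ') where
  z5 := by ext <;> simp [h.z5, h'.z5]
  c1a := by rw [c1_prod]; exact commute_prod h.c1a h'.c1a
  c1z := by rw [c1_prod]; exact commute_prod h.c1z h'.c1z
  c2a := by rw [c2_prod]; exact commute_prod h.c2a h'.c2a
  c2z := by rw [c2_prod]; exact commute_prod h.c2z h'.c2z
  c1sq := by rw [c1_prod]; ext <;> simp [h.c1sq, h'.c1sq]
  c2sq := by rw [c2_prod]; ext <;> simp [h.c2sq, h'.c2sq]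
  asq := by rw [c1_prod, c2_prod]; ext <;> simp [h.asq, h'.asq]
  prod := by
    rw [cj_prod, cj_prod, cj_prod, cj_prod, cj_prod]
    ext
    · simpa using h.prod
    · simpa using h'.prod

/-- von Dyck without presented groups: if `G` has order `320`, is generated by `a, ζ` satisfying the
relations, and `a', ζ'` satisfy the relations in `M`, then `a ↦ a'`, `ζ ↦ ζ'` extends to a
homomorphism. -/
theorem exists_hom [Finite G] {a ζ : G} {a' ζ' : M} (hgen : closure ({a, ζ} : Set G) = ⊤)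
    (hcard : Nat.card G = 320) (h : Rel a ζ) (h' : Rel a' ζ') :
    ∃ ψ : G →* M, ψ a = a' ∧ ψ ζ = ζ' := by
  set Δ : Subgroup (G × M) := closure ({((a, a') : G × M), (ζ, ζ')} : Set (G × M)) with hΔ
  obtain ⟨hfin, hle⟩ := (rel_prod h h').card_closure_le
  haveI : Finite ↥Δ := hfin
  have haΔ : ((a, a') : G × M) ∈ Δ := subset_closure (by simp)
  have hζΔ : ((ζ, ζ') : G × M) ∈ Δ := subset_closure (by simp)
  let π₁ : ↥Δ →* G := (MonoidHom.fst G M).comp Δ.subtype
  let π₂ : ↥Δ →* M := (MonoidHom.snd G M).comp Δ.subtype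
  have hsurj : Function.Surjective π₁ := by
    rw [← MonoidHom.range_eq_top, eq_top_iff, ← hgen, closure_le]
    intro x hx
    simp only [Set.mem_insert_iff, Set.mem_singleton_iff] at hx
    rcases hx with rfl | rfl
    · exact ⟨⟨_, haΔ⟩, rfl⟩
    · exact ⟨⟨_, hζΔ⟩, rfl⟩
  have hbij : Function.Bijective π₁ :=
    hsurj.bijective_of_nat_card_le (by rw [hcard]; exact hle)
  let e : ↥Δ ≃* G := MulEquiv.ofBijective π₁ hbij
  refine ⟨π₂.comp e.symm.toMonoidHom, ?_, ?_⟩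
  · have : e.symm a = ⟨_, haΔ⟩ := by
      rw [MulEquiv.symm_apply_eq]; rfl
    show π₂ (e.symm a) = a'
    rw [this]; rfl
  · have : e.symm ζ = ⟨_, hζΔ⟩ := by
      rw [MulEquiv.symm_apply_eq]; rfl
    show π₂ (e.symm ζ) = ζ'
    rw [this]; rfl

end graph

end Cfsg.Agent.Helper39.G320B
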