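import Mathlib
import Cfsg.Agent.Lib.Helper39.G320A2
import Cfsg.Agent.Lib.Helper39.G320B

/-!
# Groups of order 320 with derived subgroup of order 64 whose centre is a four-group: generators

We produce generators `a, ζ` satisfying the relations `G320B.Rel`, and show that every nontrivial
normal subgroup contains one of the three involutions of `G''`.
-/

set_option autoImplicit false
set_option linter.unusedSectionVars false
set_option linter.style.haveILetI false

namespace Cfsg.Agent.Helper39.G320A3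

open Subgroup
open scoped commutatorElement
open Cfsg.Agent.Helper39.G320A Cfsg.Agent.Helper39.G320A2 Cfsg.Agent.Helper39.G320B

section general

variable {G : Type*} [Group G]

theorem comm_mem_left (T : Subgroup G) [hT : T.Normal] (S : Set G) (y : G)
    (hS : ∀ x ∈ S, ⁅x, y⁆ ∈ T) : ∀ x ∈ closure S, ⁅x, y⁆ ∈ T := by
  intro x hx
  induction hx using Subgroup.closure_induction with
  | mem x hx => exact hS x hx
  | one => simp
  | mul x₁ x₂ _ _ h1 h2 =>
    have e : ⁅x₁ * x₂, y⁆ = x₁ * ⁅x₂, y⁆ * x₁⁻¹ * ⁅x₁, y⁆ := by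
      simp only [commutatorElement_def]; group
    rw [e]; exact T.mul_mem (hT.conj_mem _ h2 _) h1
  | inv x _ h =>
    have e : ⁅x⁻¹, y⁆ = x⁻¹ * (⁅x, y⁆)⁻¹ * x⁻¹⁻¹ := by
      simp only [commutatorElement_def]; group
    rw [e]; exact hT.conj_mem _ (T.inv_mem h) _

/-- if the commutators of the generators lie in a normal subgroup, so do all commutators -/
theorem comm_mem_of_gen (T : Subgroup G) [hT : T.Normal] (S : Set G)
    (hS : ∀ x ∈ S, ∀ y ∈ S, ⁅x, y⁆ ∈ T) : ∀ x ∈ closure S, ∀ y ∈ closure S, ⁅x, y⁆ ∈ T := by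
  have h1 : ∀ y ∈ S, ∀ x ∈ closure S, ⁅x, y⁆ ∈ T := fun y hy =>
    comm_mem_left T S y (fun x hx => hS x hx y hy)
  intro x hx y hy
  have h2 : ⁅y, x⁆ ∈ T := by
    apply comm_mem_left T S x _ y hy
    intro y' hy'
    rw [← commutatorElement_inv]
    exact T.inv_mem (h1 y' hy' x hx)
  rw [← commutatorElement_inv]
  exact T.inv_mem h2

lemma map_cj {M : Type*} [Group M] (f : G →* M) (a ζ : G) (i : ℕ) :
    f (cj a ζ i) = cj (f a) (f ζ) i := by
  simp [cj]

lemma map_c1 {M : Type*} [Group M] (f : G →* M) (a ζ : G) : f (c1 a ζ) = c1 (f a) (f ζ) := by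
  simp [c1, map_cj, map_commutatorElement]

lemma map_c2 {M : Type*} [Group M] (f : G →* M) (a ζ : G) : f (c2 a ζ) = c2 (f a) (f ζ) := by
  simp [c2, map_cj, map_commutatorElement]

lemma cj_mem_closure (a ζ : G) (i : ℕ) : cj a ζ i ∈ closure ({a, ζ} : Set G) := by
  have ha : a ∈ closure ({a, ζ} : Set G) := subset_closure (by simp)
  have hζ : ζ ∈ closure ({a, ζ} : Set G) := subset_closure (by simp)
  unfold cj
  exact mul_mem (mul_mem (pow_mem hζ i) ha) (inv_mem (pow_mem hζ i))

lemma comm_mem {H : Subgroup G} {x y : G} (hx : x ∈ H) (hy : y ∈ H) : ⁅x, y⁆ ∈ H := by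
  rw [commutatorElement_def]
  exact mul_mem (mul_mem (mul_mem hx hy) (inv_mem hx)) (inv_mem hy)

lemma cj_comm (x ζ : G) (i : ℕ) :
    cj ⁅x, ζ⁆ ζ i = cj x ζ i * (cj x ζ (i + 1))⁻¹ := by
  unfold cj
  rw [pow_succ, commutatorElement_def]
  group

/-- the product of the five conjugates of `⁅x, ζ⁆` telescopes -/
lemma telescope (x ζ : G) (h5 : ζ ^ 5 = 1) :
    cj ⁅x, ζ⁆ ζ 0 * cj ⁅x, ζ⁆ ζ 1 * cj ⁅x, ζ⁆ ζ 2 * cj ⁅x, ζ⁆ ζ 3 * cj ⁅x, ζ⁆ ζ 4 = 1 := by
  rw [cj_comm, cj_comm, cj_comm, cj_comm, cj_comm]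
  have e5 : cj x ζ (4 + 1) = cj x ζ 0 := by
    unfold cj; rw [show 4 + 1 = 5 from rfl, h5]; simp
  rw [e5]
  group

end general

section main

variable {G : Type*} [Group G] [Finite G]
variable (hG : Nat.card G = 320) (hD : Nat.card (commutator G) = 64) {ζ : G}
  (hζ : orderOf ζ = 5) (hZ : IsKleinFour (center (commutator G)))

omit [Finite G] in
lemma cj_mem {a : G} (ha : a ∈ commutator G) (i : ℕ) : cj a ζ i ∈ commutator G :=
  (inferInstance : (commutator G).Normal).conj_mem a ha (ζ ^ i)

include hG hD hζ in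
lemma central {d : G} (hd : d ∈ DD G) (g : G) : Commute d g := by
  have := DD_le_center hG hD hζ hd
  rw [mem_center_iff] at this
  exact (this g).symm

include hG hD hζ hZ in
/-- the relations hold for `a = ⁅x, ζ⁆`, `x ∈ P` -/
theorem rel_of {x : G} (hx : x ∈ commutator G) : Rel ⁅x, ζ⁆ ζ := by
  have ha : ⁅x, ζ⁆ ∈ commutator G :=
    Subgroup.commutator_mem_commutator (Subgroup.mem_top x) (Subgroup.mem_top ζ)
  have hz5 := zeta_pow hG hD hζ
  have hc1 : c1 ⁅x, ζ⁆ ζ ∈ DD G := Subgroup.commutator_mem_commutator ha (cj_mem ha 1)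
  have hc2 : c2 ⁅x, ζ⁆ ζ ∈ DD G := Subgroup.commutator_mem_commutator ha (cj_mem ha 2)
  have hpre : PreRel ⁅x, ζ⁆ ζ :=
    { z5 := hz5
      c1a := central hG hD hζ hc1 _
      c1z := central hG hD hζ hc1 _
      c2a := central hG hD hζ hc2 _
      c2z := central hG hD hζ hc2 _
      c1sq := by rw [pow_two]; exact DD_sq hG hD hζ hZ _ hc1
      c2sq := by rw [pow_two]; exact DD_sq hG hD hζ hZ _ hc2
      prod := telescope x ζ hz5 }
  have hsq : ⁅x, ζ⁆ ^ 2 ∈ DD G := by rw [pow_two]; exact sq_mem hG hD hζ ha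
  exact { toPreRel := hpre
          asq := hpre.asq_of (central hG hD hζ hsq ζ)
            (by rw [pow_two]; exact DD_sq hG hD hζ hZ _ hsq) }

include hG hD hζ in
/-- `⁅x, ζ⁆ ∉ D` for `x ∈ P ∖ D` -/
lemma comm_notMem {x : G} (hx : x ∈ commutator G) (hxD : x ∉ DD G) : ⁅x, ζ⁆ ∉ DD G := by
  intro h
  apply hxD
  apply fpf hG hD hζ hx
  rw [← commutatorElement_inv]
  exact (DD G).inv_mem h

include hG hD hζ hZ in
/-- `D` is generated by the two structure constants -/
theorem DD_le_closure {a : G} (ha : a ∈ commutator G) (haD : a ∉ DD G) (h : Rel a ζ) :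
    (∀ x ∈ commutator G, x ∈ closure ({x | ∃ i < 4, x = cj a ζ i} ∪ (DD G : Set G))) ∧
      DD G ≤ closure ({c1 a ζ, c2 a ζ} : Set G) := by
  have hc1 : c1 a ζ ∈ DD G := Subgroup.commutator_mem_commutator ha (cj_mem ha 1)
  have hc2 : c2 a ζ ∈ DD G := Subgroup.commutator_mem_commutator ha (cj_mem ha 2)
  set T : Subgroup G := closure ({c1 a ζ, c2 a ζ} : Set G) with hT
  have hTD : T ≤ DD G := by
    rw [hT, closure_le]
    intro y hy
    simp only [Set.mem_insert_iff, Set.mem_singleton_iff] at hy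
    rcases hy with rfl | rfl
    · exact hc1
    · exact hc2
  haveI hTn : T.Normal := by
    constructor
    intro n hn g
    have := (central hG hD hζ (hTD hn) g).eq
    have e : g * n * g⁻¹ = n := by rw [← this]; group
    rw [e]; exact hn
  have hc1T : c1 a ζ ∈ T := subset_closure (by simp)
  have hc2T : c2 a ζ ∈ T := subset_closure (by simp)
  set S : Set G := {x | ∃ i < 4, x = cj a ζ i} ∪ (DD G : Set G) with hS
  set W : Subgroup G := closure S with hW
  have hcjW : ∀ i < 4, cj a ζ i ∈ W := fun i hi => subset_closure (Or.inl ⟨i, hi, rfl⟩)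
  have hDW : DD G ≤ W := fun d hd => subset_closure (Or.inr hd)
  have hWP : W ≤ commutator G := by
    rw [hW, closure_le]
    rintro y (⟨i, -, rfl⟩ | hy)
    · exact cj_mem ha i
    · exact DD_le hy
  have h4 : cj a ζ 4 ∈ W := by
    have h4' : cj a ζ 4 = (cj a ζ 0 * cj a ζ 1 * cj a ζ 2 * cj a ζ 3)⁻¹ :=
      (inv_eq_of_mul_eq_one_right h.prod).symm
    rw [h4']
    exact W.inv_mem (W.mul_mem (W.mul_mem (W.mul_mem (hcjW 0 (by norm_num)) (hcjW 1 (by norm_num)))
      (hcjW 2 (by norm_num))) (hcjW 3 (by norm_num)))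
  have hinv : ∀ w ∈ W, ζ * w * ζ⁻¹ ∈ W := by
    intro w hw
    induction hw using Subgroup.closure_induction with
    | mem y hy =>
      rcases hy with ⟨i, hi, rfl⟩ | hy
      · rw [conj_cj]
        by_cases h3 : i + 1 < 4
        · exact hcjW _ h3
        · have : i + 1 = 4 := by omega
          rw [this]; exact h4
      · rw [zeta_comm_DD hG hD hζ y hy]; exact hDW hy
    | one => simp
    | mul y₁ y₂ _ _ h1 h2 =>
      have e : ζ * (y₁ * y₂) * ζ⁻¹ = (ζ * y₁ * ζ⁻¹) * (ζ * y₂ * ζ⁻¹) := by group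
      rw [e]; exact W.mul_mem h1 h2
    | inv y _ h1 =>
      have e : ζ * y⁻¹ * ζ⁻¹ = (ζ * y * ζ⁻¹)⁻¹ := by group
      rw [e]; exact W.inv_mem h1
  have hWeq : W = commutator G := by
    apply irred hG hD hζ W hDW hWP hinv
    refine ⟨a, ?_, haD⟩
    have := hcjW 0 (by norm_num)
    rwa [cj_zero] at this
  -- commutators of the generators
  have hlow : ∀ i j, j < i → i < 4 → ⁅cj a ζ i, cj a ζ j⁆ ∈ T := by
    intro i j hji hi
    have hp := h.toPreRel
    interval_cases i
    · omega
    · interval_cases j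
      rw [hp.comm10]; exact hc1T
    · interval_cases j
      · rw [hp.comm20]; exact hc2T
      · rw [hp.comm21]; exact hc1T
    · interval_cases j
      · rw [hp.comm30]; exact hc2T
      · rw [hp.comm31]; exact hc2T
      · rw [hp.comm32]; exact hc1T
  have hgen : ∀ x ∈ S, ∀ y ∈ S, ⁅x, y⁆ ∈ T := by
    rintro x (⟨i, hi, rfl⟩ | hx) y (⟨j, hj, rfl⟩ | hy)
    · rcases lt_trichotomy i j with hij | rfl | hij
      · rw [← commutatorElement_inv]
        exact T.inv_mem (hlow j i hij hj)
      · rw [commutatorElement_self]; exact T.one_mem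
      · exact hlow i j hij hi
    · rw [commutatorElement_eq_one_iff_commute.mpr (central hG hD hζ hy _).symm]
      exact T.one_mem
    · rw [commutatorElement_eq_one_iff_commute.mpr (central hG hD hζ hx _)]
      exact T.one_mem
    · rw [commutatorElement_eq_one_iff_commute.mpr (central hG hD hζ hx _)]
      exact T.one_mem
  have hall := comm_mem_of_gen T S hgen
  refine ⟨fun x hx => by rw [← hWeq] at hx; exact hx, ?_⟩
  show ⁅commutator G, commutator G⁆ ≤ T
  rw [Subgroup.commutator_le]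
  intro x hx y hy
  rw [← hWeq] at hx hy
  exact hall x hx y hy

include hG hD hζ hZ in
/-- `a` and `ζ` generate `G` -/
theorem closure_eq_top {a : G} (ha : a ∈ commutator G) (haD : a ∉ DD G) (h : Rel a ζ) :
    closure ({a, ζ} : Set G) = ⊤ := by
  obtain ⟨h1, h2⟩ := DD_le_closure hG hD hζ hZ ha haD h
  set H : Subgroup G := closure ({a, ζ} : Set G) with hH
  have haH : a ∈ H := subset_closure (by simp)
  have hc1 : c1 a ζ ∈ H := comm_mem haH (cj_mem_closure a ζ 1)
  have hc2 : c2 a ζ ∈ H := comm_mem haH (cj_mem_closure a ζ 2)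
  have hDH : DD G ≤ H := by
    refine h2.trans ?_
    rw [closure_le]
    intro y hy
    simp only [Set.mem_insert_iff, Set.mem_singleton_iff] at hy
    rcases hy with rfl | rfl
    · exact hc1
    · exact hc2
  have hPH : commutator G ≤ H := by
    intro x hx
    have := h1 x hx
    revert this
    apply (closure_le H).mpr
    rintro y (⟨i, -, rfl⟩ | hy)
    · exact cj_mem_closure a ζ i
    · exact hDH hy
  have hζH : ζ ∈ H := subset_closure (by simp)
  rw [eq_top_iff, ← sup_zpowers hG hD hζ]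
  exact sup_le hPH ((zpowers_le).mpr hζH)

include hG hD hζ in
/-- every nontrivial normal subgroup meets `D` nontrivially -/
theorem exists_mem_DD_of_normal (N : Subgroup G) [hN : N.Normal] (hNb : N ≠ ⊥) :
    ∃ d ∈ N, d ∈ DD G ∧ d ≠ 1 := by
  haveI : Fact (Nat.Prime 5) := ⟨by norm_num⟩
  have hPn : (commutator G).Normal := inferInstance
  by_cases hK : N ⊓ commutator G = ⊥
  · exfalso
    obtain ⟨⟨n, hn⟩, hn1⟩ := Subgroup.ne_bot_iff_exists_ne_one.mp hNb
    have hn1' : n ≠ 1 := fun h => hn1 (Subtype.ext h)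
    have hidx : (commutator G).index = 5 := by
      have := Subgroup.card_mul_index (commutator G)
      rw [hD, hG] at this
      omega
    have hn5 : n ^ 5 = 1 := by
      have h1 : n ^ 5 ∈ commutator G := by
        rw [← hidx]; exact Subgroup.pow_index_mem _ n
      have h2 : n ^ 5 ∈ N ⊓ commutator G := ⟨N.pow_mem hn 5, h1⟩
      rw [hK, mem_bot] at h2
      exact h2
    have hord : orderOf n = 5 := orderOf_eq_prime hn5 hn1'
    apply DD_ne (G := G) hD
    apply le_antisymm DD_le
    intro x hx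
    apply fpf hG hD hord hx
    have h1 : ⁅n, x⁆ ∈ N ⊓ commutator G := by
      constructor
      · rw [commutatorElement_def]
        have : n * x * n⁻¹ * x⁻¹ = n * (x * n⁻¹ * x⁻¹) := by group
        rw [this]
        exact N.mul_mem hn (hN.conj_mem _ (N.inv_mem hn) x)
      · rw [commutatorElement_def]
        exact (commutator G).mul_mem (hPn.conj_mem x hx n) ((commutator G).inv_mem hx)
    rw [hK, mem_bot] at h1
    rw [h1]; exact (DD G).one_mem
  · set K : Subgroup G := N ⊓ commutator G with hKdef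
    by_cases hKD : K ≤ DD G
    · obtain ⟨⟨k, hk⟩, hk1⟩ := Subgroup.ne_bot_iff_exists_ne_one.mp hK
      exact ⟨k, hk.1, hKD hk, fun h => hk1 (Subtype.ext h)⟩
    · obtain ⟨k, hk, hkD⟩ := SetLike.not_le_iff_exists.mp hKD
      haveI hKn : K.Normal := inferInstance
      have hW : K ⊔ DD G = commutator G := by
        apply irred hG hD hζ (K ⊔ DD G) le_sup_right (sup_le inf_le_right DD_le)
        · intro w hw
          exact (inferInstance : (K ⊔ DD G).Normal).conj_mem w hw ζ
        · exact ⟨k, le_sup_left (a := K) hk, hkD⟩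
      have hgen : ∀ x ∈ (K : Set G) ∪ (DD G : Set G), ∀ y ∈ (K : Set G) ∪ (DD G : Set G),
          ⁅x, y⁆ ∈ K := by
        rintro x (hx | hx) y (hy | hy)
        · exact comm_mem hx hy
        · rw [commutatorElement_eq_one_iff_commute.mpr (central hG hD hζ hy _).symm]
          exact K.one_mem
        · rw [commutatorElement_eq_one_iff_commute.mpr (central hG hD hζ hx _)]
          exact K.one_mem
        · rw [commutatorElement_eq_one_iff_commute.mpr (central hG hD hζ hx _)]
          exact K.one_mem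
      have hall := comm_mem_of_gen K _ hgen
      have hPle : commutator G ≤ closure ((K : Set G) ∪ (DD G : Set G)) := by
        rw [← hW, Subgroup.closure_union, Subgroup.closure_eq, Subgroup.closure_eq]
      have hDK : DD G ≤ K := by
        show ⁅commutator G, commutator G⁆ ≤ K
        rw [Subgroup.commutator_le]
        intro x hx y hy
        exact hall x (hPle hx) y (hPle hy)
      have hcard : Nat.card (DD G) = 4 := (card_BB_DD hG hD hζ).2
      haveI : Nontrivial (DD G) := by
        rw [← Finite.one_lt_card_iff_nontrivial, hcard]; norm_num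
      obtain ⟨⟨d, hd⟩, hd1⟩ := exists_ne (1 : DD G)
      exact ⟨d, (hDK hd).1, hd, fun h => hd1 (Subtype.ext h)⟩

end main

/-- the generators: a group of order `320` with derived subgroup of order `64` whose centre is a
four-group is generated by `a, ζ` satisfying the relations, and each nontrivial normal subgroup
contains one of the three products of the structure constants. -/
theorem exists_gen {G : Type*} [Group G] [Finite G] (hG : Nat.card G = 320)
    (hD : Nat.card (commutator G) = 64) (hZ : IsKleinFour (center (commutator G))) :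
    ∃ a ζ : G, Rel a ζ ∧ closure ({a, ζ} : Set G) = ⊤ ∧
      ∀ N : Subgroup G, N.Normal → N ≠ ⊥ →
        (c1 a ζ ∈ N ∨ c2 a ζ ∈ N ∨ c1 a ζ * c2 a ζ ∈ N) := by
  obtain ⟨ζ, hζ, -⟩ := exists_zeta hG hD
  obtain ⟨x, hx, hxD⟩ : ∃ x ∈ commutator G, x ∉ DD G := by
    by_contra hcon
    push Not at hcon
    exact DD_ne (G := G) hD (le_antisymm DD_le hcon)
  have ha : ⁅x, ζ⁆ ∈ commutator G :=
    Subgroup.commutator_mem_commutator (Subgroup.mem_top x) (Subgroup.mem_top ζ)
  have haD := comm_notMem hG hD hζ hx hxD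
  have hrel := rel_of hG hD hζ hZ hx
  refine ⟨⁅x, ζ⁆, ζ, hrel, closure_eq_top hG hD hζ hZ ha haD hrel, ?_⟩
  intro N hN hNb
  haveI := hN
  obtain ⟨d, hdN, hdD, hd1⟩ := exists_mem_DD_of_normal hG hD hζ N hNb
  have hdT := (DD_le_closure hG hD hζ hZ ha haD hrel).2 hdD
  rcases hrel.toPreRel.mem_C0 hdT with h | h | h | h
  · exact absurd h hd1
  · exact Or.inl (h ▸ hdN)
  · exact Or.inr (Or.inl (h ▸ hdN))
  · exact Or.inr (Or.inr (h ▸ hdN))

end Cfsg.Agent.Helper39.G320A3
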