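import Mathlib
import Cfsg.Agent.Lib.Helper63.SU3Unip
import Cfsg.Agent.Lib.Helper63.PSUCent
import Cfsg.Agent.Lib.Helper39.G320B

/-!
# The model: an involution centralizer in `SU₃(4)`

Explicit matrices over a field with 16 elements: the unipotent elements `U(b, c)` and the diagonal
elements `D(l)`.
-/

set_option autoImplicit false
set_option linter.unusedSectionVars false
set_option linter.style.haveILetI false

namespace Cfsg.Agent.Helper39.G320C

open Matrix Cfsg.Agent.Lead Cfsg.Agent.Helper19 Cfsg.Agent.Helper63.SuzModel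
  Cfsg.Agent.Helper63.SU3
open scoped commutatorElement

variable {F : Type*} [Field F] [Fintype F] (hK : Fintype.card F = 4 ^ 2)

include hK in
lemma two_eq_zero : (2 : F) = 0 := by
  have h := FiniteField.cast_card_eq_zero F
  rw [hK] at h
  have h16 : (2 : F) ^ 4 = 0 := by
    have : ((4 ^ 2 : ℕ) : F) = (2 : F) ^ 4 := by norm_num
    rw [← this]; exact h
  exact (pow_eq_zero_iff (by norm_num)).mp h16

include hK in
lemma pow16 (x : F) : x ^ 16 = x := by
  have h := FiniteField.pow_card x
  rw [hK] at h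
  exact h

include hK in
/-- a primitive fifth root of unity -/
lemma exists_omega : ∃ ω : F, ω ^ 4 + ω ^ 3 + ω ^ 2 + ω + 1 = 0 := by
  haveI : Fact (Nat.Prime 5) := ⟨by norm_num⟩
  have hc : Nat.card Fˣ = 15 := by
    rw [Nat.card_units, Nat.card_eq_fintype_card, hK]; norm_num
  obtain ⟨u, hu⟩ := exists_prime_orderOf_dvd_card' (G := Fˣ) 5 (by rw [hc]; norm_num)
  have h5 : (u : F) ^ 5 = 1 := by
    have : u ^ 5 = 1 := by rw [← hu]; exact pow_orderOf_eq_one u
    have := congrArg Units.val this
    simpa using this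
  have h1 : (u : F) ≠ 1 := by
    intro h
    have : u = 1 := Units.ext h
    rw [this, orderOf_one] at hu
    norm_num at hu
  refine ⟨u, ?_⟩
  have hm : ((u : F) - 1) * ((u : F) ^ 4 + (u : F) ^ 3 + (u : F) ^ 2 + (u : F) + 1) = 0 := by
    linear_combination h5
  rcases mul_eq_zero.mp hm with h | h
  · exact absurd (sub_eq_zero.mp h) h1
  · exact h

/-- the unipotent matrices -/
def Umat (b c : F) : Matrix (Fin 3) (Fin 3) F := !![c + 1, c, b ^ 4; c, c + 1, b ^ 4; b, b, 1]

/-- the diagonal matrices -/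
def Dmat (l : F) : Matrix (Fin 3) (Fin 3) F := Matrix.diagonal ![l, l, l ^ 3]

include hK in
lemma det_Umat (b c : F) : (Umat b c).det = 1 := by
  have h2 := two_eq_zero hK
  rw [Matrix.det_fin_three]
  simp only [Umat, Matrix.of_apply, Matrix.cons_val', Matrix.cons_val_zero, Matrix.cons_val_one,
    Matrix.cons_val_two, Matrix.empty_val', Matrix.cons_val_fin_one, Matrix.head_cons,
    Matrix.tail_cons, Matrix.head_fin_const]
  linear_combination (c - b ^ 5) * h2

include hK in
/-- a matrix with orthonormal columns preserves the form -/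
lemma pres_of_cols (M : Matrix (Fin 3) (Fin 3) F)
    (h : ∀ j k, ∑ i, M i j * (M i k) ^ 4 = if j = k then 1 else 0) (u v : Fin 3 → F) :
    Cfsg.hermForm 3 F 4 (M *ᵥ u) (M *ᵥ v) = Cfsg.hermForm 3 F 4 u v := by
  have hM : colMat (fun j i => M i j) = M := by
    ext i j; rfl
  have := colMat_preserves hK (fun j i => M i j) (by
    intro j k
    rw [stdHerm_apply]
    exact h j k) u v
  rw [hM] at this
  exact this

include hK in
lemma Umat_cols (b c : F) (hrel : c + c ^ 4 + b * b ^ 4 = 0) (j k : Fin 3) :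
    ∑ i, Umat b c i j * (Umat b c i k) ^ 4 = if j = k then 1 else 0 := by
  have h2 := two_eq_zero hK
  have hb := pow16 hK b
  fin_cases j <;> fin_cases k <;>
    simp [Fin.sum_univ_three, Umat]
  · linear_combination ((5)) * hrel + ((-2) * b^5 + (5) * c^2 + (5) * c^3 + c^5) * h2
  · linear_combination ((5)) * hrel + ((-2) * b^5 + (-2) * c + (2) * c^2 + (3) * c^3 + c^5) * h2
  · linear_combination ((1)) * hb + (b + b^16 * c) * h2
  · linear_combination ((5)) * hrel + ((-2) * b^5 + (-2) * c + (2) * c^2 + (3) * c^3 + c^5) * h2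
  · linear_combination ((5)) * hrel + ((-2) * b^5 + (5) * c^2 + (5) * c^3 + c^5) * h2
  · linear_combination ((1)) * hb + (b + b^16 * c) * h2
  · linear_combination (b^4 + (2) * b^4 * c + (3) * b^4 * c^2 + (2) * b^4 * c^3 + b^4 * c^4) * h2
  · linear_combination (b^4 + (2) * b^4 * c + (3) * b^4 * c^2 + (2) * b^4 * c^3 + b^4 * c^4) * h2
  · linear_combination (b^20) * h2

/-- the model group -/
abbrev UMF := UM (frobQ hK) (frobQ_frobQ hK)

lemma UMF_rel (x : UMF hK) : x.c + x.c ^ 4 + x.b * x.b ^ 4 = 0 := by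
  have := x.rel
  simpa [frobQ_apply] using this

/-- the unipotent elements -/
def uEl (x : UMF hK) : Cfsg.SU 3 F 4 :=
  ⟨⟨Umat x.b x.c, det_Umat hK x.b x.c⟩,
    fun u v => pres_of_cols hK _ (Umat_cols hK x.b x.c (UMF_rel hK x)) u v⟩

lemma mat_uEl (x : UMF hK) : mat (uEl hK x) = Umat x.b x.c := rfl

include hK in
lemma Umat_mul (b c b' c' : F) :
    Umat b c * Umat b' c' = Umat (b + b') (c + c' - b ^ 4 * b') := by
  have h2 := two_eq_zero hK
  ext i j
  fin_cases i <;> fin_cases j <;>
    simp [Umat, Matrix.mul_apply, Fin.sum_univ_three]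
  · linear_combination (b^4 * b' + c * c') * h2
  · linear_combination (b^4 * b' + c * c') * h2
  · linear_combination ((-2) * b * b'^3 + (-3) * b^2 * b'^2 + (-2) * b^3 * b' + b'^4 * c) * h2
  · linear_combination (b^4 * b' + c * c') * h2
  · linear_combination (b^4 * b' + c * c') * h2
  · linear_combination ((-2) * b * b'^3 + (-3) * b^2 * b'^2 + (-2) * b^3 * b' + b'^4 * c) * h2
  · linear_combination (b * c') * h2
  · linear_combination (b * c') * h2
  · linear_combination (b * b'^4) * h2

/-- the unipotent elements form a subgroup isomorphic to the model group -/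
def uHom : UMF hK →* Cfsg.SU 3 F 4 where
  toFun := uEl hK
  map_one' := by
    apply mat_injective
    rw [mat_uEl, mat_one]
    ext i j
    fin_cases i <;> fin_cases j <;> simp [Umat]
  map_mul' x y := by
    apply mat_injective
    rw [mat_mul, mat_uEl, mat_uEl, mat_uEl, Umat_mul hK]
    rfl

lemma mat_uHom (x : UMF hK) : mat (uHom hK x) = Umat x.b x.c := rfl

lemma uHom_injective : Function.Injective (uHom hK) := by
  intro x y hxy
  have h := congrArg mat hxy
  rw [mat_uHom, mat_uHom] at h
  have h1 := congrFun (congrFun h 2) 0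
  have h2 := congrFun (congrFun h 0) 1
  simp [Umat] at h1 h2
  exact UM.ext h1 h2

lemma det_Dmat (l : F) (hl : l ^ 5 = 1) : (Dmat l).det = 1 := by
  rw [Dmat, Matrix.det_diagonal, Fin.prod_univ_three]
  simp
  linear_combination hl

/-- the diagonal elements -/
def dEl (l : F) (hl : l ^ 5 = 1) : Cfsg.SU 3 F 4 :=
  ⟨⟨Dmat l, det_Dmat l hl⟩, Cfsg.Agent.Helper5.mem_SU_of_val_eq_diagonal _ ![l, l, l ^ 3] rfl (by
    intro k
    fin_cases k
    · simpa using hl
    · simpa using hl
    · show (l ^ 3) ^ (4 + 1) = 1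
      rw [← pow_mul, mul_comm, pow_mul, hl, one_pow])⟩

lemma mat_dEl (l : F) (hl : l ^ 5 = 1) : mat (dEl l hl) = Dmat l := rfl

lemma dEl_mul (l m : F) (hl : l ^ 5 = 1) (hm : m ^ 5 = 1) :
    dEl l hl * dEl m hm = dEl (l * m) (by rw [mul_pow, hl, hm, one_mul]) := by
  apply mat_injective
  rw [mat_mul, mat_dEl, mat_dEl, mat_dEl, Dmat, Dmat, Dmat, Matrix.diagonal_mul_diagonal]
  congr 1
  ext k
  fin_cases k <;> simp [mul_pow]

lemma dEl_one : dEl (1 : F) (one_pow 5) = 1 := by
  apply mat_injective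
  rw [mat_dEl, mat_one, Dmat]
  ext i j
  fin_cases i <;> fin_cases j <;> simp

lemma dEl_pow (l : F) (hl : l ^ 5 = 1) (n : ℕ) :
    dEl l hl ^ n = dEl (l ^ n) (by rw [← pow_mul, mul_comm, pow_mul, hl, one_pow]) := by
  induction n with
  | zero => simp only [pow_zero]; exact dEl_one.symm
  | succ n ih =>
    rw [pow_succ, ih, dEl_mul]
    congr 1
    exact (pow_succ l n).symm

/-- the rotated element of the model group -/
def rot (l : F) (hl : l ^ 5 = 1) (x : UMF hK) : UMF hK :=
  ⟨l ^ 2 * x.b, x.c, by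
    have := UMF_rel hK x
    simp only [frobQ_apply]
    linear_combination this + (x.b ^ 5 * (l ^ 5 + 1)) * hl⟩

include hK in
lemma Dmat_mul_Umat (l : F) (hl : l ^ 5 = 1) (b c : F) :
    Dmat l * Umat b c = Umat (l ^ 2 * b) c * Dmat l := by
  ext i j
  fin_cases i <;> fin_cases j <;>
    simp [Umat, Dmat, Matrix.mul_apply, Fin.sum_univ_three]
  · ring
  · ring
  · linear_combination (-(b ^ 4 * l * (l ^ 5 + 1))) * hl
  · ring
  · ring
  · linear_combination (-(b ^ 4 * l * (l ^ 5 + 1))) * hl
  · ring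
  · ring

/-- conjugation by a diagonal element rotates the unipotent elements -/
lemma dEl_conj (l : F) (hl : l ^ 5 = 1) (x : UMF hK) :
    dEl l hl * uHom hK x * (dEl l hl)⁻¹ = uHom hK (rot hK l hl x) := by
  rw [mul_inv_eq_iff_eq_mul]
  apply mat_injective
  rw [mat_mul, mat_mul, mat_dEl, mat_uHom, mat_uHom]
  exact Dmat_mul_Umat hK l hl x.b x.c

end Cfsg.Agent.Helper39.G320C
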