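import Mathlib
import Cfsg.Agent.Lib.Helper39.G320C

/-!
# The model: the relations hold in `SU₃(4)`
-/

set_option autoImplicit false
set_option linter.unusedSectionVars false
set_option linter.unusedVariables false
set_option linter.style.haveILetI false

namespace Cfsg.Agent.Helper39.G320D

open Matrix Cfsg.Agent.Lead Cfsg.Agent.Helper19 Cfsg.Agent.Helper63.SuzModel
  Cfsg.Agent.Helper63.SU3 Cfsg.Agent.Helper39.G320B Cfsg.Agent.Helper39.G320C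
open scoped commutatorElement

variable {F : Type*} [Field F] [Fintype F] (hK : Fintype.card F = 4 ^ 2)

@[simp] lemma rot_b (l : F) (hl : l ^ 5 = 1) (x : UMF hK) : (rot hK l hl x).b = l ^ 2 * x.b := rfl
@[simp] lemma rot_c (l : F) (hl : l ^ 5 = 1) (x : UMF hK) : (rot hK l hl x).c = x.c := rfl

variable {ω : F} (hω : ω ^ 4 + ω ^ 3 + ω ^ 2 + ω + 1 = 0)

include hω in
lemma omega5 : ω ^ 5 = 1 := by linear_combination (ω - 1) * hω

include hω in
lemma omega5_pow (i : ℕ) : (ω ^ i) ^ 5 = 1 := by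
  rw [← pow_mul, mul_comm, pow_mul, omega5 hω, one_pow]

omit hω in
/-- the generator `a` in the model group -/
def x0 (ω : F) (hω : ω ^ 4 + ω ^ 3 + ω ^ 2 + ω + 1 = 0) : UMF hK := ⟨1, ω ^ 3 + ω ^ 4, by
  have h2 := two_eq_zero hK
  simp only [frobQ_apply]
  linear_combination ((1) + (-1) * ω + ω^3 + (-1) * ω^6 + ω^8 + (-1) * ω^11 + ω^12) * hω + ((2) * ω^13 + (3) * ω^14 + (2) * ω^15) * h2⟩

/-- the conjugates of the generator in the model group -/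
def xi (ω : F) (hω : ω ^ 4 + ω ^ 3 + ω ^ 2 + ω + 1 = 0) (i : ℕ) : UMF hK :=
  rot hK (ω ^ i) (omega5_pow hω i) (x0 hK ω hω)

/-- the generator `a` -/
def aM (ω : F) (hω : ω ^ 4 + ω ^ 3 + ω ^ 2 + ω + 1 = 0) : Cfsg.SU 3 F 4 := uHom hK (x0 hK ω hω)

/-- the generator `ζ` -/
def zM (ω : F) (hω : ω ^ 4 + ω ^ 3 + ω ^ 2 + ω + 1 = 0) : Cfsg.SU 3 F 4 := dEl ω (omega5 hω)

lemma x0_b : (x0 hK ω hω).b = 1 := rfl
lemma x0_c : (x0 hK ω hω).c = ω ^ 3 + ω ^ 4 := rfl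
lemma xi_b (i : ℕ) : (xi hK ω hω i).b = (ω ^ i) ^ 2 * 1 := rfl
lemma xi_c (i : ℕ) : (xi hK ω hω i).c = ω ^ 3 + ω ^ 4 := rfl

lemma cj_eq (i : ℕ) : cj (aM hK ω hω) (zM ω hω) i = uHom hK (xi hK ω hω i) := by
  unfold cj aM zM
  rw [dEl_pow, dEl_conj]
  rfl

lemma xi_zero : xi hK ω hω 0 = x0 hK ω hω := by
  apply UM.ext
  · rw [xi_b, x0_b]; simp
  · rfl

omit hω in
lemma commute_of_b_zero (y x : UMF hK) (hy : y.b = 0) : Commute y x := by
  apply UM.ext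
  · simp only [mul_b]; ring
  · simp only [mul_c, hy, map_zero]; ring

omit hω in
lemma sq_of_b_zero (y : UMF hK) (hy : y.b = 0) : y * y = 1 := by
  have h2 := two_eq_zero hK
  apply UM.ext
  · simp only [mul_b, one_b, hy]; ring
  · simp only [mul_c, one_c, hy, map_zero]; linear_combination y.c * h2

omit hω in
lemma rot_of_b_zero (l : F) (hl : l ^ 5 = 1) (y : UMF hK) (hy : y.b = 0) :
    rot hK l hl y = y := by
  apply UM.ext
  · simp [hy]
  · rfl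

lemma c1_eq : c1 (aM hK ω hω) (zM ω hω) = uHom hK ⁅x0 hK ω hω, xi hK ω hω 1⁆ := by
  unfold c1; rw [cj_eq]; unfold aM; rw [← map_commutatorElement]

lemma c2_eq : c2 (aM hK ω hω) (zM ω hω) = uHom hK ⁅x0 hK ω hω, xi hK ω hω 2⁆ := by
  unfold c2; rw [cj_eq]; unfold aM; rw [← map_commutatorElement]

omit hK in
lemma zM_pow5 : zM ω hω ^ 5 = 1 := by
  unfold zM
  rw [dEl_pow]
  apply mat_injective
  rw [mat_dEl, mat_one, omega5 hω]
  have := congrArg mat (dEl_one (F := F))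
  rwa [mat_dEl, mat_one] at this

omit hω in
lemma commute_zM (ω : F) (hω : ω ^ 4 + ω ^ 3 + ω ^ 2 + ω + 1 = 0) (y : UMF hK) (hy : y.b = 0) :
    Commute (uHom hK y) (zM ω hω) := by
  have := dEl_conj hK ω (omega5 hω) y
  rw [rot_of_b_zero hK _ _ _ hy] at this
  exact (mul_inv_eq_iff_eq_mul.mp this).symm

lemma prod_eq_one :
    xi hK ω hω 0 * xi hK ω hω 1 * xi hK ω hω 2 * xi hK ω hω 3 * xi hK ω hω 4 = 1 := by
  have h2 := two_eq_zero hK
  apply UM.ext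
  · simp only [mul_b, one_b, xi_b]
    linear_combination ((1) + ω + ω^2 + (-1) * ω^3 + ω^4) * hω + ((-1) * ω + (-1) * ω^2 + (-1) * ω^3 + (-1) * ω^4 + (-1) * ω^5) * h2
  · simp only [mul_b, mul_c, one_c, xi_b, xi_c, frobQ_apply]
    linear_combination ((30) + (74) * ω + (-35) * ω^2 + (-58) * ω^3 + (-27) * ω^4 + (68) * ω^5 + (47) * ω^6 + (-30) * ω^7 + (-69) * ω^8 + (-16) * ω^9 + (2) * ω^10 + (47) * ω^11 + (-77) * ω^12 + (-42) * ω^13 + (31) * ω^14 + (41) * ω^15 + (-30) * ω^17 + (-42) * ω^18 + (31) * ω^19 + (-31) * ω^20 + ω^22 + (-1) * ω^23 + ω^27 + (-1) * ω^28) * hω + ((-15) + (-52) * ω + (-35) * ω^2 + (-3) * ω^3 + (10) * ω^4 + (-11) * ω^5 + (24) * ω^10 + (33) * ω^11 + (43) * ω^12 + (43) * ω^13 + (-25) * ω^18 + (12) * ω^20 + (36) * ω^21 + (-10) * ω^26 + (-5) * ω^28 + (-2) * ω^30) * h2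

lemma asq_eq :
    x0 hK ω hω * x0 hK ω hω = ⁅x0 hK ω hω, xi hK ω hω 1⁆ * ⁅x0 hK ω hω, xi hK ω hω 2⁆ := by
  have h2 := two_eq_zero hK
  apply UM.ext
  · simp only [mul_b, comm_b, x0_b]
    linear_combination h2
  · simp only [mul_c, comm_b, comm_c, x0_b, x0_c, xi_b, frobQ_apply]
    linear_combination ((3) + ω + (-1) * ω^2 + ω^3 + (-1) * ω^4 + ω^6 + (-1) * ω^7 + ω^11 + (-1) * ω^12) * hω + ((-2) + (-2) * ω + (-1) * ω^2 + (-1) * ω^3) * h2

theorem rel_model : Rel (aM hK ω hω) (zM ω hω) := by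
  have hpre : PreRel (aM hK ω hω) (zM ω hω) :=
    { z5 := zM_pow5 hω
      c1a := by
        rw [c1_eq]; unfold aM
        exact (commute_of_b_zero hK _ _ (comm_b _ _)).map (uHom hK)
      c1z := by rw [c1_eq]; exact commute_zM hK ω hω _ (comm_b _ _)
      c2a := by
        rw [c2_eq]; unfold aM
        exact (commute_of_b_zero hK _ _ (comm_b _ _)).map (uHom hK)
      c2z := by rw [c2_eq]; exact commute_zM hK ω hω _ (comm_b _ _)
      c1sq := by rw [c1_eq, pow_two, ← map_mul, sq_of_b_zero hK _ (comm_b _ _), map_one]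
      c2sq := by rw [c2_eq, pow_two, ← map_mul, sq_of_b_zero hK _ (comm_b _ _), map_one]
      prod := by
        rw [cj_eq, cj_eq, cj_eq, cj_eq, cj_eq, ← map_mul, ← map_mul, ← map_mul, ← map_mul,
          prod_eq_one, map_one] }
  exact { toPreRel := hpre
          asq := by
            rw [c1_eq, c2_eq, ← map_mul, pow_two]
            unfold aM
            rw [← map_mul, asq_eq] }

lemma y1c_ne : (⁅x0 hK ω hω, xi hK ω hω 1⁆ : UMF hK).c ≠ 0 := by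
  have h2 := two_eq_zero hK
  intro h
  simp only [comm_c, x0_b, xi_b, frobQ_apply] at h
  have : (1 : F) = 0 := by
    linear_combination ((1) + ω^2 + ω^3) * h - (((1) + (-1) * ω + ω^2 + (-3) * ω^3 + ω^4 + ω^5 + ω^7) * hω + ((-1) + (-1) * ω^2 + ω^3 + (-1) * ω^8 + (-1) * ω^9) * h2)
  exact one_ne_zero this

lemma y2c_ne : (⁅x0 hK ω hω, xi hK ω hω 2⁆ : UMF hK).c ≠ 0 := by
  have h2 := two_eq_zero hK
  intro h
  simp only [comm_c, x0_b, xi_b, frobQ_apply] at h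
  have : (1 : F) = 0 := by
    linear_combination (ω^2 + ω^3) * h - (((-1) + (-1) * ω + (-1) * ω^5 + ω^8 + (-1) * ω^10 + ω^13 + ω^15) * hω + (ω + ω^2 + ω^3 + ω^4 + ω^5 + (-1) * ω^15 + (-1) * ω^16 + (-1) * ω^17) * h2)
  exact one_ne_zero this

lemma y12c_ne : (⁅x0 hK ω hω, xi hK ω hω 1⁆ * ⁅x0 hK ω hω, xi hK ω hω 2⁆ : UMF hK).c ≠ 0 := by
  have h2 := two_eq_zero hK
  intro h
  simp only [mul_c, comm_b, comm_c, x0_b, xi_b, frobQ_apply] at h
  have : (1 : F) = 0 := by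
    linear_combination ((1)) * h - (((1) + (-1) * ω + ω^2 + (-1) * ω^3 + ω^4 + (-1) * ω^6 + ω^7 + (-1) * ω^11 + ω^12) * hω + ((-1) + (-1) * ω^2 + (-1) * ω^4) * h2)
  exact one_ne_zero this

omit hω in
lemma uHom_ne_one (y : UMF hK) (hy : y.c ≠ 0) : uHom hK y ≠ 1 := by
  intro h
  rw [← map_one (uHom hK)] at h
  have := uHom_injective hK h
  apply hy
  rw [this]; rfl

theorem c1_ne : c1 (aM hK ω hω) (zM ω hω) ≠ 1 := by
  rw [c1_eq]; exact uHom_ne_one hK _ (y1c_ne hK hω)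

theorem c2_ne : c2 (aM hK ω hω) (zM ω hω) ≠ 1 := by
  rw [c2_eq]; exact uHom_ne_one hK _ (y2c_ne hK hω)

theorem c12_ne : c1 (aM hK ω hω) (zM ω hω) * c2 (aM hK ω hω) (zM ω hω) ≠ 1 := by
  rw [c1_eq, c2_eq, ← map_mul]; exact uHom_ne_one hK _ (y12c_ne hK hω)

/-- the matrix of the involution `t = c₁` -/
theorem mat_c1 : ∃ c₀ : F, c₀ ≠ 0 ∧ mat (c1 (aM hK ω hω) (zM ω hω)) = Umat 0 c₀ := by
  refine ⟨_, y1c_ne hK hω, ?_⟩
  rw [c1_eq, mat_uHom, comm_b]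

end Cfsg.Agent.Helper39.G320D
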