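import Mathlib
import Cfsg.Agent.Lib.Helper39.G320C

/-!
# The model: the centralizer of a root involution in `SU₃(4)` has order at most `320`
-/

set_option autoImplicit false
set_option linter.unusedSectionVars false
set_option linter.unusedVariables false
set_option linter.style.haveILetI false

namespace Cfsg.Agent.Helper39.G320E

open Matrix Cfsg.Agent.Lead Cfsg.Agent.Helper19 Cfsg.Agent.Helper63.SuzModel
  Cfsg.Agent.Helper63.SU3 Cfsg.Agent.Helper39.G320C
open scoped commutatorElement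

variable {F : Type*} [Field F] [Fintype F] (hK : Fintype.card F = 4 ^ 2)

/-- the columns of a unitary matrix are orthonormal -/
lemma cols_of_SU (g : Cfsg.SU 3 F 4) (j k : Fin 3) :
    ∑ i, mat g i j * (mat g i k) ^ 4 = if j = k then 1 else 0 := by
  have := g.2 (Pi.single j 1) (Pi.single k 1)
  rw [hermForm_single_single (by norm_num)] at this
  rw [← this]
  unfold Cfsg.hermForm
  apply Finset.sum_congr rfl
  intro i _
  show _ = ((mat g) *ᵥ Pi.single j 1) i * ((mat g) *ᵥ Pi.single k 1) i ^ 4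
  rw [Matrix.mulVec_single_one, Matrix.mulVec_single_one]
  rfl

include hK in
theorem exists_decomp (g t : Cfsg.SU 3 F 4) (c₀ : F) (hc₀ : c₀ ≠ 0) (ht : mat t = Umat 0 c₀)
    (hgt : g * t = t * g) :
    ∃ (l : F) (hl : l ^ 5 = 1) (x : UMF hK), g = dEl l hl * uHom hK x := by
  have h2 := two_eq_zero hK
  have hM : mat g * Umat 0 c₀ = Umat 0 c₀ * mat g := by
    rw [← ht, ← mat_mul, ← mat_mul, hgt]
  have hdet : (mat g).det = 1 := g.1.2
  have c00 := cols_of_SU g 0 0
  have c01 := cols_of_SU g 0 1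
  have c02 := cols_of_SU g 0 2
  have c22 := cols_of_SU g 2 2
  obtain ⟨p, r, a, r', p', a', s, s', μ, hMeq⟩ : ∃ p r a r' p' a' s s' μ,
      mat g = !![p, r, a; r', p', a'; s, s', μ] :=
    ⟨_, _, _, _, _, _, _, _, _, Matrix.eta_fin_three (mat g)⟩
  rw [hMeq] at hM hdet c00 c01 c02 c22
  have e00 := congrFun (congrFun hM 0) 0
  have e01 := congrFun (congrFun hM 0) 1
  have e02 := congrFun (congrFun hM 0) 2
  have e20 := congrFun (congrFun hM 2) 0
  simp [Umat, Matrix.mul_apply, Fin.sum_univ_three] at e00 e01 e02 e20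
  rw [Matrix.det_fin_three] at hdet
  simp [Fin.sum_univ_three] at hdet c00 c01 c02 c22
  have hr' : r = r' := (mul_left_cancel₀ hc₀ (by linear_combination (-1 : F) * e00)).symm
  have hp' : p = p' := (mul_left_cancel₀ hc₀ (by linear_combination (-1 : F) * e01)).symm
  have ha' : -a = a' := (mul_left_cancel₀ hc₀ (by linear_combination (-1 : F) * e02)).symm
  have hs' : -s = s' := (mul_left_cancel₀ hc₀ (by linear_combination e20)).symm
  subst hr' hp' ha' hs'
  obtain ⟨l, hl⟩ : ∃ l, l = p + r := ⟨_, rfl⟩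
  have hr : l - p = r := by rw [hl]; ring
  subst hr
  clear hl e00 e01 e02 e20
  have L5 : l ^ 5 = 1 := by
    linear_combination ((1)) * c00 + ((1)) * c01 + ((-1) * l * p^4 + (2) * l^2 * p^3 + (-3) * l^3 * p^2 + (2) * l^4 * p + (-1) * s^5) * h2
  have D : μ * l ^ 2 = 1 := by
    linear_combination ((1)) * hdet + (a * l * s + (-1) * l * p * μ + l^2 * μ) * h2
  have h3 : μ = l ^ 3 := by linear_combination (-μ) * L5 + l ^ 3 * D
  have h1 : a ^ 4 = -(s * μ ^ 4 * l ^ 4) := by linear_combination l ^ 4 * c02 - a ^ 4 * L5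
  have h4 : a = s ^ 4 * l ^ 4 := by
    calc a = a ^ 16 := (pow16 hK a).symm
      _ = (a ^ 4) ^ 4 := by ring
      _ = (-(s * μ ^ 4 * l ^ 4)) ^ 4 := by rw [h1]
      _ = s ^ 4 * μ ^ 16 * l ^ 16 := by ring
      _ = s ^ 4 * μ * l := by rw [pow16 hK, pow16 hK]
      _ = s ^ 4 * l ^ 4 := by rw [h3]; ring
  refine ⟨l, L5, ⟨l ^ 2 * s, l ^ 4 * p + 1, ?_⟩, ?_⟩
  · simp only [frobQ_apply]
    linear_combination (l^10) * c01 + ((-1) * l^4 * p + (-1) * l^9 * p + l^11 * p^4) * L5 + ((1) + (2) * l^4 * p + (3) * l^8 * p^2 + (2) * l^11 * p^4 + (-1) * l^12 * p^3 + (2) * l^13 * p^2) * h2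
  · apply mat_injective
    rw [mat_mul, mat_dEl, mat_uHom, hMeq]
    ext i j
    fin_cases i <;> fin_cases j <;>
      simp [Umat, Dmat, Matrix.mul_apply, Fin.sum_univ_three]
    · linear_combination ((-1) * p) * L5 + ((-1) * l) * h2
    · linear_combination ((-1) * p) * L5 + ((-1) * p) * h2
    · linear_combination ((1)) * h4 + ((-1) * l^4 * s^4) * L5
    · linear_combination ((-1) * p) * L5 + ((-1) * p) * h2
    · linear_combination ((-1) * p) * L5 + ((-1) * l) * h2
    · linear_combination ((-1)) * h4 + ((-1) * l^4 * s^4) * L5 + ((-1) * l^4 * s^4) * h2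
    · linear_combination ((-1) * s) * L5
    · linear_combination ((-1) * s) * L5 + ((-1) * s) * h2
    · exact h3

lemma root_pow (u : rootsOfUnity 5 F) : ((u : Fˣ) : F) ^ 5 = 1 := by
  have h := (mem_rootsOfUnity 5 (u : Fˣ)).mp u.2
  have := congrArg Units.val h
  simpa using this

lemma dEl_congr {l m : F} (hl : l ^ 5 = 1) (hm : m ^ 5 = 1) (h : l = m) : dEl l hl = dEl m hm := by
  subst h; rfl

include hK in
/-- the centralizer of a root involution has at most `320` elements -/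
theorem card_centralizer_le (t : Cfsg.SU 3 F 4) (c₀ : F) (hc₀ : c₀ ≠ 0)
    (ht : mat t = Umat 0 c₀) :
    Nat.card (Subgroup.centralizer ({t} : Set (Cfsg.SU 3 F 4))) ≤ 320 := by
  classical
  have hdec : ∀ g : Subgroup.centralizer ({t} : Set (Cfsg.SU 3 F 4)),
      ∃ y : rootsOfUnity 5 F × UMF hK,
        (g : Cfsg.SU 3 F 4) = dEl ((y.1 : Fˣ) : F) (root_pow y.1) * uHom hK y.2 := by
    rintro ⟨g, hg⟩
    rw [Subgroup.mem_centralizer_singleton_iff] at hg
    obtain ⟨l, hl, x, hx⟩ := exists_decomp hK g t c₀ hc₀ ht hg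
    refine ⟨(rootsOfUnity.mkOfPowEq l hl, x), ?_⟩
    show g = _
    rw [hx]
    congr 1
  choose φ hφ using hdec
  have hinj : Function.Injective φ := by
    intro g₁ g₂ h12
    apply Subtype.ext
    rw [hφ g₁, hφ g₂, h12]
  have h1 := Nat.card_le_card_of_injective φ hinj
  rw [Nat.card_prod] at h1
  have h2 : Nat.card (rootsOfUnity 5 F) ≤ 5 := card_rootsOfUnity F 5
  have h3 : Nat.card (UMF hK) ≤ 4 ^ 3 := card_UM_le hK
  calc Nat.card (Subgroup.centralizer ({t} : Set (Cfsg.SU 3 F 4)))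
      ≤ Nat.card (rootsOfUnity 5 F) * Nat.card (UMF hK) := h1
    _ ≤ 5 * 4 ^ 3 := Nat.mul_le_mul h2 h3
    _ = 320 := by norm_num

end Cfsg.Agent.Helper39.G320E
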