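import Mathlib
import Cfsg.Agent.Lib.Helper39.G320A3
import Cfsg.Agent.Lib.Helper39.G320D
import Cfsg.Agent.Lib.Helper39.G320E

/-!
# A group of order 320 with derived subgroup of order 64 whose centre is a four-group is an
involution centralizer in `PSU₃(4)`
-/

set_option autoImplicit false
set_option linter.unusedSectionVars false
set_option linter.unusedVariables false
set_option linter.style.haveILetI false

namespace Cfsg.Agent.Helper39.G320F

open Matrix Subgroup Cfsg.Agent.Helper39.G320B Cfsg.Agent.Helper39.G320C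
  Cfsg.Agent.Helper39.G320D Cfsg.Agent.Helper39.G320E Cfsg.Agent.Helper39.G320A3
open scoped commutatorElement

variable {F : Type*} [Field F] [Fintype F] (hK : Fintype.card F = 4 ^ 2)

include hK in
/-- `SU₃(4)` has trivial centre -/
theorem center_eq_bot : center (Cfsg.SU 3 F 4) = ⊥ := by
  rw [Subgroup.eq_bot_iff_forall]
  intro z hz
  obtain ⟨c, hc5, hmat⟩ :=
    Cfsg.Agent.Helper63.PSUCent.exists_scalar_of_mem_center hK (le_refl 3) z hz
  have hdet : (Cfsg.Agent.Helper63.PSUCent.mat z).det = 1 := z.1.2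
  rw [hmat, Matrix.det_smul, Matrix.det_one, mul_one, Fintype.card_fin] at hdet
  have hc1 : c = 1 := by linear_combination (-c) * hc5 + (c ^ 3 + 1) * hdet
  apply Cfsg.Agent.Helper63.PSUCent.mat_injective
  rw [hmat, hc1, one_smul]
  rfl

/-- transport of a centralizer along an isomorphism -/
theorem centralizer_equiv {A B : Type*} [Group A] [Group B] (e : A ≃* B) (t : A) :
    Nonempty (centralizer ({t} : Set A) ≃* centralizer ({e t} : Set B)) := by
  have hmap : (centralizer ({t} : Set A)).map e.toMonoidHom = centralizer ({e t} : Set B) := by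
    ext x
    rw [Subgroup.mem_map, mem_centralizer_singleton_iff]
    constructor
    · rintro ⟨y, hy, rfl⟩
      rw [mem_centralizer_singleton_iff] at hy
      show e y * e t = e t * e y
      rw [← map_mul, ← map_mul, hy]
    · intro hx
      refine ⟨e.symm x, ?_, e.apply_symm_apply x⟩
      rw [mem_centralizer_singleton_iff]
      apply e.injective
      rw [map_mul, map_mul, e.apply_symm_apply]
      exact hx
  exact ⟨(e.subgroupMap (centralizer ({t} : Set A))).trans (MulEquiv.subgroupCongr hmap)⟩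

include hK in
/-- the main theorem -/
theorem main {G : Type*} [Group G] [Finite G] (hG : Nat.card G = 320)
    (hD : Nat.card (commutator G) = 64) (hZ : IsKleinFour (center (commutator G))) :
    ∃ t : Cfsg.PSU 3 F 4, orderOf t = 2 ∧
      Nonempty (G ≃* centralizer ({t} : Set (Cfsg.PSU 3 F 4))) := by
  obtain ⟨ω, hω⟩ := exists_omega hK
  obtain ⟨a, ζ, hrel, hgen, hnorm⟩ := exists_gen hG hD hZ
  have hrelM := rel_model hK hω
  obtain ⟨ψ, hψa, hψζ⟩ := exists_hom hgen hG hrel hrelM
  set t₀ : Cfsg.SU 3 F 4 := c1 (aM hK ω hω) (zM ω hω) with ht₀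
  -- `ψ` is injective
  have hker : ψ.ker = ⊥ := by
    by_contra hne
    have h1 : ψ (c1 a ζ) = c1 (aM hK ω hω) (zM ω hω) := by rw [map_c1, hψa, hψζ]
    have h2 : ψ (c2 a ζ) = c2 (aM hK ω hω) (zM ω hω) := by rw [map_c2, hψa, hψζ]
    rcases hnorm ψ.ker inferInstance hne with h | h | h
    · rw [MonoidHom.mem_ker, h1] at h
      exact c1_ne hK hω h
    · rw [MonoidHom.mem_ker, h2] at h
      exact c2_ne hK hω h
    · rw [MonoidHom.mem_ker, map_mul, h1, h2] at h
      exact c12_ne hK hω h
  have hinj : Function.Injective ψ := (MonoidHom.ker_eq_bot_iff ψ).mp hker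
  -- the image centralizes `t₀`
  have hle : ∀ g : G, ψ g ∈ centralizer ({t₀} : Set (Cfsg.SU 3 F 4)) := by
    have h1 : closure ({a, ζ} : Set G) ≤ (centralizer ({t₀} : Set (Cfsg.SU 3 F 4))).comap ψ := by
      rw [closure_le]
      intro y hy
      simp only [Set.mem_insert_iff, Set.mem_singleton_iff] at hy
      rw [SetLike.mem_coe, mem_comap, mem_centralizer_singleton_iff]
      rcases hy with rfl | rfl
      · rw [hψa]; exact (hrelM.c1a.eq).symm
      · rw [hψζ]; exact (hrelM.c1z.eq).symm
    intro g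
    have : g ∈ closure ({a, ζ} : Set G) := by rw [hgen]; trivial
    exact h1 this
  obtain ⟨c₀, hc₀, hmat⟩ := mat_c1 hK hω
  have hcard := card_centralizer_le hK t₀ c₀ hc₀ hmat
  let ψ' : G →* centralizer ({t₀} : Set (Cfsg.SU 3 F 4)) := ψ.codRestrict _ hle
  have hinj' : Function.Injective ψ' := by
    intro x y hxy
    exact hinj (congrArg Subtype.val hxy)
  have hbij : Function.Bijective ψ' :=
    hinj'.bijective_of_nat_card_le (by rw [hG]; exact hcard)
  let e1 : G ≃* centralizer ({t₀} : Set (Cfsg.SU 3 F 4)) := MulEquiv.ofBijective ψ' hbij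
  -- transfer to `PSU`
  have hcen := center_eq_bot hK
  let π : Cfsg.SU 3 F 4 →* Cfsg.PSU 3 F 4 := QuotientGroup.mk' (center (Cfsg.SU 3 F 4))
  have hπinj : Function.Injective π := by
    rw [← MonoidHom.ker_eq_bot_iff, QuotientGroup.ker_mk', hcen]
  let e : Cfsg.SU 3 F 4 ≃* Cfsg.PSU 3 F 4 :=
    MulEquiv.ofBijective π ⟨hπinj, QuotientGroup.mk'_surjective _⟩
  obtain ⟨e2⟩ := centralizer_equiv e t₀
  refine ⟨e t₀, ?_, ⟨e1.trans e2⟩⟩
  haveI : Fact (Nat.Prime 2) := ⟨Nat.prime_two⟩
  rw [MulEquiv.orderOf_eq]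
  exact orderOf_eq_prime hrelM.c1sq (c1_ne hK hω)

end Cfsg.Agent.Helper39.G320F
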