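import Mathlib

/-!
# Fixed-point-free automorphisms of order three

Generic lemmas on a finite group `G` with an automorphism `σ` such that `σ³ = 1` and `σ` fixes only
the identity.  Used for S3157.
-/

set_option autoImplicit false
set_option linter.unusedSectionVars false
set_option linter.style.haveILetI false

namespace Cfsg.Agent.Helper39.T64A

open Subgroup
open scoped commutatorElement

variable {G : Type*} [Group G]

/-- a fixed-point-free automorphism whose cube is the identity -/
structure Fpf3 (σ : MulAut G) : Prop where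
  cube : ∀ g, σ (σ (σ g)) = g
  fpf : ∀ g, σ g = g → g = 1

/-- invariance of a subgroup -/
def Inv (σ : MulAut G) (H : Subgroup G) : Prop := ∀ h ∈ H, σ h ∈ H

section basic

variable {σ : MulAut G} (hσ : Fpf3 σ)
include hσ

lemma Fpf3.twist_injective : Function.Injective (fun y : G => y⁻¹ * σ y) := by
  intro y z h
  simp only at h
  have h2 : σ z = z * (y⁻¹ * σ y) := by rw [h]; group
  have h3 : σ (z * y⁻¹) = z * y⁻¹ := by
    rw [map_mul, map_inv, h2]; group
  have h4 := hσ.fpf _ h3
  exact (mul_inv_eq_one.mp h4).symm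

lemma Fpf3.fpf2 (g : G) (h : σ (σ g) = g) : g = 1 := by
  apply hσ.fpf
  have := hσ.cube g
  rw [h] at this
  exact this

lemma Fpf3.ne_one {g : G} (hg : g ≠ 1) : σ g ≠ 1 := by
  intro h
  apply hg
  have : σ g = σ 1 := by rw [h, map_one]
  exact σ.injective this

lemma Fpf3.prod_eq_one [Finite G] (g : G) : g * σ g * σ (σ g) = 1 := by
  obtain ⟨w, rfl⟩ := (Finite.injective_iff_surjective.mp hσ.twist_injective) g
  simp only [map_mul, map_inv, hσ.cube]
  group

lemma Fpf3.prod_eq_one' [Finite G] (g : G) : σ (σ g) * σ g * g = 1 := by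
  have h := hσ.prod_eq_one g⁻¹
  simp only [map_inv] at h
  have h2 := congrArg (fun t => t⁻¹) h
  simp only [mul_inv_rev, inv_inv, inv_one] at h2
  rw [mul_assoc]
  exact h2

lemma Fpf3.sigma2 [Finite G] (g : G) : σ (σ g) = (g * σ g)⁻¹ :=
  (inv_eq_of_mul_eq_one_right (hσ.prod_eq_one g)).symm

lemma Fpf3.comm [Finite G] (g : G) : g * σ g = σ g * g := by
  have h1 := hσ.prod_eq_one g
  have h2 := hσ.prod_eq_one' g
  have e1 : g * σ g = (σ (σ g))⁻¹ := eq_inv_of_mul_eq_one_left h1
  have e2 : σ g * g = (σ (σ g))⁻¹ := by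
    rw [mul_assoc] at h2
    exact (inv_eq_of_mul_eq_one_right h2).symm
  rw [e1, e2]

lemma Fpf3.comm2 [Finite G] (g : G) : g * σ (σ g) = σ (σ g) * g := by
  have h := hσ.comm (σ (σ g))
  rw [hσ.cube] at h
  exact h.symm

end basic

section count

variable {σ : MulAut G} (hσ : Fpf3 σ)
include hσ

/-- an invariant subgroup has order `≡ 1 mod 3` -/
lemma Fpf3.card_modEq [Finite G] (H : Subgroup G) (hH : Inv σ H) : Nat.card H ≡ 1 [MOD 3] := by
  classical
  haveI : Fintype H := Fintype.ofFinite H
  haveI : Fact (Nat.Prime 3) := ⟨by norm_num⟩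
  let f : Function.End H := fun h => ⟨σ h, hH h h.2⟩
  have hf : f ^ 3 ^ 1 = 1 := by
    funext h
    apply Subtype.ext
    show σ (σ (σ (h : G))) = h
    exact hσ.cube _
  have h1 := Equiv.Perm.card_fixedPoints_modEq (p := 3) (n := 1) hf
  have h2 : Fintype.card ↥(Function.fixedPoints f) = 1 := by
    rw [Fintype.card_eq_one_iff]
    refine ⟨⟨1, ?_⟩, ?_⟩
    · show f 1 = 1
      apply Subtype.ext
      show σ ((1 : H) : G) = ((1 : H) : G)
      simp
    · rintro ⟨h, hh⟩
      apply Subtype.ext
      have h3 : σ (h : G) = h := congrArg Subtype.val hh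
      have h4 := hσ.fpf _ h3
      apply Subtype.ext
      simpa using h4
  rw [Nat.card_eq_fintype_card]
  rw [h2] at h1
  exact h1

omit hσ in
lemma cases_of_dvd_of_modEq {n : ℕ} (h1 : n ∣ 64) (h2 : n ≡ 1 [MOD 3]) :
    n = 1 ∨ n = 4 ∨ n = 16 ∨ n = 64 := by
  have hle : n ≤ 64 := Nat.le_of_dvd (by norm_num) h1
  unfold Nat.ModEq at h2
  interval_cases n <;> simp_all

lemma Fpf3.card_cases [Finite G] (hG : Nat.card G ∣ 64) (H : Subgroup G) (hH : Inv σ H) :
    Nat.card H = 1 ∨ Nat.card H = 4 ∨ Nat.card H = 16 ∨ Nat.card H = 64 :=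
  cases_of_dvd_of_modEq ((Subgroup.card_subgroup_dvd_card H).trans hG) (hσ.card_modEq H hH)

end count

section four

variable {σ : MulAut G} (hσ : Fpf3 σ)
include hσ

/-- the elements of an invariant subgroup of order four -/
lemma Fpf3.enum4 [Finite G] (H : Subgroup G) (hH : Inv σ H) (hc : Nat.card H = 4) {z : G}
    (hz : z ∈ H) (hz1 : z ≠ 1) {w : G} (hw : w ∈ H) :
    w = 1 ∨ w = z ∨ w = σ z ∨ w = σ (σ z) := by
  classical
  by_contra hcon
  push Not at hcon
  obtain ⟨n1, n2, n3, n4⟩ := hcon
  have hsz : σ z ≠ 1 := hσ.ne_one hz1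
  have hssz : σ (σ z) ≠ 1 := hσ.ne_one hsz
  have d1 : z ≠ σ z := fun h => hz1 (hσ.fpf z h.symm)
  have d2 : z ≠ σ (σ z) := fun h => hz1 (hσ.fpf2 z h.symm)
  have d3 : σ z ≠ σ (σ z) := fun h => hsz (hσ.fpf _ h.symm)
  let S : Finset G := {w, 1, z, σ z, σ (σ z)}
  have hS : S.card = 5 := by
    simp only [S]
    rw [Finset.card_insert_of_notMem, Finset.card_insert_of_notMem, Finset.card_insert_of_notMem,
      Finset.card_insert_of_notMem, Finset.card_singleton]
    · simp [d3]
    · simp [d1, d2]
    · simp [hz1.symm, hsz.symm, hssz.symm]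
    · simp [n1, n2, n3, n4]
  have hsub : (S : Set G) ⊆ (H : Set G) := by
    intro t ht
    simp only [S, Finset.coe_insert, Finset.coe_singleton, Set.mem_insert_iff,
      Set.mem_singleton_iff] at ht
    rcases ht with rfl | rfl | rfl | rfl | rfl
    · exact hw
    · exact H.one_mem
    · exact hz
    · exact hH _ hz
    · exact hH _ (hH _ hz)
  have h5 : S.card ≤ Nat.card H := by
    have := Set.ncard_le_ncard hsub (Set.toFinite _)
    rw [Set.ncard_coe_finset] at this
    have e : Nat.card ↥H = ((H : Set G)).ncard := Nat.card_coe_set_eq _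
    rw [e]; exact this
  omega

/-- an invariant subgroup of order four is elementary abelian -/
lemma Fpf3.sq_of_card4 [Finite G] (H : Subgroup G) (hH : Inv σ H) (hc : Nat.card H = 4) {z : G}
    (hz : z ∈ H) : z * z = 1 := by
  by_cases hz1 : z = 1
  · rw [hz1, one_mul]
  have key : σ (σ z) * σ (σ z) = 1 := by
    have hw : z * σ z ∈ H := H.mul_mem hz (hH _ hz)
    have h2 := hσ.sigma2 z
    rcases hσ.enum4 H hH hc hz hz1 hw with h | h | h | h
    · -- σ z = z⁻¹
      exfalso
      have e1 : σ z = z⁻¹ := (inv_eq_of_mul_eq_one_right h).symm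
      have e2 : σ (σ z) = z := by rw [e1, map_inv, e1, inv_inv]
      exact hz1 (hσ.fpf2 z e2)
    · exfalso
      have : σ z = 1 := by
        have := mul_left_cancel (a := z) (b := σ z) (c := 1) (by rw [mul_one]; exact h)
        exact this
      exact hσ.ne_one hz1 this
    · exfalso
      have : z = 1 := by
        have := mul_right_cancel (a := z) (b := σ z) (c := 1) (by rw [one_mul]; exact h)
        exact this
      exact hz1 this
    · rw [h] at h2
      have : σ (σ z) * σ (σ z) = σ (σ z) * (σ (σ z))⁻¹ := by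
        nth_rewrite 2 [h2]; rfl
      rw [this, mul_inv_cancel]
  have h3 : σ (σ (σ z) * σ (σ z)) = σ 1 := by rw [key]
  rw [map_mul, hσ.cube, map_one] at h3
  exact h3

end four

section cent

variable {σ : MulAut G} (hσ : Fpf3 σ)

/-- the centralizer of the orbit of `y` -/
def Kc (σ : MulAut G) (y : G) : Subgroup G := centralizer ({y, σ y, σ (σ y)} : Set G)

lemma mem_Kc {σ : MulAut G} {y k : G} :
    k ∈ Kc σ y ↔ y * k = k * y ∧ σ y * k = k * σ y ∧ σ (σ y) * k = k * σ (σ y) := by
  unfold Kc
  rw [mem_centralizer_iff]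
  constructor
  · intro h
    exact ⟨h _ (by simp), h _ (by simp), h _ (by simp)⟩
  · rintro ⟨h1, h2, h3⟩ t ht
    simp only [Set.mem_insert_iff, Set.mem_singleton_iff] at ht
    rcases ht with rfl | rfl | rfl
    · exact h1
    · exact h2
    · exact h3

include hσ

lemma Fpf3.inv_Kc (y : G) : Inv σ (Kc σ y) := by
  intro k hk
  rw [mem_Kc] at hk ⊢
  obtain ⟨h1, h2, h3⟩ := hk
  refine ⟨?_, ?_, ?_⟩
  · have := congrArg σ h3
    rw [map_mul, map_mul, hσ.cube] at this
    exact this
  · have := congrArg σ h1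
    rw [map_mul, map_mul] at this
    exact this
  · have := congrArg σ h2
    rw [map_mul, map_mul] at this
    exact this

lemma Fpf3.center_le_Kc (y : G) : center G ≤ Kc σ y := by
  intro z hz
  rw [mem_center_iff] at hz
  rw [mem_Kc]
  exact ⟨hz _, hz _, hz _⟩

lemma Fpf3.self_mem_Kc [Finite G] (y : G) : y ∈ Kc σ y := by
  rw [mem_Kc]
  exact ⟨rfl, (hσ.comm y).symm, (hσ.comm2 y).symm⟩

lemma Fpf3.inv_center : Inv σ (center G) := by
  intro z hz
  rw [mem_center_iff] at hz ⊢
  intro g
  have h1 := congrArg σ (hz (σ (σ g)))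
  rw [map_mul, map_mul, hσ.cube] at h1
  exact h1

lemma Fpf3.inv_top : Inv σ (⊤ : Subgroup G) := fun _ _ => mem_top _

omit hσ in
lemma card_lt_of_lt' [Finite G] {H K : Subgroup G} (h : H < K) : Nat.card H < Nat.card K := by
  by_contra hcon
  push Not at hcon
  have := Subgroup.eq_of_le_of_card_ge h.le hcon
  exact h.ne this

/-- a nonabelian `2`-group of order at most `64` with such an automorphism has order `64` and
centre of order `4` -/
theorem Fpf3.card_of_noncomm [Finite G] (hG : Nat.card G ∣ 64) (hna : ∃ a b : G, a * b ≠ b * a) :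
    Nat.card G = 64 ∧ Nat.card (center G) = 4 := by
  obtain ⟨a, b, hab⟩ := hna
  haveI : Fact (Nat.Prime 2) := ⟨Nat.prime_two⟩
  haveI : Nontrivial G := ⟨⟨a * b, b * a, hab⟩⟩
  have hp : IsPGroup 2 G := by
    have h64 : (64 : ℕ) = 2 ^ 6 := by norm_num
    rw [h64] at hG
    obtain ⟨k, _, hk⟩ := (Nat.dvd_prime_pow Nat.prime_two).mp hG
    exact IsPGroup.of_card hk
  have haZ : a ∉ center G := by
    intro h
    rw [mem_center_iff] at h
    exact hab (h b).symm
  have hZK : center G < Kc σ a := by
    refine lt_of_le_of_ne (hσ.center_le_Kc a) ?_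
    intro h
    apply haZ
    rw [h]
    exact hσ.self_mem_Kc a
  have hKtop : Kc σ a < ⊤ := by
    refine lt_of_le_of_ne le_top ?_
    intro h
    apply haZ
    rw [mem_center_iff]
    intro g
    have hg : g ∈ Kc σ a := by rw [h]; exact mem_top _
    rw [mem_Kc] at hg
    exact hg.1.symm
  have c1 := card_lt_of_lt' hZK
  have c2 := card_lt_of_lt' hKtop
  rw [Subgroup.card_top] at c2
  have hZ1 : 1 < Nat.card (center G) := by
    haveI := hp.center_nontrivial
    exact Finite.one_lt_card
  have k1 := hσ.card_cases hG _ hσ.inv_center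
  have k2 := hσ.card_cases hG _ (hσ.inv_Kc a)
  have k3 := hσ.card_cases hG _ hσ.inv_top
  rw [Subgroup.card_top] at k3
  omega

/-- an invariant subgroup strictly between the centre and the whole group has order `16` -/
lemma Fpf3.card16_of_between [Finite G] (hG : Nat.card G = 64) (hZ : Nat.card (center G) = 4)
    (M : Subgroup G) (hM : Inv σ M) (hZM : center G ≤ M) {y : G} (hy : y ∈ M)
    (hyZ : y ∉ center G) (hMtop : M ≠ ⊤) : Nat.card M = 16 := by
  have h1 : center G < M := by
    refine lt_of_le_of_ne hZM ?_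
    intro h
    apply hyZ
    rw [h]; exact hy
  have h2 : M < ⊤ := lt_of_le_of_ne le_top hMtop
  have c1 := card_lt_of_lt' h1
  have c2 := card_lt_of_lt' h2
  rw [Subgroup.card_top] at c2
  have k2 := hσ.card_cases (by rw [hG]) _ hM
  omega

lemma Fpf3.card_Kc [Finite G] (hG : Nat.card G = 64) (hZ : Nat.card (center G) = 4) {y : G}
    (hyZ : y ∉ center G) : Nat.card (Kc σ y) = 16 := by
  refine hσ.card16_of_between hG hZ _ (hσ.inv_Kc y) (hσ.center_le_Kc y) (hσ.self_mem_Kc y) hyZ ?_
  intro h
  apply hyZ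
  rw [mem_center_iff]
  intro g
  have hg : g ∈ Kc σ y := by rw [h]; exact mem_top _
  rw [mem_Kc] at hg
  exact hg.1.symm

end cent

section quot

variable {σ : MulAut G}

lemma map_eq_of_inv (hσ : Fpf3 σ) {N : Subgroup G} (hN : Inv σ N) :
    N.map (σ : G ≃* G).toMonoidHom = N := by
  apply le_antisymm
  · rintro _ ⟨n, hn, rfl⟩
    exact hN n hn
  · intro n hn
    exact ⟨σ (σ n), hN _ (hN _ hn), hσ.cube n⟩

/-- the induced automorphism of a quotient -/
def qAut (σ : MulAut G) (N : Subgroup G) [N.Normal] (hN : N.map (σ : G ≃* G).toMonoidHom = N) :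
    MulAut (G ⧸ N) :=
  QuotientGroup.congr N N σ hN

lemma qAut_mk (N : Subgroup G) [N.Normal] (hN : N.map (σ : G ≃* G).toMonoidHom = N) (g : G) :
    qAut σ N hN (QuotientGroup.mk g) = QuotientGroup.mk (σ g) := rfl

theorem Fpf3.quot [Finite G] (hσ : Fpf3 σ) (N : Subgroup G) [N.Normal] (hN : Inv σ N) :
    Fpf3 (qAut σ N (map_eq_of_inv hσ hN)) := by
  constructor
  · intro q
    induction q using QuotientGroup.induction_on with
    | H g => rw [qAut_mk, qAut_mk, qAut_mk, hσ.cube]
  · intro q
    induction q using QuotientGroup.induction_on with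
    | H y =>
      intro h
      rw [qAut_mk, QuotientGroup.eq] at h
      have h1 : y⁻¹ * σ y ∈ N := by
        have := N.inv_mem h
        rwa [mul_inv_rev, inv_inv] at this
      -- the twist map on `N` is surjective
      let f : N → N := fun n => ⟨(n : G)⁻¹ * σ n, N.mul_mem (N.inv_mem n.2) (hN _ n.2)⟩
      have hf : Function.Injective f := by
        intro a b hab
        have := congrArg Subtype.val hab
        exact Subtype.ext (hσ.twist_injective this)
      obtain ⟨n, hn⟩ := (Finite.injective_iff_surjective.mp hf) ⟨_, h1⟩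
      have h2 : (n : G)⁻¹ * σ n = y⁻¹ * σ y := congrArg Subtype.val hn
      have h3 : (n : G) = y := hσ.twist_injective h2
      rw [QuotientGroup.eq_one_iff, ← h3]
      exact n.2

end quot

section restrict

variable {σ : MulAut G}

/-- the restriction to an invariant subgroup -/
def rAut (hσ : Fpf3 σ) (H : Subgroup G) (hH : Inv σ H) : MulAut H where
  toFun h := ⟨σ h, hH _ h.2⟩
  invFun h := ⟨σ (σ h), hH _ (hH _ h.2)⟩
  left_inv h := Subtype.ext (by
    show σ (σ (σ (h : G))) = h
    exact hσ.cube _)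
  right_inv h := Subtype.ext (by
    show σ (σ (σ (h : G))) = h
    exact hσ.cube _)
  map_mul' a b := Subtype.ext (by
    show σ ((a : G) * b) = σ a * σ b
    exact map_mul _ _ _)

lemma rAut_coe (hσ : Fpf3 σ) (H : Subgroup G) (hH : Inv σ H) (h : H) :
    ((rAut hσ H hH h : H) : G) = σ h := rfl

theorem Fpf3.restrict (hσ : Fpf3 σ) (H : Subgroup G) (hH : Inv σ H) : Fpf3 (rAut hσ H hH) := by
  constructor
  · intro h
    apply Subtype.ext
    rw [rAut_coe, rAut_coe, rAut_coe]
    exact hσ.cube _
  · intro h hh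
    have h1 : σ (h : G) = h := by
      have := congrArg Subtype.val hh
      rwa [rAut_coe] at this
    have := hσ.fpf _ h1
    exact Subtype.ext this

/-- a nonabelian invariant subgroup of a group of order `64` is everything -/
theorem Fpf3.eq_top_of_noncomm [Finite G] (hσ : Fpf3 σ) (hG : Nat.card G = 64) (H : Subgroup G)
    (hH : Inv σ H) {a b : G} (ha : a ∈ H) (hb : b ∈ H) (hab : a * b ≠ b * a) : H = ⊤ := by
  have h1 := (hσ.restrict H hH).card_of_noncomm
    (by rw [← hG]; exact Subgroup.card_subgroup_dvd_card H)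
    ⟨⟨a, ha⟩, ⟨b, hb⟩, fun h => hab (congrArg Subtype.val h)⟩
  exact Subgroup.eq_top_of_card_eq H (by rw [h1.1, hG])

/-- a group of order `16` with such an automorphism is abelian -/
theorem Fpf3.comm_of_card16 [Finite G] (hσ : Fpf3 σ) (hG : Nat.card G = 16) (a b : G) :
    a * b = b * a := by
  by_contra hab
  have := (hσ.card_of_noncomm (by rw [hG]; norm_num) ⟨a, b, hab⟩).1
  omega

end restrict

end Cfsg.Agent.Helper39.T64A
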