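import Mathlib
import Cfsg.Agent.Lib.Helper39.T64A

/-!
# Abelian `2`-groups with a fixed-point-free automorphism of order three

For S2933: an abelian `2`-group with such an automorphism `ρ` and at most three involutions is
generated by `x, ρ x`; if moreover a commuting involutory automorphism `t` has at most four fixed
points, the group is either of this kind or elementary abelian of order at most `16`.
-/

set_option autoImplicit false
set_option linter.unusedSectionVars false
set_option linter.style.haveILetI false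

universe u

namespace Cfsg.Agent.Helper39.P2A

open Subgroup Cfsg.Agent.Helper39.T64A

section basic

variable {M : Type*} [Group M]

lemma sq_mul (hc : ∀ a b : M, a * b = b * a) (a b : M) : a * b * (a * b) = a * a * (b * b) :=
  calc a * b * (a * b) = a * (b * a) * b := by group
    _ = a * (a * b) * b := by rw [hc b a]
    _ = a * a * (b * b) := by group

/-- the elements of order at most two of a commutative group -/
def Om (hc : ∀ a b : M, a * b = b * a) : Subgroup M where
  carrier := {m | m * m = 1}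
  one_mem' := by simp
  mul_mem' := by
    intro a b ha hb
    simp only [Set.mem_ofPred_eq] at *
    rw [sq_mul hc, ha, hb, one_mul]
  inv_mem' := by
    intro a ha
    simp only [Set.mem_ofPred_eq] at *
    rw [← mul_inv_rev, ha, inv_one]

lemma mem_Om {hc : ∀ a b : M, a * b = b * a} {m : M} : m ∈ Om hc ↔ m * m = 1 := Iff.rfl

/-- the squaring homomorphism -/
def sqHom (hc : ∀ a b : M, a * b = b * a) : M →* M :=
  MonoidHom.mk' (fun m => m * m) (fun a b => sq_mul hc a b)

lemma sqHom_apply (hc : ∀ a b : M, a * b = b * a) (m : M) : sqHom hc m = m * m := rfl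

lemma ker_sqHom (hc : ∀ a b : M, a * b = b * a) : (sqHom hc).ker = Om hc := by
  ext m
  rw [MonoidHom.mem_ker, sqHom_apply, mem_Om]

lemma inv_Om (hc : ∀ a b : M, a * b = b * a) (ρ : MulAut M) : Inv ρ (Om hc) := by
  intro m hm
  rw [mem_Om] at hm ⊢
  rw [← map_mul, hm, map_one]

lemma card_ker_mul_card_range [Finite M] (f : M →* M) :
    Nat.card f.ker * Nat.card f.range = Nat.card M := by
  have := Subgroup.card_mul_index f.ker
  rwa [Subgroup.index_ker] at this

/-- a nontrivial subgroup of a `2`-group contains an involution -/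
lemma exists_invol [Finite M] (h2 : IsPGroup 2 M) (A : Subgroup M) (hA : A ≠ ⊥) :
    ∃ a ∈ A, a ≠ 1 ∧ a * a = 1 := by
  obtain ⟨b, hb, hb1⟩ : ∃ b ∈ A, b ≠ 1 := by
    by_contra hcon
    push Not at hcon
    exact hA ((Subgroup.eq_bot_iff_forall _).mpr hcon)
  obtain ⟨k, hk⟩ := (IsPGroup.iff_orderOf.mp h2) b
  have hk0 : k ≠ 0 := by
    intro h
    rw [h, pow_zero, orderOf_eq_one_iff] at hk
    exact hb1 hk
  obtain ⟨j, rfl⟩ := Nat.exists_eq_succ_of_ne_zero hk0
  refine ⟨b ^ 2 ^ j, A.pow_mem hb _, ?_, ?_⟩
  · apply pow_ne_one_of_lt_orderOf (by positivity)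
    rw [hk]
    exact Nat.pow_lt_pow_right (by norm_num) (Nat.lt_succ_self j)
  · rw [← pow_add, ← two_mul, ← pow_succ', ← hk]
    exact pow_orderOf_eq_one b

end basic

section gen

lemma inv_closure_pair {M : Type*} [Group M] [Finite M] {ρ : MulAut M} (hρ : Fpf3 ρ) (x : M) :
    Inv ρ (closure ({x, ρ x} : Set M)) := by
  have hx : x ∈ closure ({x, ρ x} : Set M) := subset_closure (by simp)
  have hx' : ρ x ∈ closure ({x, ρ x} : Set M) := subset_closure (by simp)
  have hle : closure ({x, ρ x} : Set M) ≤
      (closure ({x, ρ x} : Set M)).comap (ρ : M ≃* M).toMonoidHom := by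
    rw [closure_le]
    intro s hs
    simp only [Set.mem_insert_iff, Set.mem_singleton_iff] at hs
    rw [SetLike.mem_coe, mem_comap]
    rcases hs with rfl | rfl
    · exact hx'
    · show ρ (ρ x) ∈ _
      rw [hρ.sigma2]
      exact inv_mem (mul_mem hx hx')
  intro g hg
  exact hle hg

/-- an abelian `2`-group with a fixed-point-free automorphism `ρ` of order three and at most three
involutions is generated by `x` and `ρ x` for some `x` -/
theorem exists_gen_aux : ∀ (n : ℕ) (M : Type u) [Group M] [Finite M], Nat.card M = n →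
    IsPGroup 2 M → ∀ (hc : ∀ a b : M, a * b = b * a) (ρ : MulAut M), Fpf3 ρ →
    Nat.card (Om hc) ≤ 4 → ∃ x : M, closure ({x, ρ x} : Set M) = ⊤ := by
  intro n
  induction n using Nat.strong_induction_on with
  | _ n ih =>
    intro M _ _ hn h2 hc ρ hρ hΩ
    by_cases hsq : ∀ m : M, m * m = 1
    · by_cases hx : ∃ x : M, x ≠ 1
      · obtain ⟨x, hx1⟩ := hx
        refine ⟨x, ?_⟩
        have htop : Om hc = ⊤ := by
          rw [eq_top_iff']
          intro m
          exact hsq m
        have hcard4 : Nat.card (⊤ : Subgroup M) = 4 := by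
          have h1 := hρ.card_modEq ⊤ hρ.inv_top
          rw [htop] at hΩ
          have h3 : 1 < Nat.card (⊤ : Subgroup M) := by
            rw [Subgroup.card_top]
            exact Finite.one_lt_card_iff_nontrivial.mpr ⟨⟨x, 1, hx1⟩⟩
          unfold Nat.ModEq at h1
          omega
        rw [eq_top_iff']
        intro w
        have hxc : x ∈ closure ({x, ρ x} : Set M) := subset_closure (by simp)
        have hxc' : ρ x ∈ closure ({x, ρ x} : Set M) := subset_closure (by simp)
        rcases hρ.enum4 ⊤ hρ.inv_top hcard4 (mem_top x) hx1 (mem_top w) with h | h | h | h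
        · rw [h]; exact one_mem _
        · rw [h]; exact hxc
        · rw [h]; exact hxc'
        · rw [h, hρ.sigma2]; exact inv_mem (mul_mem hxc hxc')
      · push Not at hx
        refine ⟨1, ?_⟩
        rw [eq_top_iff']
        intro w
        rw [hx w]
        exact one_mem _
    · push Not at hsq
      obtain ⟨m0, hm0⟩ := hsq
      have hRinv : Inv ρ (sqHom hc).range := by
        rintro _ ⟨m, rfl⟩
        exact ⟨ρ m, by rw [sqHom_apply, sqHom_apply, map_mul]⟩
      have hMne : (⊤ : Subgroup M) ≠ ⊥ := by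
        intro h
        have h1 : m0 ∈ (⊥ : Subgroup M) := h ▸ mem_top m0
        rw [mem_bot] at h1
        rw [h1, one_mul] at hm0
        exact hm0 rfl
      have hker : (sqHom hc).ker ≠ ⊥ := by
        rw [ker_sqHom]
        obtain ⟨a, -, ha1, haa⟩ := exists_invol h2 ⊤ hMne
        intro h
        have h1 : a ∈ Om hc := haa
        rw [h, mem_bot] at h1
        exact ha1 h1
      have hlt : Nat.card (sqHom hc).range < Nat.card M := by
        have h1 := card_ker_mul_card_range (sqHom hc)
        have h3 : 1 < Nat.card (sqHom hc).ker := (Subgroup.one_lt_card_iff_ne_bot _).mpr hker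
        have h4 : 0 < Nat.card (sqHom hc).range := Nat.card_pos
        nlinarith
      have hcR : ∀ a b : (sqHom hc).range, a * b = b * a := fun a b => Subtype.ext (hc _ _)
      have hΩR : Nat.card (Om hcR) ≤ 4 := by
        refine le_trans ?_ hΩ
        refine Nat.card_le_card_of_injective
          (fun a : Om hcR => (⟨((a : (sqHom hc).range) : M), ?_⟩ : Om hc)) ?_
        · have := a.2
          rw [mem_Om] at this ⊢
          exact congrArg Subtype.val this
        · intro a b hab
          have h1 : (((a : (sqHom hc).range) : M)) = ((b : (sqHom hc).range) : M) := by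
            have := congrArg (fun z : Om hc => (z : M)) hab
            simpa using this
          exact Subtype.ext (Subtype.ext h1)
      obtain ⟨y, hy⟩ := ih (Nat.card (sqHom hc).range) (hn ▸ hlt) (sqHom hc).range rfl
        (h2.to_subgroup _) hcR (rAut hρ _ hRinv) (hρ.restrict _ hRinv) hΩR
      obtain ⟨x, hxy⟩ : ∃ x, sqHom hc x = (y : M) := y.2
      refine ⟨x, ?_⟩
      have hAinv : Inv ρ (closure ({x, ρ x} : Set M)) := inv_closure_pair hρ x
      -- (i)
      have hRle : (sqHom hc).range ≤ (closure ({x, ρ x} : Set M)).map (sqHom hc) := by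
        have e1 : (closure ({y, rAut hρ _ hRinv y} : Set (sqHom hc).range)).map
            (sqHom hc).range.subtype = closure ({(y : M), ρ (y : M)} : Set M) := by
          rw [MonoidHom.map_closure, Set.image_pair]
          rfl
        have e2 : (closure ({x, ρ x} : Set M)).map (sqHom hc) =
            closure ({(y : M), ρ (y : M)} : Set M) := by
          rw [MonoidHom.map_closure, Set.image_pair, hxy, ← hxy, sqHom_apply, sqHom_apply, map_mul]
        intro r hr
        rw [e2, ← e1, hy]
        exact ⟨⟨r, hr⟩, mem_top _, rfl⟩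
      -- (ii)
      have hx1 : x ≠ 1 := by
        intro h
        have hy1 : y = 1 := by
          apply Subtype.ext
          rw [← hxy, h, sqHom_apply, one_mul]; rfl
        have hbot : (⊤ : Subgroup (sqHom hc).range) = ⊥ := by
          rw [← hy, hy1, map_one]
          simp
        have hm : (⟨m0 * m0, ⟨m0, rfl⟩⟩ : (sqHom hc).range) ∈ (⊥ : Subgroup (sqHom hc).range) :=
          hbot ▸ mem_top _
        rw [mem_bot] at hm
        exact hm0 (congrArg Subtype.val hm)
      have hAne : closure ({x, ρ x} : Set M) ≠ ⊥ := by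
        intro h
        have : x ∈ (⊥ : Subgroup M) := h ▸ subset_closure (by simp)
        rw [mem_bot] at this
        exact hx1 this
      obtain ⟨a, haA, ha1, haa⟩ := exists_invol h2 _ hAne
      have hΩA : Om hc ≤ closure ({x, ρ x} : Set M) := by
        have hinv : Inv ρ (closure ({x, ρ x} : Set M) ⊓ Om hc) := by
          intro g hg
          exact ⟨hAinv g hg.1, inv_Om hc ρ g hg.2⟩
        have h1 := hρ.card_modEq _ hinv
        have h3 : Nat.card ↥(closure ({x, ρ x} : Set M) ⊓ Om hc) ≤ Nat.card (Om hc) :=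
          Subgroup.card_le_of_le inf_le_right
        have h4 : 1 < Nat.card ↥(closure ({x, ρ x} : Set M) ⊓ Om hc) := by
          rw [Subgroup.one_lt_card_iff_ne_bot]
          intro h
          have : a ∈ (⊥ : Subgroup M) := h ▸ ⟨haA, haa⟩
          rw [mem_bot] at this
          exact ha1 this
        have h5 : closure ({x, ρ x} : Set M) ⊓ Om hc = Om hc := by
          apply Subgroup.eq_of_le_of_card_ge inf_le_right
          unfold Nat.ModEq at h1
          omega
        rw [← h5]
        exact inf_le_left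
      -- (iii)
      rw [eq_top_iff']
      intro m
      obtain ⟨b, hbA, hb⟩ := hRle ⟨m, rfl⟩
      have h6 : m * b⁻¹ ∈ Om hc := by
        rw [mem_Om, sq_mul hc]
        rw [sqHom_apply, sqHom_apply] at hb
        rw [← hb, ← mul_inv_rev, mul_inv_cancel]
      have h7 : m = m * b⁻¹ * b := by group
      rw [h7]
      exact mul_mem (hΩA h6) hbA

theorem exists_gen {M : Type u} [Group M] [Finite M] (h2 : IsPGroup 2 M)
    (hc : ∀ a b : M, a * b = b * a) {ρ : MulAut M} (hρ : Fpf3 ρ) (hΩ : Nat.card (Om hc) ≤ 4) :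
    ∃ x : M, closure ({x, ρ x} : Set M) = ⊤ :=
  exists_gen_aux _ M rfl h2 hc ρ hρ hΩ

end gen

section homocyclic

variable {M : Type u} [Group M]

/-- powers of an involution -/
lemma invol_pow {e : M} (he : e * e = 1) (i : ℕ) : e ^ i = if Even i then 1 else e := by
  have h2 : e ^ 2 = 1 := by rw [pow_two, he]
  rcases Nat.even_or_odd' i with ⟨k, rfl | rfl⟩
  · rw [pow_mul, h2, one_pow, if_pos (by simp)]
  · rw [pow_succ, pow_mul, h2, one_pow, one_mul, if_neg (by simp)]

lemma pow_rel_aux [Finite M] (hc : ∀ a b : M, a * b = b * a) {ρ : MulAut M} (hρ : Fpf3 ρ) :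
    ∀ (n : ℕ) (x : M), orderOf x = 2 ^ n → ∀ i j : ℕ, x ^ i * (ρ x) ^ j = 1 →
      2 ^ n ∣ i ∧ 2 ^ n ∣ j := by
  intro n
  induction n with
  | zero =>
    intro x _ i j _
    simp
  | succ n ih =>
    intro x hx i j hij
    have hcomm : ∀ a b : M, Commute a b := fun a b => hc a b
    by_cases hev : Even i ∧ Even j
    · obtain ⟨⟨i1, hi1⟩, ⟨j1, hj1⟩⟩ := hev
      have hx2 : orderOf (x ^ 2) = 2 ^ n := by
        rw [orderOf_pow' x (by norm_num : (2 : ℕ) ≠ 0), hx, Nat.gcd_eq_right (by
          rw [pow_succ]; exact dvd_mul_left _ _), pow_succ, Nat.mul_div_cancel _ (by norm_num)]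
      have h1 : (x ^ 2) ^ i1 * (ρ (x ^ 2)) ^ j1 = 1 := by
        rw [map_pow, ← pow_mul, ← pow_mul, two_mul, two_mul, ← hi1, ← hj1]
        exact hij
      obtain ⟨hi, hj⟩ := ih (x ^ 2) hx2 i1 j1 h1
      constructor
      · rw [hi1, ← two_mul, pow_succ']
        exact mul_dvd_mul_left 2 hi
      · rw [hj1, ← two_mul, pow_succ']
        exact mul_dvd_mul_left 2 hj
    · exfalso
      set e := x ^ 2 ^ n with he
      have he1 : e ≠ 1 := by
        apply pow_ne_one_of_lt_orderOf (by positivity)
        rw [hx]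
        exact Nat.pow_lt_pow_right (by norm_num) (Nat.lt_succ_self n)
      have hee : e * e = 1 := by
        rw [he, ← pow_add, ← two_mul, ← pow_succ', ← hx]
        exact pow_orderOf_eq_one x
      have hre : ρ e * ρ e = 1 := by rw [← map_mul, hee, map_one]
      have h1 : e ^ i * (ρ e) ^ j = 1 := by
        have := congrArg (fun m => m ^ 2 ^ n) hij
        simp only [one_pow] at this
        rw [(hcomm _ _).mul_pow, ← pow_mul, ← pow_mul, mul_comm i, mul_comm j, pow_mul, pow_mul,
          ← map_pow] at this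
        exact this
      rw [invol_pow hee, invol_pow hre] at h1
      by_cases hi : Even i
      · have hj : ¬ Even j := fun h => hev ⟨hi, h⟩
        rw [if_pos hi, if_neg hj, one_mul] at h1
        apply he1
        have := congrArg (fun m => ρ (ρ m)) h1
        simp only [map_one] at this
        rwa [hρ.cube] at this
      · by_cases hj : Even j
        · rw [if_neg hi, if_pos hj, mul_one] at h1
          exact he1 h1
        · rw [if_neg hi, if_neg hj] at h1
          apply he1
          apply hρ.fpf
          calc ρ e = (e * e) * ρ e := by rw [hee, one_mul]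
            _ = e * (e * ρ e) := by group
            _ = e := by rw [h1, mul_one]

/-- an abelian `2`-group generated by `x` and `ρ x` is homocyclic of rank two -/
theorem homocyclic [Finite M] (h2 : IsPGroup 2 M) (hc : ∀ a b : M, a * b = b * a)
    {ρ : MulAut M} (hρ : Fpf3 ρ) (x : M) (hx : closure ({x, ρ x} : Set M) = ⊤) :
    ∃ n : ℕ, (x ≠ 1 → 1 ≤ n) ∧
      Nonempty (M ≃* Multiplicative (ZMod (2 ^ n)) × Multiplicative (ZMod (2 ^ n))) := by
  obtain ⟨n, hn⟩ := (IsPGroup.iff_orderOf.mp h2) x
  refine ⟨n, ?_, ?_⟩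
  · intro hx1
    by_contra hcon
    have : n = 0 := by omega
    rw [this, pow_zero, orderOf_eq_one_iff] at hn
    exact hx1 hn
  have hn' : orderOf (ρ x) = 2 ^ n := by
    rw [← hn]
    exact MulEquiv.orderOf_eq (ρ : M ≃* M) x
  let f : zpowers x × zpowers (ρ x) →* M :=
    MonoidHom.mk' (fun p => (p.1 : M) * (p.2 : M)) (by
      intro a b
      show ((a.1 : M) * b.1) * ((a.2 : M) * b.2) = (a.1 : M) * a.2 * ((b.1 : M) * b.2)
      calc ((a.1 : M) * b.1) * ((a.2 : M) * b.2) = (a.1 : M) * ((b.1 : M) * a.2) * b.2 := by group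
        _ = (a.1 : M) * ((a.2 : M) * b.1) * b.2 := by rw [hc (b.1 : M) a.2]
        _ = (a.1 : M) * a.2 * ((b.1 : M) * b.2) := by group)
  have hf : ∀ p, f p = (p.1 : M) * (p.2 : M) := fun _ => rfl
  have hinj : Function.Injective f := by
    rw [injective_iff_map_eq_one]
    rintro ⟨⟨a, ha⟩, ⟨b, hb⟩⟩ hab
    rw [hf] at hab
    simp only at hab
    obtain ⟨i, rfl⟩ := (mem_powers_iff_mem_zpowers.mpr ha)
    obtain ⟨j, rfl⟩ := (mem_powers_iff_mem_zpowers.mpr hb)
    obtain ⟨hi, hj⟩ := pow_rel_aux hc hρ n x hn i j hab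
    have h1 : x ^ i = 1 := by rw [← hn] at hi; exact orderOf_dvd_iff_pow_eq_one.mp hi
    have h2 : (ρ x) ^ j = 1 := by rw [← hn'] at hj; exact orderOf_dvd_iff_pow_eq_one.mp hj
    apply Prod.ext
    · exact Subtype.ext h1
    · exact Subtype.ext h2
  have hsurj : Function.Surjective f := by
    rw [← MonoidHom.range_eq_top, eq_top_iff, ← hx, closure_le]
    intro s hs
    simp only [Set.mem_insert_iff, Set.mem_singleton_iff] at hs
    rcases hs with rfl | rfl
    · exact ⟨(⟨s, mem_zpowers s⟩, 1), by rw [hf]; simp⟩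
    · exact ⟨(1, ⟨ρ x, mem_zpowers _⟩), by rw [hf]; simp⟩
  have e1 : Nonempty (Multiplicative (ZMod (2 ^ n)) ≃* zpowers x) := by
    have hcard : Nat.card (zpowers x) = 2 ^ n := by rw [Nat.card_zpowers, hn]
    rw [← hcard]
    exact ⟨zmodCyclicMulEquiv (inferInstance : IsCyclic (zpowers x))⟩
  have e2 : Nonempty (Multiplicative (ZMod (2 ^ n)) ≃* zpowers (ρ x)) := by
    have hcard : Nat.card (zpowers (ρ x)) = 2 ^ n := by rw [Nat.card_zpowers, hn']
    rw [← hcard]
    exact ⟨zmodCyclicMulEquiv (inferInstance : IsCyclic (zpowers (ρ x)))⟩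
  obtain ⟨e1⟩ := e1
  obtain ⟨e2⟩ := e2
  exact ⟨(MulEquiv.ofBijective f ⟨hinj, hsurj⟩).symm.trans (MulEquiv.prodCongr e1.symm e2.symm)⟩

end homocyclic

section pd

variable {M : Type u} [Group M]

/-- the fixed points of an automorphism -/
def Fix (t : MulAut M) : Subgroup M where
  carrier := {g | t g = g}
  one_mem' := map_one t
  mul_mem' := by
    intro a b ha hb
    simp only [Set.mem_ofPred_eq] at *
    rw [map_mul, ha, hb]
  inv_mem' := by
    intro a ha
    simp only [Set.mem_ofPred_eq] at *
    rw [map_inv, ha]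

lemma mem_Fix {t : MulAut M} {g : M} : g ∈ Fix t ↔ t g = g := Iff.rfl

/-- the hypotheses on the pair of automorphisms `ρ`, `t` -/
structure PD (ρ t : MulAut M) : Prop where
  fpf3 : Fpf3 ρ
  tt : ∀ g, t (t g) = g
  tr : ∀ g, t (ρ g) = ρ (t g)
  fix : Nat.card (Fix t) ≤ 4
  two : IsPGroup 2 M

lemma pow2_cases {k : ℕ} (h1 : ∃ n, k = 2 ^ n) (h2 : k ≤ 16) (h3 : k ≡ 1 [MOD 3]) :
    k = 1 ∨ k = 4 ∨ k = 16 := by
  obtain ⟨n, rfl⟩ := h1
  have hn : n < 5 := by
    by_contra hcon
    have : 2 ^ 5 ≤ 2 ^ n := Nat.pow_le_pow_right (by norm_num) (by omega)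
    omega
  unfold Nat.ModEq at h3
  interval_cases n <;> simp_all

/-- an abelian group in the class is elementary abelian of order at most `16` or generated by
`x, ρ x` -/
theorem abelian_cases [Finite M] (hc : ∀ a b : M, a * b = b * a) {ρ t : MulAut M}
    (h : PD ρ t) :
    (Nat.card M = 16 ∧ ∀ m : M, m * m = 1) ∨ ∃ x : M, closure ({x, ρ x} : Set M) = ⊤ := by
  have hinvt : ∀ m : M, m * m = 1 → t m * t m = 1 := fun m hm => by
    rw [← map_mul, hm, map_one]
  -- the homomorphism `u ↦ u * t u` on `Ω`
  let τ : Om hc →* Om hc := MonoidHom.mk'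
    (fun u => ⟨(u : M) * t u, by
      rw [mem_Om, sq_mul hc, u.2, hinvt _ u.2, one_mul]⟩) (by
      intro a b
      apply Subtype.ext
      show ((a : M) * b) * t ((a : M) * b) = ((a : M) * t a) * ((b : M) * t b)
      rw [map_mul]
      calc ((a : M) * b) * (t a * t b) = (a : M) * (b * t a) * t b := by group
        _ = (a : M) * (t a * b) * t b := by rw [hc (b : M) (t a)]
        _ = ((a : M) * t a) * ((b : M) * t b) := by group)
  have hτ : ∀ u : Om hc, ((τ u : Om hc) : M) = (u : M) * t u := fun _ => rfl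
  have hker : Nat.card τ.ker ≤ Nat.card (Fix t) := by
    refine Nat.card_le_card_of_injective
      (fun u : τ.ker => (⟨((u : Om hc) : M), ?_⟩ : Fix t)) ?_
    · have h1 : τ (u : Om hc) = 1 := u.2
      have h2 : ((u : Om hc) : M) * t ((u : Om hc) : M) = 1 := by
        rw [← hτ, h1]; rfl
      have h3 : ((u : Om hc) : M) * ((u : Om hc) : M) = 1 := (u : Om hc).2
      rw [mem_Fix]
      calc t ((u : Om hc) : M) = (((u : Om hc) : M) * ((u : Om hc) : M)) * t ((u : Om hc) : M) := by
            rw [h3, one_mul]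
        _ = ((u : Om hc) : M) * (((u : Om hc) : M) * t ((u : Om hc) : M)) := by group
        _ = ((u : Om hc) : M) := by rw [h2, mul_one]
    · intro a b hab
      have := congrArg (fun z : Fix t => (z : M)) hab
      exact Subtype.ext (Subtype.ext (by simpa using this))
  have hrange : Function.Injective
      (fun r : τ.range => (⟨((r : Om hc) : M), by
        obtain ⟨u, hu⟩ := r.2
        rw [mem_Fix, ← hu, hτ, map_mul, h.tt, hc]⟩ : Fix t)) := by
    intro a b hab
    have := congrArg (fun z : Fix t => (z : M)) hab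
    exact Subtype.ext (Subtype.ext (by simpa using this))
  have hrange' : Nat.card τ.range ≤ Nat.card (Fix t) := Nat.card_le_card_of_injective _ hrange
  have hprod := card_ker_mul_card_range τ
  have hfix := h.fix
  have hΩ16 : Nat.card (Om hc) ≤ 16 := by
    rw [← hprod]
    calc Nat.card τ.ker * Nat.card τ.range ≤ 4 * 4 :=
          Nat.mul_le_mul (hker.trans hfix) (hrange'.trans hfix)
      _ = 16 := by norm_num
  have hΩmod := h.fpf3.card_modEq _ (inv_Om hc ρ)
  have hΩpow : ∃ n, Nat.card (Om hc) = 2 ^ n := (IsPGroup.iff_card).mp (h.two.to_subgroup _)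
  rcases pow2_cases hΩpow hΩ16 hΩmod with h1 | h1 | h1
  · right
    exact exists_gen h.two hc h.fpf3 (by omega)
  · right
    exact exists_gen h.two hc h.fpf3 (by omega)
  left
  -- now `|Ω| = 16`
  have hr4 : Nat.card τ.range = 4 ∧ Nat.card (Fix t) = 4 := by
    rw [h1] at hprod
    have h2 := hker.trans hfix
    have h3 := hrange'.trans hfix
    have h4 : Nat.card τ.range = 4 := by nlinarith
    exact ⟨h4, by omega⟩
  -- every fixed point of `t` is `u * t u` with `u` of order at most two
  have hstar : ∀ c : M, t c = c → ∃ u : M, u * u = 1 ∧ u * t u = c := by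
    intro c hcfix
    have hbij := hrange.bijective_of_nat_card_le (by rw [hr4.1, hr4.2])
    obtain ⟨r, hr⟩ := hbij.2 ⟨c, hcfix⟩
    obtain ⟨u, hu⟩ := r.2
    refine ⟨(u : M), u.2, ?_⟩
    have h2 := congrArg (fun z : Fix t => (z : M)) hr
    simp only at h2
    rw [← h2, ← hu, hτ]
  have hfixΩ : ∀ c : M, t c = c → c * c = 1 := by
    intro c hcfix
    obtain ⟨u, huu, rfl⟩ := hstar c hcfix
    rw [sq_mul hc, huu, hinvt u huu, one_mul]
  have hall : ∀ m : M, m * m = 1 := by
    by_contra hcon
    push Not at hcon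
    obtain ⟨m, hm⟩ := hcon
    have hcm : t (m * t m) = m * t m := by rw [map_mul, h.tt, hc]
    obtain ⟨u, huu, hu⟩ := hstar _ hcm
    -- `k` is inverted by `t`
    obtain ⟨k, hk, hkk⟩ : ∃ k : M, t k = k⁻¹ ∧ k * k ≠ 1 := by
      refine ⟨m * u⁻¹, ?_, ?_⟩
      · rw [eq_inv_iff_mul_eq_one, map_mul, map_inv]
        calc t m * (t u)⁻¹ * (m * u⁻¹) = t m * ((t u)⁻¹ * m) * u⁻¹ := by group
          _ = t m * (m * (t u)⁻¹) * u⁻¹ := by rw [hc (t u)⁻¹ m]
          _ = (t m * m) * (t u)⁻¹ * u⁻¹ := by group
          _ = (m * t m) * (t u)⁻¹ * u⁻¹ := by rw [hc (t m) m]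
          _ = 1 := by rw [← hu]; group
      · intro hkk
        apply hm
        have h5 : m = (m * u⁻¹) * u := by group
        rw [h5, sq_mul hc, hkk, huu, one_mul]
    obtain ⟨j, hj⟩ := (IsPGroup.iff_orderOf.mp h.two) k
    have hj0 : j ≠ 0 := by
      intro h0
      rw [h0, pow_zero, orderOf_eq_one_iff] at hj
      rw [hj, one_mul] at hkk
      exact hkk rfl
    have hj1 : j ≠ 1 := by
      intro h0
      rw [h0, pow_one] at hj
      apply hkk
      rw [← pow_two, ← hj]
      exact pow_orderOf_eq_one k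
    obtain ⟨i, rfl⟩ : ∃ i, j = i + 2 := ⟨j - 2, by omega⟩
    set k' := k ^ 2 ^ i with hk'
    have htk' : t k' = k'⁻¹ := by rw [hk', map_pow, hk, inv_pow]
    have hv1 : k' * k' ≠ 1 := by
      rw [hk', ← pow_add, ← two_mul, ← pow_succ']
      apply pow_ne_one_of_lt_orderOf (by positivity)
      rw [hj]
      exact Nat.pow_lt_pow_right (by norm_num) (by omega)
    have hvv : (k' * k') * (k' * k') = 1 := by
      rw [hk', ← pow_add, ← pow_add, ← two_mul, ← two_mul, ← pow_succ', ← pow_succ', ← hj]
      exact pow_orderOf_eq_one k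
    have htv : t (k' * k') = k' * k' := by
      rw [map_mul, htk', ← mul_inv_rev]
      exact inv_eq_of_mul_eq_one_left hvv
    obtain ⟨u', huu', hu'⟩ := hstar _ htv
    have hu'inv : u'⁻¹ = u' := inv_eq_of_mul_eq_one_left huu'
    have htu' : t u' = u' * (k' * k') := by
      rw [← hu']
      calc t u' = (u' * u') * t u' := by rw [huu', one_mul]
        _ = u' * (u' * t u') := by group
    have hw : t (k' * u') = k' * u' := by
      rw [map_mul, htk', htu']
      calc k'⁻¹ * (u' * (k' * k')) = k'⁻¹ * (u' * k') * k' := by group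
        _ = k'⁻¹ * (k' * u') * k' := by rw [hc u' k']
        _ = u' * k' := by group
        _ = k' * u' := hc _ _
    have := hfixΩ _ hw
    rw [sq_mul hc, huu', mul_one] at this
    exact hv1 this
  refine ⟨?_, hall⟩
  have htop : Om hc = ⊤ := by
    rw [eq_top_iff']
    intro m
    exact hall m
  rw [← Subgroup.card_top (G := M), ← htop, h1]

end pd

end Cfsg.Agent.Helper39.P2A
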