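import Mathlib
import Cfsg.Agent.Lib.Helper39.T64A
import Cfsg.Agent.Lib.Helper39.P2A

/-!
# Sections of a group in the class `PD`

For S2933: the number of fixed points of an involutory automorphism does not increase on passing
to an invariant quotient, so the class `PD` is closed under invariant quotients.
-/

set_option autoImplicit false
set_option linter.unusedSectionVars false
set_option linter.style.haveILetI false

universe u

namespace Cfsg.Agent.Helper39.P2B

open Subgroup Cfsg.Agent.Helper39.T64A Cfsg.Agent.Helper39.P2A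

variable {T : Type u} [Group T]

lemma map_eq_of_inv_tt {t : MulAut T} (htt : ∀ g, t (t g) = g) {N : Subgroup T} (hN : Inv t N) :
    N.map (t : T ≃* T).toMonoidHom = N := by
  apply le_antisymm
  · rintro _ ⟨n, hn, rfl⟩
    exact hN n hn
  · intro n hn
    exact ⟨t n, hN _ hn, htt n⟩

lemma inv_center' (σ : MulAut T) : Inv σ (center T) := by
  intro z hz
  rw [mem_center_iff] at hz ⊢
  intro g
  have h := congrArg σ (hz (σ⁻¹ g))
  rw [map_mul, map_mul] at h
  have e : σ (σ⁻¹ g) = g := by
    rw [← MulAut.mul_apply, mul_inv_cancel, MulAut.one_apply]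
  rwa [e] at h

lemma inv_commutator' (σ : MulAut T) : Inv σ (commutator T) := by
  intro g hg
  have h1 : (commutator T).map (σ : T ≃* T).toMonoidHom = commutator T := by
    rw [commutator_def, Subgroup.map_commutator]
    have : (⊤ : Subgroup T).map (σ : T ≃* T).toMonoidHom = ⊤ :=
      Subgroup.map_top_of_surjective _ (σ : T ≃* T).surjective
    rw [this]
  rw [← h1]
  exact ⟨g, hg, rfl⟩

/-- the fixed points of an involutory automorphism on a quotient are at most as many as on the
group -/
theorem card_Fix_quot_le [Finite T] {t : MulAut T} (htt : ∀ g, t (t g) = g) (N : Subgroup T)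
    [N.Normal] (hN : Inv t N) :
    Nat.card (Fix (qAut t N (map_eq_of_inv_tt htt hN))) ≤ Nat.card (Fix t) := by
  classical
  set tb := qAut t N (map_eq_of_inv_tt htt hN) with htb
  set D : Subgroup T := (Fix tb).comap (QuotientGroup.mk' N) with hD
  have hmemD : ∀ x, x ∈ D ↔ x * (t x)⁻¹ ∈ N := by
    intro x
    rw [hD, mem_comap, mem_Fix, QuotientGroup.mk'_apply, htb, qAut_mk, QuotientGroup.eq]
    exact (Subgroup.Normal.mem_comm_iff inferInstance)
  -- `|D| = |N| * |Fix tb|`
  have hcardD : Nat.card D = Nat.card (Fix tb) * Nat.card N := by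
    have hidx : D.index = (Fix tb).index :=
      Subgroup.index_comap_of_surjective _ (QuotientGroup.mk'_surjective N)
    have h1 := Subgroup.card_mul_index D
    have h2 := Subgroup.card_mul_index (Fix tb)
    have h3 := Subgroup.card_eq_card_quotient_mul_card_subgroup N
    have h4 : 0 < (Fix tb).index := Nat.pos_of_ne_zero (Subgroup.index_ne_zero_of_finite)
    rw [hidx] at h1
    rw [h3, ← h2] at h1
    have h5 : Nat.card D * (Fix tb).index = (Nat.card (Fix tb) * Nat.card N) * (Fix tb).index := by
      rw [h1]; ring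
    exact Nat.eq_of_mul_eq_mul_right h4 h5
  -- `|D| ≤ |Fix t| * |N|`
  have hle : Nat.card D ≤ Nat.card (Fix t) * Nat.card N := by
    let ψ : T → T := fun x => x * (t x)⁻¹
    let rep : T → T := fun n => if h : ∃ y, ψ y = n then Classical.choose h else 1
    have hrep : ∀ x : T, ψ (rep (ψ x)) = ψ x := by
      intro x
      have h : ∃ y, ψ y = ψ x := ⟨x, rfl⟩
      show ψ (if h : ∃ y, ψ y = ψ x then Classical.choose h else 1) = ψ x
      rw [dif_pos h]
      exact Classical.choose_spec h
    have hfib : ∀ x y : T, ψ y = ψ x → y⁻¹ * x ∈ Fix t := by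
      intro x y hxy
      rw [mem_Fix, map_mul, map_inv]
      have h1 : y * (t y)⁻¹ = x * (t x)⁻¹ := hxy
      have h2 : (t y)⁻¹ * t x = y⁻¹ * x := by
        calc (t y)⁻¹ * t x = y⁻¹ * (y * (t y)⁻¹) * t x := by group
          _ = y⁻¹ * (x * (t x)⁻¹) * t x := by rw [h1]
          _ = y⁻¹ * x := by group
      exact h2
    rw [← Nat.card_prod]
    refine Nat.card_le_card_of_injective
      (fun x : D => ((⟨(rep (ψ x))⁻¹ * x, hfib x _ (hrep x)⟩ : Fix t),
        (⟨ψ x, (hmemD x).mp x.2⟩ : N))) ?_
    intro x y hxy
    have h1 : ψ (x : T) = ψ (y : T) := by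
      have := congrArg (fun p : (Fix t) × N => (p.2 : T)) hxy
      simpa using this
    have h2 : (rep (ψ x))⁻¹ * (x : T) = (rep (ψ y))⁻¹ * (y : T) := by
      have := congrArg (fun p : (Fix t) × N => (p.1 : T)) hxy
      simpa using this
    rw [h1] at h2
    exact Subtype.ext (mul_left_cancel h2)
  rw [hcardD] at hle
  exact Nat.le_of_mul_le_mul_right hle Nat.card_pos

/-- the class is closed under invariant quotients -/
theorem PD.quot [Finite T] {ρ t : MulAut T} (h : PD ρ t) (N : Subgroup T) [N.Normal]
    (hρN : Inv ρ N) (htN : Inv t N) :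
    PD (qAut ρ N (map_eq_of_inv h.fpf3 hρN)) (qAut t N (map_eq_of_inv_tt h.tt htN)) where
  fpf3 := h.fpf3.quot N hρN
  tt := by
    intro q
    induction q using QuotientGroup.induction_on with
    | H g => rw [qAut_mk, qAut_mk, h.tt]
  tr := by
    intro q
    induction q using QuotientGroup.induction_on with
    | H g => rw [qAut_mk, qAut_mk, qAut_mk, qAut_mk, h.tr]
  fix := (card_Fix_quot_le h.tt N htN).trans h.fix
  two := h.two.to_quotient N

end Cfsg.Agent.Helper39.P2B
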