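import Mathlib
import Cfsg.Agent.Lib.Helper39.T64A
import Cfsg.Agent.Lib.Helper39.G320B

/-!
# Nonabelian groups of order `64` with a fixed-point-free automorphism of order three

Structure theory: the centre is a four-group, the central quotient is elementary abelian of order
`16`, and the commutator map is "semilinear" with respect to the automorphism.  Used for S3157.
-/

set_option autoImplicit false
set_option linter.unusedSectionVars false
set_option linter.style.haveILetI false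

namespace Cfsg.Agent.Helper39.T64B

open Subgroup Cfsg.Agent.Helper39.T64A
open scoped commutatorElement

variable {T : Type*} [Group T] [Finite T] {ρ : MulAut T}

/-- the hypotheses on `T` and `ρ` -/
structure Setup (ρ : MulAut T) : Prop where
  card : Nat.card T = 64
  na : ∃ a b : T, a * b ≠ b * a
  fpf3 : Fpf3 ρ

section setup

variable (S : Setup ρ)
include S

lemma Setup.card_center : Nat.card (center T) = 4 :=
  (S.fpf3.card_of_noncomm (by rw [S.card]) S.na).2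

lemma Setup.center_sq {z : T} (hz : z ∈ center T) : z * z = 1 :=
  S.fpf3.sq_of_card4 _ S.fpf3.inv_center S.card_center hz

lemma Setup.center_inv {z : T} (hz : z ∈ center T) : z⁻¹ = z :=
  inv_eq_of_mul_eq_one_left (S.center_sq hz)

lemma Setup.card_quot : Nat.card (T ⧸ center T) = 16 := by
  have := Subgroup.card_eq_card_quotient_mul_card_subgroup (center T)
  rw [S.card, S.card_center] at this
  omega

/-- the induced automorphism of the central quotient -/
def Setup.rq : MulAut (T ⧸ center T) :=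
  qAut ρ (center T) (map_eq_of_inv S.fpf3 S.fpf3.inv_center)

lemma Setup.rq_mk (g : T) : S.rq (QuotientGroup.mk g) = QuotientGroup.mk (ρ g) := rfl

lemma Setup.fpf3q : Fpf3 S.rq := S.fpf3.quot _ S.fpf3.inv_center

lemma Setup.quot_comm (p q : T ⧸ center T) : p * q = q * p :=
  S.fpf3q.comm_of_card16 S.card_quot p q

lemma Setup.comm_mem (u v : T) : ⁅u, v⁆ ∈ center T := by
  rw [← QuotientGroup.eq_one_iff, commutatorElement_def]
  have h := S.quot_comm (QuotientGroup.mk u) (QuotientGroup.mk v)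
  rw [QuotientGroup.mk_mul, QuotientGroup.mk_mul, QuotientGroup.mk_mul, QuotientGroup.mk_inv,
    QuotientGroup.mk_inv, h]
  group

lemma Setup.card_map16 (M : Subgroup T) (hZM : center T ≤ M) (hM : Nat.card M = 16) :
    Nat.card (M.map (QuotientGroup.mk' (center T))) = 4 := by
  have hidx : (M.map (QuotientGroup.mk' (center T))).index = M.index :=
    Subgroup.index_map_eq M (QuotientGroup.mk'_surjective _)
      (by rw [QuotientGroup.ker_mk']; exact hZM)
  have h1 := Subgroup.card_mul_index M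
  have h2 := Subgroup.card_mul_index (M.map (QuotientGroup.mk' (center T)))
  rw [hidx, S.card_quot] at h2
  rw [hM, S.card] at h1
  have : M.index = 4 := by omega
  rw [this] at h2
  omega

lemma Setup.inv_map (M : Subgroup T) (hM : Inv ρ M) :
    Inv S.rq (M.map (QuotientGroup.mk' (center T))) := by
  rintro _ ⟨k, hk, rfl⟩
  exact ⟨ρ k, hM k hk, rfl⟩

lemma Setup.sq_mem (y : T) : y * y ∈ center T := by
  by_cases hy : y ∈ center T
  · exact mul_mem hy hy
  · have hK := S.fpf3.card_Kc S.card S.card_center hy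
    have h4 := S.card_map16 _ (S.fpf3.center_le_Kc y) hK
    have hinv := S.inv_map _ (S.fpf3.inv_Kc y)
    have := S.fpf3q.sq_of_card4 _ hinv h4 (z := QuotientGroup.mk y) ⟨y, S.fpf3.self_mem_Kc y, rfl⟩
    rw [← QuotientGroup.eq_one_iff]
    exact this

lemma Setup.quot_sq (q : T ⧸ center T) : q * q = 1 := by
  induction q using QuotientGroup.induction_on with
  | H y =>
    rw [← QuotientGroup.mk_mul, QuotientGroup.eq_one_iff]
    exact S.sq_mem y

end setup

section cmcalc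

variable (S : Setup ρ)
include S

lemma Setup.cz {z : T} (hz : z ∈ center T) (g : T) : z * g = g * z :=
  (mem_center_iff.mp hz g).symm

lemma Setup.cm_comm (u v g : T) : ⁅u, v⁆ * g = g * ⁅u, v⁆ := S.cz (S.comm_mem u v) g

lemma Setup.cm_inv (u v : T) : ⁅u, v⁆⁻¹ = ⁅u, v⁆ := S.center_inv (S.comm_mem u v)

lemma Setup.cm_sq (u v : T) : ⁅u, v⁆ * ⁅u, v⁆ = 1 := S.center_sq (S.comm_mem u v)

lemma Setup.cm_symm (u v : T) : ⁅u, v⁆ = ⁅v, u⁆ :=
  calc ⁅u, v⁆ = ⁅u, v⁆⁻¹ := (S.cm_inv u v).symm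
    _ = ⁅v, u⁆ := commutatorElement_inv u v

lemma Setup.cm_mul_right (u v v' : T) : ⁅u, v * v'⁆ = ⁅u, v⁆ * ⁅u, v'⁆ :=
  G320B.comm_mul_right u v v' (show Commute _ _ from S.cm_comm u v' v)

lemma Setup.cm_mul_left (u u' v : T) : ⁅u * u', v⁆ = ⁅u, v⁆ * ⁅u', v⁆ := by
  rw [S.cm_symm (u * u') v, S.cm_mul_right, S.cm_symm v u, S.cm_symm v u']

lemma Setup.cm_inv_left (u v : T) : ⁅u⁻¹, v⁆ = ⁅u, v⁆ := by
  have h := S.cm_mul_left u⁻¹ u v
  rw [inv_mul_cancel, commutatorElement_one_left] at h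
  rw [eq_inv_of_mul_eq_one_left h.symm, S.cm_inv]

lemma Setup.cm_inv_right (u v : T) : ⁅u, v⁻¹⁆ = ⁅u, v⁆ := by
  rw [S.cm_symm, S.cm_inv_left, S.cm_symm]

lemma Setup.cm_map (u v : T) : ⁅ρ u, ρ v⁆ = ρ ⁅u, v⁆ := (map_commutatorElement ρ u v).symm

lemma Setup.cm_central_left {z : T} (hz : z ∈ center T) (v : T) : ⁅z, v⁆ = 1 := by
  rw [commutatorElement_eq_one_iff_mul_comm]; exact S.cz hz v

lemma Setup.cm_central_right {z : T} (hz : z ∈ center T) (v : T) : ⁅v, z⁆ = 1 := by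
  rw [S.cm_symm, S.cm_central_left hz]

lemma Setup.rr_eq (u : T) : ρ (ρ u) = (u * ρ u)⁻¹ := S.fpf3.sigma2 u

lemma Setup.cm_rr (u v : T) : ⁅u * ρ u, v * ρ v⁆ = ρ (ρ ⁅u, v⁆) := by
  have e1 : u * ρ u = (ρ (ρ u))⁻¹ := by rw [S.rr_eq, inv_inv]
  have e2 : v * ρ v = (ρ (ρ v))⁻¹ := by rw [S.rr_eq, inv_inv]
  rw [e1, e2, S.cm_inv_left, S.cm_inv_right, S.cm_map, S.cm_map]

lemma Setup.rr_center {c : T} (hc : c ∈ center T) : ρ (ρ c) = c * ρ c := by
  rw [S.fpf3.sigma2 c]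
  exact S.center_inv (mul_mem hc (S.fpf3.inv_center _ hc))

lemma Setup.cm_d_eq (u v : T) : ⁅u, ρ v⁆ = ⁅ρ u, v⁆ := by
  have h1 := S.cm_rr u v
  rw [S.cm_mul_left, S.cm_mul_right, S.cm_mul_right, S.cm_map,
    S.rr_center (S.comm_mem u v), mul_assoc] at h1
  have h3 := mul_left_cancel h1
  rw [← mul_assoc] at h3
  have h4 : ⁅u, ρ v⁆ * ⁅ρ u, v⁆ = 1 := mul_right_cancel (b := ρ ⁅u, v⁆) (by rw [h3, one_mul])
  rw [eq_inv_of_mul_eq_one_left h4]
  exact S.cm_inv _ _

lemma Setup.cm_rho_left (u v : T) : ⁅ρ u, v⁆ = ρ (ρ ⁅u, v⁆) := by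
  have hdZ : ⁅ρ u, v⁆ ∈ center T := S.comm_mem _ _
  have h1 : ρ (ρ ⁅ρ u, v⁆) = ⁅u, v⁆ * ⁅ρ u, v⁆ := by
    calc ρ (ρ ⁅ρ u, v⁆) = ρ (ρ ⁅u, ρ v⁆) := by rw [S.cm_d_eq]
      _ = ⁅ρ (ρ u), ρ (ρ (ρ v))⁆ := by rw [S.cm_map, S.cm_map]
      _ = ⁅ρ (ρ u), v⁆ := by rw [S.fpf3.cube]
      _ = ⁅(u * ρ u)⁻¹, v⁆ := by rw [S.rr_eq]
      _ = ⁅u, v⁆ * ⁅ρ u, v⁆ := by rw [S.cm_inv_left, S.cm_mul_left]
  have h2 := S.fpf3.prod_eq_one ⁅ρ u, v⁆
  rw [h1] at h2
  have h3 : ρ ⁅ρ u, v⁆ * ⁅u, v⁆ = 1 := by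
    have e : ⁅ρ u, v⁆ * ρ ⁅ρ u, v⁆ * (⁅u, v⁆ * ⁅ρ u, v⁆) =
        ρ ⁅ρ u, v⁆ * ⁅u, v⁆ * (⁅ρ u, v⁆ * ⁅ρ u, v⁆) := by
      rw [mul_assoc, S.cz hdZ (ρ ⁅ρ u, v⁆ * (⁅u, v⁆ * ⁅ρ u, v⁆))]
      simp only [mul_assoc]
    rw [e, S.center_sq hdZ, mul_one] at h2
    exact h2
  have h4 : ρ ⁅ρ u, v⁆ = ⁅u, v⁆ := by
    rw [eq_inv_of_mul_eq_one_left h3]; exact S.cm_inv u v
  rw [← h4, S.fpf3.cube]

lemma Setup.cm_rho_right (u v : T) : ⁅u, ρ v⁆ = ρ (ρ ⁅u, v⁆) := by
  rw [S.cm_d_eq, S.cm_rho_left]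

lemma Setup.cm_rr_left (u v : T) : ⁅ρ (ρ u), v⁆ = ρ ⁅u, v⁆ := by
  rw [S.cm_rho_left, S.cm_rho_left, S.fpf3.cube]

lemma Setup.cm_rr_right (u v : T) : ⁅u, ρ (ρ v)⁆ = ρ ⁅u, v⁆ := by
  rw [S.cm_rho_right, S.cm_rho_right, S.fpf3.cube]

lemma Setup.cm_self_rho (u : T) : ⁅u, ρ u⁆ = 1 := by
  rw [commutatorElement_eq_one_iff_mul_comm]; exact S.fpf3.comm u

lemma Setup.cm_self_rr (u : T) : ⁅u, ρ (ρ u)⁆ = 1 := by
  rw [commutatorElement_eq_one_iff_mul_comm]; exact S.fpf3.comm2 u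

lemma Setup.sq_mul (u v : T) : (u * v) * (u * v) = (u * u) * (v * v) * ⁅v, u⁆ := by
  have h := G320B.sq_mul_of_comm u v (show Commute _ _ from S.cm_comm v u u)
  rw [pow_two, pow_two, pow_two] at h
  rw [h, S.cm_comm v u (u * u), mul_assoc, S.cm_comm v u (v * v), ← mul_assoc]

end cmcalc

section centr

omit [Finite T] in
lemma mem_cent {u v : T} : v ∈ centralizer ({u} : Set T) ↔ u * v = v * u := by
  rw [mem_centralizer_singleton_iff, eq_comm]

omit [Finite T] in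
lemma cm_eq_one_iff {u v : T} : ⁅u, v⁆ = 1 ↔ u * v = v * u :=
  commutatorElement_eq_one_iff_mul_comm

variable (S : Setup ρ)
include S

lemma Setup.inv_cent (u : T) : Inv ρ (centralizer ({u} : Set T)) := by
  intro v hv
  rw [mem_cent, ← cm_eq_one_iff] at hv ⊢
  rw [S.cm_rho_right, hv, map_one, map_one]

lemma Setup.cent_ne_top {u : T} (hu : u ∉ center T) : centralizer ({u} : Set T) ≠ ⊤ := by
  intro h
  apply hu
  rw [mem_center_iff]
  intro g
  have hg : g ∈ centralizer ({u} : Set T) := by rw [h]; exact mem_top _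
  rw [mem_cent] at hg
  exact hg.symm

lemma Setup.card_cent {u : T} (hu : u ∉ center T) : Nat.card (centralizer ({u} : Set T)) = 16 :=
  S.fpf3.card16_of_between S.card S.card_center _ (S.inv_cent u) (center_le_centralizer _)
    (mem_cent.mpr rfl) hu (S.cent_ne_top hu)

lemma Setup.cent_eq {u v : T} (hu : u ∉ center T) (hv : v ∉ center T) (huv : u * v = v * u) :
    centralizer ({u} : Set T) = centralizer ({v} : Set T) := by
  have hinv : Inv ρ (centralizer ({u} : Set T) ⊓ centralizer ({v} : Set T)) := by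
    intro g hg
    exact ⟨S.inv_cent u g hg.1, S.inv_cent v g hg.2⟩
  have hc := S.fpf3.card16_of_between S.card S.card_center _ hinv
    (le_inf (center_le_centralizer _) (center_le_centralizer _))
    (y := u) ⟨mem_cent.mpr rfl, mem_cent.mpr huv.symm⟩ hu
    (fun h => S.cent_ne_top hu (top_le_iff.mp (h ▸ inf_le_left)))
  have e1 : centralizer ({u} : Set T) ⊓ centralizer ({v} : Set T) = centralizer ({u} : Set T) :=
    Subgroup.eq_of_le_of_card_ge inf_le_left (by rw [hc, S.card_cent hu])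
  have e2 : centralizer ({u} : Set T) ⊓ centralizer ({v} : Set T) = centralizer ({v} : Set T) :=
    Subgroup.eq_of_le_of_card_ge inf_le_right (by rw [hc, S.card_cent hv])
  rw [← e1, e2]

/-- commuting is transitive outside the centre -/
lemma Setup.comm_trans {u v w : T} (hu : u ∉ center T) (huv : u * v = v * u)
    (huw : u * w = w * u) : v * w = w * v := by
  by_cases hv : v ∈ center T
  · exact S.cz hv w
  · have h := S.cent_eq hu hv huv
    have hw : w ∈ centralizer ({u} : Set T) := mem_cent.mpr huw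
    rw [h, mem_cent] at hw
    exact hw

/-- the centralizer of a noncentral element modulo the centre -/
lemma Setup.mk_mem_cases {u v : T} (hu : u ∉ center T) (huv : u * v = v * u) :
    (QuotientGroup.mk v : T ⧸ center T) = 1 ∨
      (QuotientGroup.mk v : T ⧸ center T) = QuotientGroup.mk u ∨
      (QuotientGroup.mk v : T ⧸ center T) = QuotientGroup.mk (ρ u) ∨
      (QuotientGroup.mk v : T ⧸ center T) = QuotientGroup.mk (ρ (ρ u)) := by
  have h4 := S.card_map16 _ (center_le_centralizer _) (S.card_cent hu)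
  have hinv := S.inv_map _ (S.inv_cent u)
  have hu1 : (QuotientGroup.mk u : T ⧸ center T) ≠ 1 := by
    rw [Ne, QuotientGroup.eq_one_iff]; exact hu
  exact S.fpf3q.enum4 _ hinv h4 (z := QuotientGroup.mk u) ⟨u, mem_cent.mpr rfl, rfl⟩ hu1
    (w := QuotientGroup.mk v) ⟨v, mem_cent.mpr huv, rfl⟩

end centr

end Cfsg.Agent.Helper39.T64B
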