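import Mathlib
import Cfsg.Agent.Lib.Helper39.T64A
import Cfsg.Agent.Lib.Helper39.T64B
import Cfsg.Agent.Lib.Helper39.G320B
import Cfsg.Agent.Lib.Helper39.P2A
import Cfsg.Agent.Lib.Helper39.P2B

/-!
# Groups of class two in the class `PD`

For S2933: central-valued commutator pairings are "semilinear" with respect to a fixed-point-free
automorphism of order three; a nonabelian group of class two in the class `PD` has order `64`.
-/

set_option autoImplicit false
set_option linter.unusedSectionVars false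
set_option linter.style.haveILetI false

universe u

namespace Cfsg.Agent.Helper39.P2C

open Subgroup Cfsg.Agent.Helper39.T64A Cfsg.Agent.Helper39.T64B Cfsg.Agent.Helper39.P2A
  Cfsg.Agent.Helper39.P2B
open scoped commutatorElement

section key

lemma comm_key {Y : Type*} [CommGroup Y] [Finite Y] {σ : MulAut Y} (h : Fpf3 σ) {A B C : Y}
    (h1 : A * B * C = 1) (h2 : A * σ C * σ (σ B) = 1) : B = σ C ∧ B = σ (σ A) := by
  have h3 : B * C = σ (σ B) * σ C := by
    have : A * (B * C) = A * (σ (σ B) * σ C) := by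
      rw [← mul_assoc, h1, mul_comm (σ (σ B)), ← mul_assoc, h2]
    exact mul_left_cancel this
  have h4 : σ (σ (B / σ C)) = B / σ C := by
    rw [map_div, map_div, h.cube, eq_comm, div_eq_div_iff_mul_eq_mul]
    exact h3
  have h5 : B = σ C := by
    have := h.fpf2 _ h4
    exact div_eq_one.mp this
  refine ⟨h5, ?_⟩
  have h6 : C = σ (σ B) := by rw [h5, h.cube]
  have h7 := h.prod_eq_one B
  rw [h6] at h1
  have h8 : A = σ B := by
    have : A * (B * σ (σ B)) = σ B * (B * σ (σ B)) := by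
      rw [← mul_assoc, h1, ← mul_assoc, mul_comm (σ B) B, h7]
    exact mul_right_cancel this
  rw [h8, h.cube]

end key

section cp

variable {T : Type u} [Group T] [Finite T] {ρ : MulAut T} {K : Subgroup T}

/-- a `ρ`-invariant subgroup all of whose commutators are central -/
structure CP (ρ : MulAut T) (K : Subgroup T) : Prop where
  fpf3 : Fpf3 ρ
  inv : Inv ρ K
  cl : ∀ g ∈ K, ∀ x : T, ⁅g, x⁆ ∈ center T

omit [Finite T] in
lemma cz {z : T} (hz : z ∈ center T) (g : T) : z * g = g * z :=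
  (mem_center_iff.mp hz g).symm

lemma CP.mul_right (P : CP ρ K) {g : T} (hg : g ∈ K) (x x' : T) :
    ⁅g, x * x'⁆ = ⁅g, x⁆ * ⁅g, x'⁆ :=
  G320B.comm_mul_right g x x' (show Commute _ _ from cz (P.cl g hg x') x)

lemma CP.mul_left (P : CP ρ K) {g g' : T} (_hg : g ∈ K) (hg' : g' ∈ K) (x : T) :
    ⁅g * g', x⁆ = ⁅g, x⁆ * ⁅g', x⁆ := by
  have e : ⁅g * g', x⁆ = g * ⁅g', x⁆ * g⁻¹ * ⁅g, x⁆ := by
    rw [commutatorElement_def, commutatorElement_def, commutatorElement_def]; group
  rw [e, ← cz (P.cl g' hg' x) g, mul_inv_cancel_right, cz (P.cl g' hg' x)]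

open scoped IsMulCommutative in
lemma CP.rho (P : CP ρ K) {g : T} (hg : g ∈ K) (x : T) :
    ⁅g, ρ x⁆ = ⁅ρ g, x⁆ ∧ ⁅g, ρ x⁆ = ρ (ρ ⁅g, x⁆) := by
  have hZ := inv_center' ρ
  let σ := rAut P.fpf3 (center T) hZ
  have hσ : Fpf3 σ := P.fpf3.restrict _ hZ
  let A : center T := ⟨⁅g, x⁆, P.cl g hg x⟩
  let B : center T := ⟨⁅g, ρ x⁆, P.cl g hg _⟩
  let C : center T := ⟨⁅g, ρ (ρ x)⁆, P.cl g hg _⟩
  have h1 : A * B * C = 1 := by
    apply Subtype.ext
    show ⁅g, x⁆ * ⁅g, ρ x⁆ * ⁅g, ρ (ρ x)⁆ = 1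
    rw [← P.mul_right hg, ← P.mul_right hg, P.fpf3.prod_eq_one, commutatorElement_one_right]
  have h2 : A * σ C * σ (σ B) = 1 := by
    apply Subtype.ext
    show ⁅g, x⁆ * ρ ⁅g, ρ (ρ x)⁆ * ρ (ρ ⁅g, ρ x⁆) = 1
    rw [map_commutatorElement, map_commutatorElement, map_commutatorElement, P.fpf3.cube,
      ← P.mul_left hg (P.inv g hg),
      ← P.mul_left (mul_mem hg (P.inv g hg)) (P.inv _ (P.inv g hg)), P.fpf3.prod_eq_one,
      commutatorElement_one_left]
  obtain ⟨e1, e2⟩ := comm_key (Y := center T) (σ := σ) (A := A) (B := B) (C := C) hσ h1 h2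
  constructor
  · have h3 : ⁅g, ρ x⁆ = ρ ⁅g, ρ (ρ x)⁆ := congrArg Subtype.val e1
    rw [h3, map_commutatorElement, P.fpf3.cube]
  · exact congrArg Subtype.val e2

lemma CP.rho_right (P : CP ρ K) {g : T} (hg : g ∈ K) (x : T) : ⁅g, ρ x⁆ = ρ (ρ ⁅g, x⁆) :=
  (P.rho hg x).2

lemma CP.rho_left (P : CP ρ K) {g : T} (hg : g ∈ K) (x : T) : ⁅ρ g, x⁆ = ρ (ρ ⁅g, x⁆) := by
  rw [← (P.rho hg x).1, (P.rho hg x).2]

end cp

section c2

variable {T : Type u} [Group T] [Finite T] {ρ : MulAut T}

/-- class at most two with central squares -/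
structure C2 (ρ : MulAut T) : Prop where
  fpf3 : Fpf3 ρ
  cl : ∀ a b : T, ⁅a, b⁆ ∈ center T
  sq : ∀ g : T, g * g ∈ center T

variable (S : C2 ρ)
include S

lemma C2.cp : CP ρ (⊤ : Subgroup T) := ⟨S.fpf3, fun _ _ => mem_top _, fun g _ x => S.cl g x⟩

lemma C2.cm_mul_right (u v v' : T) : ⁅u, v * v'⁆ = ⁅u, v⁆ * ⁅u, v'⁆ :=
  S.cp.mul_right (mem_top _) v v'

lemma C2.cm_mul_left (u u' v : T) : ⁅u * u', v⁆ = ⁅u, v⁆ * ⁅u', v⁆ :=
  S.cp.mul_left (mem_top _) (mem_top _) v

lemma C2.cm_central_left {z : T} (hz : z ∈ center T) (v : T) : ⁅z, v⁆ = 1 := by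
  rw [commutatorElement_eq_one_iff_mul_comm]; exact cz hz v

lemma C2.cm_central_right {z : T} (hz : z ∈ center T) (v : T) : ⁅v, z⁆ = 1 := by
  rw [commutatorElement_eq_one_iff_mul_comm]; exact (cz hz v).symm

lemma C2.cm_sq (u v : T) : ⁅u, v⁆ * ⁅u, v⁆ = 1 := by
  rw [← S.cm_mul_left, S.cm_central_left (S.sq u)]

lemma C2.cm_inv (u v : T) : ⁅u, v⁆⁻¹ = ⁅u, v⁆ := inv_eq_of_mul_eq_one_left (S.cm_sq u v)

lemma C2.cm_symm (u v : T) : ⁅u, v⁆ = ⁅v, u⁆ :=
  calc ⁅u, v⁆ = ⁅u, v⁆⁻¹ := (S.cm_inv u v).symm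
    _ = ⁅v, u⁆ := commutatorElement_inv u v

lemma C2.cm_inv_left (u v : T) : ⁅u⁻¹, v⁆ = ⁅u, v⁆ := by
  have h := S.cm_mul_left u⁻¹ u v
  rw [inv_mul_cancel, commutatorElement_one_left] at h
  rw [eq_inv_of_mul_eq_one_left h.symm, S.cm_inv]

lemma C2.cm_rho_left (u v : T) : ⁅ρ u, v⁆ = ρ (ρ ⁅u, v⁆) := S.cp.rho_left (mem_top _) v

lemma C2.cm_rho_right (u v : T) : ⁅u, ρ v⁆ = ρ (ρ ⁅u, v⁆) := S.cp.rho_right (mem_top _) v

/-- commutation with a fixed element, as a homomorphism -/
def C2.cmHom (u : T) : T →* T := MonoidHom.mk' (fun v => ⁅u, v⁆) (S.cm_mul_right u)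

lemma C2.cmHom_apply (u v : T) : S.cmHom u v = ⁅u, v⁆ := rfl

/-- the elements whose commutator with `u` lies in `C` -/
def C2.D (C : Subgroup T) (u : T) : Subgroup T := C.comap (S.cmHom u)

lemma C2.mem_D {C : Subgroup T} {u v : T} : v ∈ S.D C u ↔ ⁅u, v⁆ ∈ C := Iff.rfl

lemma C2.D_eq_top {C : Subgroup T} (hC : Inv ρ C) {a b : T}
    (hgen : closure ({a, ρ a, b, ρ b} : Set T) ⊔ center T = ⊤) (u : T)
    (ha : ⁅u, a⁆ ∈ C) (hb : ⁅u, b⁆ ∈ C) : S.D C u = ⊤ := by
  have hinv : ∀ v, v ∈ S.D C u → ρ v ∈ S.D C u := by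
    intro v hv
    rw [S.mem_D] at hv ⊢
    rw [S.cm_rho_right]
    exact hC _ (hC _ hv)
  rw [eq_top_iff, ← hgen, sup_le_iff]
  constructor
  · rw [closure_le]
    intro s hs
    simp only [Set.mem_insert_iff, Set.mem_singleton_iff] at hs
    rcases hs with h | h | h | h
    · rw [h]; exact ha
    · rw [h]; exact hinv _ ha
    · rw [h]; exact hb
    · rw [h]; exact hinv _ hb
  · intro z hz
    rw [S.mem_D, S.cm_central_right hz]
    exact one_mem _

theorem C2.comm_mem_of_gen {C : Subgroup T} (hC : Inv ρ C) {a b : T}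
    (hgen : closure ({a, ρ a, b, ρ b} : Set T) ⊔ center T = ⊤) (hc : ⁅a, b⁆ ∈ C) (u v : T) :
    ⁅u, v⁆ ∈ C := by
  have h1 : ∀ v, ⁅a, v⁆ ∈ C := by
    intro v
    have := S.D_eq_top hC hgen a (by rw [commutatorElement_self]; exact one_mem _) hc
    rw [← S.mem_D, this]
    exact mem_top _
  have h2 : ∀ v, ⁅b, v⁆ ∈ C := by
    intro v
    have := S.D_eq_top hC hgen b (by rw [S.cm_symm]; exact hc)
      (by rw [commutatorElement_self]; exact one_mem _)
    rw [← S.mem_D, this]
    exact mem_top _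
  have := S.D_eq_top hC hgen u (by rw [S.cm_symm]; exact h1 u) (by rw [S.cm_symm]; exact h2 u)
  rw [← S.mem_D, this]
  exact mem_top _

/-- the subgroup generated by a central involution and its image has order at most four -/
theorem C2.card_closure_le {c : T} (hc : c ∈ center T) (hcc : c * c = 1) :
    Nat.card (closure ({c, ρ c} : Set T)) ≤ 4 := by
  have h0 : Nat.card (closure (∅ : Set T)) = 1 := by
    rw [Subgroup.closure_empty]; exact Subgroup.card_bot
  have h1 := G320B.card_closure_insert_le (∅ : Set T) (ρ c) 2 (by norm_num)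
    (by intro s hs; exact absurd hs (Set.notMem_empty s))
    (by rw [pow_two, ← map_mul, hcc, map_one]; exact one_mem _)
  have e1 : (insert (ρ c) (∅ : Set T)) = {ρ c} := by simp
  rw [e1] at h1
  have h2 := G320B.card_closure_insert_le ({ρ c} : Set T) c 2 (by norm_num)
    (by
      intro s hs
      rw [Set.mem_singleton_iff] at hs
      rw [hs, cz hc, mul_inv_cancel_right]
      exact subset_closure (Set.mem_singleton _))
    (by rw [pow_two, hcc]; exact one_mem _)
  have := h2.2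
  have := h1.2
  omega

end c2

section quotient_tools

variable {T : Type u} [Group T]

lemma eq_top_of_map_eq_top {N H : Subgroup T} [N.Normal] (hN : N ≤ H)
    (h : H.map (QuotientGroup.mk' N) = ⊤) : H = ⊤ := by
  have h1 := Subgroup.comap_map_eq_self (f := QuotientGroup.mk' N) (H := H)
    (by rw [QuotientGroup.ker_mk']; exact hN)
  rw [h, comap_top] at h1
  exact h1.symm

/-- if `T / N` is generated by the images of `x` and `ρ x` for a central subgroup `N`, then `T`
is abelian -/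
theorem comm_of_two_gen [Finite T] {ρ : MulAut T} (hρ : Fpf3 ρ) {N : Subgroup T} [N.Normal]
    (hN : N ≤ center T) (x : T)
    (hx : closure ({(QuotientGroup.mk x : T ⧸ N), QuotientGroup.mk (ρ x)} : Set (T ⧸ N)) = ⊤)
    (a b : T) : a * b = b * a := by
  have himg : ∀ H : Subgroup T, x ∈ H → ρ x ∈ H → N ≤ H → H = ⊤ := by
    intro H h1 h2 h3
    apply eq_top_of_map_eq_top h3
    rw [eq_top_iff, ← hx, closure_le]
    intro s hs
    simp only [Set.mem_insert_iff, Set.mem_singleton_iff] at hs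
    rcases hs with h | h
    · rw [h]; exact ⟨x, h1, rfl⟩
    · rw [h]; exact ⟨ρ x, h2, rfl⟩
  have hxZ : x ∈ center T := by
    have := himg (centralizer ({x} : Set T)) (mem_cent.mpr rfl) (mem_cent.mpr (hρ.comm x))
      (hN.trans (center_le_centralizer _))
    rw [mem_center_iff]
    intro g
    have hg : g ∈ centralizer ({x} : Set T) := by rw [this]; exact mem_top _
    rw [mem_cent] at hg
    exact hg.symm
  have htop := himg (center T) hxZ (inv_center' ρ x hxZ) hN
  have ha : a ∈ center T := by rw [htop]; exact mem_top _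
  exact cz ha b

end quotient_tools

section main

variable {T : Type u} [Group T] [Finite T] {ρ t : MulAut T}

omit [Finite T] in
lemma quot_comm_of_le {N : Subgroup T} [N.Normal] (hN : ∀ a b : T, ⁅a, b⁆ ∈ N)
    (p q : T ⧸ N) : p * q = q * p := by
  induction p using QuotientGroup.induction_on with
  | H a =>
  induction q using QuotientGroup.induction_on with
  | H b =>
    rw [← QuotientGroup.mk_mul, ← QuotientGroup.mk_mul, QuotientGroup.eq]
    have : (a * b)⁻¹ * (b * a) = ⁅b⁻¹, a⁻¹⁆ := by rw [commutatorElement_def]; group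
    rw [this]
    exact hN _ _

omit [Finite T] in
lemma comm_mem_commutator (a b : T) : ⁅a, b⁆ ∈ commutator T := by
  rw [commutator_def]
  exact Subgroup.commutator_mem_commutator (mem_top a) (mem_top b)

lemma inv_centralizer (S : C2 ρ) (a : T) : Inv ρ (centralizer ({a} : Set T)) := by
  intro v hv
  rw [mem_cent, ← cm_eq_one_iff] at hv ⊢
  rw [S.cm_rho_right, hv, map_one, map_one]

lemma inv_gen (hρ : Fpf3 ρ) (a b : T) :
    Inv ρ (closure ({a, ρ a, b, ρ b} : Set T) ⊔ center T) := by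
  have hle : closure ({a, ρ a, b, ρ b} : Set T) ⊔ center T ≤
      (closure ({a, ρ a, b, ρ b} : Set T) ⊔ center T).comap (ρ : T ≃* T).toMonoidHom := by
    have ha : a ∈ closure ({a, ρ a, b, ρ b} : Set T) := subset_closure (by simp)
    have ha' : ρ a ∈ closure ({a, ρ a, b, ρ b} : Set T) := subset_closure (by simp)
    have hb : b ∈ closure ({a, ρ a, b, ρ b} : Set T) := subset_closure (by simp)
    have hb' : ρ b ∈ closure ({a, ρ a, b, ρ b} : Set T) := subset_closure (by simp)
    rw [sup_le_iff]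
    constructor
    · rw [closure_le]
      intro s hs
      simp only [Set.mem_insert_iff, Set.mem_singleton_iff] at hs
      rw [SetLike.mem_coe, mem_comap]
      apply mem_sup_left
      rcases hs with h | h | h | h
      · rw [h]; exact ha'
      · rw [h]
        show ρ (ρ a) ∈ _
        rw [hρ.sigma2]
        exact inv_mem (mul_mem ha ha')
      · rw [h]; exact hb'
      · rw [h]
        show ρ (ρ b) ∈ _
        rw [hρ.sigma2]
        exact inv_mem (mul_mem hb hb')
    · intro z hz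
      rw [mem_comap]
      exact mem_sup_right (inv_center' ρ z hz)
  intro g hg
  exact hle hg

/-- a nonabelian group of class two in the class has order `64` -/
theorem setup_of_class_two (h : PD ρ t) (hcl : ∀ a b : T, ⁅a, b⁆ ∈ center T)
    (hna : ∃ a b : T, a * b ≠ b * a) : Setup ρ := by
  obtain ⟨a, b, hab⟩ := hna
  -- the central quotient
  have hq := PD.quot h (center T) (inv_center' ρ) (inv_center' t)
  rcases abelian_cases (quot_comm_of_le hcl) hq with ⟨hq16, hqsq⟩ | ⟨xb, hxb⟩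
  swap
  · exfalso
    induction xb using QuotientGroup.induction_on with
    | H x => exact hab (comm_of_two_gen h.fpf3 le_rfl x hxb a b)
  have hsq : ∀ g : T, g * g ∈ center T := by
    intro g
    have := hqsq (QuotientGroup.mk g)
    rwa [← QuotientGroup.mk_mul, QuotientGroup.eq_one_iff] at this
  have S : C2 ρ := ⟨h.fpf3, hcl, hsq⟩
  have hc1 : ⁅a, b⁆ ≠ 1 := by rwa [Ne, commutatorElement_eq_one_iff_mul_comm]
  -- generation
  have hgen : closure ({a, ρ a, b, ρ b} : Set T) ⊔ center T = ⊤ := by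
    set H := closure ({a, ρ a, b, ρ b} : Set T) ⊔ center T with hH
    have hHinv : Inv ρ H := inv_gen h.fpf3 a b
    have hCinv : Inv ρ (centralizer ({a} : Set T)) := inv_centralizer S a
    set Hq := H.map (QuotientGroup.mk' (center T)) with hHq
    set Cq := (centralizer ({a} : Set T)).map (QuotientGroup.mk' (center T)) with hCq
    have hHqinv : Inv (qAut ρ (center T) (map_eq_of_inv h.fpf3 (inv_center' ρ))) Hq := by
      rintro _ ⟨k, hk, rfl⟩
      exact ⟨ρ k, hHinv k hk, rfl⟩
    have hCqinv : Inv (qAut ρ (center T) (map_eq_of_inv h.fpf3 (inv_center' ρ))) Cq := by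
      rintro _ ⟨k, hk, rfl⟩
      exact ⟨ρ k, hCinv k hk, rfl⟩
    have hinfinv : Inv (qAut ρ (center T) (map_eq_of_inv h.fpf3 (inv_center' ρ))) (Hq ⊓ Cq) :=
      fun g hg => ⟨hHqinv g hg.1, hCqinv g hg.2⟩
    have haH : a ∈ H := mem_sup_left (subset_closure (by simp))
    have hbH : b ∈ H := mem_sup_left (subset_closure (by simp))
    have haZ : a ∉ center T := fun hz => hab (cz hz b)
    have hinf1 : 1 < Nat.card ↥(Hq ⊓ Cq) := by
      rw [Subgroup.one_lt_card_iff_ne_bot]
      intro hbot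
      have hm : (QuotientGroup.mk a : T ⧸ center T) ∈ Hq ⊓ Cq :=
        ⟨⟨a, haH, rfl⟩, ⟨a, mem_cent.mpr rfl, rfl⟩⟩
      rw [hbot, mem_bot, QuotientGroup.eq_one_iff] at hm
      exact haZ hm
    have hinfmod := hq.fpf3.card_modEq _ hinfinv
    rcases hq.fpf3.card_cases (by rw [hq16]; norm_num) Hq hHqinv with h1 | h1 | h1 | h1
    · exfalso
      have := Subgroup.card_le_of_le (inf_le_left : Hq ⊓ Cq ≤ Hq)
      omega
    · exfalso
      have hle := Subgroup.card_le_of_le (inf_le_left : Hq ⊓ Cq ≤ Hq)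
      have heq : Hq ⊓ Cq = Hq := by
        apply Subgroup.eq_of_le_of_card_ge inf_le_left
        unfold Nat.ModEq at hinfmod
        omega
      have hbq : (QuotientGroup.mk b : T ⧸ center T) ∈ Cq := by
        have : (QuotientGroup.mk b : T ⧸ center T) ∈ Hq ⊓ Cq := by
          rw [heq]; exact ⟨b, hbH, rfl⟩
        exact this.2
      obtain ⟨v, hv, hvb⟩ := hbq
      have hvb' : v⁻¹ * b ∈ center T := by
        rw [← QuotientGroup.eq]; exact hvb
      have hb2 : b ∈ centralizer ({a} : Set T) := by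
        have : b = v * (v⁻¹ * b) := by group
        rw [this]
        exact mul_mem hv (center_le_centralizer _ hvb')
      rw [mem_cent] at hb2
      exact hab hb2
    · apply eq_top_of_map_eq_top (N := center T) le_sup_right
      exact Subgroup.eq_top_of_card_eq _ (by rw [h1, hq16])
    · exfalso
      have := Subgroup.card_le_card_group Hq
      omega
  -- the commutator subgroup
  have hCinv : Inv ρ (closure ({⁅a, b⁆, ρ ⁅a, b⁆} : Set T)) := inv_closure_pair h.fpf3 _
  have hcomm : ∀ u v : T, ⁅u, v⁆ ∈ closure ({⁅a, b⁆, ρ ⁅a, b⁆} : Set T) :=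
    S.comm_mem_of_gen hCinv hgen (subset_closure (by simp))
  have hle : commutator T ≤ closure ({⁅a, b⁆, ρ ⁅a, b⁆} : Set T) := by
    rw [commutator_eq_closure, closure_le]
    rintro _ ⟨u, v, rfl⟩
    exact hcomm u v
  have hC4 : Nat.card (commutator T) ≤ 4 :=
    (Subgroup.card_le_of_le hle).trans (S.card_closure_le (S.cl a b) (S.cm_sq a b))
  have hcZ : commutator T ≤ center T := by
    rw [commutator_eq_closure, closure_le]
    rintro _ ⟨u, v, rfl⟩
    exact hcl u v
  -- the abelianization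
  have hq' := PD.quot h (commutator T) (inv_commutator' ρ) (inv_commutator' t)
  rcases abelian_cases (quot_comm_of_le comm_mem_commutator) hq' with ⟨h16, -⟩ | ⟨xb, hxb⟩
  swap
  · exfalso
    induction xb using QuotientGroup.induction_on with
    | H x => exact hab (comm_of_two_gen h.fpf3 hcZ x hxb a b)
  have hcard : Nat.card T ≤ 64 := by
    rw [Subgroup.card_eq_card_quotient_mul_card_subgroup (commutator T), h16]
    omega
  obtain ⟨k, hk⟩ := (IsPGroup.iff_card).mp h.two
  have hk6 : k ≤ 6 := by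
    by_contra hcon
    have : 2 ^ 7 ≤ 2 ^ k := Nat.pow_le_pow_right (by norm_num) (by omega)
    omega
  have hdvd : Nat.card T ∣ 64 := by
    rw [hk]
    exact pow_dvd_pow 2 hk6
  exact ⟨(h.fpf3.card_of_noncomm hdvd ⟨a, b, hab⟩).1, ⟨a, b, hab⟩, h.fpf3⟩

end main

end Cfsg.Agent.Helper39.P2C
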