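import Mathlib
import Cfsg.Agent.Lib.Helper39.T64B

/-!
# The involutory automorphism `x` inverting `ρ`

For S3157: fixed points of `x` on the centre and on the central quotient.
-/

set_option autoImplicit false
set_option linter.unusedSectionVars false
set_option linter.style.haveILetI false

namespace Cfsg.Agent.Helper39.T64C

open Subgroup Cfsg.Agent.Helper39.T64A Cfsg.Agent.Helper39.T64B
open scoped commutatorElement

variable {T : Type*} [Group T] [Finite T] {ρ x : MulAut T}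

/-- the hypotheses on `T`, `ρ` and `x` -/
structure XSetup (ρ x : MulAut T) : Prop extends Setup ρ where
  xx : ∀ g, x (x g) = g
  xr : ∀ g, x (ρ g) = ρ (ρ (x g))

section basic

variable (X : XSetup ρ x)
include X

lemma XSetup.xrr (g : T) : x (ρ (ρ g)) = ρ (x g) := by
  rw [X.xr, X.xr, X.fpf3.cube]

lemma XSetup.x_center {z : T} (hz : z ∈ center T) : x z ∈ center T := by
  rw [mem_center_iff] at hz ⊢
  intro g
  have := congrArg x (hz (x g))
  rw [map_mul, map_mul, X.xx] at this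
  exact this

lemma XSetup.map_center_x : (center T).map (x : T ≃* T).toMonoidHom = center T := by
  apply le_antisymm
  · rintro _ ⟨z, hz, rfl⟩
    exact X.x_center hz
  · intro z hz
    exact ⟨x z, X.x_center hz, X.xx z⟩

/-- the automorphism induced by `x` on the central quotient -/
def XSetup.xq : MulAut (T ⧸ center T) := qAut x (center T) X.map_center_x

lemma XSetup.xq_mk (g : T) : X.xq (QuotientGroup.mk g) = QuotientGroup.mk (x g) := rfl

lemma XSetup.xq_xq (q : T ⧸ center T) : X.xq (X.xq q) = q := by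
  induction q using QuotientGroup.induction_on with
  | H g => rw [X.xq_mk, X.xq_mk, X.xx]

lemma XSetup.xq_rq (q : T ⧸ center T) :
    X.xq (X.toSetup.rq q) = X.toSetup.rq (X.toSetup.rq (X.xq q)) := by
  induction q using QuotientGroup.induction_on with
  | H g => rw [Setup.rq_mk, X.xq_mk, X.xq_mk, Setup.rq_mk, Setup.rq_mk, X.xr]

lemma XSetup.xq_rrq (q : T ⧸ center T) :
    X.xq (X.toSetup.rq (X.toSetup.rq q)) = X.toSetup.rq (X.xq q) := by
  rw [X.xq_rq, X.xq_rq, X.toSetup.fpf3q.cube]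

lemma XSetup.quot_inv (q : T ⧸ center T) : q⁻¹ = q :=
  inv_eq_of_mul_eq_one_left (X.toSetup.quot_sq q)

/-- the fixed points of `x` on the central quotient -/
def XSetup.Dq : Subgroup (T ⧸ center T) where
  carrier := {q | X.xq q = q}
  one_mem' := map_one _
  mul_mem' := by
    intro a b ha hb
    simp only [Set.mem_ofPred_eq] at *
    rw [map_mul, ha, hb]
  inv_mem' := by
    intro a ha
    simp only [Set.mem_ofPred_eq] at *
    rw [map_inv, ha]

lemma XSetup.mem_Dq {q : T ⧸ center T} : q ∈ X.Dq ↔ X.xq q = q := Iff.rfl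

/-- the homomorphism `q ↦ q * x q` -/
def XSetup.psi : (T ⧸ center T) →* (T ⧸ center T) :=
  MonoidHom.mk' (fun q => q * X.xq q) (by
    intro a b
    rw [map_mul]
    have h := X.toSetup.quot_comm b (X.xq a)
    calc a * b * (X.xq a * X.xq b) = a * (b * X.xq a) * X.xq b := by group
      _ = a * (X.xq a * b) * X.xq b := by rw [h]
      _ = a * X.xq a * (b * X.xq b) := by group)

lemma XSetup.psi_apply (q : T ⧸ center T) : X.psi q = q * X.xq q := rfl

lemma XSetup.ker_psi : X.psi.ker = X.Dq := by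
  ext q
  rw [MonoidHom.mem_ker, X.psi_apply, X.mem_Dq]
  constructor
  · intro h
    have h2 : X.xq q = q⁻¹ := (inv_eq_of_mul_eq_one_right h).symm
    rw [h2, X.quot_inv q]
  · intro h
    rw [h]; exact X.toSetup.quot_sq q

lemma XSetup.range_psi_le : X.psi.range ≤ X.Dq := by
  rintro _ ⟨q, rfl⟩
  rw [X.mem_Dq, X.psi_apply, map_mul, X.xq_xq]
  exact X.toSetup.quot_comm _ _

lemma XSetup.card_Dq_ge : 4 ≤ Nat.card X.Dq := by
  have h1 := Subgroup.card_mul_index X.psi.ker
  rw [Subgroup.index_ker, X.ker_psi, X.toSetup.card_quot] at h1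
  have h2 : Nat.card X.psi.range ≤ Nat.card X.Dq := Subgroup.card_le_of_le X.range_psi_le
  nlinarith

end basic

section lifts

omit [Finite T] in
lemma exists_third {Q : Type*} [Group Q] [Finite Q] (H : Subgroup Q) (h : 3 ≤ Nat.card H)
    (a b : Q) : ∃ q ∈ H, q ≠ a ∧ q ≠ b := by
  classical
  by_contra hcon
  push Not at hcon
  have hsub : (H : Set Q) ⊆ ({a, b} : Set Q) := by
    intro q hq
    by_cases hqa : q = a
    · exact Or.inl hqa
    · exact Or.inr (hcon q hq hqa)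
  have h1 := Set.ncard_le_ncard hsub (Set.toFinite _)
  have h2 : ({a, b} : Set Q).ncard ≤ 2 := Set.ncard_insert_le a {b} |>.trans (by simp)
  have e : Nat.card ↥H = ((H : Set Q)).ncard := Nat.card_coe_set_eq _
  omega

variable (X : XSetup ρ x)
include X

/-- an element fixed by `x` modulo the centre can be corrected to a fixed element -/
lemma XSetup.exists_fixed_lift (e : T) (he : e⁻¹ * x e ∈ center T) :
    ∃ w ∈ center T, x (e * w) = e * w := by
  set z := e⁻¹ * x e with hz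
  have hxe : x e = e * z := by rw [hz]; group
  have hxz : x z = z := by
    have h1 : e = e * z * x z := by
      have := X.xx e
      rw [hxe, map_mul, hxe] at this
      exact this.symm
    have h2 : z * x z = 1 := by
      have : e * 1 = e * (z * x z) := by rw [mul_one, ← mul_assoc]; exact h1
      exact (mul_left_cancel this).symm
    have h3 : x z = z⁻¹ := (inv_eq_of_mul_eq_one_right h2).symm
    rw [h3, X.toSetup.center_inv he]
  refine ⟨ρ z, X.fpf3.inv_center _ he, ?_⟩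
  rw [map_mul, hxe, X.xr, hxz]
  have h4 : z * ρ (ρ z) = ρ z := by
    have hp := X.fpf3.prod_eq_one z
    have hρz : ρ z ∈ center T := X.fpf3.inv_center _ he
    have e1 : z * ρ z * ρ (ρ z) = ρ z * (z * ρ (ρ z)) := by
      rw [X.toSetup.cz he (ρ z), mul_assoc]
    rw [e1] at hp
    have := eq_inv_of_mul_eq_one_right hp
    rw [this, X.toSetup.center_inv hρz]
  rw [mul_assoc, h4]

/-- two non-commuting fixed points of `x` -/
theorem XSetup.exists_fixed_pair : ∃ e₁ e₂ : T, x e₁ = e₁ ∧ x e₂ = e₂ ∧ e₁ * e₂ ≠ e₂ * e₁ := by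
  have h4 := X.card_Dq_ge
  obtain ⟨q₁, hq₁, hq₁1, -⟩ := exists_third X.Dq (by omega) 1 1
  obtain ⟨q₂, hq₂, hq₂1, hq₂q⟩ := exists_third X.Dq (by omega) 1 q₁
  obtain ⟨e₁, rfl⟩ := QuotientGroup.mk_surjective q₁
  obtain ⟨e₂, rfl⟩ := QuotientGroup.mk_surjective q₂
  rw [X.mem_Dq, X.xq_mk, QuotientGroup.eq] at hq₁ hq₂
  have hf : ∀ e : T, (x e)⁻¹ * e ∈ center T → e⁻¹ * x e ∈ center T := by
    intro e he
    have := (center T).inv_mem he
    rwa [mul_inv_rev, inv_inv] at this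
  obtain ⟨w₁, hw₁, hx₁⟩ := X.exists_fixed_lift e₁ (hf _ hq₁)
  obtain ⟨w₂, hw₂, hx₂⟩ := X.exists_fixed_lift e₂ (hf _ hq₂)
  have hm₁ : (QuotientGroup.mk (e₁ * w₁) : T ⧸ center T) = QuotientGroup.mk e₁ := by
    rw [QuotientGroup.mk_mul, (QuotientGroup.eq_one_iff w₁).mpr hw₁, mul_one]
  have hm₂ : (QuotientGroup.mk (e₂ * w₂) : T ⧸ center T) = QuotientGroup.mk e₂ := by
    rw [QuotientGroup.mk_mul, (QuotientGroup.eq_one_iff w₂).mpr hw₂, mul_one]
  refine ⟨e₁ * w₁, e₂ * w₂, hx₁, hx₂, ?_⟩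
  intro hcomm
  have hu : e₁ * w₁ ∉ center T := by
    rw [← QuotientGroup.eq_one_iff, hm₁]; exact hq₁1
  have hfix₁ : X.xq (QuotientGroup.mk e₁) = QuotientGroup.mk e₁ := by
    rw [← hm₁, X.xq_mk, hx₁]
  have hfix₂ : X.xq (QuotientGroup.mk e₂) = QuotientGroup.mk e₂ := by
    rw [← hm₂, X.xq_mk, hx₂]
  have hr1 : X.toSetup.rq (QuotientGroup.mk e₁) ≠ 1 := X.toSetup.fpf3q.ne_one hq₁1
  rcases X.toSetup.mk_mem_cases hu hcomm with h | h | h | h
  · rw [hm₂] at h; exact hq₂1 h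
  · rw [hm₂, hm₁] at h; exact hq₂q h
  · rw [hm₂, ← X.toSetup.rq_mk, hm₁] at h
    have h5 := hfix₂
    rw [h, X.xq_rq, hfix₁] at h5
    exact hr1 (X.toSetup.fpf3q.fpf _ h5)
  · rw [hm₂, ← X.toSetup.rq_mk, ← X.toSetup.rq_mk, hm₁] at h
    have h5 := hfix₂
    rw [h, X.xq_rrq, hfix₁] at h5
    exact hr1 (X.toSetup.fpf3q.fpf _ h5.symm)

end lifts

section fixed

variable (X : XSetup ρ x)
include X

/-- the unique nontrivial central fixed point of `x` -/
theorem XSetup.exists_z0 : ∃ z₀ ∈ center T, z₀ ≠ 1 ∧ x z₀ = z₀ ∧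
    ∀ z ∈ center T, x z = z → z = 1 ∨ z = z₀ := by
  have hne : ∃ z ∈ center T, z ≠ 1 := by
    by_contra h
    push Not at h
    have hb : center T = ⊥ := (Subgroup.eq_bot_iff_forall _).mpr h
    have h4 := X.toSetup.card_center
    rw [hb, Subgroup.card_bot] at h4
    omega
  obtain ⟨z, hz, hz1⟩ := hne
  have hex : ∃ z₀ ∈ center T, z₀ ≠ 1 ∧ x z₀ = z₀ := by
    by_cases h : z * x z = 1
    · refine ⟨z, hz, hz1, ?_⟩
      rw [(inv_eq_of_mul_eq_one_right h).symm, X.toSetup.center_inv hz]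
    · refine ⟨z * x z, mul_mem hz (X.x_center hz), h, ?_⟩
      rw [map_mul, X.xx, X.toSetup.cz hz]
  obtain ⟨z₀, hz₀, hz₀1, hxz₀⟩ := hex
  refine ⟨z₀, hz₀, hz₀1, hxz₀, ?_⟩
  intro w hw hxw
  rcases X.fpf3.enum4 _ X.fpf3.inv_center X.toSetup.card_center hz₀ hz₀1 hw with h | h | h | h
  · left; exact h
  · right; exact h
  · exfalso
    rw [h, X.xr, hxz₀] at hxw
    exact X.fpf3.ne_one hz₀1 (X.fpf3.fpf _ hxw)
  · exfalso
    rw [h, X.xrr, hxz₀] at hxw
    exact X.fpf3.ne_one hz₀1 (X.fpf3.fpf _ hxw.symm)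

/-- the fixed points of `x` number at most eight -/
theorem XSetup.card_fixed_le (C : Subgroup T) (hC : ∀ y, y ∈ C ↔ x y = y) : Nat.card C ≤ 8 := by
  have hinj : Function.Injective (fun p : C × C => (p.1 : T) * ρ p.2) := by
    rintro ⟨s, t⟩ ⟨s', t'⟩ h
    simp only at h
    have h1 : (s' : T)⁻¹ * s = ρ ((t' : T) * (t : T)⁻¹) := by
      rw [map_mul, map_inv, eq_mul_inv_iff_mul_eq, mul_assoc, h, inv_mul_cancel_left]
    have hg : x ((t' : T) * (t : T)⁻¹) = (t' : T) * (t : T)⁻¹ :=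
      (hC _).mp (C.mul_mem t'.2 (C.inv_mem t.2))
    have hρg : x (ρ ((t' : T) * (t : T)⁻¹)) = ρ ((t' : T) * (t : T)⁻¹) := by
      rw [← h1]; exact (hC _).mp (C.mul_mem (C.inv_mem s'.2) s.2)
    rw [X.xr, hg] at hρg
    have h2 : ρ ((t' : T) * (t : T)⁻¹) = 1 := X.fpf3.fpf _ hρg
    have h3 : (t' : T) * (t : T)⁻¹ = 1 := by
      by_contra hne
      exact X.fpf3.ne_one hne h2
    have h4 : (s' : T)⁻¹ * s = 1 := by rw [h1, h2]
    have e1 : (t' : T) = t := mul_inv_eq_one.mp h3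
    have e2 : (s' : T) = s := inv_mul_eq_one.mp h4
    exact Prod.ext (Subtype.ext e2.symm) (Subtype.ext e1.symm)
  have h1 := Nat.card_le_card_of_injective _ hinj
  rw [Nat.card_prod, X.card] at h1
  nlinarith

/-- an involution outside the centre -/
theorem XSetup.exists_involution : ∃ a : T, a ∉ center T ∧ a * a = 1 := by
  obtain ⟨e₁, e₂, h₁, h₂, hne⟩ := X.exists_fixed_pair
  obtain ⟨z₀, hz₀, hz₀1, hxz₀, huniq⟩ := X.exists_z0
  have hsq : ∀ e, x e = e → e * e = 1 ∨ e * e = z₀ := by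
    intro e he
    apply huniq _ (X.toSetup.sq_mem e)
    rw [map_mul, he]
  have hn₁ : e₁ ∉ center T := fun h => hne (X.toSetup.cz h e₂)
  have hn₂ : e₂ ∉ center T := fun h => hne (X.toSetup.cz h e₁).symm
  rcases hsq e₁ h₁ with h | hs₁
  · exact ⟨e₁, hn₁, h⟩
  rcases hsq e₂ h₂ with h | hs₂
  · exact ⟨e₂, hn₂, h⟩
  have hc : ⁅e₁, e₂⁆ = z₀ := by
    rcases huniq _ (X.toSetup.comm_mem e₁ e₂) (by rw [map_commutatorElement, h₁, h₂]) with h | h
    · exfalso; exact hne (cm_eq_one_iff.mp h)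
    · exact h
  refine ⟨ρ e₁ * e₂, ?_, ?_⟩
  · intro hz
    have h5 : ⁅ρ e₁ * e₂, e₂⁆ = 1 := X.toSetup.cm_central_left hz e₂
    rw [X.toSetup.cm_mul_left, commutatorElement_self, mul_one, X.toSetup.cm_rho_left, hc] at h5
    exact X.fpf3.ne_one (X.fpf3.ne_one hz₀1) h5
  · rw [X.toSetup.sq_mul, ← map_mul, hs₁, hs₂, X.toSetup.cm_symm, X.toSetup.cm_rho_left, hc]
    have h6 := X.fpf3.prod_eq_one z₀
    rw [X.toSetup.cz hz₀ (ρ z₀)] at h6
    exact h6

end fixed

section second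

variable (S : Setup ρ)
include S

/-- a second involution, not commuting with the first -/
theorem exists_second {a : T} (ha : a ∉ center T) (haa : a * a = 1) :
    ∃ b : T, b * b = 1 ∧ ⁅a, b⁆ ≠ 1 := by
  have hex : ∃ b0 : T, ⁅a, b0⁆ ≠ 1 := by
    by_contra h
    push Not at h
    apply ha
    rw [mem_center_iff]
    intro g
    exact (cm_eq_one_iff.mp (h g)).symm
  obtain ⟨b0, hb0⟩ := hex
  have hc0 : ⁅a, b0⁆ ∈ center T := S.comm_mem _ _
  rcases S.fpf3.enum4 _ S.fpf3.inv_center S.card_center hc0 hb0 (S.sq_mem b0) with h | h | h | h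
  · exact ⟨b0, h, hb0⟩
  · refine ⟨b0 * a, ?_, ?_⟩
    · rw [S.sq_mul, haa, mul_one, h]
      exact S.cm_sq a b0
    · rw [S.cm_mul_right, commutatorElement_self, mul_one]
      exact hb0
  · refine ⟨b0 * ρ (ρ a), ?_, ?_⟩
    · rw [S.sq_mul, ← map_mul, ← map_mul, haa, map_one, map_one, mul_one, h, S.cm_rr_left]
      exact S.center_sq (S.fpf3.inv_center _ hc0)
    · rw [S.cm_mul_right, S.cm_self_rr, mul_one]
      exact hb0
  · refine ⟨b0 * ρ a, ?_, ?_⟩
    · rw [S.sq_mul, ← map_mul, haa, map_one, mul_one, h, S.cm_rho_left]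
      exact S.center_sq (S.fpf3.inv_center _ (S.fpf3.inv_center _ hc0))
    · rw [S.cm_mul_right, S.cm_self_rho, mul_one]
      exact hb0

/-- the four involutions generate -/
theorem closure_eq_top {a b : T} (hab : ⁅a, b⁆ ≠ 1) :
    closure ({a, ρ a, b, ρ b} : Set T) = ⊤ := by
  have ha : a ∈ closure ({a, ρ a, b, ρ b} : Set T) := subset_closure (by simp)
  have hb : b ∈ closure ({a, ρ a, b, ρ b} : Set T) := subset_closure (by simp)
  have ha' : ρ a ∈ closure ({a, ρ a, b, ρ b} : Set T) := subset_closure (by simp)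
  have hb' : ρ b ∈ closure ({a, ρ a, b, ρ b} : Set T) := subset_closure (by simp)
  refine S.fpf3.eq_top_of_noncomm S.card _ ?_ ha hb (fun h => hab (cm_eq_one_iff.mpr h))
  have hle : closure ({a, ρ a, b, ρ b} : Set T) ≤
      (closure ({a, ρ a, b, ρ b} : Set T)).comap (ρ : T ≃* T).toMonoidHom := by
    rw [closure_le]
    intro s hs
    simp only [Set.mem_insert_iff, Set.mem_singleton_iff] at hs
    rw [SetLike.mem_coe, mem_comap]
    rcases hs with rfl | rfl | rfl | rfl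
    · exact ha'
    · show ρ (ρ a) ∈ _
      rw [S.rr_eq]
      exact inv_mem (mul_mem ha ha')
    · exact hb'
    · show ρ (ρ b) ∈ _
      rw [S.rr_eq]
      exact inv_mem (mul_mem hb hb')
  intro g hg
  exact hle hg

end second

end Cfsg.Agent.Helper39.T64C
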