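import Mathlib
import Cfsg.Agent.Lib.Helper39.T64A
import Cfsg.Agent.Lib.Helper39.T64B
import Cfsg.Agent.Lib.Helper39.T64C
import Cfsg.Agent.Lib.Helper39.P2A
import Cfsg.Agent.Lib.Helper39.P2B
import Cfsg.Agent.Lib.Helper39.P2C

/-!
# Groups in the class `PD` have class at most two

For S2933: a group in the class `PD` is abelian or nonabelian of order `64`.
-/

set_option autoImplicit false
set_option linter.unusedSectionVars false
set_option linter.style.haveILetI false

universe u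

namespace Cfsg.Agent.Helper39.P2D

open Subgroup Cfsg.Agent.Helper39.T64A Cfsg.Agent.Helper39.T64B Cfsg.Agent.Helper39.P2A
  Cfsg.Agent.Helper39.P2B Cfsg.Agent.Helper39.P2C
open scoped commutatorElement

section hw

variable {T : Type u} [Group T]

/-- a special case of the Hall–Witt identity -/
lemma hall_witt {a z b : T} (haz : a * z = z * a) (hc : ⁅z, b⁆ * ⁅a, b⁆ = ⁅a, b⁆ * ⁅z, b⁆) :
    ⁅a, ⁅z, b⁆⁆ = ⁅z, ⁅a, b⁆⁆ := by
  have e1 : ⁅a * z, b⁆ = ⁅a, ⁅z, b⁆⁆ * (⁅z, b⁆ * ⁅a, b⁆) := by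
    simp only [commutatorElement_def]; group
  have e2 : ⁅z * a, b⁆ = ⁅z, ⁅a, b⁆⁆ * (⁅a, b⁆ * ⁅z, b⁆) := by
    simp only [commutatorElement_def]; group
  rw [haz, e2, hc] at e1
  exact (mul_right_cancel e1).symm

lemma comm_mul_central {a g z : T} (hz : z ∈ center T) : ⁅a, g * z⁆ = ⁅a, g⁆ := by
  rw [commutatorElement_def, commutatorElement_def]
  calc a * (g * z) * a⁻¹ * (g * z)⁻¹ = a * g * (z * a⁻¹) * z⁻¹ * g⁻¹ := by group
    _ = a * g * (a⁻¹ * z) * z⁻¹ * g⁻¹ := by rw [cz hz a⁻¹]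
    _ = a * g * a⁻¹ * g⁻¹ := by group

end hw

section contra

variable {T : Type u} [Group T] [Finite T] {ρ : MulAut T}

/-- the central quotient of a group with a fixed-point-free automorphism of order three is not a
nonabelian group of order `64` -/
theorem not_setup_quot (hρ : Fpf3 ρ)
    (Sq : Setup (qAut ρ (center T) (map_eq_of_inv hρ (inv_center' ρ)))) : False := by
  set ρq := qAut ρ (center T) (map_eq_of_inv hρ (inv_center' ρ)) with hρq
  let π := QuotientGroup.mk' (center T)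
  have hπ : ∀ g, π g = QuotientGroup.mk g := fun _ => rfl
  have hπρ : ∀ g, π (ρ g) = ρq (π g) := fun _ => rfl
  have hker : ∀ g, π g = 1 ↔ g ∈ center T := fun g => QuotientGroup.eq_one_iff g
  set Z2 : Subgroup T := (center (T ⧸ center T)).comap π with hZ2
  have hmemZ2 : ∀ g, g ∈ Z2 ↔ π g ∈ center (T ⧸ center T) := fun _ => Iff.rfl
  have P : CP ρ Z2 := by
    refine ⟨hρ, ?_, ?_⟩
    · intro g hg
      rw [hmemZ2] at hg ⊢
      rw [hπρ]
      exact inv_center' ρq _ hg
    · intro g hg x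
      rw [hmemZ2] at hg
      rw [← hker, map_commutatorElement, commutatorElement_eq_one_iff_mul_comm]
      exact cz hg _
  have hcomm : ∀ u v : T, ⁅u, v⁆ ∈ Z2 := by
    intro u v
    rw [hmemZ2, map_commutatorElement]
    exact Sq.comm_mem _ _
  -- the key identity
  have key : ∀ a b : T, ⁅⁅a, b⁆, a⁆ = 1 := by
    intro a b
    set c := ⁅a, b⁆ with hc
    have hcZ2 : c ∈ Z2 := hcomm a b
    have hd : π ⁅ρ a, b⁆ = π (ρ (ρ c)) := by
      calc π ⁅ρ a, b⁆ = ⁅ρq (π a), π b⁆ := by rw [map_commutatorElement, hπρ]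
        _ = ρq (ρq ⁅π a, π b⁆) := Sq.cm_rho_left _ _
        _ = ρq (ρq (π c)) := by rw [hc, map_commutatorElement π a b]
        _ = π (ρ (ρ c)) := by rw [hπρ, hπρ]
    have hz0 : (ρ (ρ c))⁻¹ * ⁅ρ a, b⁆ ∈ center T := by
      rw [← hker, map_mul, map_inv, hd, inv_mul_cancel]
    have hdeq : ⁅ρ a, b⁆ = ρ (ρ c) * ((ρ (ρ c))⁻¹ * ⁅ρ a, b⁆) := by group
    have hcd : ⁅ρ a, b⁆ * c = c * ⁅ρ a, b⁆ := by
      rw [hdeq, mul_assoc, cz hz0 c, ← mul_assoc, ← hρ.comm2 c, mul_assoc]
    have h1 := hall_witt (hρ.comm a) hcd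
    rw [hdeq, comm_mul_central hz0] at h1
    have h2 : ⁅ρ (ρ c), a⁆ = ⁅c, ρ a⁆ := by
      rw [← commutatorElement_inv, h1, commutatorElement_inv]
    rw [P.rho_right hcZ2, P.rho_left (P.inv c hcZ2), P.rho_left hcZ2, hρ.cube] at h2
    have h3 : ⁅c, a⁆ = ρ ⁅c, a⁆ := (ρ : T ≃* T).injective h2
    exact hρ.fpf _ h3.symm
  obtain ⟨p, q, hpq⟩ := Sq.na
  induction p using QuotientGroup.induction_on with
  | H a =>
  induction q using QuotientGroup.induction_on with
  | H b =>
    have hcne : ⁅(QuotientGroup.mk a : T ⧸ center T), (QuotientGroup.mk b : T ⧸ center T)⁆ ≠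
        (1 : T ⧸ center T) := by
      rwa [Ne, commutatorElement_eq_one_iff_mul_comm]
    have hcZ2 : ⁅a, b⁆ ∈ Z2 := hcomm a b
    have h1 : ⁅⁅a, b⁆, a⁆ = 1 := key a b
    have h2 : ⁅⁅a, b⁆, b⁆ = 1 := by
      have := key b a
      rw [commutatorElement_eq_one_iff_mul_comm] at this ⊢
      rw [← commutatorElement_inv b a]
      have e : (⁅b, a⁆)⁻¹ * b = (⁅b, a⁆)⁻¹ * (b * ⁅b, a⁆) * (⁅b, a⁆)⁻¹ := by group
      rw [e, ← this]
      group
    have h3 : ⁅⁅a, b⁆, ρ a⁆ = 1 := by rw [P.rho_right hcZ2, h1, map_one, map_one]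
    have h4 : ⁅⁅a, b⁆, ρ b⁆ = 1 := by rw [P.rho_right hcZ2, h2, map_one, map_one]
    have htop : centralizer ({⁅a, b⁆} : Set T) = ⊤ := by
      apply eq_top_of_map_eq_top (N := center T) (center_le_centralizer _)
      rw [eq_top_iff, ← T64C.closure_eq_top Sq hcne, closure_le]
      intro s hs
      simp only [Set.mem_insert_iff, Set.mem_singleton_iff] at hs
      rcases hs with h | h | h | h
      · rw [h]; exact ⟨a, mem_cent.mpr (cm_eq_one_iff.mp h1), rfl⟩
      · rw [h]; exact ⟨ρ a, mem_cent.mpr (cm_eq_one_iff.mp h3), rfl⟩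
      · rw [h]; exact ⟨b, mem_cent.mpr (cm_eq_one_iff.mp h2), rfl⟩
      · rw [h]; exact ⟨ρ b, mem_cent.mpr (cm_eq_one_iff.mp h4), rfl⟩
    apply hcne
    have hcz : ⁅a, b⁆ ∈ center T := by
      rw [mem_center_iff]
      intro g
      have hg : g ∈ centralizer ({⁅a, b⁆} : Set T) := by rw [htop]; exact mem_top _
      rw [mem_cent] at hg
      exact hg.symm
    have := (hker _).mpr hcz
    rw [map_commutatorElement] at this
    exact this

end contra

section main

/-- a group in the class is abelian or nonabelian of order `64` -/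
theorem abelian_or_setup_aux : ∀ (n : ℕ) (T : Type u) [Group T] [Finite T], Nat.card T = n →
    ∀ (ρ t : MulAut T), PD ρ t → (∀ a b : T, a * b = b * a) ∨ Setup ρ := by
  intro n
  induction n using Nat.strong_induction_on with
  | _ n ih =>
    intro T _ _ hn ρ t h
    by_cases hab : ∀ a b : T, a * b = b * a
    · exact Or.inl hab
    right
    push Not at hab
    obtain ⟨a, b, hab⟩ := hab
    haveI : Fact (Nat.Prime 2) := ⟨Nat.prime_two⟩
    haveI : Nontrivial T := ⟨⟨a * b, b * a, hab⟩⟩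
    have hZ : 1 < Nat.card (center T) := by
      haveI := h.two.center_nontrivial
      exact Finite.one_lt_card
    have hlt : Nat.card (T ⧸ center T) < Nat.card T := by
      have h1 := Subgroup.card_eq_card_quotient_mul_card_subgroup (center T)
      have h2 : 0 < Nat.card (T ⧸ center T) := Nat.card_pos
      nlinarith
    have hq := PD.quot h (center T) (inv_center' ρ) (inv_center' t)
    rcases ih _ (hn ▸ hlt) (T ⧸ center T) rfl _ _ hq with hc | hS
    · apply setup_of_class_two h ?_ ⟨a, b, hab⟩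
      intro u v
      rw [← QuotientGroup.eq_one_iff, commutatorElement_def, QuotientGroup.mk_mul,
        QuotientGroup.mk_mul, QuotientGroup.mk_mul, QuotientGroup.mk_inv, QuotientGroup.mk_inv,
        hc (QuotientGroup.mk u)]
      group
    · exact (not_setup_quot h.fpf3 hS).elim

theorem abelian_or_setup {T : Type u} [Group T] [Finite T] {ρ t : MulAut T} (h : PD ρ t) :
    (∀ a b : T, a * b = b * a) ∨ Setup ρ :=
  abelian_or_setup_aux _ T rfl ρ t h

end main

end Cfsg.Agent.Helper39.P2D
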