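import Mathlib
import Cfsg.Agent.Lib.Helper39.T64A
import Cfsg.Agent.Lib.Helper39.P2A
import Cfsg.Agent.Lib.Helper39.P2B
import Cfsg.Agent.Lib.Helper39.P2C
import Cfsg.Agent.Lib.Helper39.P2D

/-!
# A finite `2`-group with a fixed-point-free automorphism of order three has class at most two

(B. H. Neumann's theorem, for `2`-groups.)  Induction on the order: modulo the centre the class is at
most two, a special case of the Hall–Witt identity gives the `2`-Engel condition, and the Jacobi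
identity finishes.  Used for S1237.
-/

set_option autoImplicit false
set_option linter.unusedSectionVars false
set_option linter.style.haveILetI false

universe u

namespace Cfsg.Agent.Helper39.H4A

open Subgroup Cfsg.Agent.Helper39.T64A Cfsg.Agent.Helper39.P2A Cfsg.Agent.Helper39.P2B
  Cfsg.Agent.Helper39.P2C Cfsg.Agent.Helper39.P2D
open scoped commutatorElement

section step

variable {T : Type u} [Group T] [Finite T] {ρ : MulAut T}

omit [Finite T] in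
lemma hall_witt_full (x y z : T) :
    ⁅z, ⁅x, y⁆⁆ = x * z * ⁅y, ⁅z⁻¹, x⁻¹⁆⁆⁻¹ * z⁻¹ * y * ⁅x⁻¹, ⁅y⁻¹, z⁆⁆⁻¹ * y⁻¹ * x⁻¹ := by
  simp only [commutatorElement_def]; group

/-- the inductive step: class at most two modulo the centre implies class at most two -/
theorem comm_central_of_quot (hρ : Fpf3 ρ) (h2 : IsPGroup 2 T)
    (hq : ∀ p q : T ⧸ center T, ⁅p, q⁆ ∈ center (T ⧸ center T)) (a b : T) :
    ⁅a, b⁆ ∈ center T := by
  set ρq := qAut ρ (center T) (map_eq_of_inv hρ (inv_center' ρ)) with hρq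
  have hρqf : Fpf3 ρq := hρ.quot _ (inv_center' ρ)
  let π := QuotientGroup.mk' (center T)
  have hπρ : ∀ g, π (ρ g) = ρq (π g) := fun _ => rfl
  have hker : ∀ g, π g = 1 ↔ g ∈ center T := fun g => QuotientGroup.eq_one_iff g
  set Z2 : Subgroup T := (center (T ⧸ center T)).comap π with hZ2
  have hmemZ2 : ∀ g, g ∈ Z2 ↔ π g ∈ center (T ⧸ center T) := fun _ => Iff.rfl
  have P : CP ρ Z2 := by
    refine ⟨hρ, ?_, ?_⟩
    · intro g hg
      rw [hmemZ2] at hg ⊢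
      rw [hπρ]
      exact inv_center' ρq _ hg
    · intro g hg x
      rw [hmemZ2] at hg
      rw [← hker, map_commutatorElement, commutatorElement_eq_one_iff_mul_comm]
      exact cz hg _
  have Pq : CP ρq (⊤ : Subgroup (T ⧸ center T)) :=
    ⟨hρqf, fun _ _ => mem_top _, fun g _ x => hq g x⟩
  have hcomm : ∀ u v : T, ⁅u, v⁆ ∈ Z2 := by
    intro u v
    rw [hmemZ2, map_commutatorElement]
    exact hq _ _
  have hZle : center T ≤ Z2 := by
    intro z hz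
    rw [hmemZ2, (hker z).mpr hz]
    exact one_mem _
  -- the `2`-Engel condition
  have key : ∀ a b : T, ⁅⁅a, b⁆, a⁆ = 1 := by
    intro a b
    set c := ⁅a, b⁆ with hc
    have hcZ2 : c ∈ Z2 := hcomm a b
    have hd : π ⁅ρ a, b⁆ = π (ρ (ρ c)) := by
      calc π ⁅ρ a, b⁆ = ⁅ρq (π a), π b⁆ := by rw [map_commutatorElement, hπρ]
        _ = ρq (ρq ⁅π a, π b⁆) := Pq.rho_left (mem_top _) _
        _ = ρq (ρq (π c)) := by rw [hc, map_commutatorElement π a b]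
        _ = π (ρ (ρ c)) := by rw [hπρ, hπρ]
    have hz0 : (ρ (ρ c))⁻¹ * ⁅ρ a, b⁆ ∈ center T := by
      rw [← hker, map_mul, map_inv, hd, inv_mul_cancel]
    have hdeq : ⁅ρ a, b⁆ = ρ (ρ c) * ((ρ (ρ c))⁻¹ * ⁅ρ a, b⁆) := by group
    have hcd : ⁅ρ a, b⁆ * c = c * ⁅ρ a, b⁆ := by
      rw [hdeq, mul_assoc, cz hz0 c, ← mul_assoc, ← hρ.comm2 c, mul_assoc]
    have h1 := hall_witt (hρ.comm a) hcd
    rw [hdeq, comm_mul_central hz0] at h1
    have h2 : ⁅ρ (ρ c), a⁆ = ⁅c, ρ a⁆ := by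
      rw [← commutatorElement_inv, h1, commutatorElement_inv]
    rw [P.rho_right hcZ2, P.rho_left (P.inv c hcZ2), P.rho_left hcZ2, hρ.cube] at h2
    have h3 : ⁅c, a⁆ = ρ ⁅c, a⁆ := (ρ : T ≃* T).injective h2
    exact hρ.fpf _ h3.symm
  -- the trilinear map
  have hφZ : ∀ a b c : T, ⁅⁅a, b⁆, c⁆ ∈ center T := fun a b c => P.cl _ (hcomm a b) c
  have lin3 : ∀ a b c c' : T, ⁅⁅a, b⁆, c * c'⁆ = ⁅⁅a, b⁆, c⁆ * ⁅⁅a, b⁆, c'⁆ :=
    fun a b c c' => P.mul_right (hcomm a b) c c'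
  have lin1 : ∀ a a' b c : T, ⁅⁅a * a', b⁆, c⁆ = ⁅⁅a, b⁆, c⁆ * ⁅⁅a', b⁆, c⁆ := by
    intro a a' b c
    have e : ⁅a * a', b⁆ = ⁅a, ⁅a', b⁆⁆ * (⁅a', b⁆ * ⁅a, b⁆) := by
      simp only [commutatorElement_def]; group
    have hz : ⁅a, ⁅a', b⁆⁆ ∈ center T := by
      rw [← commutatorElement_inv]
      exact inv_mem (hφZ a' b a)
    rw [e, P.mul_left (hZle hz) (mul_mem (hcomm a' b) (hcomm a b)),
      P.mul_left (hcomm a' b) (hcomm a b), (commutatorElement_eq_one_iff_mul_comm).mpr (cz hz c),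
      one_mul, cz (hφZ a' b c)]
  have one1 : ∀ b c : T, ⁅⁅(1 : T), b⁆, c⁆ = 1 := by
    intro b c
    rw [commutatorElement_one_left, commutatorElement_one_left]
  have inv1 : ∀ a b c : T, ⁅⁅a⁻¹, b⁆, c⁆ = (⁅⁅a, b⁆, c⁆)⁻¹ := by
    intro a b c
    have := lin1 a⁻¹ a b c
    rw [inv_mul_cancel, one1] at this
    exact eq_inv_of_mul_eq_one_left this.symm
  have anti : ∀ a b c : T, ⁅⁅b, a⁆, c⁆ = (⁅⁅a, b⁆, c⁆)⁻¹ := by
    intro a b c
    have h := P.mul_left (hcomm b a) (hcomm a b) c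
    rw [← commutatorElement_inv a b, inv_mul_cancel, commutatorElement_one_left] at h
    rw [← commutatorElement_inv a b]
    exact eq_inv_of_mul_eq_one_left h.symm
  have inv2 : ∀ a b c : T, ⁅⁅a, b⁻¹⁆, c⁆ = (⁅⁅a, b⁆, c⁆)⁻¹ := by
    intro a b c
    rw [anti b⁻¹ a c, inv1, inv_inv, anti a b c]
  have inv3 : ∀ a b c : T, ⁅⁅a, b⁆, c⁻¹⁆ = (⁅⁅a, b⁆, c⁆)⁻¹ := by
    intro a b c
    have := lin3 a b c⁻¹ c
    rw [inv_mul_cancel, commutatorElement_one_right] at this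
    exact eq_inv_of_mul_eq_one_left this.symm
  have polar : ∀ a a' b : T, ⁅⁅a, b⁆, a'⁆ * ⁅⁅a', b⁆, a⁆ = 1 := by
    intro a a' b
    have h := key (a * a') b
    rw [lin1, lin3, lin3, key a b, key a' b, one_mul, mul_one] at h
    exact h
  have cyc : ∀ a b c : T, ⁅⁅a, b⁆, c⁆ = ⁅⁅b, c⁆, a⁆ := by
    intro a b c
    rw [anti c b a]
    exact eq_inv_of_mul_eq_one_left (polar a c b)
  have jac : ∀ x y z : T, (⁅⁅x, y⁆, z⁆)⁻¹ = ⁅⁅x, y⁆, z⁆ * ⁅⁅x, y⁆, z⁆ := by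
    intro x y z
    have h := hall_witt_full x y z
    have e1 : ⁅y, ⁅z⁻¹, x⁻¹⁆⁆⁻¹ = ⁅⁅x, y⁆, z⁆ := by
      rw [commutatorElement_inv, inv1, inv2, inv_inv, cyc z x y]
    have e2 : ⁅x⁻¹, ⁅y⁻¹, z⁆⁆⁻¹ = ⁅⁅x, y⁆, z⁆ := by
      rw [commutatorElement_inv, inv1, inv3, inv_inv, ← cyc x y z]
    rw [e1, e2, ← commutatorElement_inv] at h
    rw [h]
    have hc := hφZ x y z
    calc x * z * ⁅⁅x, y⁆, z⁆ * z⁻¹ * y * ⁅⁅x, y⁆, z⁆ * y⁻¹ * x⁻¹
        = x * (z * ⁅⁅x, y⁆, z⁆) * z⁻¹ * (y * ⁅⁅x, y⁆, z⁆) * y⁻¹ * x⁻¹ := by group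
      _ = x * (⁅⁅x, y⁆, z⁆ * z) * z⁻¹ * (⁅⁅x, y⁆, z⁆ * y) * y⁻¹ * x⁻¹ := by
          rw [cz hc z, cz hc y]
      _ = (x * ⁅⁅x, y⁆, z⁆) * ⁅⁅x, y⁆, z⁆ * x⁻¹ := by group
      _ = (⁅⁅x, y⁆, z⁆ * x) * ⁅⁅x, y⁆, z⁆ * x⁻¹ := by rw [cz hc x]
      _ = ⁅⁅x, y⁆, z⁆ * (x * ⁅⁅x, y⁆, z⁆) * x⁻¹ := by group
      _ = ⁅⁅x, y⁆, z⁆ * (⁅⁅x, y⁆, z⁆ * x) * x⁻¹ := by rw [cz hc x]
      _ = ⁅⁅x, y⁆, z⁆ * ⁅⁅x, y⁆, z⁆ := by group
  rw [mem_center_iff]
  intro c
  have h3 : ⁅⁅a, b⁆, c⁆ ^ 3 = 1 := by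
    have := jac a b c
    rw [pow_succ, pow_two, ← this, inv_mul_cancel]
  obtain ⟨k, hk⟩ := h2 ⁅⁅a, b⁆, c⁆
  have hord : orderOf ⁅⁅a, b⁆, c⁆ = 1 := by
    have d1 := orderOf_dvd_of_pow_eq_one h3
    have d2 := orderOf_dvd_of_pow_eq_one hk
    have hcop : Nat.Coprime 3 (2 ^ k) := Nat.Coprime.pow_right k (by norm_num)
    exact Nat.eq_one_of_dvd_coprimes hcop d1 d2
  have h1 : ⁅⁅a, b⁆, c⁆ = 1 := orderOf_eq_one_iff.mp hord
  exact ((commutatorElement_eq_one_iff_mul_comm).mp h1).symm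

end step

section main

/-- a finite `2`-group with a fixed-point-free automorphism of order three has class at most
two -/
theorem class_two_aux : ∀ (n : ℕ) (T : Type u) [Group T] [Finite T], Nat.card T = n →
    IsPGroup 2 T → ∀ (ρ : MulAut T), Fpf3 ρ → ∀ a b : T, ⁅a, b⁆ ∈ center T := by
  intro n
  induction n using Nat.strong_induction_on with
  | _ n ih =>
    intro T _ _ hn h2 ρ hρ
    by_cases hab : ∀ a b : T, a * b = b * a
    · intro a b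
      rw [(commutatorElement_eq_one_iff_mul_comm).mpr (hab a b)]
      exact one_mem _
    push Not at hab
    obtain ⟨a0, b0, hab⟩ := hab
    haveI : Fact (Nat.Prime 2) := ⟨Nat.prime_two⟩
    haveI : Nontrivial T := ⟨⟨a0 * b0, b0 * a0, hab⟩⟩
    have hZ : 1 < Nat.card (center T) := by
      haveI := h2.center_nontrivial
      exact Finite.one_lt_card
    have hlt : Nat.card (T ⧸ center T) < Nat.card T := by
      have h1 := Subgroup.card_eq_card_quotient_mul_card_subgroup (center T)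
      have h3 : 0 < Nat.card (T ⧸ center T) := Nat.card_pos
      nlinarith
    have hq := ih _ (hn ▸ hlt) (T ⧸ center T) rfl (h2.to_quotient _)
      (qAut ρ (center T) (map_eq_of_inv hρ (inv_center' ρ))) (hρ.quot _ (inv_center' ρ))
    exact comm_central_of_quot hρ h2 hq

theorem class_two {T : Type u} [Group T] [Finite T] (h2 : IsPGroup 2 T) {ρ : MulAut T}
    (hρ : Fpf3 ρ) (a b : T) : ⁅a, b⁆ ∈ center T :=
  class_two_aux _ T rfl h2 ρ hρ a b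

end main

end Cfsg.Agent.Helper39.H4A
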