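import Mathlib
import Cfsg.Agent.Lib.Helper39.T64A
import Cfsg.Agent.Lib.Helper39.T64B
import Cfsg.Agent.Lib.Helper39.G320B
import Cfsg.Agent.Lib.Helper39.P2A
import Cfsg.Agent.Lib.Helper39.P2B
import Cfsg.Agent.Lib.Helper39.P2C
import Cfsg.Agent.Lib.Helper39.H4A

/-!
# `2`-groups with at most three involutions and a fixed-point-free automorphism of order three

Such a group is abelian, or nonabelian of order `64` with all involutions central (Higman's theorem
on Suzuki `2`-groups for `q = 4`).  Used for S1237.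
-/

set_option autoImplicit false
set_option linter.unusedSectionVars false
set_option linter.style.haveILetI false

universe u

namespace Cfsg.Agent.Helper39.H4B

open Subgroup Cfsg.Agent.Helper39.T64A Cfsg.Agent.Helper39.T64B Cfsg.Agent.Helper39.P2A
  Cfsg.Agent.Helper39.P2B Cfsg.Agent.Helper39.P2C
open scoped commutatorElement

section tools

variable {G H : Type*} [Group G] [Group H]

lemma card_ker_mul_card_range' [Finite G] (f : G →* H) :
    Nat.card f.ker * Nat.card f.range = Nat.card G := by
  have := Subgroup.card_mul_index f.ker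
  rwa [Subgroup.index_ker] at this

/-- the elements of order at most two, when they are all central -/
def V2 (hc : ∀ x : G, x * x = 1 → x ∈ center G) : Subgroup G where
  carrier := {x | x * x = 1}
  one_mem' := by simp
  mul_mem' := by
    intro a b ha hb
    simp only [Set.mem_ofPred_eq] at *
    calc a * b * (a * b) = a * (b * a) * b := by group
      _ = a * (a * b) * b := by rw [cz (hc b hb) a]
      _ = (a * a) * (b * b) := by group
      _ = 1 := by rw [ha, hb, one_mul]
  inv_mem' := by
    intro a ha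
    simp only [Set.mem_ofPred_eq] at *
    rw [← mul_inv_rev, ha, inv_one]

lemma mem_V2 {hc : ∀ x : G, x * x = 1 → x ∈ center G} {x : G} : x ∈ V2 hc ↔ x * x = 1 := Iff.rfl

lemma V2_le_center (hc : ∀ x : G, x * x = 1 → x ∈ center G) : V2 hc ≤ center G :=
  fun x hx => hc x hx

lemma inv_V2 (hc : ∀ x : G, x * x = 1 → x ∈ center G) (σ : MulAut G) : Inv σ (V2 hc) := by
  intro x hx
  rw [mem_V2] at hx ⊢
  rw [← map_mul, hx, map_one]

end tools

section claimA

variable {T : Type u} [Group T] [Finite T] {ρ : MulAut T}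

/-- commutativity of the centre -/
lemma center_comm (a b : center T) : a * b = b * a := Subtype.ext (cz a.2 (b : T))

lemma card_Om_center_le (hc : ∀ x : T, x * x = 1 → x ∈ center T) (hV4 : Nat.card (V2 hc) ≤ 4) :
    Nat.card (Om (center_comm (T := T))) ≤ 4 := by
  refine le_trans ?_ hV4
  refine Nat.card_le_card_of_injective
    (fun a : Om (center_comm (T := T)) => (⟨((a : center T) : T), ?_⟩ : V2 hc)) ?_
  · have := a.2
    rw [mem_Om] at this
    rw [mem_V2]
    exact congrArg Subtype.val this
  · intro a b hab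
    have := congrArg (fun z : V2 hc => (z : T)) hab
    exact Subtype.ext (Subtype.ext (by simpa using this))

/-- if the centre has an element of order four, every central involution is the square of a central
element -/
lemma exists_sq_of_center (hρ : Fpf3 ρ) (h2 : IsPGroup 2 T)
    (hc : ∀ x : T, x * x = 1 → x ∈ center T) (hV4 : Nat.card (V2 hc) ≤ 4)
    {z₀ : T} (hz₀ : z₀ ∈ center T) (hz₀2 : z₀ * z₀ ≠ 1) {v : T} (hv : v * v = 1) :
    ∃ z ∈ center T, z * z = v := by
  have hZinv : Inv ρ (center T) := inv_center' ρ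
  set σ := rAut hρ (center T) hZinv with hσ
  have hσf : Fpf3 σ := hρ.restrict _ hZinv
  have hΩ : Nat.card (Om (center_comm (T := T))) ≤ 4 := by
    refine le_trans ?_ hV4
    refine Nat.card_le_card_of_injective
      (fun a : Om (center_comm (T := T)) => (⟨((a : center T) : T), ?_⟩ : V2 hc)) ?_
    · have := a.2
      rw [mem_Om] at this
      rw [mem_V2]
      exact congrArg Subtype.val this
    · intro a b hab
      have := congrArg (fun z : V2 hc => (z : T)) hab
      exact Subtype.ext (Subtype.ext (by simpa using this))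
  have hRinv : Inv σ (sqHom (center_comm (T := T))).range := by
    rintro _ ⟨m, rfl⟩
    exact ⟨σ m, by rw [sqHom_apply, sqHom_apply, map_mul]⟩
  have hRne : (sqHom (center_comm (T := T))).range ≠ ⊥ := by
    intro h
    have : sqHom center_comm (⟨z₀, hz₀⟩ : center T) ∈ (sqHom (center_comm (T := T))).range :=
      ⟨_, rfl⟩
    rw [h, mem_bot, sqHom_apply] at this
    exact hz₀2 (congrArg Subtype.val this)
  obtain ⟨a, haR, ha1, haa⟩ := exists_invol (h2.to_subgroup _) _ hRne
  have hinfinv : Inv σ ((sqHom (center_comm (T := T))).range ⊓ Om center_comm) :=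
    fun g hg => ⟨hRinv g hg.1, inv_Om center_comm σ g hg.2⟩
  have h1 := hσf.card_modEq _ hinfinv
  have h3 : Nat.card ↥((sqHom (center_comm (T := T))).range ⊓ Om center_comm) ≤
      Nat.card (Om (center_comm (T := T))) := Subgroup.card_le_of_le inf_le_right
  have h4 : 1 < Nat.card ↥((sqHom (center_comm (T := T))).range ⊓ Om center_comm) := by
    rw [Subgroup.one_lt_card_iff_ne_bot]
    intro h
    have : a ∈ (⊥ : Subgroup (center T)) := h ▸ ⟨haR, haa⟩
    rw [mem_bot] at this
    exact ha1 this
  have h5 : (sqHom (center_comm (T := T))).range ⊓ Om center_comm = Om center_comm := by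
    apply Subgroup.eq_of_le_of_card_ge inf_le_right
    unfold Nat.ModEq at h1
    omega
  have hvZ : v ∈ center T := hc v hv
  have hvΩ : (⟨v, hvZ⟩ : center T) ∈ Om (center_comm (T := T)) := by
    rw [mem_Om]
    exact Subtype.ext hv
  rw [← h5] at hvΩ
  obtain ⟨z, hz⟩ := hvΩ.1
  refine ⟨(z : T), z.2, ?_⟩
  have := congrArg Subtype.val hz
  rwa [sqHom_apply] at this

/-- if the centre has an element of order four, the central quotient has at most three
involutions -/
lemma card_Om_quot_le (hρ : Fpf3 ρ) (h2 : IsPGroup 2 T)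
    (hcl : ∀ a b : T, ⁅a, b⁆ ∈ center T)
    (hc : ∀ x : T, x * x = 1 → x ∈ center T) (hV4 : Nat.card (V2 hc) ≤ 4)
    {z₀ : T} (hz₀ : z₀ ∈ center T) (hz₀2 : z₀ * z₀ ≠ 1)
    (hcX : ∀ p q : T ⧸ center T, p * q = q * p) : Nat.card (Om hcX) ≤ 4 := by
  have P : CP ρ (⊤ : Subgroup T) := ⟨hρ, fun _ _ => mem_top _, fun g _ x => hcl g x⟩
  set N' : Subgroup (center T) := (sqHom (center_comm (T := T))).range with hN'
  haveI : N'.Normal := ⟨fun n hn g => by
    rw [center_comm g n, mul_inv_cancel_right]; exact hn⟩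
  set A : Subgroup T := (Om hcX).comap (QuotientGroup.mk' (center T)) with hA
  have hmemA : ∀ a : T, a ∈ A ↔ a * a ∈ center T := by
    intro a
    rw [hA, mem_comap, mem_Om, QuotientGroup.mk'_apply, ← QuotientGroup.mk_mul,
      QuotientGroup.eq_one_iff]
  have hcomm2 : ∀ a : T, a ∈ A → ∀ g : T, ⁅g, a⁆ * ⁅g, a⁆ = 1 := by
    intro a ha g
    rw [← P.mul_right (mem_top g), commutatorElement_eq_one_iff_mul_comm]
    exact (cz ((hmemA a).mp ha) g).symm
  let q : A →* (center T) ⧸ N' := MonoidHom.mk'
    (fun a => QuotientGroup.mk (⟨(a : T) * a, (hmemA a).mp a.2⟩ : center T)) (by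
      intro a b
      obtain ⟨z₁, hz₁Z, hz₁⟩ := exists_sq_of_center hρ h2 hc hV4 hz₀ hz₀2
        (hcomm2 (a : T) a.2 (b : T))
      rw [← QuotientGroup.mk_mul, QuotientGroup.eq]
      refine ⟨⟨z₁⁻¹, inv_mem hz₁Z⟩, ?_⟩
      apply Subtype.ext
      rw [sqHom_apply]
      show z₁⁻¹ * z₁⁻¹ = (((a : T) * b) * ((a : T) * b))⁻¹ * (((a : T) * a) * ((b : T) * b))
      have e := G320B.sq_mul_of_comm (a : T) (b : T)
        (show Commute _ _ from cz (hcl (b : T) (a : T)) (a : T))
      rw [pow_two, pow_two, pow_two] at e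
      rw [e, ← hz₁]
      have hcc := cz (inv_mem (mul_mem hz₁Z hz₁Z))
      calc z₁⁻¹ * z₁⁻¹ = (z₁ * z₁)⁻¹ := by group
        _ = (((a : T) * a) * ((b : T) * b))⁻¹ *
              ((((a : T) * a) * ((b : T) * b)) * (z₁ * z₁)⁻¹) := by group
        _ = (((a : T) * a) * ((b : T) * b))⁻¹ *
              ((z₁ * z₁)⁻¹ * (((a : T) * a) * ((b : T) * b))) := by rw [hcc]
        _ = (z₁ * z₁ * ((a : T) * a) * ((b : T) * b))⁻¹ * (((a : T) * a) * ((b : T) * b)) := by
            group)
  have hq : ∀ a : A, q a = QuotientGroup.mk (⟨(a : T) * a, (hmemA a).mp a.2⟩ : center T) :=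
    fun _ => rfl
  -- the kernel lies in the centre
  have hker : ∀ a : A, a ∈ q.ker → (a : T) ∈ center T := by
    intro a ha
    rw [MonoidHom.mem_ker, hq, QuotientGroup.eq_one_iff] at ha
    obtain ⟨z, hz⟩ := ha
    rw [sqHom_apply] at hz
    have hz' : (z : T) * z = (a : T) * a := congrArg Subtype.val hz
    have h1 : ((a : T) * (z : T)⁻¹) * ((a : T) * (z : T)⁻¹) = 1 := by
      have hzc := cz (inv_mem z.2)
      calc ((a : T) * (z : T)⁻¹) * ((a : T) * (z : T)⁻¹)
          = (a : T) * ((z : T)⁻¹ * (a : T)) * (z : T)⁻¹ := by group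
        _ = (a : T) * ((a : T) * (z : T)⁻¹) * (z : T)⁻¹ := by rw [hzc (a : T)]
        _ = ((a : T) * a) * ((z : T) * z)⁻¹ := by group
        _ = 1 := by rw [hz', mul_inv_cancel]
    have h3 := hc _ h1
    have h4 : (a : T) = ((a : T) * (z : T)⁻¹) * z := by group
    rw [h4]
    exact mul_mem h3 z.2
  have hcardker : Nat.card q.ker ≤ Nat.card (center T) := by
    refine Nat.card_le_card_of_injective
      (fun a : q.ker => (⟨((a : A) : T), hker _ a.2⟩ : center T)) ?_
    intro a b hab
    have := congrArg (fun z : center T => (z : T)) hab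
    exact Subtype.ext (Subtype.ext (by simpa using this))
  have hcardrange : Nat.card q.range ≤ 4 := by
    have h1 : Nat.card q.range ≤ Nat.card ((center T) ⧸ N') := Subgroup.card_le_card_group _
    have h3 := Subgroup.card_eq_card_quotient_mul_card_subgroup N'
    have h4 := card_ker_mul_card_range (sqHom (center_comm (T := T)))
    rw [ker_sqHom, ← hN'] at h4
    have h5 : 0 < Nat.card N' := Nat.card_pos
    have h6 : Nat.card ((center T) ⧸ N') = Nat.card (Om (center_comm (T := T))) := by
      apply Nat.eq_of_mul_eq_mul_right h5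
      rw [← h3, h4]
    rw [h6] at h1
    exact h1.trans (card_Om_center_le hc hV4)
  have hcardA : Nat.card A = Nat.card (Om hcX) * Nat.card (center T) := by
    have hidx : A.index = (Om hcX).index :=
      Subgroup.index_comap_of_surjective _ (QuotientGroup.mk'_surjective (center T))
    have h1 := Subgroup.card_mul_index A
    have h2' := Subgroup.card_mul_index (Om hcX)
    have h3 := Subgroup.card_eq_card_quotient_mul_card_subgroup (center T)
    have h4 : 0 < (Om hcX).index := Nat.pos_of_ne_zero (Subgroup.index_ne_zero_of_finite)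
    rw [hidx] at h1
    rw [h3, ← h2'] at h1
    have h5 : Nat.card A * (Om hcX).index =
        (Nat.card (Om hcX) * Nat.card (center T)) * (Om hcX).index := by
      rw [h1]; ring
    exact Nat.eq_of_mul_eq_mul_right h4 h5
  have hprod := card_ker_mul_card_range' q
  have hZpos : 0 < Nat.card (center T) := Nat.card_pos
  have : Nat.card (Om hcX) * Nat.card (center T) ≤ 4 * Nat.card (center T) := by
    rw [← hcardA, ← hprod]
    calc Nat.card q.ker * Nat.card q.range ≤ Nat.card (center T) * 4 :=
          Nat.mul_le_mul hcardker hcardrange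
      _ = 4 * Nat.card (center T) := by ring
  exact Nat.le_of_mul_le_mul_right this hZpos

end claimA

section main

variable {T : Type u} [Group T] [Finite T] {ρ : MulAut T}

omit [Finite T] in
lemma comm_sq {u w : T} (h : u * w = w * u) :
    (u * w⁻¹) * (u * w⁻¹) = (u * u) * (w * w)⁻¹ := by
  have h' : w⁻¹ * u = u * w⁻¹ := by
    calc w⁻¹ * u = w⁻¹ * (u * w) * w⁻¹ := by group
      _ = w⁻¹ * (w * u) * w⁻¹ := by rw [h]
      _ = u * w⁻¹ := by group
  calc (u * w⁻¹) * (u * w⁻¹) = u * (w⁻¹ * u) * w⁻¹ := by group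
    _ = u * (u * w⁻¹) * w⁻¹ := by rw [h']
    _ = (u * u) * (w * w)⁻¹ := by group

/-- Higman's theorem for `q = 4` and an automorphism of order three -/
theorem abelian_or_setup (h2 : IsPGroup 2 T) (hρ : Fpf3 ρ)
    (hc : ∀ x : T, x * x = 1 → x ∈ center T) (hV4 : Nat.card (V2 hc) ≤ 4) :
    (∀ a b : T, a * b = b * a) ∨ Setup ρ := by
  have hcl := H4A.class_two h2 hρ
  by_cases hab : ∀ a b : T, a * b = b * a
  · exact Or.inl hab
  right
  push Not at hab
  obtain ⟨x, b0, hab⟩ := hab
  have hcX : ∀ p q : T ⧸ center T, p * q = q * p := quot_comm_of_le hcl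
  -- the centre has exponent two
  have hZsq : ∀ z ∈ center T, z * z = 1 := by
    by_contra hcon
    push Not at hcon
    obtain ⟨z₀, hz₀, hz₀2⟩ := hcon
    have hΩ := card_Om_quot_le hρ h2 hcl hc hV4 hz₀ hz₀2 hcX
    obtain ⟨xb, hxb⟩ := exists_gen (h2.to_quotient _) hcX (hρ.quot _ (inv_center' ρ)) hΩ
    induction xb using QuotientGroup.induction_on with
    | H y => exact hab (comm_of_two_gen hρ le_rfl y hxb x b0)
  have P : CP ρ (⊤ : Subgroup T) := ⟨hρ, fun _ _ => mem_top _, fun g _ y => hcl g y⟩
  have hsq : ∀ g : T, g * g ∈ center T := by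
    intro g
    rw [mem_center_iff]
    intro y
    have h1 : ⁅g * g, y⁆ = 1 := by
      rw [P.mul_left (mem_top g) (mem_top g), hZsq _ (hcl g y)]
    exact ((commutatorElement_eq_one_iff_mul_comm).mp h1).symm
  have S : C2 ρ := ⟨hρ, hcl, hsq⟩
  have hxZ : x ∉ center T := fun h => hab (cz h b0)
  have hsZ : x * x ∈ center T := hsq x
  have hs1 : x * x ≠ 1 := fun h => hxZ (hc x h)
  have hZinv : Inv ρ (center T) := inv_center' ρ
  have hZ4 : Nat.card (center T) = 4 := by
    have h1 : Nat.card (center T) ≤ Nat.card (V2 hc) :=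
      Subgroup.card_le_of_le (fun z hz => hZsq z hz)
    have h3 := hρ.card_modEq _ hZinv
    have h4 : 1 < Nat.card (center T) := by
      rw [Subgroup.one_lt_card_iff_ne_bot]
      intro hbot
      rw [hbot, mem_bot] at hsZ
      exact hs1 hsZ
    unfold Nat.ModEq at h3
    omega
  -- the centralizer of `x`
  have hK : ∀ y : T, x * y = y * x → y ∈ center T ∨ y * x⁻¹ ∈ center T ∨
      y * (ρ x)⁻¹ ∈ center T ∨ y * (ρ (ρ x))⁻¹ ∈ center T := by
    intro y hy
    have hyx : ⁅y, x⁆ = 1 := cm_eq_one_iff.mpr hy.symm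
    rcases hρ.enum4 _ hZinv hZ4 hsZ hs1 (hsq y) with h | h | h | h
    · exact Or.inl (hc y h)
    · right; left
      apply hc
      rw [comm_sq hy.symm, h, mul_inv_cancel]
    · right; right; left
      apply hc
      have h5 : y * ρ x = ρ x * y := by
        rw [← cm_eq_one_iff, S.cm_rho_right, hyx, map_one, map_one]
      rw [comm_sq h5, h, ← map_mul, mul_inv_cancel]
    · right; right; right
      apply hc
      have h5 : y * ρ (ρ x) = ρ (ρ x) * y := by
        rw [← cm_eq_one_iff, S.cm_rho_right, S.cm_rho_right, hyx, map_one, map_one, map_one,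
          map_one]
      rw [comm_sq h5, h, ← map_mul, ← map_mul, mul_inv_cancel]
  have hcardK : Nat.card (centralizer ({x} : Set T)) ≤ 16 := by
    let g : (center T) × Fin 4 → T := fun p => (p.1 : T) * ![1, x, ρ x, ρ (ρ x)] p.2
    have hsub : ((centralizer ({x} : Set T) : Subgroup T) : Set T) ⊆ Set.range g := by
      intro y hy
      rw [SetLike.mem_coe, mem_cent] at hy
      rcases hK y hy with h | h | h | h
      · exact ⟨(⟨y, h⟩, 0), by simp [g]⟩
      · exact ⟨(⟨_, h⟩, 1), by simp [g]⟩
      · exact ⟨(⟨_, h⟩, 2), by simp [g]⟩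
      · exact ⟨(⟨_, h⟩, 3), by simp [g]⟩
    calc Nat.card (centralizer ({x} : Set T))
        = ((centralizer ({x} : Set T) : Subgroup T) : Set T).ncard := (Nat.card_coe_set_eq _)
      _ ≤ (Set.range g).ncard := Set.ncard_le_ncard hsub (Set.finite_range g)
      _ ≤ Nat.card ((center T) × Fin 4) := by
          rw [← Set.image_univ]
          calc (g '' Set.univ).ncard ≤ (Set.univ : Set ((center T) × Fin 4)).ncard :=
                Set.ncard_image_le Set.finite_univ
            _ = Nat.card ((center T) × Fin 4) := Set.ncard_univ _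
      _ = 16 := by rw [Nat.card_prod, Nat.card_fin, hZ4]
  -- the index of the centralizer
  have hkerf : (S.cmHom x).ker = centralizer ({x} : Set T) := by
    ext v
    rw [MonoidHom.mem_ker, S.cmHom_apply, cm_eq_one_iff, mem_cent]
  have hrange : Nat.card (S.cmHom x).range ≤ 4 := by
    rw [← hZ4]
    apply Subgroup.card_le_of_le
    rintro _ ⟨v, rfl⟩
    rw [S.cmHom_apply]
    exact hcl x v
  have hprod := card_ker_mul_card_range' (S.cmHom x)
  rw [hkerf] at hprod
  have hcard : Nat.card T ≤ 64 := by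
    rw [← hprod]
    calc Nat.card (centralizer ({x} : Set T)) * Nat.card (S.cmHom x).range ≤ 16 * 4 :=
          Nat.mul_le_mul hcardK hrange
      _ = 64 := by norm_num
  obtain ⟨k, hk⟩ := (IsPGroup.iff_card).mp h2
  have hk6 : k ≤ 6 := by
    by_contra hcon
    have : 2 ^ 7 ≤ 2 ^ k := Nat.pow_le_pow_right (by norm_num) (by omega)
    omega
  have hdvd : Nat.card T ∣ 64 := by
    rw [hk]
    exact pow_dvd_pow 2 hk6
  exact ⟨(hρ.card_of_noncomm hdvd ⟨x, b0, hab⟩).1, ⟨x, b0, hab⟩, hρ⟩

end main

end Cfsg.Agent.Helper39.H4B
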