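import Mathlib
import Cfsg.Agent.Lib.Helper39.T64A
import Cfsg.Agent.Lib.Helper39.P2A
import Cfsg.Agent.Lib.Helper39.P2B
import Cfsg.Agent.Lib.Helper39.P2C
import Cfsg.Agent.Lib.Helper39.H4B

/-!
# Tools for automorphisms of `3`-power order of `2`-groups with three involutions

Iterates, the "odd order" trick, automorphisms of abelian `2`-groups that are trivial on the
involutions, restriction of an automorphism to an invariant subgroup, and a counting lemma for
permutations all of whose orbits have length nine.  Used for S1237.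
-/

set_option autoImplicit false
set_option linter.unusedSectionVars false
set_option linter.style.haveILetI false

universe u

namespace Cfsg.Agent.Helper39.H4C

open Subgroup Cfsg.Agent.Helper39.T64A Cfsg.Agent.Helper39.P2A Cfsg.Agent.Helper39.P2B
  Cfsg.Agent.Helper39.P2C
open scoped commutatorElement

section iter

variable {T : Type*} [Group T]

lemma mpow_iter (ψ : MulAut T) (n : ℕ) (x : T) : (ψ ^ n) x = (⇑ψ)^[n] x := by
  induction n generalizing x with
  | zero => rfl
  | succ n ih =>
    rw [pow_succ, MulAut.mul_apply, ih, Function.iterate_succ_apply]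

lemma cube_apply (ψ : MulAut T) (x : T) : (ψ ^ 3) x = ψ (ψ (ψ x)) := by
  rw [mpow_iter]; rfl

/-- a point fixed by `ψ ^ m` and by `ψ ^ n` is fixed by `ψ ^ (gcd m n)` -/
lemma fixed_gcd (ψ : MulAut T) {m n : ℕ} {x : T} (hm : (ψ ^ m) x = x) (hn : (ψ ^ n) x = x) :
    (ψ ^ (Nat.gcd m n)) x = x := by
  rw [mpow_iter] at *
  exact Function.IsPeriodicPt.gcd hm hn

/-- the odd order trick -/
lemma odd_trick (h2 : IsPGroup 2 T) (χ : MulAut T) {b : ℕ} (hχ : χ ^ (3 ^ b) = 1) {t d : T}
    (h1 : χ t = t * d) (hd : χ d = d) : d = 1 := by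
  have key : ∀ k : ℕ, (χ ^ k) t = t * d ^ k := by
    intro k
    induction k with
    | zero => simp
    | succ k ih =>
      rw [pow_succ', MulAut.mul_apply, ih, map_mul, map_pow, hd, h1, mul_assoc, ← pow_succ']
  have h3 : d ^ (3 ^ b) = 1 := by
    have := key (3 ^ b)
    rw [hχ, MulAut.one_apply] at this
    exact (mul_eq_left.mp this.symm)
  obtain ⟨c, hc⟩ := h2 d
  have hg := pow_gcd_eq_one.mpr ⟨h3, hc⟩
  have hco : Nat.gcd (3 ^ b) (2 ^ c) = 1 := by
    apply Nat.Coprime.pow
    norm_num
  rwa [hco, pow_one] at hg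

/-- an automorphism of `3`-power order of an abelian `2`-group that fixes the involutions is the
identity -/
lemma abelian_fix (h2 : IsPGroup 2 T) (hc : ∀ a b : T, a * b = b * a) (χ : MulAut T) {b : ℕ}
    (hχ : χ ^ (3 ^ b) = 1) (hV : ∀ x : T, x * x = 1 → χ x = x) (x : T) : χ x = x := by
  have key : ∀ k : ℕ, ∀ x : T, x ^ (2 ^ k) = 1 → χ x = x := by
    intro k
    induction k with
    | zero =>
      intro x hx
      rw [pow_zero, pow_one] at hx
      rw [hx, map_one]
    | succ k ih =>
      intro x hx
      have h1 : χ (x * x) = x * x := by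
        apply ih
        rw [← pow_two, ← pow_mul, ← pow_succ']
        exact hx
      rw [map_mul] at h1
      have hd : (x⁻¹ * χ x) * (x⁻¹ * χ x) = 1 := by
        calc (x⁻¹ * χ x) * (x⁻¹ * χ x) = x⁻¹ * (χ x * x⁻¹) * χ x := by group
          _ = x⁻¹ * (x⁻¹ * χ x) * χ x := by rw [hc (χ x) x⁻¹]
          _ = x⁻¹ * x⁻¹ * (χ x * χ x) := by group
          _ = 1 := by rw [h1]; group
      have hd1 := odd_trick h2 χ hχ (t := x) (d := x⁻¹ * χ x) (by group) (hV _ hd)
      calc χ x = x * (x⁻¹ * χ x) := by group
        _ = x := by rw [hd1, mul_one]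
  obtain ⟨k, hk⟩ := h2 x
  exact key k x hk

end iter

section orbits

/-- if all orbits of `f` have length nine, the cardinality is divisible by nine -/
lemma nine_dvd_card {α : Type*} [DecidableEq α] (f : α → α) (hf : Function.Injective f)
    (h9 : ∀ x, f^[9] x = x) :
    ∀ (n : ℕ) (X : Finset α), X.card = n → (∀ x ∈ X, f x ∈ X) → (∀ x ∈ X, f^[3] x ≠ x) →
      9 ∣ n := by
  intro n
  induction n using Nat.strong_induction_on with
  | _ n ih =>
    intro X hn hX h3
    rcases X.eq_empty_or_nonempty with hXe | ⟨x, hx⟩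
    · rw [hXe, Finset.card_empty] at hn
      rw [← hn]
      exact dvd_zero _
    have hit : ∀ i : ℕ, f^[i] x ∈ X := by
      intro i
      induction i with
      | zero => exact hx
      | succ i ih => rw [Function.iterate_succ_apply']; exact hX _ ih
    have hmp : Function.minimalPeriod f x = 9 := by
      have hper : Function.IsPeriodicPt f 9 x := h9 x
      have hdvd := hper.minimalPeriod_dvd
      have hle : Function.minimalPeriod f x ≤ 9 := Nat.le_of_dvd (by norm_num) hdvd
      have hmin := Function.isPeriodicPt_minimalPeriod f x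
      by_contra hne
      have h3' : Function.minimalPeriod f x ∣ 3 := by
        interval_cases h : Function.minimalPeriod f x <;> omega
      exact h3 x hx (hmin.trans_dvd h3')
    set O : Finset α := (Finset.range 9).image (fun i => f^[i] x) with hO
    have hOX : O ⊆ X := by
      intro y hy
      rw [hO, Finset.mem_image] at hy
      obtain ⟨i, -, rfl⟩ := hy
      exact hit i
    have hOc : O.card = 9 := by
      rw [hO, Finset.card_image_of_injOn, Finset.card_range]
      intro i hi j hj hij
      have := Function.iterate_injOn_Iio_minimalPeriod (f := f) (x := x)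
      apply this _ _ hij
      · rw [hmp]; simpa using hi
      · rw [hmp]; simpa using hj
    have hX' : ∀ y ∈ X \ O, f y ∈ X \ O := by
      intro y hy
      rw [Finset.mem_sdiff] at hy ⊢
      refine ⟨hX y hy.1, fun hfy => hy.2 ?_⟩
      rw [hO, Finset.mem_image] at hfy ⊢
      obtain ⟨i, hi, hfi⟩ := hfy
      rcases i with _ | j
      · refine ⟨8, by simp, ?_⟩
        apply hf
        rw [← Function.iterate_succ_apply' f 8 x, h9 x]
        exact hfi
      · refine ⟨j, ?_, ?_⟩
        · rw [Finset.mem_range] at hi ⊢; omega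
        · apply hf
          rw [← Function.iterate_succ_apply' f j x]
          exact hfi
    have hc : (X \ O).card = n - 9 := by
      rw [Finset.card_sdiff_of_subset hOX, hn, hOc]
    have hle : 9 ≤ n := by
      rw [← hn, ← hOc]
      exact Finset.card_le_card hOX
    have h9' := ih (n - 9) (by omega) (X \ O) hc hX'
      (fun y hy => h3 y (Finset.mem_sdiff.mp hy).1)
    omega

end orbits

section restrict

variable {T : Type*} [Group T] [Finite T]

lemma map_eq_of_inv_fin (ψ : MulAut T) {H : Subgroup T} (hH : Inv ψ H) :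
    H.map (ψ : T ≃* T).toMonoidHom = H := by
  have hle : H.map (ψ : T ≃* T).toMonoidHom ≤ H := by
    rintro _ ⟨h, hh, rfl⟩
    exact hH h hh
  apply Subgroup.eq_of_le_of_card_ge hle
  rw [Subgroup.card_map_of_injective (ψ : T ≃* T).injective]

lemma exists_preimage_of_inv (ψ : MulAut T) {H : Subgroup T} (hH : Inv ψ H) {h : T}
    (hh : h ∈ H) : ∃ h' ∈ H, ψ h' = h := by
  have := map_eq_of_inv_fin ψ hH
  rw [← this] at hh
  obtain ⟨h', hh', rfl⟩ := hh
  exact ⟨h', hh', rfl⟩

/-- the restriction of an automorphism to an invariant subgroup -/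
noncomputable def resAut (ψ : MulAut T) (H : Subgroup T) (hH : Inv ψ H) : MulAut H :=
  ((ψ : T ≃* T).subgroupMap H).trans (MulEquiv.subgroupCongr (map_eq_of_inv_fin ψ hH))

lemma resAut_coe (ψ : MulAut T) (H : Subgroup T) (hH : Inv ψ H) (h : H) :
    ((resAut ψ H hH h : H) : T) = ψ (h : T) := rfl

lemma resAut_pow_coe (ψ : MulAut T) (H : Subgroup T) (hH : Inv ψ H) (n : ℕ) (h : H) :
    (((resAut ψ H hH) ^ n) h : T) = (ψ ^ n) (h : T) := by
  induction n generalizing h with
  | zero => rfl
  | succ n ih =>
    rw [pow_succ, MulAut.mul_apply, ih, resAut_coe, pow_succ, MulAut.mul_apply]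

end restrict

end Cfsg.Agent.Helper39.H4C
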