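import Mathlib
import Cfsg.Agent.Lib.Helper39.P2C

/-!
# A Gauss sum count in a `2`-group of class two with centre a four-group

Let `T` be a group in which commutators and squares are central, the centre is a four-group
`{1, v₁, v₂, v₃}`, and the equation `x * x = v` has equally many solutions for the three
involutions `v`.  Evaluating the sum of `e (x * x)`, for a character `e` of the centre, in two
ways gives a Diophantine constraint on the order of `T`.  Used for S1237.
-/

set_option autoImplicit false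
set_option linter.unusedSectionVars false
set_option linter.style.haveILetI false

namespace Cfsg.Agent.Helper39.H4D

open Subgroup Cfsg.Agent.Helper39.P2C Finset
open scoped commutatorElement

section cl2

variable {T : Type*} [Group T]

lemma sq_mul_cl2 (hcl : ∀ a b : T, ⁅a, b⁆ ∈ center T) (x w : T) :
    (x * w) * (x * w) = ⁅w, x⁆ * ((x * x) * (w * w)) := by
  have h1 : w * x = ⁅w, x⁆ * (x * w) := by rw [commutatorElement_def]; group
  have h2 := cz (hcl w x) x
  generalize ⁅w, x⁆ = c at h1 h2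
  calc (x * w) * (x * w) = x * (w * x) * w := by group
    _ = x * (c * (x * w)) * w := by rw [h1]
    _ = (x * c) * x * w * w := by group
    _ = (c * x) * x * w * w := by rw [h2]
    _ = c * ((x * x) * (w * w)) := by group

lemma comm_mul_right_cl2 (hcl : ∀ a b : T, ⁅a, b⁆ ∈ center T) (w a b : T) :
    ⁅w, a * b⁆ = ⁅w, a⁆ * ⁅w, b⁆ := by
  have h1 : ⁅w, a * b⁆ = w * a * w⁻¹ * ⁅w, b⁆ * a⁻¹ := by
    simp only [commutatorElement_def]; group
  have h2 := cz (hcl w b) a⁻¹
  have h3 : ⁅w, a⁆ = w * a * w⁻¹ * a⁻¹ := commutatorElement_def _ _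
  generalize ⁅w, b⁆ = c at h1 h2
  rw [h1, h3]
  calc w * a * w⁻¹ * c * a⁻¹ = w * a * w⁻¹ * (c * a⁻¹) := by group
    _ = w * a * w⁻¹ * (a⁻¹ * c) := by rw [h2]
    _ = w * a * w⁻¹ * a⁻¹ * c := by group

lemma comm_mul_central {w z : T} (hz : z ∈ center T) (x : T) : ⁅w * z, x⁆ = ⁅w, x⁆ := by
  have h1 := cz hz x
  simp only [commutatorElement_def]
  calc w * z * x * (w * z)⁻¹ * x⁻¹ = w * (z * x) * z⁻¹ * w⁻¹ * x⁻¹ := by group
    _ = w * (x * z) * z⁻¹ * w⁻¹ * x⁻¹ := by rw [h1]
    _ = w * x * w⁻¹ * x⁻¹ := by group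

end cl2

section count

variable {T : Type*} [Group T] [Fintype T] [DecidableEq T]

theorem gauss_count
    (hcl : ∀ a b : T, ⁅a, b⁆ ∈ center T) (hsq : ∀ x : T, x * x ∈ center T)
    (v₁ v₂ v₃ : T) (h1 : v₁ ≠ 1) (h2 : v₂ ≠ 1) (h3 : v₃ ≠ 1) (h12 : v₁ ≠ v₂) (h13 : v₁ ≠ v₃)
    (h23 : v₂ ≠ v₃)
    (hZ : ∀ z : T, z ∈ center T ↔ z = 1 ∨ z = v₁ ∨ z = v₂ ∨ z = v₃)
    (hZ2 : ∀ z ∈ center T, z * z = 1)
    (hV : ∀ x : T, x * x = 1 → x ∈ center T)
    (hN2 : #{x : T | x * x = v₂} = #{x : T | x * x = v₁})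
    (hN3 : #{x : T | x * x = v₃} = #{x : T | x * x = v₁}) :
    ∃ m : ℤ, Even m ∧ (16 - (Fintype.card T : ℤ)) ^ 2 = 9 * (Fintype.card T : ℤ) * m := by
  have c1 : v₁ ∈ center T := (hZ _).mpr (Or.inr (Or.inl rfl))
  have c2 : v₂ ∈ center T := (hZ _).mpr (Or.inr (Or.inr (Or.inl rfl)))
  have c3 : v₃ ∈ center T := (hZ _).mpr (Or.inr (Or.inr (Or.inr rfl)))
  have s1 : v₁ * v₁ = 1 := hZ2 _ c1
  have s2 : v₂ * v₂ = 1 := hZ2 _ c2
  have s3 : v₃ * v₃ = 1 := hZ2 _ c3
  have t12 : v₁ * v₂ = v₃ := by
    rcases (hZ _).mp (mul_mem c1 c2) with h | h | h | h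
    · exfalso; apply h12
      calc v₁ = v₁ * (v₂ * v₂) := by rw [s2, mul_one]
        _ = (v₁ * v₂) * v₂ := by group
        _ = v₂ := by rw [h, one_mul]
    · exfalso; apply h2
      exact mul_eq_left.mp h
    · exfalso; apply h1
      exact mul_eq_right.mp h
    · exact h
  have t21 : v₂ * v₁ = v₃ := by rw [cz c2 v₁, t12]
  have t13 : v₁ * v₃ = v₂ := by rw [← t12, ← mul_assoc, s1, one_mul]
  have t31 : v₃ * v₁ = v₂ := by rw [cz c3 v₁, t13]
  have t23 : v₂ * v₃ = v₁ := by rw [← t21, ← mul_assoc, s2, one_mul]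
  have t32 : v₃ * v₂ = v₁ := by rw [cz c3 v₂, t23]
  -- the character
  set e : T → ℤ := fun z => if z = 1 ∨ z = v₁ then 1 else -1 with he
  have e_one : e 1 = 1 := by simp [he]
  have e_1 : e v₁ = 1 := by simp [he]
  have e_2 : e v₂ = -1 := by simp [he, h2, h12.symm]
  have e_3 : e v₃ = -1 := by simp [he, h3, h13.symm]
  have e_mul : ∀ z z' : T, z ∈ center T → z' ∈ center T → e (z * z') = e z * e z' := by
    intro z z' hz hz'
    rcases (hZ _).mp hz with rfl | rfl | rfl | rfl <;>
      rcases (hZ _).mp hz' with rfl | rfl | rfl | rfl <;>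
      simp only [one_mul, mul_one, s1, s2, s3, t12, t21, t13, t31, t23, t32, e_one, e_1, e_2, e_3]
        <;> norm_num
  have e_sq : ∀ z : T, e z * e z = 1 := by
    intro z
    simp only [he]
    split_ifs <;> norm_num
  have e_cases : ∀ z : T, e z = 1 ∨ e z = -1 := by
    intro z
    simp only [he]
    split_ifs
    · exact Or.inl rfl
    · exact Or.inr rfl
  -- the sum
  set S : ℤ := ∑ x : T, e (x * x) with hS
  set Zs : Finset T := {1, v₁, v₂, v₃} with hZs
  have hmaps : ∀ x ∈ (univ : Finset T), x * x ∈ Zs := by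
    intro x _
    have := (hZ _).mp (hsq x)
    simp only [hZs, mem_insert, mem_singleton]
    exact this
  have hA1 : #{x : T | x * x = 1} = 4 := by
    have : ({x : T | x * x = 1} : Finset T) = Zs := by
      ext x
      simp only [mem_filter, mem_univ, true_and, hZs, mem_insert, mem_singleton]
      constructor
      · intro hx
        exact (hZ _).mp (hV x hx)
      · intro hx
        exact hZ2 x ((hZ _).mpr hx)
    rw [this, hZs]
    rw [card_insert_of_notMem, card_insert_of_notMem, card_insert_of_notMem, card_singleton]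
    · simp [h23]
    · simp [h12, h13]
    · simp [h1.symm, h2.symm, h3.symm]
  set N : ℕ := #{x : T | x * x = v₁} with hN
  have hcard : Fintype.card T = 4 + 3 * N := by
    have := card_eq_sum_card_fiberwise (f := fun x : T => x * x) (s := univ) (t := Zs)
      (fun x hx => hmaps x (by simp))
    rw [card_univ] at this
    rw [this, hZs, sum_insert, sum_insert, sum_insert, sum_singleton, hA1, hN2, hN3]
    · ring
    · simp [h23]
    · simp [h12, h13]
    · simp [h1.symm, h2.symm, h3.symm]
  have hSval : S = 4 - N := by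
    have := sum_fiberwise_of_maps_to' (s := (univ : Finset T)) (t := Zs) (g := fun x : T => x * x)
      hmaps e
    rw [hS, ← this]
    simp only [sum_const, nsmul_eq_mul]
    rw [hZs, sum_insert, sum_insert, sum_insert, sum_singleton, hA1, hN2, hN3, e_one, e_1, e_2, e_3]
    · push_cast; ring
    · simp [h23]
    · simp [h12, h13]
    · simp [h1.symm, h2.symm, h3.symm]
  have h3S : 3 * S = 16 - (Fintype.card T : ℤ) := by
    rw [hSval, hcard]; push_cast; ring
  -- the square of the sum
  have hinner : ∀ w : T, (∑ x : T, e ⁅w, x⁆) =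
      if (∀ x : T, e ⁅w, x⁆ = 1) then (Fintype.card T : ℤ) else 0 := by
    intro w
    split_ifs with hw
    · rw [sum_congr rfl (fun x _ => hw x)]
      simp
    · push Not at hw
      obtain ⟨x₁, hx₁⟩ := hw
      have hx₁' : e ⁅w, x₁⁆ = -1 := (e_cases _).resolve_left hx₁
      have h := Equiv.sum_comp (Equiv.mulLeft x₁) (fun x => e ⁅w, x⁆)
      simp only [Equiv.coe_mulLeft] at h
      have h' : ∑ x : T, e ⁅w, x₁ * x⁆ = - ∑ x : T, e ⁅w, x⁆ := by
        rw [← sum_neg_distrib]
        apply sum_congr rfl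
        intro x _
        rw [comm_mul_right_cl2 hcl, e_mul _ _ (hcl _ _) (hcl _ _), hx₁']
        ring
      linarith
  set R : Finset T := {w : T | ∀ x : T, e ⁅w, x⁆ = 1} with hR
  set m : ℤ := ∑ w ∈ R, e (w * w) with hm
  have hSS : S * S = (Fintype.card T : ℤ) * m := by
    have hpt : ∀ x w : T, e (x * x) * e ((x * w) * (x * w)) = e (w * w) * e ⁅w, x⁆ := by
      intro x w
      rw [sq_mul_cl2 hcl, e_mul _ _ (hcl _ _) (mul_mem (hsq _) (hsq _)),
        e_mul _ _ (hsq _) (hsq _)]
      have := e_sq (x * x)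
      linear_combination (e ⁅w, x⁆ * e (w * w)) * this
    calc S * S = ∑ x : T, ∑ y : T, e (x * x) * e (y * y) := by
          rw [hS, sum_mul_sum]
      _ = ∑ x : T, ∑ w : T, e (x * x) * e ((x * w) * (x * w)) := by
          apply sum_congr rfl
          intro x _
          exact (Equiv.sum_comp (Equiv.mulLeft x) (fun y => e (x * x) * e (y * y))).symm
      _ = ∑ x : T, ∑ w : T, e (w * w) * e ⁅w, x⁆ := by
          apply sum_congr rfl
          intro x _
          apply sum_congr rfl
          intro w _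
          exact hpt x w
      _ = ∑ w : T, ∑ x : T, e (w * w) * e ⁅w, x⁆ := sum_comm
      _ = ∑ w : T, e (w * w) * (if (∀ x : T, e ⁅w, x⁆ = 1) then (Fintype.card T : ℤ) else 0) := by
          apply sum_congr rfl
          intro w _
          rw [← mul_sum, hinner]
      _ = (Fintype.card T : ℤ) * m := by
          rw [hm, hR, sum_filter, mul_sum]
          apply sum_congr rfl
          intro w _
          split_ifs <;> ring
  -- parity
  have hmeven : Even m := by
    have hcast : ((m : ℤ) : ZMod 2) = ∑ w ∈ R, (1 : ZMod 2) := by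
      rw [hm, Int.cast_sum]
      apply sum_congr rfl
      intro w _
      rcases e_cases (w * w) with h | h <;> rw [h] <;> simp
    have hzero : ∑ w ∈ R, (1 : ZMod 2) = 0 := by
      apply sum_involution (fun w _ => w * v₁)
      · intro _ _; decide
      · intro w _ _ hcon
        exact h1 (mul_eq_left.mp hcon)
      · intro w hw
        rw [hR, mem_filter] at hw ⊢
        refine ⟨mem_univ _, fun x => ?_⟩
        rw [comm_mul_central c1]
        exact hw.2 x
      · intro w hw
        rw [mul_assoc, s1, mul_one]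
    rw [hzero] at hcast
    have := (ZMod.intCast_zmod_eq_zero_iff_dvd m 2).mp hcast
    exact even_iff_two_dvd.mpr (by exact_mod_cast this)
  refine ⟨m, hmeven, ?_⟩
  rw [← h3S]
  calc (3 * S) ^ 2 = 9 * (S * S) := by ring
    _ = 9 * (Fintype.card T : ℤ) * m := by rw [hSS]; ring

end count

end Cfsg.Agent.Helper39.H4D
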