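import Mathlib
import Cfsg.Agent.Lib.Helper39.T64A
import Cfsg.Agent.Lib.Helper39.P2A
import Cfsg.Agent.Lib.Helper39.P2B
import Cfsg.Agent.Lib.Helper39.P2C
import Cfsg.Agent.Lib.Helper39.H4C
import Cfsg.Agent.Lib.Helper39.H4D

/-!
# An automorphism of `3`-power order permuting three central involutions has order three

Let `T` be a finite `2`-group all of whose involutions are central, and `ψ` a fixed-point-free
automorphism of `3`-power order whose powers permute the involutions transitively (so there are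
three of them).  Then `ψ ^ 3 = 1`.  Used for S1237.
-/

set_option autoImplicit false
set_option linter.unusedSectionVars false
set_option linter.style.haveILetI false

universe u

namespace Cfsg.Agent.Helper39.H4E

open Subgroup Cfsg.Agent.Helper39.T64A Cfsg.Agent.Helper39.P2A Cfsg.Agent.Helper39.P2B
  Cfsg.Agent.Helper39.P2C Cfsg.Agent.Helper39.H4C Cfsg.Agent.Helper39.H4D
open scoped commutatorElement

/-- the hypotheses on the automorphism -/
structure AD {T : Type*} [Group T] (ψ : MulAut T) : Prop where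
  two : IsPGroup 2 T
  pow : ∃ a : ℕ, ψ ^ (3 ^ a) = 1
  fpf : ∀ x : T, ψ x = x → x = 1
  cent : ∀ x : T, x * x = 1 → x ∈ center T
  tr : ∀ x y : T, x * x = 1 → x ≠ 1 → y * y = 1 → y ≠ 1 → y = x ∨ y = ψ x ∨ y = ψ (ψ x)

section basic

variable {T : Type*} [Group T] [Finite T] {ψ : MulAut T}

theorem AD.restrict (h : AD ψ) (H : Subgroup T) (hH : Inv ψ H) : AD (resAut ψ H hH) := by
  refine ⟨h.two.to_subgroup H, ?_, ?_, ?_, ?_⟩
  · obtain ⟨a, ha⟩ := h.pow
    refine ⟨a, ?_⟩
    apply MulEquiv.ext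
    intro x
    apply Subtype.ext
    rw [resAut_pow_coe, ha]
    rfl
  · intro x hx
    have : ψ (x : T) = x := by rw [← resAut_coe ψ H hH, hx]
    exact Subtype.ext (h.fpf _ this)
  · intro x hx
    have h1 : (x : T) * (x : T) = 1 := by
      have := congrArg Subtype.val hx
      simpa using this
    have h2 := h.cent _ h1
    rw [mem_center_iff]
    intro g
    exact Subtype.ext (mem_center_iff.mp h2 g)
  · intro x y hx hx1 hy hy1
    have h1 : (x : T) * (x : T) = 1 := by
      have := congrArg Subtype.val hx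
      simpa using this
    have h2 : (y : T) * (y : T) = 1 := by
      have := congrArg Subtype.val hy
      simpa using this
    have h3 : (x : T) ≠ 1 := fun hc => hx1 (Subtype.ext hc)
    have h4 : (y : T) ≠ 1 := fun hc => hy1 (Subtype.ext hc)
    rcases h.tr _ _ h1 h3 h2 h4 with h5 | h5 | h5
    · exact Or.inl (Subtype.ext h5)
    · exact Or.inr (Or.inl (Subtype.ext h5))
    · exact Or.inr (Or.inr (Subtype.ext h5))

omit [Finite T] in
lemma AD.invol_enum (h : AD ψ) {v : T} (hv : v * v = 1) (hv1 : v ≠ 1) :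
    ψ v ≠ v ∧ ψ (ψ v) ≠ v ∧ ψ (ψ (ψ v)) = v := by
  have h1 : ψ v ≠ v := fun hc => hv1 (h.fpf v hc)
  have h2 : ψ (ψ v) ≠ v := by
    intro hc
    obtain ⟨a, ha⟩ := h.pow
    have e1 : (ψ ^ 2) v = v := by
      rw [mpow_iter]; exact hc
    have e2 : (ψ ^ (3 ^ a)) v = v := by rw [ha]; rfl
    have e3 := fixed_gcd ψ e1 e2
    have hco : Nat.gcd 2 (3 ^ a) = 1 := by
      apply Nat.Coprime.pow_right
      norm_num
    rw [hco, pow_one] at e3
    exact h1 e3
  refine ⟨h1, h2, ?_⟩
  have hw : ψ (ψ (ψ v)) * ψ (ψ (ψ v)) = 1 := by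
    rw [← map_mul, ← map_mul, ← map_mul, hv, map_one, map_one, map_one]
  have hw1 : ψ (ψ (ψ v)) ≠ 1 := by
    intro hc
    apply hv1
    have := (ψ : T ≃* T).injective.eq_iff.mp (hc.trans (map_one ψ).symm)
    have := (ψ : T ≃* T).injective.eq_iff.mp (this.trans (map_one ψ).symm)
    exact (ψ : T ≃* T).injective.eq_iff.mp (this.trans (map_one ψ).symm)
  rcases h.tr v _ hv hv1 hw hw1 with h5 | h5 | h5
  · exact h5
  · exfalso
    exact h2 ((ψ : T ≃* T).injective h5)
  · exfalso
    exact h1 ((ψ : T ≃* T).injective ((ψ : T ≃* T).injective h5))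

omit [Finite T] in
lemma AD.cube_fix_invol (h : AD ψ) (x : T) (hx : x * x = 1) : (ψ ^ 3) x = x := by
  rw [cube_apply]
  by_cases hx1 : x = 1
  · rw [hx1, map_one, map_one, map_one]
  · exact (h.invol_enum hx hx1).2.2

lemma AD.mem_of_inv (h : AD ψ) {H : Subgroup T} (hH : Inv ψ H) (hne : H ≠ ⊥) (x : T)
    (hx : x * x = 1) : x ∈ H := by
  obtain ⟨v, hvH, hv1, hv⟩ := exists_invol h.two H hne
  by_cases hx1 : x = 1
  · rw [hx1]; exact one_mem _
  rcases h.tr v x hv hv1 hx hx1 with h5 | h5 | h5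
  · rw [h5]; exact hvH
  · rw [h5]; exact hH _ hvH
  · rw [h5]; exact hH _ (hH _ hvH)

end basic

section step

variable {T : Type u} [Group T] [Finite T] {ψ : MulAut T}

/-- the cube of `ψ` fixes every proper invariant subgroup pointwise -/
def HA (ψ : MulAut T) : Prop :=
  ∀ H : Subgroup T, Inv ψ H → H ≠ ⊤ → ∀ x ∈ H, (ψ ^ 3) x = x

omit [Finite T] in
lemma chi_pow (h : AD ψ) : ∃ a : ℕ, (ψ ^ 3) ^ (3 ^ a) = 1 := by
  obtain ⟨a, ha⟩ := h.pow
  refine ⟨a, ?_⟩
  rw [← pow_mul, mul_comm, pow_mul, ha, one_pow]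

omit [Finite T] in
lemma chi_comm (x : T) : (ψ ^ 3) (ψ x) = ψ ((ψ ^ 3) x) := by
  rw [cube_apply, cube_apply]

omit [Finite T] in
lemma chi_of_diff (h : AD ψ) {t : T} (hd : (ψ ^ 3) (t⁻¹ * (ψ ^ 3) t) = t⁻¹ * (ψ ^ 3) t) :
    (ψ ^ 3) t = t := by
  obtain ⟨a, ha⟩ := chi_pow h
  have hd1 := odd_trick h.two (ψ ^ 3) ha (t := t) (d := t⁻¹ * (ψ ^ 3) t) (by group) hd
  calc (ψ ^ 3) t = t * (t⁻¹ * (ψ ^ 3) t) := by group
    _ = t := by rw [hd1, mul_one]

/-- a proper invariant normal subgroup is central -/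
theorem central_of_normal (h : AD ψ) (hA : HA ψ) (hne : ∃ x, (ψ ^ 3) x ≠ x) (N : Subgroup T)
    [hN : N.Normal] (hNi : Inv ψ N) (hNt : N ≠ ⊤) : N ≤ center T := by
  set E : Subgroup T := centralizer (N : Set T) with hE
  have hEi : Inv ψ E := by
    intro e he
    rw [hE, mem_centralizer_iff] at he ⊢
    intro n hn
    obtain ⟨n', hn', rfl⟩ := exists_preimage_of_inv ψ hNi hn
    rw [← map_mul, ← map_mul, he n' hn']
  have hd : ∀ t : T, t⁻¹ * (ψ ^ 3) t ∈ E := by
    intro t
    rw [hE, mem_centralizer_iff]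
    intro n hn
    have h1 : (ψ ^ 3) n = n := hA N hNi hNt n hn
    have h2 : (ψ ^ 3) (t * n * t⁻¹) = t * n * t⁻¹ := hA N hNi hNt _ (hN.conj_mem n hn t)
    rw [map_mul, map_mul, map_inv, h1] at h2
    calc n * (t⁻¹ * (ψ ^ 3) t) = t⁻¹ * (t * n * t⁻¹) * (ψ ^ 3) t := by group
      _ = t⁻¹ * ((ψ ^ 3) t * n * ((ψ ^ 3) t)⁻¹) * (ψ ^ 3) t := by rw [h2]
      _ = t⁻¹ * (ψ ^ 3) t * n := by group
  by_cases hEt : E = ⊤
  · intro n hn
    rw [mem_center_iff]
    intro g
    have hg : g ∈ E := by rw [hEt]; exact mem_top _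
    rw [hE, mem_centralizer_iff] at hg
    exact (hg n hn).symm
  · exfalso
    obtain ⟨x, hx⟩ := hne
    apply hx
    apply chi_of_diff h
    exact hA E hEi hEt _ (hd x)

/-- the group is not abelian -/
lemma not_abelian (h : AD ψ) (hne : ∃ x, (ψ ^ 3) x ≠ x) : center T ≠ ⊤ := by
  intro hc
  obtain ⟨x, hx⟩ := hne
  apply hx
  obtain ⟨a, ha⟩ := chi_pow h
  have hab : ∀ a b : T, a * b = b * a := by
    intro a b
    have : a ∈ center T := by rw [hc]; exact mem_top _
    exact cz this b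
  exact abelian_fix h.two hab (ψ ^ 3) ha (fun y hy => h.cube_fix_invol y hy) x

/-- the class is two -/
theorem comm_central (h : AD ψ) (hA : HA ψ) (hne : ∃ x, (ψ ^ 3) x ≠ x) (a b : T) :
    ⁅a, b⁆ ∈ center T := by
  haveI : Fact (Nat.Prime 2) := ⟨Nat.prime_two⟩
  have hZt := not_abelian h hne
  let π := QuotientGroup.mk' (center T)
  have hker : ∀ g, π g = 1 ↔ g ∈ center T := fun g => QuotientGroup.eq_one_iff g
  set Z2 : Subgroup T := (center (T ⧸ center T)).comap π with hZ2
  have hmem : ∀ g, g ∈ Z2 ↔ ∀ x, ⁅g, x⁆ ∈ center T := by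
    intro g
    rw [hZ2, mem_comap, mem_center_iff]
    constructor
    · intro hg x
      rw [← hker, map_commutatorElement, commutatorElement_eq_one_iff_mul_comm]
      exact (hg (π x)).symm
    · intro hg q
      obtain ⟨x, rfl⟩ := QuotientGroup.mk'_surjective (center T) q
      have := hg x
      rw [← hker, map_commutatorElement, commutatorElement_eq_one_iff_mul_comm] at this
      exact this.symm
  haveI : Z2.Normal := Subgroup.Normal.comap inferInstance π
  have hZ2i : Inv ψ Z2 := by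
    intro g hg
    rw [hmem] at hg ⊢
    intro x
    obtain ⟨x', -, rfl⟩ := exists_preimage_of_inv ψ (H := ⊤) (fun _ _ => mem_top _) (mem_top x)
    rw [← map_commutatorElement]
    exact inv_center' ψ _ (hg x')
  by_cases hZ2t : Z2 = ⊤
  · have : a ∈ Z2 := by rw [hZ2t]; exact mem_top _
    exact (hmem a).mp this b
  · exfalso
    have hle := central_of_normal h hA hne Z2 hZ2i hZ2t
    obtain ⟨t, ht⟩ : ∃ t : T, t ∉ center T := by
      by_contra hcon
      push Not at hcon
      exact hZt ((Subgroup.eq_top_iff' _).mpr hcon)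
    haveI : Nontrivial (T ⧸ center T) := by
      refine ⟨⟨π t, 1, ?_⟩⟩
      intro hc
      exact ht ((hker t).mp hc)
    haveI := (h.two.to_quotient (center T)).center_nontrivial
    obtain ⟨q, hq⟩ := exists_ne (1 : center (T ⧸ center T))
    obtain ⟨g, hg⟩ := QuotientGroup.mk'_surjective (center T) (q : T ⧸ center T)
    have hgZ2 : g ∈ Z2 := by
      rw [hZ2, mem_comap]
      rw [show π g = (q : T ⧸ center T) from hg]
      exact q.2
    apply hq
    apply Subtype.ext
    rw [← hg]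
    exact (hker g).mpr (hle hgZ2)

/-- squares are central -/
theorem sq_central (h : AD ψ) (hA : HA ψ) (hne : ∃ x, (ψ ^ 3) x ≠ x) (a : T) :
    a * a ∈ center T := by
  haveI : Fact (Nat.Prime 2) := ⟨Nat.prime_two⟩
  have hZt := not_abelian h hne
  have hcl := comm_central h hA hne
  let π := QuotientGroup.mk' (center T)
  have hker : ∀ g, π g = 1 ↔ g ∈ center T := fun g => QuotientGroup.eq_one_iff g
  let U : Subgroup T :=
    { carrier := {x | x * x ∈ center T}
      one_mem' := by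
        simp only [Set.mem_ofPred_eq, mul_one]
        exact one_mem _
      mul_mem' := by
        intro x y hx hy
        simp only [Set.mem_ofPred_eq] at *
        rw [sq_mul_cl2 hcl]
        exact mul_mem (hcl _ _) (mul_mem hx hy)
      inv_mem' := by
        intro x hx
        simp only [Set.mem_ofPred_eq] at *
        rw [← mul_inv_rev]
        exact inv_mem hx }
  have hmem : ∀ x, x ∈ U ↔ x * x ∈ center T := fun _ => Iff.rfl
  haveI : U.Normal := by
    refine ⟨fun n hn g => ?_⟩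
    rw [hmem] at hn ⊢
    have : g * n * g⁻¹ * (g * n * g⁻¹) = g * (n * n) * g⁻¹ := by group
    rw [this, ← cz hn g]
    simpa using hn
  have hUi : Inv ψ U := by
    intro x hx
    rw [hmem] at hx ⊢
    rw [← map_mul]
    exact inv_center' ψ _ hx
  by_cases hUt : U = ⊤
  · have : a ∈ U := by rw [hUt]; exact mem_top _
    exact (hmem a).mp this
  · exfalso
    have hle := central_of_normal h hA hne U hUi hUt
    obtain ⟨t, ht⟩ : ∃ t : T, t ∉ center T := by
      by_contra hcon
      push Not at hcon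
      exact hZt ((Subgroup.eq_top_iff' _).mpr hcon)
    have hnt : (⊤ : Subgroup (T ⧸ center T)) ≠ ⊥ := by
      intro hc
      apply ht
      rw [← hker]
      have : π t ∈ (⊤ : Subgroup (T ⧸ center T)) := mem_top _
      rw [hc, mem_bot] at this
      exact this
    obtain ⟨q, -, hq1, hq⟩ := exists_invol (h.two.to_quotient (center T)) ⊤ hnt
    obtain ⟨g, rfl⟩ := QuotientGroup.mk'_surjective (center T) q
    have hgU : g ∈ U := by
      rw [hmem, ← hker, map_mul]
      exact hq
    exact hq1 ((hker g).mpr (hle hgU))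

/-- the fixed points of the cube are the centre -/
theorem fix_eq_center (h : AD ψ) (hA : HA ψ) (hne : ∃ x, (ψ ^ 3) x ≠ x) (x : T) :
    (ψ ^ 3) x = x ↔ x ∈ center T := by
  have hZt := not_abelian h hne
  have hcl := comm_central h hA hne
  have hZF : ∀ z ∈ center T, (ψ ^ 3) z = z := hA _ (inv_center' ψ) hZt
  constructor
  · intro hx
    haveI : (P2A.Fix (ψ ^ 3)).Normal := by
      refine ⟨fun f hf g => ?_⟩
      rw [mem_Fix] at hf ⊢
      have : g * f * g⁻¹ = ⁅g, f⁆ * f := by rw [commutatorElement_def]; group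
      rw [this, map_mul, hZF _ (hcl g f), hf]
    have hFi : Inv ψ (P2A.Fix (ψ ^ 3)) := by
      intro f hf
      rw [mem_Fix] at hf ⊢
      rw [chi_comm, hf]
    have hFt : P2A.Fix (ψ ^ 3) ≠ ⊤ := by
      intro hc
      obtain ⟨y, hy⟩ := hne
      apply hy
      have : y ∈ P2A.Fix (ψ ^ 3) := by rw [hc]; exact mem_top _
      exact this
    exact central_of_normal h hA hne _ hFi hFt hx
  · exact hZF x

omit [Finite T] in
lemma comm_sq_eq_one (hcl : ∀ a b : T, ⁅a, b⁆ ∈ center T) (hsq : ∀ a : T, a * a ∈ center T)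
    (w u : T) : ⁅w, u⁆ * ⁅w, u⁆ = 1 := by
  have h1 : ⁅w * w, u⁆ = ⁅w, u⁆ * ⁅w, u⁆ := by
    have h2 : ⁅w * w, u⁆ = w * ⁅w, u⁆ * w⁻¹ * ⁅w, u⁆ := by
      simp only [commutatorElement_def]; group
    have h3 := cz (hcl w u) w
    generalize ⁅w, u⁆ = c at h2 h3
    rw [h2, ← h3]
    group
  rw [← h1, commutatorElement_eq_one_iff_mul_comm]
  exact cz (hsq w) u

lemma diff_sq (h : AD ψ) (hA : HA ψ) (hne : ∃ x, (ψ ^ 3) x ≠ x) (t : T) :
    (t⁻¹ * (ψ ^ 3) t) * (t⁻¹ * (ψ ^ 3) t) = ⁅(ψ ^ 3) t, t⁻¹⁆ := by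
  have hcl := comm_central h hA hne
  have hsq := sq_central h hA hne
  have h1 : (ψ ^ 3) t * (ψ ^ 3) t = t * t := by
    rw [← map_mul]
    exact (fix_eq_center h hA hne _).mpr (hsq t)
  rw [sq_mul_cl2 hcl, h1]
  have : t⁻¹ * t⁻¹ * (t * t) = 1 := by group
  rw [this, mul_one]

/-- the centre has exponent two -/
theorem case_one (h : AD ψ) (hA : HA ψ) (hne : ∃ x, (ψ ^ 3) x ≠ x) (z₀ : T)
    (hz₀ : z₀ ∈ center T) (hz₀2 : z₀ * z₀ ≠ 1) : False := by
  have hcl := comm_central h hA hne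
  have hsq := sq_central h hA hne
  let Sq : Subgroup T :=
    { carrier := {y | ∃ z ∈ center T, z * z = y}
      one_mem' := ⟨1, one_mem _, one_mul 1⟩
      mul_mem' := by
        rintro _ _ ⟨z, hz, rfl⟩ ⟨z', hz', rfl⟩
        refine ⟨z * z', mul_mem hz hz', ?_⟩
        calc z * z' * (z * z') = z * (z' * z) * z' := by group
          _ = z * (z * z') * z' := by rw [cz hz' z]
          _ = z * z * (z' * z') := by group
      inv_mem' := by
        rintro _ ⟨z, hz, rfl⟩
        exact ⟨z⁻¹, inv_mem hz, by group⟩ }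
  have hmem : ∀ y, y ∈ Sq ↔ ∃ z ∈ center T, z * z = y := fun _ => Iff.rfl
  have hSqi : Inv ψ Sq := by
    rintro _ ⟨z, hz, rfl⟩
    exact ⟨ψ z, inv_center' ψ _ hz, (map_mul ψ z z).symm⟩
  have hSqne : Sq ≠ ⊥ := by
    intro hc
    have : z₀ * z₀ ∈ Sq := ⟨z₀, hz₀, rfl⟩
    rw [hc, mem_bot] at this
    exact hz₀2 this
  obtain ⟨x, hx⟩ := hne
  have hne' : ∃ x, (ψ ^ 3) x ≠ x := ⟨x, hx⟩
  apply hx
  apply chi_of_diff h
  set b := x⁻¹ * (ψ ^ 3) x with hb
  have hbb : (b * b) * (b * b) = 1 := by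
    rw [hb, diff_sq h hA hne', comm_sq_eq_one hcl hsq]
  obtain ⟨z, hz, hzb⟩ := h.mem_of_inv hSqi hSqne _ hbb
  have h1 : (b * z⁻¹) * (b * z⁻¹) = 1 := by
    calc (b * z⁻¹) * (b * z⁻¹) = b * (z⁻¹ * b) * z⁻¹ := by group
      _ = b * (b * z⁻¹) * z⁻¹ := by rw [cz (inv_mem hz) b]
      _ = (b * b) * (z * z)⁻¹ := by group
      _ = 1 := by rw [hzb, mul_inv_cancel]
  have hbz := h.cent _ h1
  have hbc : b ∈ center T := by
    have := mul_mem hbz hz
    simpa using this
  exact (fix_eq_center h hA hne' b).mpr hbc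

lemma arith_aux (c n : ℕ) (m : ℤ) (hc : c = 2 ^ n) (h4 : 4 < c) (h9 : 9 ∣ c - 4) (hm : Even m)
    (heq : (16 - (c : ℤ)) ^ 2 = 9 * (c : ℤ) * m) : False := by
  have hn : 8 ≤ n := by
    by_contra hcon
    push Not at hcon
    interval_cases n <;> simp only [hc] at h4 h9 <;> omega
  obtain ⟨k, rfl⟩ := Nat.exists_eq_add_of_le hn
  obtain ⟨r, rfl⟩ := hm
  set j : ℕ := 2 ^ k with hj
  have hcj : c = 256 * j := by rw [hc, pow_add, hj]; norm_num
  rw [hcj] at heq
  push_cast at heq
  have key : (256 : ℤ) - 8192 * j + 65536 * ((j : ℤ) * j) = 4608 * ((j : ℤ) * r) := by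
    linear_combination heq
  generalize (j : ℤ) * j = A at key
  generalize (j : ℤ) * r = B at key
  omega

/-- the centre does not have exponent two -/
theorem case_two (h : AD ψ) (hA : HA ψ) (hne : ∃ x, (ψ ^ 3) x ≠ x)
    (hz : ∀ z ∈ center T, z * z = 1) : False := by
  classical
  haveI := Fintype.ofFinite T
  have hcl := comm_central h hA hne
  have hsq := sq_central h hA hne
  have hZt := not_abelian h hne
  have hTnt : (⊤ : Subgroup T) ≠ ⊥ := by
    intro hc
    apply hZt
    rw [hc]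
    exact (Subgroup.eq_bot_iff_forall _).mpr (fun x _ => by
      have : x ∈ (⊤ : Subgroup T) := mem_top _
      rw [hc, mem_bot] at this
      exact this)
  obtain ⟨v₁, -, hv1, hvv⟩ := exists_invol h.two ⊤ hTnt
  obtain ⟨e1, e2, e3⟩ := h.invol_enum hvv hv1
  have hinj := (ψ : T ≃* T).injective
  have hv2 : ψ v₁ ≠ 1 := fun hc => hv1 (hinj (hc.trans (map_one ψ).symm))
  have hv3 : ψ (ψ v₁) ≠ 1 := fun hc => hv2 (hinj (hc.trans (map_one ψ).symm))
  have hvv2 : ψ v₁ * ψ v₁ = 1 := by rw [← map_mul, hvv, map_one]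
  have hvv3 : ψ (ψ v₁) * ψ (ψ v₁) = 1 := by rw [← map_mul, hvv2, map_one]
  have h12 : v₁ ≠ ψ v₁ := fun hc => e1 hc.symm
  have h13 : v₁ ≠ ψ (ψ v₁) := fun hc => e2 hc.symm
  have h23 : ψ v₁ ≠ ψ (ψ v₁) := fun hc => h12 (hinj hc)
  have hZ : ∀ z : T, z ∈ center T ↔ z = 1 ∨ z = v₁ ∨ z = ψ v₁ ∨ z = ψ (ψ v₁) := by
    intro z
    constructor
    · intro hzc
      by_cases hz1 : z = 1
      · exact Or.inl hz1
      · exact Or.inr (h.tr v₁ z hvv hv1 (hz z hzc) hz1)
    · rintro (rfl | rfl | rfl | rfl)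
      · exact one_mem _
      · exact h.cent _ hvv
      · exact h.cent _ hvv2
      · exact h.cent _ hvv3
  have hNψ : ∀ c : T, Finset.card {x : T | x * x = ψ c} = Finset.card {x : T | x * x = c} := by
    intro c
    symm
    apply Finset.card_equiv (ψ : T ≃* T).toEquiv
    intro x
    simp only [Finset.mem_filter, Finset.mem_univ, true_and, MulEquiv.toEquiv_eq_coe,
      MulEquiv.coe_toEquiv]
    rw [← map_mul]
    exact hinj.eq_iff.symm
  obtain ⟨m, hm, heq⟩ := gauss_count hcl hsq v₁ (ψ v₁) (ψ (ψ v₁)) hv1 hv2 hv3 h12 h13 h23 hZ hz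
    h.cent (hNψ v₁) ((hNψ (ψ v₁)).trans (hNψ v₁))
  -- orbits of length nine
  obtain ⟨a, ha⟩ := h.pow
  have hord : orderOf ψ ∣ 3 ^ a := orderOf_dvd_of_pow_eq_one ha
  obtain ⟨k, -, hkord⟩ := (Nat.dvd_prime_pow Nat.prime_three).mp hord
  have hk2 : 2 ≤ k := by
    by_contra hcon
    push Not at hcon
    obtain ⟨x, hx⟩ := hne
    apply hx
    have : ψ ^ 3 = 1 := by
      apply orderOf_dvd_iff_pow_eq_one.mp
      rw [hkord]
      interval_cases k <;> norm_num
    rw [this]
    rfl
  obtain ⟨k', rfl⟩ := Nat.exists_eq_add_of_le hk2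
  set σ : MulAut T := ψ ^ (3 ^ k') with hσ
  set τ : MulAut T := ψ ^ (3 ^ (k' + 1)) with hτ
  have hσ3 : σ ^ 3 = τ := by rw [hσ, hτ, ← pow_mul, ← pow_succ]
  have hσ9 : σ ^ 9 = 1 := by
    rw [hσ, ← pow_mul]
    have : 3 ^ k' * 9 = 3 ^ (2 + k') := by rw [pow_add]; ring
    rw [this, ← hkord, pow_orderOf_eq_one]
  have hτ1 : τ ≠ 1 := by
    rw [hτ]
    apply pow_ne_one_of_lt_orderOf (by positivity)
    rw [hkord]
    apply Nat.pow_lt_pow_right (by norm_num)
    omega
  have hτfix : ∀ x : T, τ x = x → x ∈ center T := by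
    intro x hx
    have hFi : Inv ψ (P2A.Fix τ) := by
      intro f hf
      rw [mem_Fix] at hf ⊢
      have hcomm : τ * ψ = ψ * τ := by rw [hτ]; exact (pow_mul_comm' ψ _)
      calc τ (ψ f) = (τ * ψ) f := rfl
        _ = (ψ * τ) f := by rw [hcomm]
        _ = ψ (τ f) := rfl
        _ = ψ f := by rw [hf]
    have hFt : P2A.Fix τ ≠ ⊤ := by
      intro hc
      apply hτ1
      apply MulEquiv.ext
      intro y
      have : y ∈ P2A.Fix τ := by rw [hc]; exact mem_top _
      exact this
    exact (fix_eq_center h hA hne x).mp (hA _ hFi hFt x hx)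
  set X : Finset T := {x : T | x ∉ center T} with hX
  have h9 := nine_dvd_card (⇑σ) (σ : T ≃* T).injective
    (fun x => by rw [← mpow_iter, hσ9]; rfl) _ X rfl
    (by
      intro x hx
      rw [hX, Finset.mem_filter] at hx ⊢
      refine ⟨Finset.mem_univ _, fun hc => hx.2 ?_⟩
      have := inv_center' σ⁻¹ _ hc
      simpa using this)
    (by
      intro x hx hc
      rw [hX, Finset.mem_filter] at hx
      apply hx.2
      apply hτfix
      rw [← hσ3, mpow_iter]
      exact hc)
  have hZc : Finset.card {x : T | x ∈ center T} = 4 := by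
    have : ({x : T | x ∈ center T} : Finset T) = {1, v₁, ψ v₁, ψ (ψ v₁)} := by
      ext x
      simp only [Finset.mem_filter, Finset.mem_univ, true_and, Finset.mem_insert,
        Finset.mem_singleton]
      exact hZ x
    rw [this, Finset.card_insert_of_notMem, Finset.card_insert_of_notMem,
      Finset.card_insert_of_notMem, Finset.card_singleton]
    · simp [h23]
    · simp [h12, h13]
    · simp [hv1.symm, hv2.symm, hv3.symm]
  have hXc : X.card = Fintype.card T - 4 := by
    have := Finset.card_filter_add_card_filter_not (s := (Finset.univ : Finset T))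
      (fun x => x ∈ center T)
    rw [hZc, Finset.card_univ] at this
    rw [hX]
    omega
  rw [hXc] at h9
  have hXpos : 0 < X.card := by
    obtain ⟨t, ht⟩ : ∃ t : T, t ∉ center T := by
      by_contra hcon
      push Not at hcon
      exact hZt ((Subgroup.eq_top_iff' _).mpr hcon)
    exact Finset.card_pos.mpr ⟨t, by rw [hX, Finset.mem_filter]; exact ⟨Finset.mem_univ _, ht⟩⟩
  obtain ⟨n, hn⟩ := (IsPGroup.iff_card.mp h.two)
  rw [Nat.card_eq_fintype_card] at hn
  exact arith_aux (Fintype.card T) n m hn (by omega) h9 hm heq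

end step

section main

theorem cube_eq_one_aux : ∀ (n : ℕ) (T : Type u) [Group T] [Finite T], Nat.card T = n →
    ∀ ψ : MulAut T, AD ψ → ∀ x : T, (ψ ^ 3) x = x := by
  intro n
  induction n using Nat.strong_induction_on with
  | _ n ih =>
    intro T _ _ hn ψ h
    by_contra hcon
    push Not at hcon
    have hA : HA ψ := by
      intro H hH hHt x hx
      have hlt : Nat.card H < Nat.card T := by
        have := card_lt_of_lt' (lt_top_iff_ne_top.mpr hHt)
        rwa [Subgroup.card_top] at this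
      have h1 := ih _ (hn ▸ hlt) H rfl (resAut ψ H hH) (h.restrict H hH) ⟨x, hx⟩
      have h2 := congrArg Subtype.val h1
      rwa [resAut_pow_coe] at h2
    by_cases hz : ∀ z ∈ center T, z * z = 1
    · exact case_two h hA hcon hz
    · push Not at hz
      obtain ⟨z₀, hz₀, hz₀2⟩ := hz
      exact case_one h hA hcon z₀ hz₀ hz₀2

/-- an automorphism of `3`-power order permuting three central involutions of a `2`-group
transitively and without fixed points has order three -/
theorem cube_eq_one {T : Type u} [Group T] [Finite T] {ψ : MulAut T} (h : AD ψ) (x : T) :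
    ψ (ψ (ψ x)) = x := by
  rw [← cube_apply]
  exact cube_eq_one_aux _ T rfl ψ h x

end main

end Cfsg.Agent.Helper39.H4E
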