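import Mathlib
import Cfsg.Prelude.Def_CaseTheorems
import Cfsg.Agent.Lib.Helper39.T64A
import Cfsg.Agent.Lib.Helper39.T64B
import Cfsg.Agent.Lib.Helper39.P2A
import Cfsg.Agent.Lib.Helper39.P2B
import Cfsg.Agent.Lib.Helper39.P2C
import Cfsg.Agent.Lib.Helper39.H4B
import Cfsg.Agent.Lib.Helper39.H4C
import Cfsg.Agent.Lib.Helper39.H4E

/-!
# `2`-groups of rank two with an automorphism transitive on the involutions

Assembly for S1237: such a group is homocyclic of rank two or nonabelian of order `64` with a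
fixed-point-free automorphism of order three and all involutions central.
-/

set_option autoImplicit false
set_option linter.unusedSectionVars false
set_option linter.style.haveILetI false

universe u

namespace Cfsg.Agent.Helper39.H4F

open Subgroup Cfsg.Agent.Helper39.T64A Cfsg.Agent.Helper39.T64B Cfsg.Agent.Helper39.P2A
  Cfsg.Agent.Helper39.P2B Cfsg.Agent.Helper39.P2C Cfsg.Agent.Helper39.H4B
  Cfsg.Agent.Helper39.H4C Cfsg.Agent.Helper39.H4E

section perm

variable {T : Type*} [Group T] [Finite T]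

lemma card_le_of_subset (V : Subgroup T) (S : Finset T) (hS : ∀ x ∈ S, x ∈ V) :
    S.card ≤ Nat.card V := by
  rw [← SetLike.coe_sort_coe, Nat.card_coe_set_eq, ← Set.ncard_coe_finset]
  exact Set.ncard_le_ncard (fun x hx => hS x hx) (Set.toFinite _)

lemma mem_of_card_eq (V : Subgroup T) (S : Finset T) (hS : ∀ x ∈ S, x ∈ V)
    (hc : Nat.card V ≤ S.card) {y : T} (hy : y ∈ V) : y ∈ S := by
  have h1 : ((S : Set T)) = (V : Set T) := by
    apply Set.eq_of_subset_of_ncard_le (fun x hx => hS x hx) _ (Set.toFinite _)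
    rw [Set.ncard_coe_finset, ← Nat.card_coe_set_eq]
    exact hc
  have : y ∈ (S : Set T) := by rw [h1]; exact hy
  exact this

lemma exists_not_mem (V : Subgroup T) (S : Finset T) (hc : S.card < Nat.card V) :
    ∃ w ∈ V, w ∉ S := by
  have : (S : Set T).ncard < (V : Set T).ncard := by
    rw [Set.ncard_coe_finset, ← Nat.card_coe_set_eq]
    exact hc
  obtain ⟨e, he, hne⟩ := Set.exists_mem_notMem_of_ncard_lt_ncard this (Set.toFinite _)
  exact ⟨e, he, hne⟩

/-- a fixed-point-free permutation of the three nonidentity elements of a four-group is a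
`3`-cycle -/
theorem three_cycle (V : Subgroup T) (hV : Nat.card V = 4) (f : MulAut T)
    (hfV : ∀ x ∈ V, f x ∈ V) (hf : ∀ x ∈ V, x ≠ 1 → f x ≠ x) {x : T} (hx : x ∈ V) (hx1 : x ≠ 1) :
    (∀ y ∈ V, y ≠ 1 → y = x ∨ y = f x ∨ y = f (f x)) ∧ f (f (f x)) = x := by
  classical
  have hinj := (f : T ≃* T).injective
  have hne1 : ∀ y : T, y ≠ 1 → f y ≠ 1 := fun y hy hc => hy (hinj (hc.trans (map_one f).symm))
  have hy : f x ∈ V := hfV x hx
  have hy1 : f x ≠ 1 := hne1 x hx1
  have hyx : f x ≠ x := hf x hx hx1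
  have hz : f (f x) ∈ V := hfV _ hy
  have hz1 : f (f x) ≠ 1 := hne1 _ hy1
  have hzy : f (f x) ≠ f x := hf _ hy hy1
  have hzx : f (f x) ≠ x := by
    intro hc
    obtain ⟨w, hwV, hw⟩ := exists_not_mem V {1, x, f x} (by
      rw [hV]
      calc ({1, x, f x} : Finset T).card ≤ 3 := Finset.card_le_three
        _ < 4 := by norm_num)
    simp only [Finset.mem_insert, Finset.mem_singleton, not_or] at hw
    obtain ⟨hw1, hwx, hwy⟩ := hw
    have hfw : f w ∈ V := hfV w hwV
    have hfw1 : f w ≠ 1 := hne1 w hw1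
    have hfww : f w ≠ w := hf w hwV hw1
    have hfwy : f w ≠ f x := fun h => hwx (hinj h)
    have hfwx : f w ≠ x := fun h => hwy (hinj (h.trans hc.symm))
    have h5 : ({1, x, f x, w, f w} : Finset T).card = 5 := by
      rw [Finset.card_insert_of_notMem, Finset.card_insert_of_notMem,
        Finset.card_insert_of_notMem, Finset.card_insert_of_notMem, Finset.card_singleton]
      · simp only [Finset.mem_singleton]; exact fun h => hfww h.symm
      · simp only [Finset.mem_insert, Finset.mem_singleton, not_or]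
        exact ⟨fun h => hwy h.symm, fun h => hfwy h.symm⟩
      · simp only [Finset.mem_insert, Finset.mem_singleton, not_or]
        exact ⟨fun h => hyx h.symm, fun h => hwx h.symm, fun h => hfwx h.symm⟩
      · simp only [Finset.mem_insert, Finset.mem_singleton, not_or]
        exact ⟨fun h => hx1 h.symm, fun h => hy1 h.symm, fun h => hw1 h.symm,
          fun h => hfw1 h.symm⟩
    have := card_le_of_subset V {1, x, f x, w, f w} (by
      intro u hu
      simp only [Finset.mem_insert, Finset.mem_singleton] at hu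
      rcases hu with rfl | rfl | rfl | rfl | rfl
      · exact one_mem _
      · exact hx
      · exact hy
      · exact hwV
      · exact hfw)
    omega
  have h4 : ({1, x, f x, f (f x)} : Finset T).card = 4 := by
    rw [Finset.card_insert_of_notMem, Finset.card_insert_of_notMem,
      Finset.card_insert_of_notMem, Finset.card_singleton]
    · simp only [Finset.mem_singleton]; exact fun h => hzy h.symm
    · simp only [Finset.mem_insert, Finset.mem_singleton, not_or]
      exact ⟨fun h => hyx h.symm, fun h => hzx h.symm⟩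
    · simp only [Finset.mem_insert, Finset.mem_singleton, not_or]
      exact ⟨fun h => hx1 h.symm, fun h => hy1 h.symm, fun h => hz1 h.symm⟩
  have hall : ∀ y ∈ V, y = 1 ∨ y = x ∨ y = f x ∨ y = f (f x) := by
    intro y hyV
    have := mem_of_card_eq V {1, x, f x, f (f x)} (by
      intro u hu
      simp only [Finset.mem_insert, Finset.mem_singleton] at hu
      rcases hu with rfl | rfl | rfl | rfl
      · exact one_mem _
      · exact hx
      · exact hy
      · exact hz) (by rw [hV, h4]) hyV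
    simpa only [Finset.mem_insert, Finset.mem_singleton] using this
  refine ⟨fun y hyV hy1' => (hall y hyV).resolve_left hy1', ?_⟩
  rcases hall _ (hfV _ hz) with h | h | h | h
  · exact absurd h (hne1 _ hz1)
  · exact h
  · exact absurd (hinj h) hzx
  · exact absurd h (hf _ hz hz1)

end perm

section main

variable {T : Type u} [Group T] [Finite T]

lemma orderOf_two_iff {x : T} : orderOf x = 2 ↔ x * x = 1 ∧ x ≠ 1 := by
  haveI : Fact (Nat.Prime 2) := ⟨Nat.prime_two⟩
  constructor
  · intro h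
    refine ⟨?_, ?_⟩
    · rw [← pow_two, ← h, pow_orderOf_eq_one]
    · rintro rfl
      rw [orderOf_one] at h
      omega
  · rintro ⟨h1, h2⟩
    exact orderOf_eq_prime (by rw [pow_two, h1]) h2

/-- the reduction: involutions are central, there are three of them, and a power of `φ` is a
fixed-point-free automorphism of order three -/
theorem exists_fpf3 (hT : IsPGroup 2 T) (h2 : Cfsg.PRankLE 2 2 T) (h1 : ¬ Cfsg.PRankLE 2 1 T)
    (φ : MulAut T)
    (htrans : ∀ s t : T, orderOf s = 2 → orderOf t = 2 → ∃ k : ℕ, (φ ^ k) s = t) :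
    ∃ hc : (∀ x : T, x * x = 1 → x ∈ center T), Nat.card (V2 hc) ≤ 4 ∧ Nontrivial T ∧
      ∃ ψ : MulAut T, Fpf3 ψ := by
  classical
  haveI : Fact (Nat.Prime 2) := ⟨Nat.prime_two⟩
  -- a commutative subgroup of exponent two and order more than two
  unfold Cfsg.PRankLE at h1
  push Not at h1
  obtain ⟨A, hAc, hA2, hAcard⟩ := h1
  have hA1 : 1 < Nat.card A := by omega
  haveI : Nontrivial T := by
    haveI : Nontrivial A := Finite.one_lt_card_iff_nontrivial.mp hA1
    obtain ⟨a, b, hab⟩ := exists_pair_ne A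
    exact ⟨⟨a, b, fun h => hab (Subtype.ext h)⟩⟩
  -- involutions are central
  haveI := hT.center_nontrivial
  have hZne : center T ≠ ⊥ := by
    intro hc
    obtain ⟨a, b, hab⟩ := exists_pair_ne (center T)
    apply hab
    have ha : (a : T) ∈ (⊥ : Subgroup T) := hc ▸ a.2
    have hb : (b : T) ∈ (⊥ : Subgroup T) := hc ▸ b.2
    rw [mem_bot] at ha hb
    exact Subtype.ext (ha.trans hb.symm)
  obtain ⟨z₀, hz₀Z, hz₀1, hz₀2⟩ := exists_invol hT (center T) hZne
  have hz₀o : orderOf z₀ = 2 := orderOf_two_iff.mpr ⟨hz₀2, hz₀1⟩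
  have hc : ∀ x : T, x * x = 1 → x ∈ center T := by
    intro x hx
    by_cases hx1 : x = 1
    · rw [hx1]; exact one_mem _
    obtain ⟨k, hk⟩ := htrans z₀ x hz₀o (orderOf_two_iff.mpr ⟨hx, hx1⟩)
    rw [← hk]
    exact inv_center' (φ ^ k) _ hz₀Z
  refine ⟨hc, ?_⟩
  set V := V2 hc with hVdef
  haveI : IsMulCommutative V := ⟨⟨fun a b => Subtype.ext (cz (hc a a.2) b)⟩⟩
  have hV4 : Nat.card V ≤ 4 := by
    have := h2 V inferInstance (fun a ha => by rw [pow_two]; exact ha)
    simpa using this
  refine ⟨hV4, inferInstance, ?_⟩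
  have hAV : A ≤ V := by
    intro a ha
    rw [hVdef, mem_V2, ← pow_two]
    exact hA2 a ha
  have hV3 : 2 < Nat.card V := by
    have := Subgroup.card_le_of_le hAV
    simp only [pow_one] at hAcard
    omega
  have hVcard : Nat.card V = 4 := by
    obtain ⟨j, hj⟩ := IsPGroup.iff_card.mp (hT.to_subgroup V)
    rw [hj] at hV3 hV4 ⊢
    have hj2 : j ≤ 2 := by
      by_contra hcon
      push Not at hcon
      have : 2 ^ 3 ≤ 2 ^ j := Nat.pow_le_pow_right (by norm_num) hcon
      omega
    interval_cases j <;> omega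
  -- `φ` has no fixed involution
  have hφV : ∀ g : MulAut T, ∀ x ∈ V, g x ∈ V := fun g => inv_V2 hc g
  have hφf : ∀ x ∈ V, x ≠ 1 → φ x ≠ x := by
    intro x hx hx1 hfx
    have hall : ∀ k : ℕ, (φ ^ k) x = x := by
      intro k
      induction k with
      | zero => rfl
      | succ k ih => rw [pow_succ, MulAut.mul_apply, hfx, ih]
    obtain ⟨w, hwV, hw⟩ := exists_not_mem V {1, x} (by
      calc ({1, x} : Finset T).card ≤ 2 := Finset.card_le_two
        _ < Nat.card V := hV3)
    simp only [Finset.mem_insert, Finset.mem_singleton, not_or] at hw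
    obtain ⟨k, hk⟩ := htrans x w (orderOf_two_iff.mpr ⟨hx, hx1⟩) (orderOf_two_iff.mpr ⟨hwV, hw.1⟩)
    rw [hall k] at hk
    exact hw.2 hk.symm
  have hφ3 : ∀ x ∈ V, x ≠ 1 → (φ ^ 3) x = x := by
    intro x hx hx1
    rw [cube_apply]
    exact (three_cycle V hVcard φ (hφV φ) hφf hx hx1).2
  -- the `3`-part of `φ`
  have hn0 : orderOf φ ≠ 0 := (orderOf_pos φ).ne'
  obtain ⟨a, m, hm3, hnm⟩ := Nat.exists_eq_pow_mul_and_not_dvd hn0 3 (by norm_num)
  set ψ : MulAut T := φ ^ m with hψ
  have hψpow : ψ ^ (3 ^ a) = 1 := by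
    rw [hψ, ← pow_mul, mul_comm, ← hnm, pow_orderOf_eq_one]
  have hψf : ∀ x ∈ V, x ≠ 1 → ψ x ≠ x := by
    intro x hx hx1 hfx
    have h3 := hφ3 x hx hx1
    have hg := fixed_gcd φ hfx h3
    have hco : Nat.gcd m 3 = 1 := by
      have := (Nat.Prime.coprime_iff_not_dvd Nat.prime_three).mpr hm3
      exact Nat.Coprime.symm this
    rw [hco, pow_one] at hg
    exact hφf x hx hx1 hg
  have hAD : AD ψ := by
    refine ⟨hT, ⟨a, hψpow⟩, ?_, hc, ?_⟩
    · intro x hx
      by_contra hx1
      have hFne : P2A.Fix ψ ≠ ⊥ := by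
        intro hcon
        have : x ∈ P2A.Fix ψ := hx
        rw [hcon, mem_bot] at this
        exact hx1 this
      obtain ⟨v, hvF, hv1, hvv⟩ := exists_invol hT (P2A.Fix ψ) hFne
      exact hψf v hvv hv1 hvF
    · intro x y hx hx1 hy hy1
      exact (three_cycle V hVcard ψ (hφV ψ) hψf hx hx1).1 y hy hy1
  exact ⟨ψ, ⟨fun g => cube_eq_one hAD g, hAD.fpf⟩⟩

/-- the structure theorem, in abstract form -/
theorem structure_thm (hT : IsPGroup 2 T) (h2 : Cfsg.PRankLE 2 2 T) (h1 : ¬ Cfsg.PRankLE 2 1 T)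
    (φ : MulAut T)
    (htrans : ∀ s t : T, orderOf s = 2 → orderOf t = 2 → ∃ k : ℕ, (φ ^ k) s = t) :
    (∃ n : ℕ, 1 ≤ n ∧ Nonempty (T ≃* Multiplicative (ZMod (2 ^ n) × ZMod (2 ^ n)))) ∨
      ∃ ψ : MulAut T, Setup ψ ∧ ∀ x : T, x * x = 1 → x ∈ center T := by
  obtain ⟨hc, hV4, hnt, ψ, hψ⟩ := exists_fpf3 hT h2 h1 φ htrans
  rcases abelian_or_setup hT hψ hc hV4 with hab | hS
  · left
    have hΩ : Nat.card (Om hab) ≤ 4 := by
      have hle : Om hab ≤ V2 hc := fun x hx => hx
      exact (Subgroup.card_le_of_le hle).trans hV4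
    obtain ⟨x, hx⟩ := exists_gen hT hab hψ hΩ
    obtain ⟨n, hn1, ⟨e⟩⟩ := homocyclic hT hab hψ x hx
    refine ⟨n, hn1 ?_, ⟨e.trans (MulEquiv.prodMultiplicative _ _).symm⟩⟩
    rintro rfl
    have htop : (⊤ : Subgroup T) = ⊥ := by
      rw [← hx, map_one]
      simp
    obtain ⟨a, b, hab'⟩ := exists_pair_ne T
    apply hab'
    have ha : a ∈ (⊤ : Subgroup T) := mem_top _
    have hb : b ∈ (⊤ : Subgroup T) := mem_top _
    rw [htop, mem_bot] at ha hb
    exact ha.trans hb.symm
  · right
    exact ⟨ψ, hS, hc⟩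

end main

end Cfsg.Agent.Helper39.H4F
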