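import Cfsg.Agent.Lib.Helper39.MH4Defs

/-!
# M. Hall's theorem: basic involution lemmas
-/

set_option autoImplicit false
set_option linter.unusedSectionVars false
set_option linter.unusedVariables false

namespace Cfsg.Agent.Helper39.MH4

open Equiv

variable {α : Type*} [Fintype α] [DecidableEq α] {G : Subgroup (Perm α)}

theorem pow_card_PS {D : Finset α} {w : Perm α} (hw : w ∈ PS G D) :
    w ^ Nat.card (PS G D) = 1 := by
  have h := pow_card_eq_one' (G := ↥(PS G D)) (x := ⟨w, hw⟩)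
  have h2 := congrArg Subtype.val h
  rw [Subgroup.coe_pow, Subgroup.coe_one] at h2
  exact h2

theorem pow_mem_PS_apply {D : Finset α} {w : Perm α} (hw : w ∈ PS G D) (m : ℕ) {x : α}
    (hx : x ∈ D) : (w ^ m) x = x :=
  ((PS G D).pow_mem hw m).2 x hx

/-- odd power trick -/
theorem pow_invol (hyp : Hyp G) {g : Perm α} (hg : g ∈ G) {D : Finset α} (hD : D.card = 4)
    (h2 : ∀ x ∈ D, g (g x) = x) :
    ∃ j : ℕ, (g ^ j) * (g ^ j) = 1 ∧ ∀ x ∈ D, (g ^ j) x = g x := by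
  have hw : g * g ∈ PS G D := ⟨G.mul_mem hg hg, fun x hx => by rw [Perm.mul_apply]; exact h2 x hx⟩
  obtain ⟨m, hm⟩ := hyp.odd D hD
  refine ⟨Nat.card (PS G D), ?_, ?_⟩
  · have := pow_card_PS hw
    rw [← pow_add, ← two_mul, pow_mul, pow_two]
    exact this
  · intro x hx
    rw [hm, pow_succ', Perm.mul_apply, pow_mul, pow_two, pow_mem_PS_apply hw m hx]

theorem card_map_emb (a : Fin 4 ↪ α) : (Finset.univ.map a).card = 4 := by
  rw [Finset.card_map]; rfl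

theorem lift_invol (hyp : Hyp G) (a : Fin 4 ↪ α) (π : Perm (Fin 4)) (hπ : π * π = 1) :
    ∃ s ∈ G, s * s = 1 ∧ ∀ i, s (a i) = a (π i) := by
  obtain ⟨g, hg, hga⟩ := hyp.tr a (π.toEmbedding.trans a)
  have hga' : ∀ i, g (a i) = a (π i) := fun i => by rw [hga i]; rfl
  have h2 : ∀ x ∈ Finset.univ.map a, g (g x) = x := by
    intro x hx
    rw [Finset.mem_map] at hx
    obtain ⟨i, -, rfl⟩ := hx
    rw [hga', hga', ← Perm.mul_apply, hπ]; rfl
  obtain ⟨j, hj1, hj2⟩ := pow_invol hyp hg (card_map_emb a) h2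
  refine ⟨g ^ j, G.pow_mem hg j, hj1, fun i => ?_⟩
  rw [hj2 _ (Finset.mem_map_of_mem a (Finset.mem_univ i)), hga']

theorem orderOf_invol {s : Perm α} (h2 : s * s = 1) (h1 : s ≠ 1) : orderOf s = 2 := by
  apply orderOf_eq_prime
  · rw [pow_two]; exact h2
  · exact h1

theorem invol_fix_le (hyp : Hyp G) {s : Perm α} (hs : s ∈ G) (h2 : s * s = 1) (h1 : s ≠ 1) :
    (fx s).card ≤ 3 := by
  by_contra hcon
  rw [not_le] at hcon
  obtain ⟨D, hDs, hD⟩ := Finset.exists_subset_card_eq (show 4 ≤ (fx s).card by omega)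
  have hsD : s ∈ PS G D := ⟨hs, fun x hx => mem_fx.mp (hDs hx)⟩
  have h3 := pow_card_PS hsD
  have h4 : orderOf s ∣ Nat.card (PS G D) := orderOf_dvd_of_pow_eq_one h3
  rw [orderOf_invol h2 h1] at h4
  obtain ⟨m, hm⟩ := hyp.odd D hD
  omega

theorem inv_eq_self_of_invol {s : Perm α} (h2 : s * s = 1) : s⁻¹ = s :=
  inv_eq_of_mul_eq_one_right h2

theorem invol_apply_apply {s : Perm α} (h2 : s * s = 1) (x : α) : s (s x) = x := by
  rw [← Perm.mul_apply, h2]; rfl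

theorem conj_of_agree (hyp : Hyp G) {s t : Perm α} (hs : s ∈ G) (ht : t ∈ G)
    (hs2 : s * s = 1) (ht2 : t * t = 1) {D : Finset α} (hD : D.card = 4)
    (hst : ∀ x ∈ D, s x = t x) (hinv : ∀ x ∈ D, s x ∈ D) :
    ∃ k ∈ Subgroup.zpowers (s * t), k ∈ PS G D ∧ k * s * k⁻¹ = t := by
  set w := s * t with hw
  have hwD : w ∈ PS G D := by
    refine ⟨G.mul_mem hs ht, fun x hx => ?_⟩
    rw [hw, Perm.mul_apply, ← hst x hx, invol_apply_apply hs2]
  obtain ⟨j, hj⟩ := hyp.odd D hD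
  have hsi : s⁻¹ = s := inv_eq_self_of_invol hs2
  have hti : t⁻¹ = t := inv_eq_self_of_invol ht2
  have hconj : s * w * s⁻¹ = w⁻¹ := by
    rw [hw, mul_inv_rev, hsi, hti, ← mul_assoc, hs2, one_mul]
  have hpow : w ^ (2 * j + 1) = 1 := by rw [← hj]; exact pow_card_PS hwD
  refine ⟨w ^ j, Subgroup.npow_mem_zpowers w j, (PS G D).pow_mem hwD j, ?_⟩
  -- s * w^j * s⁻¹ = (w⁻¹)^j
  have h1 : s * w ^ j * s⁻¹ = (w⁻¹) ^ j := by rw [← conj_pow, hconj]
  -- s * (w^j)⁻¹ = w^j * s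
  have h2 : s * (w ^ j)⁻¹ = w ^ j * s := by
    have h3 : (s * w ^ j * s⁻¹)⁻¹ = ((w⁻¹) ^ j)⁻¹ := congrArg _ h1
    rw [mul_inv_rev, mul_inv_rev, inv_inv, inv_pow, inv_inv] at h3
    -- h3 : s * ((w^j)⁻¹ * s⁻¹) = w^j
    calc s * (w ^ j)⁻¹ = s * ((w ^ j)⁻¹ * s⁻¹) * s := by group
      _ = w ^ j * s := by rw [h3]
  have h4 : w ^ j * w ^ j = w⁻¹ := by
    rw [← pow_add]
    apply eq_inv_of_mul_eq_one_left
    rw [← pow_succ, ← two_mul]; exact hpow
  calc w ^ j * s * (w ^ j)⁻¹ = w ^ j * (s * (w ^ j)⁻¹) := by rw [mul_assoc]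
    _ = w ^ j * w ^ j * s := by rw [h2, mul_assoc]
    _ = w⁻¹ * s := by rw [h4]
    _ = t := by rw [hw, mul_inv_rev, hsi, hti, mul_assoc, hs2, mul_one]

theorem conj_invol {g s : Perm α} (hs2 : s * s = 1) : (g * s * g⁻¹) * (g * s * g⁻¹) = 1 := by
  calc (g * s * g⁻¹) * (g * s * g⁻¹) = g * (s * s) * g⁻¹ := by group
    _ = 1 := by rw [hs2]; group

theorem conf_conj (hyp : Hyp G) {s s' : Perm α} (hs : s ∈ G) (hs' : s' ∈ G)
    (hs2 : s * s = 1) (hs'2 : s' * s' = 1) (a b : Fin 4 ↪ α) (π : Perm (Fin 4))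
    (ha : ∀ i, s (a i) = a (π i)) (hb : ∀ i, s' (b i) = b (π i)) :
    ∃ g ∈ G, g * s * g⁻¹ = s' ∧ ∀ i, g (a i) = b i := by
  obtain ⟨g₀, hg₀, hg₀a⟩ := hyp.tr a b
  have hg₀inv : ∀ i, g₀⁻¹ (b i) = a i := fun i => by
    rw [Perm.inv_eq_iff_eq, hg₀a]
  have hs1 : ∀ i, (g₀ * s * g₀⁻¹) (b i) = b (π i) := fun i => by
    rw [Perm.mul_apply, Perm.mul_apply, hg₀inv, ha, hg₀a]
  obtain ⟨k, -, hkD, hk⟩ := conj_of_agree hyp (s := g₀ * s * g₀⁻¹) (t := s')
    (G.mul_mem (G.mul_mem hg₀ hs) (G.inv_mem hg₀)) hs' (conj_invol hs2) hs'2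
    (card_map_emb b)
    (by
      intro x hx
      rw [Finset.mem_map] at hx
      obtain ⟨i, -, rfl⟩ := hx
      rw [hs1, hb])
    (by
      intro x hx
      rw [Finset.mem_map] at hx
      obtain ⟨i, -, rfl⟩ := hx
      rw [hs1]
      exact Finset.mem_map_of_mem b (Finset.mem_univ _))
  refine ⟨k * g₀, G.mul_mem hkD.1 hg₀, ?_, fun i => ?_⟩
  · rw [← hk]; group
  · rw [Perm.mul_apply, hg₀a]
    exact hkD.2 _ (Finset.mem_map_of_mem b (Finset.mem_univ i))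

theorem fx_conj (g s : Perm α) : (fx (g * s * g⁻¹)).card = (fx s).card := by
  have h : fx (g * s * g⁻¹) = (fx s).map g.toEmbedding := by
    ext x
    rw [mem_fx, Finset.mem_map]
    constructor
    · intro hx
      refine ⟨g⁻¹ x, ?_, by simp⟩
      rw [mem_fx]
      rw [Perm.mul_apply, Perm.mul_apply] at hx
      rw [Perm.eq_inv_iff_eq]
      exact hx
    · rintro ⟨y, hy, rfl⟩
      rw [mem_fx] at hy
      simp [hy]
  rw [h, Finset.card_map]

theorem CG_conj {g : Perm α} (hg : g ∈ G) (s : Perm α) :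
    Nat.card (CG G (g * s * g⁻¹)) = Nat.card (CG G s) := by
  symm
  refine Nat.card_congr ⟨fun h => ⟨g * h.1 * g⁻¹, ?_⟩, fun h => ⟨g⁻¹ * h.1 * g, ?_⟩, ?_, ?_⟩
  · obtain ⟨h1, h2⟩ := h.2
    refine ⟨G.mul_mem (G.mul_mem hg h1) (G.inv_mem hg), ?_⟩
    calc g * h.1 * g⁻¹ * (g * s * g⁻¹) = g * (h.1 * s) * g⁻¹ := by group
      _ = g * (s * h.1) * g⁻¹ := by rw [h2]
      _ = g * s * g⁻¹ * (g * h.1 * g⁻¹) := by group
  · obtain ⟨h1, h2⟩ := h.2
    refine ⟨G.mul_mem (G.mul_mem (G.inv_mem hg) h1) hg, ?_⟩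
    calc g⁻¹ * h.1 * g * s = g⁻¹ * (h.1 * (g * s * g⁻¹)) * g := by group
      _ = g⁻¹ * ((g * s * g⁻¹) * h.1) * g := by rw [h2]
      _ = s * (g⁻¹ * h.1 * g) := by group
  · intro h; apply Subtype.ext; simp only; group
  · intro h; apply Subtype.ext; simp only; group

theorem exists_UConf (hyp : Hyp G) (a : Fin 4 ↪ α) : ∃ t u : Perm α, UConf G a t u := by
  obtain ⟨t, htG, ht2, hta⟩ := lift_invol hyp a (Equiv.swap 2 3) (by decide)
  set σ : Perm (Fin 4) := Equiv.swap 0 1 with hσ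
  have hcomm : ∀ i : Fin 4, (Equiv.swap (2 : Fin 4) 3) (σ i) = σ ((Equiv.swap (2 : Fin 4) 3) i) := by
    rw [hσ]; decide
  obtain ⟨g, hgG, hgt, hga⟩ := conf_conj hyp htG htG ht2 ht2 a (σ.toEmbedding.trans a)
    (Equiv.swap 2 3) hta (by
      intro i
      show t (a (σ i)) = a (σ ((Equiv.swap (2 : Fin 4) 3) i))
      rw [hta, hcomm])
  have hga' : ∀ i, g (a i) = a (σ i) := fun i => by rw [hga i]; rfl
  have h2 : ∀ x ∈ Finset.univ.map a, g (g x) = x := by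
    intro x hx
    rw [Finset.mem_map] at hx
    obtain ⟨i, -, rfl⟩ := hx
    rw [hga', hga']
    have : σ (σ i) = i := by rw [hσ]; exact Equiv.swap_apply_self _ _ _
    rw [this]
  obtain ⟨j, hj1, hj2⟩ := pow_invol hyp hgG (card_map_emb a) h2
  have hua : ∀ i, (g ^ j) (a i) = a (σ i) := fun i => by
    rw [hj2 _ (Finset.mem_map_of_mem a (Finset.mem_univ i)), hga']
  have hgt' : g * t = t * g := by
    calc g * t = g * t * g⁻¹ * g := by group
      _ = t * g := by rw [hgt]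
  have hcm : Commute (g ^ j) t := (show Commute g t from hgt').pow_left j
  refine ⟨t, g ^ j, ⟨htG, G.pow_mem hgG j, ht2, hj1, hcm.eq.symm, ?_, ?_, ?_, ?_, ?_, ?_, ?_, ?_⟩⟩
  · rw [hta]; congr 1
  · rw [hta]; congr 1
  · rw [hta]; congr 1
  · rw [hta]; congr 1
  · rw [hua]; congr 1
  · rw [hua]; congr 1
  · rw [hua]; congr 1
  · rw [hua]; congr 1

end Cfsg.Agent.Helper39.MH4
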