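import Mathlib

/-!
# M. Hall's theorem on 4-transitive groups with odd 4-point stabilizer: definitions

`G : Subgroup (Equiv.Perm α)`; everything is a subgroup of `Equiv.Perm α`.
-/

set_option autoImplicit false
set_option linter.unusedSectionVars false

namespace Cfsg.Agent.Helper39.MH4

open Equiv

variable {α : Type*} [Fintype α] [DecidableEq α]

/-- Pointwise stabilizer in `G` of the finite set `D` (as a subgroup of `Perm α`). -/
def PS (G : Subgroup (Perm α)) (D : Finset α) : Subgroup (Perm α) where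
  carrier := {g | g ∈ G ∧ ∀ x ∈ D, g x = x}
  mul_mem' := by
    rintro g h ⟨hg, hg'⟩ ⟨hh, hh'⟩
    refine ⟨G.mul_mem hg hh, fun x hx => ?_⟩
    rw [Perm.mul_apply, hh' x hx, hg' x hx]
  one_mem' := ⟨G.one_mem, fun _ _ => rfl⟩
  inv_mem' := by
    rintro g ⟨hg, hg'⟩
    refine ⟨G.inv_mem hg, fun x hx => ?_⟩
    rw [Perm.inv_eq_iff_eq, hg' x hx]

theorem mem_PS {G : Subgroup (Perm α)} {D : Finset α} {g : Perm α} :
    g ∈ PS G D ↔ g ∈ G ∧ ∀ x ∈ D, g x = x := Iff.rfl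

/-- Centralizer of `s` in `G`. -/
def CG (G : Subgroup (Perm α)) (s : Perm α) : Subgroup (Perm α) where
  carrier := {g | g ∈ G ∧ g * s = s * g}
  mul_mem' := by
    rintro g h ⟨hg, hg'⟩ ⟨hh, hh'⟩
    refine ⟨G.mul_mem hg hh, ?_⟩
    rw [mul_assoc, hh', ← mul_assoc, hg', mul_assoc]
  one_mem' := ⟨G.one_mem, by simp⟩
  inv_mem' := by
    rintro g ⟨hg, hg'⟩
    refine ⟨G.inv_mem hg, ?_⟩
    rw [inv_mul_eq_iff_eq_mul, ← mul_assoc, hg', mul_assoc, mul_inv_cancel, mul_one]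

theorem mem_CG {G : Subgroup (Perm α)} {s g : Perm α} :
    g ∈ CG G s ↔ g ∈ G ∧ g * s = s * g := Iff.rfl

/-- Centralizer of `s` in `PS G D`. -/
def CPS (G : Subgroup (Perm α)) (D : Finset α) (s : Perm α) : Subgroup (Perm α) :=
  PS G D ⊓ CG G s

theorem mem_CPS {G : Subgroup (Perm α)} {D : Finset α} {s g : Perm α} :
    g ∈ CPS G D s ↔ g ∈ G ∧ (∀ x ∈ D, g x = x) ∧ g * s = s * g := by
  unfold CPS
  rw [Subgroup.mem_inf, mem_PS, mem_CG]
  tauto

/-- Centralizer of `s` and `t` in `G`. -/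
def CG2 (G : Subgroup (Perm α)) (s t : Perm α) : Subgroup (Perm α) :=
  CG G s ⊓ CG G t

theorem mem_CG2 {G : Subgroup (Perm α)} {s t g : Perm α} :
    g ∈ CG2 G s t ↔ g ∈ G ∧ g * s = s * g ∧ g * t = t * g := by
  unfold CG2
  rw [Subgroup.mem_inf, mem_CG, mem_CG]
  tauto

/-- Centralizer of `s` and `t` in `PS G D`. -/
def CPS2 (G : Subgroup (Perm α)) (D : Finset α) (s t : Perm α) : Subgroup (Perm α) :=
  PS G D ⊓ CG2 G s t

theorem mem_CPS2 {G : Subgroup (Perm α)} {D : Finset α} {s t g : Perm α} :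
    g ∈ CPS2 G D s t ↔ g ∈ G ∧ (∀ x ∈ D, g x = x) ∧ g * s = s * g ∧ g * t = t * g := by
  unfold CPS2
  rw [Subgroup.mem_inf, mem_PS, mem_CG2]
  tauto

/-- The fixed points of a permutation, as a `Finset`. -/
def fx (s : Perm α) : Finset α := Finset.univ.filter (fun x => s x = x)

theorem mem_fx {s : Perm α} {x : α} : x ∈ fx s ↔ s x = x := by
  unfold fx
  rw [Finset.mem_filter]
  simp

/-- The points on which the four-group `{1, t, u, t*u}` acts regularly. -/
def reg (t u : Perm α) : Finset α :=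
  Finset.univ.filter (fun x => t x ≠ x ∧ u x ≠ x ∧ (t * u) x ≠ x)

theorem mem_reg {t u : Perm α} {x : α} :
    x ∈ reg t u ↔ t x ≠ x ∧ u x ≠ x ∧ (t * u) x ≠ x := by
  unfold reg
  rw [Finset.mem_filter]
  simp

/-- The working hypothesis: `G` is 4-transitive and all 4-point stabilizers have odd order. -/
structure Hyp (G : Subgroup (Perm α)) : Prop where
  tr : ∀ a b : Fin 4 ↪ α, ∃ g ∈ G, ∀ i, g (a i) = b i
  odd : ∀ D : Finset α, D.card = 4 → Odd (Nat.card (PS G D))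

/-- A pair of commuting involutions `t = (a0)(a1)(a2 a3)…`, `u = (a0 a1)(a2)(a3)…` of `G`. -/
structure UConf (G : Subgroup (Perm α)) (a : Fin 4 ↪ α) (t u : Perm α) : Prop where
  tG : t ∈ G
  uG : u ∈ G
  tt : t * t = 1
  uu : u * u = 1
  comm : t * u = u * t
  t0 : t (a 0) = a 0
  t1 : t (a 1) = a 1
  t2 : t (a 2) = a 3
  t3 : t (a 3) = a 2
  u0 : u (a 0) = a 1
  u1 : u (a 1) = a 0
  u2 : u (a 2) = a 2
  u3 : u (a 3) = a 3

end Cfsg.Agent.Helper39.MH4
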