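import Cfsg.Agent.Lib.Helper39.MH4Basic
import Cfsg.Agent.Lib.Helper23.MH4E2
import Cfsg.Agent.Lib.Helper23.MH4E3
import Cfsg.Agent.Lib.Helper41.MH4K
import Cfsg.Agent.Lib.Helper50.MH4D
import Cfsg.Agent.Lib.Helper64.MH4L
import Cfsg.Agent.Lib.Helper64.MH4P0
import Cfsg.Agent.Lib.Helper68.MH4B2
import Cfsg.Agent.Lib.Helper85.MH4B1
import Cfsg.Agent.Lib.Helper90.MH4E4
import Cfsg.Agent.Lib.Helper91.MH4G3
import Cfsg.Agent.Lib.Helper99.MH4G12

set_option autoImplicit false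
set_option linter.unusedSectionVars false
set_option linter.unusedVariables false

namespace Cfsg.Agent.Helper39.MH4

open Equiv

variable {α : Type*} [Fintype α] [DecidableEq α] {G : Subgroup (Perm α)}

/-! ## B: orbit counting for `C_G(s)` -/

theorem card_CG_two_cycles (hyp : Hyp G) {s : Perm α} (hs : s ∈ G) (hs2 : s * s = 1)
    (i k : α) (hi : s i ≠ i) (hk : s k ≠ k) (hki : k ≠ i) (hksi : k ≠ s i) :
    Nat.card (CG G s) =
      (Fintype.card α - (fx s).card) * (Fintype.card α - (fx s).card - 2) *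
        Nat.card (CPS G {i, s i, k, s k} s) :=
  Cfsg.Agent.Helper85.MH4.card_CG_two_cycles hyp hs hs2 i k hi hk hki hksi

theorem card_CG_fix_fix_cycle (hyp : Hyp G) {s : Perm α} (hs : s ∈ G) (hs2 : s * s = 1)
    (p q i : α) (hp : s p = p) (hq : s q = q) (hpq : p ≠ q) (hi : s i ≠ i) :
    Nat.card (CG G s) =
      (fx s).card * ((fx s).card - 1) * (Fintype.card α - (fx s).card) *
        Nat.card (CPS G {p, q, i, s i} s) :=
  Cfsg.Agent.Helper68.MH4.card_CG_fix_fix_cycle hyp hs hs2 p q i hp hq hpq hi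

/-! ## D: Brauer–Wielandt for a four-group acting on a group of odd order -/

theorem bw_klein {Γ : Type*} [Group Γ] (H : Subgroup Γ) [Finite H] (hH : Odd (Nat.card H))
    (x y : Γ) (hx : x * x = 1) (hy : y * y = 1) (hxy : x * y = y * x)
    (hx1 : x ≠ 1) (hy1 : y ≠ 1) (hne : x ≠ y)
    (hxH : ∀ h ∈ H, x * h * x⁻¹ ∈ H) (hyH : ∀ h ∈ H, y * h * y⁻¹ ∈ H) :
    Nat.card H * Nat.card ↥(H ⊓ Subgroup.centralizer {x} ⊓ Subgroup.centralizer {y}) ^ 2 =
      Nat.card ↥(H ⊓ Subgroup.centralizer {x}) * Nat.card ↥(H ⊓ Subgroup.centralizer {y}) *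
        Nat.card ↥(H ⊓ Subgroup.centralizer {x * y}) :=
  Cfsg.Agent.Helper50.MH4.bw_klein H hH x y hx hy hxy hx1 hy1 hne hxH hyH

/-! ## E: the four-group `U = ⟨t, u⟩` -/

theorem card_reg_add (hyp : Hyp G) {a : Fin 4 ↪ α} {t u : Perm α} (c : UConf G a t u) (f : ℕ)
    (hft : (fx t).card = f) (hfu : (fx u).card = f) (hfa : (fx (t * u)).card = f) :
    (reg t u).card + f + 4 = Fintype.card α :=
  Cfsg.Agent.Helper23.MH4.card_reg_add hyp c f hft hfu hfa

theorem card_CG2_eq_four_mul (hyp : Hyp G) {a : Fin 4 ↪ α} {t u : Perm α} (c : UConf G a t u) :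
    Nat.card (CG2 G t u) = 4 * Nat.card (CPS2 G {a 0, a 1, a 2, a 3} t u) :=
  Cfsg.Agent.Helper23.MH4.card_CG2_eq_four_mul hyp c

theorem card_CG2_eq_reg_mul (hyp : Hyp G) {a : Fin 4 ↪ α} {t u : Perm α} (c : UConf G a t u)
    (ω : α) (hω : ω ∈ reg t u) :
    Nat.card (CG2 G t u) =
      (reg t u).card * Nat.card (CPS2 G {ω, t ω, u ω, (t * u) ω} t u) :=
  Cfsg.Agent.Helper90.MH4.card_CG2_eq_reg_mul hyp c ω hω

/-! ## G: orders -/

theorem card_G_eq (hyp : Hyp G) (D : Finset α) (hD : D.card = 4) :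
    Nat.card G = (Fintype.card α).descFactorial 4 * Nat.card (PS G D) :=
  Cfsg.Agent.Helper99.MH4.card_G_eq hyp D hD

theorem card_PS_eq (hyp : Hyp G) (D D' : Finset α) (hD : D.card = 4) (hD' : D'.card = 4) :
    Nat.card (PS G D) = Nat.card (PS G D') :=
  Cfsg.Agent.Helper99.MH4.card_PS_eq hyp D D' hD hD'

theorem card_PS_dvd_factorial (G : Subgroup (Perm α)) (D : Finset α) :
    Nat.card (PS G D) ∣ (Fintype.card α - D.card).factorial :=
  Cfsg.Agent.Helper64.MH4.card_PS_dvd_factorial G D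

theorem hyp_of_statement (G : Subgroup (Equiv.Perm α))
    (hG : MulAction.IsMultiplyPretransitive G α 4) (x : Fin 4 ↪ α)
    (hodd : Odd (Nat.card (MulAction.stabilizer G x))) : Hyp G :=
  Cfsg.Agent.Helper64.MH4.hyp_of_statement G hG x hodd

theorem final_of_card (hyp : Hyp G) (D : Finset α) (hD : D.card = 4)
    (hcard : Nat.card G = (Fintype.card α).descFactorial 4 * Nat.card (PS G D))
    (h : Fintype.card α = 4 ∨ Fintype.card α = 5 ∨ Fintype.card α = 6 ∨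
      (Fintype.card α = 7 ∧ Nat.card (PS G D) = 3) ∨
      (Fintype.card α = 11 ∧ Nat.card (PS G D) = 1)) :
    ((Fintype.card α = 4 ∨ Fintype.card α = 5) ∧ G = ⊤) ∨
      ((Fintype.card α = 6 ∨ Fintype.card α = 7) ∧ G = alternatingGroup α) ∨
      (Fintype.card α = 11 ∧ Nat.card G = 7920) :=
  Cfsg.Agent.Helper91.MH4.final_of_card hyp D hD hcard h

/-! ## K: degree 11 -/

theorem cps_eq_one_of_eleven (hyp : Hyp G) (hn : Fintype.card α = 11) {s : Perm α}
    (hs : s ∈ G) (hs2 : s * s = 1) (hf : (fx s).card = 3) (i k : α) (hi : s i ≠ i)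
    (hk : s k ≠ k) (hki : k ≠ i) (hksi : k ≠ s i) :
    Nat.card (CPS G {i, s i, k, s k} s) = 1 :=
  Cfsg.Agent.Helper41.MH4.cps_eq_one_of_eleven hyp hn hs hs2 hf i k hi hk hki hksi

end Cfsg.Agent.Helper39.MH4
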