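import Cfsg.Agent.Lib.Helper39.MH4Glue

/-!
# M. Hall's theorem: assembly
-/

set_option autoImplicit false
set_option linter.unusedSectionVars false
set_option linter.unusedVariables false

namespace Cfsg.Agent.Helper39.MH4

open Equiv

variable {α : Type*} [Fintype α] [DecidableEq α] {G : Subgroup (Perm α)}

theorem arith_main (n f R h p q c1 c2 C : ℕ) (hf2 : 2 ≤ f) (hf3 : f ≤ 3) (hR : R + f + 4 = n)
    (hRpos : 0 < R) (hh : 0 < h) (hq : 0 < q) (hc1 : 0 < c1)
    (e1 : C = f * (f - 1) * (n - f) * c2) (e2 : C = (n - f) * (n - f - 2) * c1)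
    (e3 : h * p ^ 2 = c2 * c2 * c1) (e4 : h * q ^ 2 = c1 * c1 * c1) (e5 : 4 * p = R * q) :
    n = 11 ∧ f = 3 := by
  have hnf : n - f = R + 4 := by omega
  have hnf2 : n - f - 2 = R + 2 := by omega
  rw [hnf2] at e2
  rw [hnf] at e1 e2
  have hsq : (p * c1) ^ 2 = (c2 * q) ^ 2 := by
    apply Nat.eq_of_mul_eq_mul_left hh
    calc h * (p * c1) ^ 2 = (h * p ^ 2) * c1 ^ 2 := by ring
      _ = c2 * c2 * c1 * c1 ^ 2 := by rw [e3]
      _ = c2 ^ 2 * (c1 * c1 * c1) := by ring
      _ = c2 ^ 2 * (h * q ^ 2) := by rw [e4]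
      _ = h * (c2 * q) ^ 2 := by ring
  have hpc : p * c1 = c2 * q := Nat.pow_left_injective (by norm_num : 2 ≠ 0) hsq
  have hRc : R * c1 = 4 * c2 := by
    apply Nat.eq_of_mul_eq_mul_left hq
    calc q * (R * c1) = (R * q) * c1 := by ring
      _ = 4 * p * c1 := by rw [e5]
      _ = 4 * (p * c1) := by ring
      _ = 4 * (c2 * q) := by rw [hpc]
      _ = q * (4 * c2) := by ring
  have hR4 : 0 < R + 4 := by omega
  interval_cases f
  · exfalso
    have h1 : 2 * c2 = (R + 2) * c1 := by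
      apply Nat.eq_of_mul_eq_mul_left hR4
      calc (R + 4) * (2 * c2) = 2 * (2 - 1) * (R + 4) * c2 := by ring
        _ = C := e1.symm
        _ = (R + 4) * (R + 2) * c1 := e2
        _ = (R + 4) * ((R + 2) * c1) := by ring
    have h3 : c1 * (2 * R) = c1 * (4 * R + 8) := by
      calc c1 * (2 * R) = 2 * (R * c1) := by ring
        _ = 2 * (4 * c2) := by rw [hRc]
        _ = 4 * (2 * c2) := by ring
        _ = 4 * ((R + 2) * c1) := by rw [h1]
        _ = c1 * (4 * R + 8) := by ring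
    have := Nat.eq_of_mul_eq_mul_left hc1 h3
    omega
  · have h1 : 6 * c2 = (R + 2) * c1 := by
      apply Nat.eq_of_mul_eq_mul_left hR4
      calc (R + 4) * (6 * c2) = 3 * (3 - 1) * (R + 4) * c2 := by ring
        _ = C := e1.symm
        _ = (R + 4) * (R + 2) * c1 := e2
        _ = (R + 4) * ((R + 2) * c1) := by ring
    have h3 : c1 * (6 * R) = c1 * (4 * R + 8) := by
      calc c1 * (6 * R) = 6 * (R * c1) := by ring
        _ = 6 * (4 * c2) := by rw [hRc]
        _ = 4 * (6 * c2) := by ring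
        _ = 4 * ((R + 2) * c1) := by rw [h1]
        _ = c1 * (4 * R + 8) := by ring
    have := Nat.eq_of_mul_eq_mul_left hc1 h3
    exact ⟨by omega, rfl⟩

/-- An embedding `Fin 4 ↪ α` from four distinct points. -/
def emb4 (x0 x1 x2 x3 : α) (h01 : x0 ≠ x1) (h02 : x0 ≠ x2) (h03 : x0 ≠ x3) (h12 : x1 ≠ x2)
    (h13 : x1 ≠ x3) (h23 : x2 ≠ x3) : Fin 4 ↪ α :=
  ⟨![x0, x1, x2, x3], by
    intro i j hij
    fin_cases i <;> fin_cases j <;> simp_all⟩

theorem m0 (x0 x1 x2 x3 : α) : x0 ∈ ({x0, x1, x2, x3} : Finset α) := by simp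
theorem m1 (x0 x1 x2 x3 : α) : x1 ∈ ({x0, x1, x2, x3} : Finset α) := by simp
theorem m2 (x0 x1 x2 x3 : α) : x2 ∈ ({x0, x1, x2, x3} : Finset α) := by simp
theorem m3 (x0 x1 x2 x3 : α) : x3 ∈ ({x0, x1, x2, x3} : Finset α) := by simp

theorem mem4 {x x0 x1 x2 x3 : α} (h : x ∈ ({x0, x1, x2, x3} : Finset α)) :
    x = x0 ∨ x = x1 ∨ x = x2 ∨ x = x3 := by
  simpa using h

theorem set_perm1 (x0 x1 x2 x3 : α) : ({x0, x2, x1, x3} : Finset α) = {x0, x1, x2, x3} := by
  ext x
  simp only [Finset.mem_insert, Finset.mem_singleton]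
  tauto

theorem set_perm2 (x0 x1 x2 x3 : α) : ({x0, x3, x1, x2} : Finset α) = {x0, x1, x2, x3} := by
  ext x
  simp only [Finset.mem_insert, Finset.mem_singleton]
  tauto

theorem set_perm3 (x0 x1 x2 x3 : α) : ({x2, x3, x0, x1} : Finset α) = {x0, x1, x2, x3} := by
  ext x
  simp only [Finset.mem_insert, Finset.mem_singleton]
  tauto

theorem four_set_card (a : Fin 4 ↪ α) : ({a 0, a 1, a 2, a 3} : Finset α).card = 4 := by
  rw [Finset.card_insert_of_notMem, Finset.card_insert_of_notMem, Finset.card_insert_of_notMem,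
    Finset.card_singleton]
  all_goals simp

theorem PS_inf_centralizer (D : Finset α) (s : Perm α) :
    PS G D ⊓ Subgroup.centralizer {s} = CPS G D s := by
  ext g
  rw [Subgroup.mem_inf, Subgroup.mem_centralizer_iff, mem_CPS, mem_PS]
  constructor
  · rintro ⟨⟨h1, h2⟩, h3⟩
    exact ⟨h1, h2, (h3 s rfl).symm⟩
  · rintro ⟨h1, h2, h3⟩
    refine ⟨⟨h1, h2⟩, fun h hh => ?_⟩
    rw [Set.mem_singleton_iff] at hh
    rw [hh]; exact h3.symm

theorem PS_inf_centralizer2 (D : Finset α) (s t : Perm α) :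
    PS G D ⊓ Subgroup.centralizer {s} ⊓ Subgroup.centralizer {t} = CPS2 G D s t := by
  ext g
  rw [Subgroup.mem_inf, Subgroup.mem_inf, Subgroup.mem_centralizer_iff,
    Subgroup.mem_centralizer_iff, mem_CPS2, mem_PS]
  constructor
  · rintro ⟨⟨⟨h1, h2⟩, h3⟩, h4⟩
    exact ⟨h1, h2, (h3 s rfl).symm, (h4 t rfl).symm⟩
  · rintro ⟨h1, h2, h3, h4⟩
    refine ⟨⟨⟨h1, h2⟩, fun h hh => ?_⟩, fun h hh => ?_⟩
    · rw [Set.mem_singleton_iff] at hh
      rw [hh]; exact h3.symm
    · rw [Set.mem_singleton_iff] at hh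
      rw [hh]; exact h4.symm

theorem conj_mem_PS {D : Finset α} {t h : Perm α} (htG : t ∈ G) (ht2 : t * t = 1)
    (htD : ∀ x ∈ D, t x ∈ D) (hh : h ∈ PS G D) : t * h * t⁻¹ ∈ PS G D := by
  refine ⟨G.mul_mem (G.mul_mem htG hh.1) (G.inv_mem htG), fun x hx => ?_⟩
  rw [inv_eq_self_of_invol ht2, Perm.mul_apply, Perm.mul_apply, hh.2 _ (htD x hx),
    invol_apply_apply ht2]

theorem bw_PS (hyp : Hyp G) {D : Finset α} (hD : D.card = 4) {t u : Perm α}
    (htG : t ∈ G) (huG : u ∈ G) (ht2 : t * t = 1) (hu2 : u * u = 1) (htu : t * u = u * t)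
    (ht1 : t ≠ 1) (hu1 : u ≠ 1) (hne : t ≠ u)
    (htD : ∀ x ∈ D, t x ∈ D) (huD : ∀ x ∈ D, u x ∈ D) :
    Nat.card (PS G D) * Nat.card (CPS2 G D t u) ^ 2 =
      Nat.card (CPS G D t) * Nat.card (CPS G D u) * Nat.card (CPS G D (t * u)) := by
  have h := bw_klein (PS G D) (hyp.odd D hD) t u ht2 hu2 htu ht1 hu1 hne
    (fun h hh => conj_mem_PS htG ht2 htD hh) (fun h hh => conj_mem_PS huG hu2 huD hh)
  rw [PS_inf_centralizer2, PS_inf_centralizer, PS_inf_centralizer, PS_inf_centralizer] at h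
  exact h

theorem card_CPS_pos (D : Finset α) (s : Perm α) : 0 < Nat.card (CPS G D s) := Nat.card_pos
theorem card_CPS2_pos (D : Finset α) (s t : Perm α) : 0 < Nat.card (CPS2 G D s t) := Nat.card_pos
theorem card_PS_pos (D : Finset α) : 0 < Nat.card (PS G D) := Nat.card_pos

theorem card_CPS_dvd (D : Finset α) (s : Perm α) : Nat.card (CPS G D s) ∣ Nat.card (PS G D) :=
  Subgroup.card_dvd_of_le inf_le_left

theorem main_card (hyp : Hyp G) (a : Fin 4 ↪ α) (h7 : 7 ≤ Fintype.card α) :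
    (Fintype.card α = 7 ∧ Nat.card (PS G {a 0, a 1, a 2, a 3}) = 3) ∨
      (Fintype.card α = 11 ∧ Nat.card (PS G {a 0, a 1, a 2, a 3}) = 1) := by
  obtain ⟨t, u, c⟩ := exists_UConf hyp a
  have hD : ({a 0, a 1, a 2, a 3} : Finset α).card = 4 := four_set_card a
  have h01 : a 0 ≠ a 1 := by simp
  have h02 : a 0 ≠ a 2 := by simp
  have h03 : a 0 ≠ a 3 := by simp
  have h12 : a 1 ≠ a 2 := by simp
  have h13 : a 1 ≠ a 3 := by simp
  have h23 : a 2 ≠ a 3 := by simp
  have ht1 : t ≠ 1 := by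
    intro h
    have := c.t2
    rw [h] at this
    exact h23 this
  have hu1 : u ≠ 1 := by
    intro h
    have := c.u0
    rw [h] at this
    exact h01 this
  have hne : t ≠ u := by
    intro h
    have := c.t0
    rw [h, c.u0] at this
    exact h01 this.symm
  have hf3 : (fx t).card ≤ 3 := invol_fix_le hyp c.tG c.tt ht1
  have hf2 : 2 ≤ (fx t).card := by
    have hsub : ({a 0, a 1} : Finset α) ⊆ fx t := by
      intro x hx
      rw [Finset.mem_insert, Finset.mem_singleton] at hx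
      rcases hx with rfl | rfl
      · exact mem_fx.mpr c.t0
      · exact mem_fx.mpr c.t1
    calc 2 = ({a 0, a 1} : Finset α).card := (Finset.card_pair h01).symm
      _ ≤ (fx t).card := Finset.card_le_card hsub
  -- u is conjugate to t
  obtain ⟨g1, hg1G, hg1, -⟩ := conf_conj hyp c.tG c.uG c.tt c.uu a
    (emb4 (a 2) (a 3) (a 0) (a 1) h23 h02.symm h12.symm h03.symm h13.symm h01)
    (Equiv.swap 2 3)
    (by
      intro i
      fin_cases i
      · exact c.t0
      · exact c.t1
      · exact c.t2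
      · exact c.t3)
    (by
      intro i
      fin_cases i
      · exact c.u2
      · exact c.u3
      · exact c.u0
      · exact c.u1)
  have hfu : (fx u).card = (fx t).card := by rw [← hg1, fx_conj]
  have hCu : Nat.card (CG G u) = Nat.card (CG G t) := by rw [← hg1, CG_conj hg1G]
  -- t*u is conjugate to t
  have htuG : t * u ∈ G := G.mul_mem c.tG c.uG
  have htu2 : (t * u) * (t * u) = 1 := by
    calc (t * u) * (t * u) = t * (u * t) * u := by group
      _ = t * (t * u) * u := by rw [c.comm]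
      _ = (t * t) * (u * u) := by group
      _ = 1 := by rw [c.tt, c.uu, one_mul]
  have hmoved : ∃ k, t k ≠ k ∧ k ≠ a 2 ∧ k ≠ a 3 := by
    by_contra hcon
    have hsub : (Finset.univ : Finset α) ⊆ fx t ∪ {a 2, a 3} := by
      intro k _
      by_cases hk : t k = k
      · exact Finset.mem_union_left _ (mem_fx.mpr hk)
      · apply Finset.mem_union_right
        rw [Finset.mem_insert, Finset.mem_singleton]
        by_contra hk2
        rw [not_or] at hk2
        exact hcon ⟨k, hk, hk2.1, hk2.2⟩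
    have h1 := Finset.card_le_card hsub
    have h2 := Finset.card_union_le (fx t) {a 2, a 3}
    have h3 : ({a 2, a 3} : Finset α).card ≤ 2 := Finset.card_le_two
    rw [Finset.card_univ] at h1
    omega
  obtain ⟨k, hk, hk2, hk3⟩ := hmoved
  have htk2 : t k ≠ a 2 := by
    intro h
    apply hk3
    have := congrArg t h
    rw [invol_apply_apply c.tt, c.t2] at this
    exact this
  have htk3 : t k ≠ a 3 := by
    intro h
    apply hk2
    have := congrArg t h
    rw [invol_apply_apply c.tt, c.t3] at this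
    exact this
  obtain ⟨g2, hg2G, hg2, -⟩ := conf_conj hyp c.tG htuG c.tt htu2
    (emb4 (a 2) (a 3) k (t k) h23 hk2.symm htk2.symm hk3.symm htk3.symm (Ne.symm hk)) a
    (Equiv.swap 0 1 * Equiv.swap 2 3)
    (by
      intro i
      fin_cases i
      · exact c.t2
      · exact c.t3
      · rfl
      · exact invol_apply_apply c.tt k)
    (by
      intro i
      fin_cases i
      · show (t * u) (a 0) = a 1
        rw [Perm.mul_apply, c.u0, c.t1]
      · show (t * u) (a 1) = a 0
        rw [Perm.mul_apply, c.u1, c.t0]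
      · show (t * u) (a 2) = a 3
        rw [Perm.mul_apply, c.u2, c.t2]
      · show (t * u) (a 3) = a 2
        rw [Perm.mul_apply, c.u3, c.t3])
  have hfa : (fx (t * u)).card = (fx t).card := by rw [← hg2, fx_conj]
  have hCa : Nat.card (CG G (t * u)) = Nat.card (CG G t) := by rw [← hg2, CG_conj hg2G]
  -- the orbit counts on D
  have hB2t := card_CG_fix_fix_cycle hyp c.tG c.tt (a 0) (a 1) (a 2) c.t0 c.t1 h01
    (by rw [c.t2]; exact h23.symm)
  rw [c.t2] at hB2t
  have hB2u := card_CG_fix_fix_cycle hyp c.uG c.uu (a 2) (a 3) (a 0) c.u2 c.u3 h23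
    (by rw [c.u0]; exact h01.symm)
  rw [c.u0, hfu, hCu] at hB2u
  have hset1 : ({a 2, a 3, a 0, a 1} : Finset α) = {a 0, a 1, a 2, a 3} := set_perm3 _ _ _ _
  rw [hset1] at hB2u
  have htua0 : (t * u) (a 0) = a 1 := by rw [Perm.mul_apply, c.u0, c.t1]
  have htua2 : (t * u) (a 2) = a 3 := by rw [Perm.mul_apply, c.u2, c.t2]
  have hB1a := card_CG_two_cycles hyp htuG htu2 (a 0) (a 2)
    (by rw [htua0]; exact h01.symm) (by rw [htua2]; exact h23.symm) h02.symm
    (by rw [htua0]; exact h12.symm)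
  rw [htua0, htua2, hfa, hCa] at hB1a
  -- abbreviations
  set n := Fintype.card α with hn
  set f := (fx t).card with hf
  set C := Nat.card (CG G t) with hC
  set D : Finset α := {a 0, a 1, a 2, a 3} with hDdef
  have hnf : 0 < n - f := by omega
  have hfpos : 0 < f * (f - 1) * (n - f) := by
    apply Nat.mul_pos (Nat.mul_pos (by omega) (by omega)) hnf
  have hc2u : Nat.card (CPS G D u) = Nat.card (CPS G D t) := by
    apply Nat.eq_of_mul_eq_mul_left hfpos
    rw [← hB2u, ← hB2t]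
  -- D is invariant under t and u
  have htD : ∀ x ∈ D, t x ∈ D := by
    intro x hx
    rcases mem4 hx with rfl | rfl | rfl | rfl
    · rw [c.t0]; exact m0 _ _ _ _
    · rw [c.t1]; exact m1 _ _ _ _
    · rw [c.t2]; exact m3 _ _ _ _
    · rw [c.t3]; exact m2 _ _ _ _
  have huD : ∀ x ∈ D, u x ∈ D := by
    intro x hx
    rcases mem4 hx with rfl | rfl | rfl | rfl
    · rw [c.u0]; exact m1 _ _ _ _
    · rw [c.u1]; exact m0 _ _ _ _
    · rw [c.u2]; exact m2 _ _ _ _
    · rw [c.u3]; exact m3 _ _ _ _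
  have hBW := bw_PS hyp hD c.tG c.uG c.tt c.uu c.comm ht1 hu1 hne htD huD
  rw [hc2u] at hBW
  have hreg := card_reg_add hyp c f rfl hfu hfa
  rcases Finset.eq_empty_or_nonempty (reg t u) with hempty | ⟨ω, hω⟩
  · -- n = 7
    left
    rw [hempty, Finset.card_empty] at hreg
    have hn7 : n = 7 := by omega
    have hf3' : f = 3 := by omega
    refine ⟨hn7, ?_⟩
    rw [hn7, hf3'] at hB2t hB1a
    have h3 : Nat.card (CPS G D (t * u)) = 3 * Nat.card (CPS G D t) := by
      have : 8 * Nat.card (CPS G D (t * u)) = 8 * (3 * Nat.card (CPS G D t)) := by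
        calc 8 * Nat.card (CPS G D (t * u)) = (7 - 3) * (7 - 3 - 2) * Nat.card (CPS G D (t * u)) := by
              norm_num
          _ = C := hB1a.symm
          _ = 3 * (3 - 1) * (7 - 3) * Nat.card (CPS G D t) := hB2t
          _ = 8 * (3 * Nat.card (CPS G D t)) := by ring
      exact Nat.eq_of_mul_eq_mul_left (by norm_num) this
    have hdvd1 : 3 ∣ Nat.card (PS G D) :=
      Dvd.dvd.trans ⟨_, h3⟩ (card_CPS_dvd D (t * u))
    have hdvd2 : Nat.card (PS G D) ∣ 6 := by
      have := card_PS_dvd_factorial G D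
      rw [hD, ← hn, hn7] at this
      exact this
    have hodd := hyp.odd D hD
    have hle : Nat.card (PS G D) ≤ 6 := Nat.le_of_dvd (by norm_num) hdvd2
    obtain ⟨m, hm⟩ := hodd
    obtain ⟨r, hr⟩ := hdvd1
    have hpos := card_PS_pos (G := G) D
    interval_cases hN : Nat.card (PS G D) <;> first | rfl | omega | (exfalso; revert hdvd2; decide)
  · -- n = 11
    right
    rw [mem_reg] at hω
    obtain ⟨hω1, hω2, hω3⟩ := hω
    have hω3' : t (u ω) ≠ ω := by rwa [Perm.mul_apply] at hω3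
    have hcomm : ∀ x, u (t x) = t (u x) := fun x => by
      rw [← Perm.mul_apply, ← Perm.mul_apply, c.comm]
    -- distinctness
    have d1 : t ω ≠ u ω := by
      intro h
      apply hω3'
      rw [← h, invol_apply_apply c.tt]
    have d2 : t (u ω) ≠ u ω := by
      intro h
      apply hω1
      have h' : u (t ω) = u ω := by rw [hcomm]; exact h
      exact u.injective h'
    have d3 : t (u ω) ≠ t ω := by
      intro h
      exact hω2 (t.injective h)
    have hΔcard : ({ω, t ω, u ω, t (u ω)} : Finset α).card = 4 := by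
      rw [Finset.card_insert_of_notMem, Finset.card_insert_of_notMem,
        Finset.card_insert_of_notMem, Finset.card_singleton]
      · rw [Finset.mem_singleton]; exact d2.symm
      · rw [Finset.mem_insert, Finset.mem_singleton, not_or]; exact ⟨d1, d3.symm⟩
      · rw [Finset.mem_insert, Finset.mem_insert, Finset.mem_singleton, not_or, not_or]
        exact ⟨hω1.symm, hω2.symm, hω3'.symm⟩
    -- orbit counts on Δ
    have hB1t := card_CG_two_cycles hyp c.tG c.tt ω (u ω) hω1 d2 hω2 d1.symm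
    have hB1u := card_CG_two_cycles hyp c.uG c.uu ω (t ω) hω2
      (by rw [hcomm]; exact d3) hω1 d1
    rw [hcomm, hfu, hCu] at hB1u
    have hset2 : ({ω, u ω, t ω, t (u ω)} : Finset α) = {ω, t ω, u ω, t (u ω)} :=
      set_perm1 _ _ _ _
    rw [hset2] at hB1u
    have htut : (t * u) (t ω) = u ω := by
      rw [Perm.mul_apply, hcomm, invol_apply_apply c.tt]
    have hB1tu := card_CG_two_cycles hyp htuG htu2 ω (t ω)
      (by rw [Perm.mul_apply]; exact hω3') (by rw [htut]; exact d1.symm) hω1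
      (by rw [Perm.mul_apply]; exact d3.symm)
    rw [htut, hfa, hCa, Perm.mul_apply] at hB1tu
    have hset3 : ({ω, t (u ω), t ω, u ω} : Finset α) = {ω, t ω, u ω, t (u ω)} :=
      set_perm2 _ _ _ _
    rw [hset3] at hB1tu
    set Δ : Finset α := {ω, t ω, u ω, t (u ω)} with hΔdef
    have hRpos : 0 < (reg t u).card := Finset.card_pos.mpr ⟨ω, mem_reg.mpr ⟨hω1, hω2, hω3⟩⟩
    have hnf2 : 0 < (n - f) * (n - f - 2) := by
      apply Nat.mul_pos <;> omega
    have hc1u : Nat.card (CPS G Δ u) = Nat.card (CPS G Δ t) := by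
      apply Nat.eq_of_mul_eq_mul_left hnf2
      rw [← hB1u, ← hB1t]
    have hc1tu : Nat.card (CPS G Δ (t * u)) = Nat.card (CPS G Δ t) := by
      apply Nat.eq_of_mul_eq_mul_left hnf2
      rw [← hB1tu, ← hB1t]
    have hc1D : Nat.card (CPS G D (t * u)) = Nat.card (CPS G Δ t) := by
      apply Nat.eq_of_mul_eq_mul_left hnf2
      rw [← hB1a, ← hB1t]
    have htΔ : ∀ x ∈ Δ, t x ∈ Δ := by
      intro x hx
      rcases mem4 hx with rfl | rfl | rfl | rfl
      · exact m1 _ _ _ _
      · rw [invol_apply_apply c.tt]; exact m0 _ _ _ _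
      · exact m3 _ _ _ _
      · rw [invol_apply_apply c.tt]; exact m2 _ _ _ _
    have huΔ : ∀ x ∈ Δ, u x ∈ Δ := by
      intro x hx
      rcases mem4 hx with rfl | rfl | rfl | rfl
      · exact m2 _ _ _ _
      · rw [hcomm]; exact m3 _ _ _ _
      · rw [invol_apply_apply c.uu]; exact m0 _ _ _ _
      · rw [hcomm, invol_apply_apply c.uu]; exact m1 _ _ _ _
    have hBW' := bw_PS hyp hΔcard c.tG c.uG c.tt c.uu c.comm ht1 hu1 hne htΔ huΔ
    rw [hc1u, hc1tu] at hBW'
    rw [hc1D] at hBW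
    have hE3 := card_CG2_eq_four_mul hyp c
    have hE4 := card_CG2_eq_reg_mul hyp c ω (mem_reg.mpr ⟨hω1, hω2, hω3⟩)
    rw [Perm.mul_apply] at hE4
    have hPSeq : Nat.card (PS G Δ) = Nat.card (PS G D) := card_PS_eq hyp Δ D hΔcard hD
    rw [hPSeq] at hBW'
    have hmain := arith_main n f (reg t u).card (Nat.card (PS G D)) (Nat.card (CPS2 G D t u))
      (Nat.card (CPS2 G Δ t u)) (Nat.card (CPS G Δ t)) (Nat.card (CPS G D t)) C hf2 hf3
      (by omega) hRpos (card_PS_pos D) (card_CPS2_pos Δ t u) (card_CPS_pos Δ t)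
      hB2t hB1t hBW hBW' (by rw [← hE3, hE4])
    obtain ⟨hn11, hf3'⟩ := hmain
    refine ⟨hn11, ?_⟩
    have hone := cps_eq_one_of_eleven hyp hn11 htuG htu2 (by rw [hfa]; exact hf3') (a 0) (a 2)
      (by rw [htua0]; exact h01.symm) (by rw [htua2]; exact h23.symm) h02.symm
      (by rw [htua0]; exact h12.symm)
    rw [htua0, htua2] at hone
    rw [← hc1D, hone] at hBW'
    -- hBW' : card PS * q^2 = 1
    have : Nat.card (PS G D) * Nat.card (CPS2 G Δ t u) ^ 2 = 1 := by
      rw [hBW']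
    exact Nat.eq_one_of_mul_eq_one_right this

end Cfsg.Agent.Helper39.MH4
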