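import Mathlib
import Cfsg.Agent.Lib.Helper39.G320B

/-!
# A presentation of the Sylow `2`-subgroup of `L₃(4)`

Four involutions `a, a', b, b'` with `[a,a'] = [b,b'] = 1`, central commutators `c = [a,b]`,
`d = [a,b']`, and `[a',b] = d`, `[a',b'] = c d`.  A group generated by such elements has order at most
`64`; the von Dyck step is done with the graph subgroup.  Used for S3157.
-/

set_option autoImplicit false
set_option linter.unusedSectionVars false
set_option linter.style.haveILetI false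

namespace Cfsg.Agent.Helper39.T64D

open Subgroup Cfsg.Agent.Helper39.G320B
open scoped commutatorElement

section rel

variable {Γ : Type*} [Group Γ]

/-- the defining relations -/
structure Rel (a a' b b' : Γ) : Prop where
  asq : a * a = 1
  a'sq : a' * a' = 1
  bsq : b * b = 1
  b'sq : b' * b' = 1
  aa' : Commute a a'
  bb' : Commute b b'
  ca : Commute ⁅a, b⁆ a
  ca' : Commute ⁅a, b⁆ a'
  cb : Commute ⁅a, b⁆ b
  cb' : Commute ⁅a, b⁆ b'
  da : Commute ⁅a, b'⁆ a
  da' : Commute ⁅a, b'⁆ a'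
  db : Commute ⁅a, b'⁆ b
  db' : Commute ⁅a, b'⁆ b'
  csq : ⁅a, b⁆ * ⁅a, b⁆ = 1
  dsq : ⁅a, b'⁆ * ⁅a, b'⁆ = 1
  a'b : ⁅a', b⁆ = ⁅a, b'⁆
  a'b' : ⁅a', b'⁆ = ⁅a, b⁆ * ⁅a, b'⁆

variable {a a' b b' : Γ} (h : Rel a a' b b')
include h

lemma Rel.cd : Commute ⁅a, b⁆ ⁅a, b'⁆ := by
  rw [commutatorElement_def a b']
  exact ((h.ca.mul_right h.cb').mul_right h.ca.inv_right).mul_right h.cb'.inv_right

lemma Rel.c_inv : ⁅a, b⁆⁻¹ = ⁅a, b⁆ := inv_eq_of_mul_eq_one_left h.csq

lemma Rel.d_inv : ⁅a, b'⁆⁻¹ = ⁅a, b'⁆ := inv_eq_of_mul_eq_one_left h.dsq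

lemma Rel.ba : ⁅b, a⁆ = ⁅a, b⁆ := by rw [← commutatorElement_inv, h.c_inv]

lemma Rel.b'a : ⁅b', a⁆ = ⁅a, b'⁆ := by rw [← commutatorElement_inv, h.d_inv]

lemma Rel.ba' : ⁅b, a'⁆ = ⁅a, b'⁆ := by rw [← commutatorElement_inv, h.a'b, h.d_inv]

lemma Rel.b'a' : ⁅b', a'⁆ = ⁅a, b'⁆ * ⁅a, b⁆ := by
  rw [← commutatorElement_inv, h.a'b', mul_inv_rev, h.c_inv, h.d_inv]

omit h in
lemma sq_mem {S : Set Γ} {x : Γ} (hx : x * x = 1) : x ^ 2 ∈ closure S := by
  rw [pow_two, hx]; exact one_mem _

/-- the order bound -/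
theorem Rel.card_closure_le :
    Finite ↥(closure ({a, a', b, b'} : Set Γ)) ∧
      Nat.card ↥(closure ({a, a', b, b'} : Set Γ)) ≤ 64 := by
  haveI f0 : Finite ↥(closure (∅ : Set Γ)) := by
    rw [Subgroup.closure_empty]; infer_instance
  have k0 : Nat.card ↥(closure (∅ : Set Γ)) = 1 := by
    rw [Subgroup.closure_empty]; exact Subgroup.card_bot
  -- step 1: adjoin c
  obtain ⟨f1, k1⟩ := card_closure_insert_le (∅ : Set Γ) ⁅a, b⁆ 2 (by norm_num)
    (by intro s hs; exact absurd hs (Set.notMem_empty s)) (sq_mem h.csq)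
  haveI := f1
  -- step 2: adjoin d
  obtain ⟨f2, k2⟩ := card_closure_insert_le (insert ⁅a, b⁆ (∅ : Set Γ)) ⁅a, b'⁆ 2 (by norm_num)
    (by
      intro s hs
      simp only [Set.mem_insert_iff, Set.mem_empty_iff_false, or_false] at hs
      subst hs
      rw [conj_of_commute h.cd]; exact c_mem (by simp))
    (sq_mem h.dsq)
  haveI := f2
  -- step 3: adjoin a
  obtain ⟨f3, k3⟩ := card_closure_insert_le (insert ⁅a, b'⁆ (insert ⁅a, b⁆ (∅ : Set Γ))) a 2
    (by norm_num)
    (by
      intro s hs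
      simp only [Set.mem_insert_iff, Set.mem_empty_iff_false, or_false] at hs
      rcases hs with rfl | rfl
      · rw [conj_of_commute h.da]; exact c_mem (by simp)
      · rw [conj_of_commute h.ca]; exact c_mem (by simp))
    (sq_mem h.asq)
  haveI := f3
  -- step 4: adjoin a'
  obtain ⟨f4, k4⟩ := card_closure_insert_le
    (insert a (insert ⁅a, b'⁆ (insert ⁅a, b⁆ (∅ : Set Γ)))) a' 2 (by norm_num)
    (by
      intro s hs
      simp only [Set.mem_insert_iff, Set.mem_empty_iff_false, or_false] at hs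
      rcases hs with rfl | rfl | rfl
      · rw [conj_of_commute h.aa']; exact c_mem (by simp)
      · rw [conj_of_commute h.da']; exact c_mem (by simp)
      · rw [conj_of_commute h.ca']; exact c_mem (by simp))
    (sq_mem h.a'sq)
  haveI := f4
  -- step 5: adjoin b
  obtain ⟨f5, k5⟩ := card_closure_insert_le
    (insert a' (insert a (insert ⁅a, b'⁆ (insert ⁅a, b⁆ (∅ : Set Γ))))) b 2 (by norm_num)
    (by
      intro s hs
      simp only [Set.mem_insert_iff, Set.mem_empty_iff_false, or_false] at hs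
      rcases hs with rfl | rfl | rfl | rfl
      · rw [conj_eq_comm_mul, h.ba']
        exact mul_mem (c_mem (by simp)) (c_mem (by simp))
      · rw [conj_eq_comm_mul, h.ba]
        exact mul_mem (c_mem (by simp)) (c_mem (by simp))
      · rw [conj_of_commute h.db]; exact c_mem (by simp)
      · rw [conj_of_commute h.cb]; exact c_mem (by simp))
    (sq_mem h.bsq)
  haveI := f5
  -- step 6: adjoin b'
  obtain ⟨f6, k6⟩ := card_closure_insert_le
    (insert b (insert a' (insert a (insert ⁅a, b'⁆ (insert ⁅a, b⁆ (∅ : Set Γ)))))) b' 2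
    (by norm_num)
    (by
      intro s hs
      simp only [Set.mem_insert_iff, Set.mem_empty_iff_false, or_false] at hs
      rcases hs with rfl | rfl | rfl | rfl | rfl
      · rw [conj_of_commute h.bb']; exact c_mem (by simp)
      · rw [conj_eq_comm_mul, h.b'a']
        exact mul_mem (mul_mem (c_mem (by simp)) (c_mem (by simp))) (c_mem (by simp))
      · rw [conj_eq_comm_mul, h.b'a]
        exact mul_mem (c_mem (by simp)) (c_mem (by simp))
      · rw [conj_of_commute h.db']; exact c_mem (by simp)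
      · rw [conj_of_commute h.cb']; exact c_mem (by simp))
    (sq_mem h.b'sq)
  haveI := f6
  have hle : closure ({a, a', b, b'} : Set Γ) ≤ closure (insert b' (insert b (insert a' (insert a
      (insert ⁅a, b'⁆ (insert ⁅a, b⁆ (∅ : Set Γ))))))) := by
    apply Subgroup.closure_mono
    intro x hx
    simp only [Set.mem_insert_iff, Set.mem_singleton_iff] at hx
    rcases hx with rfl | rfl | rfl | rfl <;> simp
  refine ⟨Finite.of_injective _ (Subgroup.inclusion_injective hle), ?_⟩
  calc Nat.card ↥(closure ({a, a', b, b'} : Set Γ)) ≤ _ := Subgroup.card_le_of_le hle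
    _ ≤ 64 := by omega

end rel

section graph

variable {G M : Type*} [Group G] [Group M]

lemma comm_prod (x y : G) (x' y' : M) :
    ⁅((x, x') : G × M), (y, y')⁆ = (⁅x, y⁆, ⁅x', y'⁆) := by
  rw [commutatorElement_def, commutatorElement_def, commutatorElement_def]
  ext <;> simp

lemma mul_prod_eq_one {x : G} {x' : M} (h : x * x = 1) (h' : x' * x' = 1) :
    ((x, x') : G × M) * (x, x') = 1 := by
  ext
  · exact h
  · exact h'

/-- the relations hold in the product for the pairs of generators -/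
theorem rel_prod {a a' b b' : G} {A A' B B' : M} (h : Rel a a' b b') (h' : Rel A A' B B') :
    Rel ((a, A) : G × M) (a', A') (b, B) (b', B') where
  asq := mul_prod_eq_one h.asq h'.asq
  a'sq := mul_prod_eq_one h.a'sq h'.a'sq
  bsq := mul_prod_eq_one h.bsq h'.bsq
  b'sq := mul_prod_eq_one h.b'sq h'.b'sq
  aa' := commute_prod h.aa' h'.aa'
  bb' := commute_prod h.bb' h'.bb'
  ca := by rw [comm_prod]; exact commute_prod h.ca h'.ca
  ca' := by rw [comm_prod]; exact commute_prod h.ca' h'.ca'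
  cb := by rw [comm_prod]; exact commute_prod h.cb h'.cb
  cb' := by rw [comm_prod]; exact commute_prod h.cb' h'.cb'
  da := by rw [comm_prod]; exact commute_prod h.da h'.da
  da' := by rw [comm_prod]; exact commute_prod h.da' h'.da'
  db := by rw [comm_prod]; exact commute_prod h.db h'.db
  db' := by rw [comm_prod]; exact commute_prod h.db' h'.db'
  csq := by rw [comm_prod]; exact mul_prod_eq_one h.csq h'.csq
  dsq := by rw [comm_prod]; exact mul_prod_eq_one h.dsq h'.dsq
  a'b := by rw [comm_prod, comm_prod, h.a'b, h'.a'b]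
  a'b' := by rw [comm_prod, comm_prod, comm_prod, h.a'b', h'.a'b']; rfl

/-- von Dyck without presented groups -/
theorem exists_hom [Finite G] {a a' b b' : G} {A A' B B' : M}
    (hgen : closure ({a, a', b, b'} : Set G) = ⊤) (hcard : Nat.card G = 64)
    (h : Rel a a' b b') (h' : Rel A A' B B') :
    ∃ ψ : G →* M, ψ a = A ∧ ψ a' = A' ∧ ψ b = B ∧ ψ b' = B' := by
  set Δ : Subgroup (G × M) :=
    closure ({((a, A) : G × M), (a', A'), (b, B), (b', B')} : Set (G × M)) with hΔ
  obtain ⟨hfin, hle⟩ := (rel_prod h h').card_closure_le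
  haveI : Finite ↥Δ := hfin
  have h1 : ((a, A) : G × M) ∈ Δ := subset_closure (by simp)
  have h2 : ((a', A') : G × M) ∈ Δ := subset_closure (by simp)
  have h3 : ((b, B) : G × M) ∈ Δ := subset_closure (by simp)
  have h4 : ((b', B') : G × M) ∈ Δ := subset_closure (by simp)
  let π₁ : ↥Δ →* G := (MonoidHom.fst G M).comp Δ.subtype
  let π₂ : ↥Δ →* M := (MonoidHom.snd G M).comp Δ.subtype
  have hsurj : Function.Surjective π₁ := by
    rw [← MonoidHom.range_eq_top, eq_top_iff, ← hgen, closure_le]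
    intro x hx
    simp only [Set.mem_insert_iff, Set.mem_singleton_iff] at hx
    rcases hx with rfl | rfl | rfl | rfl
    · exact ⟨⟨_, h1⟩, rfl⟩
    · exact ⟨⟨_, h2⟩, rfl⟩
    · exact ⟨⟨_, h3⟩, rfl⟩
    · exact ⟨⟨_, h4⟩, rfl⟩
  have hbij : Function.Bijective π₁ :=
    hsurj.bijective_of_nat_card_le (by rw [hcard]; exact hle)
  let e : ↥Δ ≃* G := MulEquiv.ofBijective π₁ hbij
  have key : ∀ (g : G) (m : M) (hm : ((g, m) : G × M) ∈ Δ), π₂ (e.symm g) = m := by
    intro g m hm
    have : e.symm g = ⟨_, hm⟩ := by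
      rw [MulEquiv.symm_apply_eq]; rfl
    rw [this]; rfl
  exact ⟨π₂.comp e.symm.toMonoidHom, key _ _ h1, key _ _ h2, key _ _ h3, key _ _ h4⟩

end graph

end Cfsg.Agent.Helper39.T64D
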