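import Mathlib
import Cfsg.Agent.Lib.Helper39.T64D

/-!
# The model: upper unitriangular matrices in `SL₃(F)`, `|F| = 4`, and their image in `PSL₃(F)`

Used for S3157.
-/

set_option autoImplicit false
set_option linter.unusedSectionVars false
set_option linter.style.haveILetI false

namespace Cfsg.Agent.Helper39.T64E

open Matrix Subgroup Cfsg.Agent.Helper39.T64D
open scoped commutatorElement

section unitri

variable {F : Type*} [Field F]

/-- an upper unitriangular matrix -/
def Emat (α β γ : F) : Matrix (Fin 3) (Fin 3) F := !![1, α, γ; 0, 1, β; 0, 0, 1]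

lemma det_Emat (α β γ : F) : (Emat α β γ).det = 1 := by
  rw [Matrix.det_fin_three]
  simp [Emat]

/-- an upper unitriangular element of the special linear group -/
def E (α β γ : F) : Matrix.SpecialLinearGroup (Fin 3) F := ⟨Emat α β γ, det_Emat α β γ⟩

lemma E_ext {α β γ α' β' γ' : F} (h1 : α = α') (h2 : β = β') (h3 : γ = γ') :
    E α β γ = E α' β' γ' := by rw [h1, h2, h3]

lemma E_mul (α β γ α' β' γ' : F) :
    E α β γ * E α' β' γ' = E (α + α') (β + β') (γ + γ' + α * β') := by
  apply Matrix.SpecialLinearGroup.ext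
  intro i j
  rw [Matrix.SpecialLinearGroup.coe_mul]
  fin_cases i <;> fin_cases j <;>
    simp [E, Emat, Matrix.mul_apply, Fin.sum_univ_three] <;> ring

lemma E_zero : E (0 : F) 0 0 = 1 := by
  apply Matrix.SpecialLinearGroup.ext
  intro i j
  fin_cases i <;> fin_cases j <;> simp [E, Emat]

lemma E_inv (α β γ : F) : (E α β γ)⁻¹ = E (-α) (-β) (α * β - γ) := by
  apply inv_eq_of_mul_eq_one_right
  rw [E_mul, ← E_zero]
  apply E_ext <;> ring

lemma E_comm (α β γ α' β' γ' : F) :
    ⁅E α β γ, E α' β' γ'⁆ = E 0 0 (α * β' - α' * β) := by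
  rw [commutatorElement_def, E_inv, E_inv, E_mul, E_mul, E_mul]
  apply E_ext <;> ring

lemma E_central (γ α β γ' : F) : Commute (E 0 0 γ) (E α β γ') := by
  show _ * _ = _ * _
  rw [E_mul, E_mul]
  apply E_ext <;> ring

/-- the relations hold for the four root elements -/
theorem rel_E (h2 : (2 : F) = 0) {ω : F} (hω : ω ^ 2 + ω + 1 = 0) :
    Rel (E (1 : F) 0 0) (E ω 0 0) (E 0 1 0) (E 0 ω 0) where
  asq := by rw [E_mul, ← E_zero]; apply E_ext <;> first | ring1 | linear_combination h2
  a'sq := by rw [E_mul, ← E_zero]; apply E_ext <;> first | ring1 | linear_combination ω * h2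
  bsq := by rw [E_mul, ← E_zero]; apply E_ext <;> first | ring1 | linear_combination h2
  b'sq := by rw [E_mul, ← E_zero]; apply E_ext <;> first | ring1 | linear_combination ω * h2
  aa' := by
    show _ * _ = _ * _
    rw [E_mul, E_mul]; apply E_ext <;> ring
  bb' := by
    show _ * _ = _ * _
    rw [E_mul, E_mul]; apply E_ext <;> ring
  ca := by rw [E_comm]; exact E_central _ _ _ _
  ca' := by rw [E_comm]; exact E_central _ _ _ _
  cb := by rw [E_comm]; exact E_central _ _ _ _
  cb' := by rw [E_comm]; exact E_central _ _ _ _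
  da := by rw [E_comm]; exact E_central _ _ _ _
  da' := by rw [E_comm]; exact E_central _ _ _ _
  db := by rw [E_comm]; exact E_central _ _ _ _
  db' := by rw [E_comm]; exact E_central _ _ _ _
  csq := by rw [E_comm, E_mul, ← E_zero]; apply E_ext <;> first | ring1 | linear_combination h2
  dsq := by rw [E_comm, E_mul, ← E_zero]; apply E_ext <;> first | ring1 | linear_combination ω * h2
  a'b := by rw [E_comm, E_comm]; apply E_ext <;> ring
  a'b' := by
    rw [E_comm, E_comm, E_comm, E_mul]
    apply E_ext
    · ring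
    · ring
    · linear_combination hω - (ω + 1) * h2

lemma E_not_center {γ : F} (hγ : γ ≠ 0) :
    E 0 0 γ ∉ center (Matrix.SpecialLinearGroup (Fin 3) F) := by
  intro h
  rw [Matrix.SpecialLinearGroup.mem_center_iff] at h
  obtain ⟨r, -, hr⟩ := h
  have := congrFun (congrFun hr 0) 2
  simp [E, Emat] at this
  exact hγ this.symm

end unitri

section rel

variable {Γ Γ' : Type*} [Group Γ] [Group Γ']

lemma Rel.map (f : Γ →* Γ') {a a' b b' : Γ} (h : Rel a a' b b') :
    Rel (f a) (f a') (f b) (f b') where
  asq := by rw [← map_mul, h.asq, map_one]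
  a'sq := by rw [← map_mul, h.a'sq, map_one]
  bsq := by rw [← map_mul, h.bsq, map_one]
  b'sq := by rw [← map_mul, h.b'sq, map_one]
  aa' := h.aa'.map f
  bb' := h.bb'.map f
  ca := by rw [← map_commutatorElement]; exact h.ca.map f
  ca' := by rw [← map_commutatorElement]; exact h.ca'.map f
  cb := by rw [← map_commutatorElement]; exact h.cb.map f
  cb' := by rw [← map_commutatorElement]; exact h.cb'.map f
  da := by rw [← map_commutatorElement]; exact h.da.map f
  da' := by rw [← map_commutatorElement]; exact h.da'.map f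
  db := by rw [← map_commutatorElement]; exact h.db.map f
  db' := by rw [← map_commutatorElement]; exact h.db'.map f
  csq := by rw [← map_commutatorElement, ← map_mul, h.csq, map_one]
  dsq := by rw [← map_commutatorElement, ← map_mul, h.dsq, map_one]
  a'b := by rw [← map_commutatorElement, ← map_commutatorElement, h.a'b]
  a'b' := by
    rw [← map_commutatorElement, ← map_commutatorElement, ← map_commutatorElement, ← map_mul,
      h.a'b']

end rel

section field4

variable {F : Type*} [Field F] [Fintype F] (hF : Fintype.card F = 4)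
include hF

lemma two_eq_zero : (2 : F) = 0 := by
  have h := FiniteField.cast_card_eq_zero F
  rw [hF] at h
  have h4 : (2 : F) ^ 2 = 0 := by
    have : ((4 : ℕ) : F) = (2 : F) ^ 2 := by norm_num
    rw [← this]; exact h
  exact (pow_eq_zero_iff (by norm_num)).mp h4

/-- a primitive cube root of unity -/
lemma exists_omega : ∃ ω : F, ω ^ 2 + ω + 1 = 0 := by
  haveI : Fact (Nat.Prime 3) := ⟨by norm_num⟩
  have hc : Nat.card Fˣ = 3 := by
    rw [Nat.card_units, Nat.card_eq_fintype_card, hF]
  obtain ⟨u, hu⟩ := exists_prime_orderOf_dvd_card' (G := Fˣ) 3 (by rw [hc])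
  have h3 : (u : F) ^ 3 = 1 := by
    have : u ^ 3 = 1 := by rw [← hu]; exact pow_orderOf_eq_one u
    have := congrArg Units.val this
    simpa using this
  have h1 : (u : F) ≠ 1 := by
    intro h
    have : u = 1 := Units.ext h
    rw [this, orderOf_one] at hu
    norm_num at hu
  refine ⟨u, ?_⟩
  have hm : ((u : F) - 1) * ((u : F) ^ 2 + (u : F) + 1) = 0 := by
    linear_combination h3
  rcases mul_eq_zero.mp hm with h | h
  · exact absurd (sub_eq_zero.mp h) h1
  · exact h

/-- a subgroup of order `64` of `PSL₃(4)` is a Sylow `2`-subgroup -/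
theorem exists_sylow_eq (H : Subgroup (Matrix.ProjectiveSpecialLinearGroup (Fin 3) F))
    (hH : Nat.card H = 64) :
    ∃ S : Sylow 2 (Matrix.ProjectiveSpecialLinearGroup (Fin 3) F), (S : Subgroup _) = H := by
  classical
  haveI : Fact (Nat.Prime 2) := ⟨Nat.prime_two⟩
  have hp : IsPGroup 2 H := IsPGroup.of_card (n := 6) (by rw [hH]; norm_num)
  obtain ⟨S, hS⟩ := hp.exists_le_sylow
  have hGL : Nat.card (GL (Fin 3) F) = 181440 := by
    rw [Matrix.card_GL_field, hF, Fin.prod_univ_three]
    norm_num
  have h1 : Nat.card (Matrix.SpecialLinearGroup (Fin 3) F) ∣ 181440 := by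
    rw [← hGL]
    exact Subgroup.card_dvd_of_injective _ Matrix.SpecialLinearGroup.toGL_injective
  have h2 : Nat.card (Matrix.ProjectiveSpecialLinearGroup (Fin 3) F) ∣ 181440 :=
    (Subgroup.card_quotient_dvd_card _).trans h1
  have h3 : Nat.card (S : Subgroup (Matrix.ProjectiveSpecialLinearGroup (Fin 3) F)) ∣ 181440 :=
    (Subgroup.card_subgroup_dvd_card _).trans h2
  obtain ⟨k, hk⟩ := IsPGroup.iff_card.mp S.2
  have hk6 : k ≤ 6 := by
    by_contra hcon
    push Not at hcon
    have : 2 ^ 7 ∣ 181440 := by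
      refine (pow_dvd_pow 2 hcon).trans ?_
      rw [← hk]; exact h3
    norm_num at this
  have hle : Nat.card (S : Subgroup (Matrix.ProjectiveSpecialLinearGroup (Fin 3) F)) ≤ 64 := by
    rw [hk]
    calc 2 ^ k ≤ 2 ^ 6 := Nat.pow_le_pow_right (by norm_num) hk6
      _ = 64 := by norm_num
  refine ⟨S, ?_⟩
  exact (Subgroup.eq_of_le_of_card_ge hS (by rw [hH]; exact hle)).symm

end field4

end Cfsg.Agent.Helper39.T64E
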