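import Mathlib
import Cfsg.Agent.Lib.Helper39.T64C
import Cfsg.Agent.Lib.Helper39.T64E
import Cfsg.Agent.Lib.Helper2.Nilpotent
import Cfsg.Agent.Lib.Helper17.Order8Dihedral
import Cfsg.Agent.Lib.Helper95.Sharp2Deg9

/-!
# S3157: assembling the isomorphism with a Sylow `2`-subgroup of `L₃(4)` and the fixed points of `x`
-/

set_option autoImplicit false
set_option linter.unusedSectionVars false
set_option linter.style.haveILetI false

namespace Cfsg.Agent.Helper39.T64F

open Matrix Subgroup Cfsg.Agent.Helper39.T64A Cfsg.Agent.Helper39.T64B Cfsg.Agent.Helper39.T64C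
  Cfsg.Agent.Helper39.T64D Cfsg.Agent.Helper39.T64E
open scoped commutatorElement

variable {T : Type*} [Group T] [Finite T] {ρ x : MulAut T}

section iso

variable (S : Setup ρ)
include S

lemma center_mul_rr {z : T} (hz : z ∈ center T) : z * ρ (ρ z) = ρ z := by
  have hp := S.fpf3.prod_eq_one z
  have hρz : ρ z ∈ center T := S.fpf3.inv_center _ hz
  have e1 : z * ρ z * ρ (ρ z) = ρ z * (z * ρ (ρ z)) := by
    rw [S.cz hz (ρ z), mul_assoc]
  rw [e1] at hp
  have := eq_inv_of_mul_eq_one_right hp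
  rw [this, S.center_inv hρz]

/-- the relations hold in `T` -/
theorem rel_T {a b : T} (haa : a * a = 1) (hbb : b * b = 1) : Rel a (ρ a) b (ρ b) where
  asq := haa
  a'sq := by rw [← map_mul, haa, map_one]
  bsq := hbb
  b'sq := by rw [← map_mul, hbb, map_one]
  aa' := S.fpf3.comm a
  bb' := S.fpf3.comm b
  ca := S.cm_comm _ _ _
  ca' := S.cm_comm _ _ _
  cb := S.cm_comm _ _ _
  cb' := S.cm_comm _ _ _
  da := S.cm_comm _ _ _
  da' := S.cm_comm _ _ _
  db := S.cm_comm _ _ _
  db' := S.cm_comm _ _ _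
  csq := S.cm_sq _ _
  dsq := S.cm_sq _ _
  a'b := (S.cm_d_eq a b).symm
  a'b' := by
    rw [S.cm_map, S.cm_rho_right, center_mul_rr S (S.comm_mem a b)]

/-- `T` is isomorphic to a Sylow `2`-subgroup of `L₃(4)` -/
theorem exists_iso_sylow {a b : T} (haa : a * a = 1) (hbb : b * b = 1) (hab : ⁅a, b⁆ ≠ 1)
    {F : Type*} [Field F] [Fintype F] (hF : Fintype.card F = 4) :
    ∃ P : Sylow 2 (Matrix.ProjectiveSpecialLinearGroup (Fin 3) F),
      Nonempty (T ≃* ↥(P : Subgroup (Matrix.ProjectiveSpecialLinearGroup (Fin 3) F))) := by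
  classical
  haveI : Fact (Nat.Prime 2) := ⟨Nat.prime_two⟩
  have h2 := two_eq_zero hF
  obtain ⟨ω, hω⟩ := exists_omega hF
  have hω0 : ω ≠ 0 := by
    intro h
    rw [h] at hω
    norm_num at hω
  let π : Matrix.SpecialLinearGroup (Fin 3) F →* Matrix.ProjectiveSpecialLinearGroup (Fin 3) F :=
    QuotientGroup.mk' _
  have hπ : ∀ γ : F, γ ≠ 0 → π (E 0 0 γ) ≠ 1 := by
    intro γ hγ h
    exact E_not_center hγ ((QuotientGroup.eq_one_iff _).mp h)
  have hrelM := Rel.map π (rel_E h2 hω)
  obtain ⟨ψ, h1, h2', h3, h4⟩ :=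
    exists_hom (closure_eq_top S hab) S.card (rel_T S haa hbb) hrelM
  -- images of the central elements
  have hc : ψ ⁅a, b⁆ = π (E 0 0 1) := by
    rw [map_commutatorElement, h1, h3, ← map_commutatorElement, E_comm]
    congr 2; ring
  have hd : ψ ⁅a, ρ b⁆ = π (E 0 0 ω) := by
    rw [map_commutatorElement, h1, h4, ← map_commutatorElement, E_comm]
    congr 2; ring
  have hcd : ψ ⁅ρ a, ρ b⁆ = π (E 0 0 (ω * ω)) := by
    rw [map_commutatorElement, h2', h4, ← map_commutatorElement, E_comm]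
    congr 2; ring
  -- injectivity
  have hT2 : IsPGroup 2 T := IsPGroup.of_card (n := 6) (by rw [S.card]; norm_num)
  haveI : Group.IsNilpotent T := hT2.isNilpotent
  have hker : ψ.ker = ⊥ := by
    by_contra hne
    have hmeet := Cfsg.Agent.Helper2.normal_inf_center_ne_bot ψ.ker hne
    apply hmeet
    rw [eq_bot_iff]
    intro z hz
    have hzk : z ∈ ψ.ker := hz.1
    have hzc : z ∈ center T := hz.2
    rw [MonoidHom.mem_ker] at hzk
    rw [mem_bot]
    rcases S.fpf3.enum4 _ S.fpf3.inv_center S.card_center (S.comm_mem a b) hab hzc with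
      h | h | h | h
    · exact h
    · exfalso
      rw [h, hc] at hzk
      exact hπ 1 one_ne_zero hzk
    · exfalso
      rw [h, ← S.cm_map, hcd] at hzk
      exact hπ _ (mul_ne_zero hω0 hω0) hzk
    · exfalso
      rw [h, ← S.cm_rho_right, hd] at hzk
      exact hπ _ hω0 hzk
  have hinj : Function.Injective ψ := (MonoidHom.ker_eq_bot_iff ψ).mp hker
  have hcard : Nat.card ψ.range = 64 := by
    rw [← S.card]
    exact (Nat.card_congr (MonoidHom.ofInjective hinj).toEquiv).symm
  obtain ⟨P, hP⟩ := exists_sylow_eq hF ψ.range hcard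
  exact ⟨P, ⟨(MonoidHom.ofInjective hinj).trans (MulEquiv.subgroupCongr hP.symm)⟩⟩

end iso

section fixedpts

variable (X : XSetup ρ x)
include X

/-- the fixed points of `x` form a dihedral or quaternion group of order `8` -/
theorem fixed_dihedral_or_quaternion (C : Subgroup T) (hC : ∀ y, y ∈ C ↔ x y = y) :
    Nonempty (↥C ≃* DihedralGroup 4) ∨ Nonempty (↥C ≃* QuaternionGroup 2) := by
  haveI : Fact (Nat.Prime 2) := ⟨Nat.prime_two⟩
  obtain ⟨e₁, e₂, h₁, h₂, hne⟩ := X.exists_fixed_pair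
  have hle := X.card_fixed_le C hC
  have hdvd : Nat.card C ∣ 64 := by
    rw [← X.card]; exact Subgroup.card_subgroup_dvd_card C
  let f₁ : C := ⟨e₁, (hC _).mpr h₁⟩
  let f₂ : C := ⟨e₂, (hC _).mpr h₂⟩
  have hnc : f₁ * f₂ ≠ f₂ * f₁ := fun h => hne (congrArg Subtype.val h)
  have hna : ¬ ∀ u v : C, u * v = v * u := fun h => hnc (h _ _)
  have h8 : Nat.card C = 8 := by
    have hpos : 0 < Nat.card C := Nat.card_pos
    have hcases : Nat.card C = 1 ∨ Nat.card C = 2 ∨ Nat.card C = 4 ∨ Nat.card C = 8 := by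
      have h64 : (64 : ℕ) = 2 ^ 6 := by norm_num
      rw [h64] at hdvd
      obtain ⟨k, hk, hk2⟩ := (Nat.dvd_prime_pow Nat.prime_two).mp hdvd
      rw [hk2] at hle ⊢
      interval_cases k <;> simp_all
    rcases hcases with h | h | h | h
    · exfalso
      haveI : Subsingleton C := (Nat.card_eq_one_iff_unique.mp h).1
      exact hnc (Subsingleton.elim _ _)
    · exfalso
      haveI : IsCyclic C := isCyclic_of_prime_card h
      exact hnc (IsCyclic.commGroup.mul_comm _ _)
    · exfalso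
      haveI : IsMulCommutative C :=
        IsPGroup.isMulCommutative_of_card_eq_prime_sq (p := 2) (by rw [h]; norm_num)
      exact hnc (mul_comm' _ _)
    · exact h
  rcases Cfsg.Agent.Helper17.order8_dihedral_or_unique_involution h8 hna with h | ⟨z, hz, huniq⟩
  · exact Or.inl h
  · right
    refine Cfsg.Agent.Helper95.Sharp2.quaternion_of_card_eight h8 ?_ ?_
    · intro hcyc
      exact hnc (IsCyclic.commGroup.mul_comm _ _)
    · intro u v hu hv
      rw [huniq u hu, huniq v hv]

end fixedpts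

end Cfsg.Agent.Helper39.T64F
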