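import Mathlib
import Cfsg.Agent.Lib.Helper39.T64A
import Cfsg.Agent.Lib.Helper39.T64B
import Cfsg.Agent.Lib.Helper39.T64C
import Cfsg.Agent.Lib.Helper39.T64F
import Cfsg.Agent.Lib.Helper39.P2E

/-!
# Nonabelian groups of order `64` with a fixed-point-free automorphism of order three in which
every involution is central

Any two such groups are isomorphic (they are Sylow `2`-subgroups of `U₃(4)`).  Used for S2933.
-/

set_option autoImplicit false
set_option linter.unusedSectionVars false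
set_option linter.style.haveILetI false

namespace Cfsg.Agent.Helper39.P2F

open Subgroup Cfsg.Agent.Helper39.T64A Cfsg.Agent.Helper39.T64B Cfsg.Agent.Helper39.T64C
  Cfsg.Agent.Helper39.T64F Cfsg.Agent.Helper39.P2E
open scoped commutatorElement

section norm

variable {T : Type*} [Group T] [Finite T] {ρ : MulAut T}

/-- the relations from the normalized squares -/
theorem relU_of (S : Setup ρ) {a b : T} (h1 : a * a = ⁅a, b⁆) (h2 : b * b = ρ ⁅a, b⁆) :
    RelU a (ρ a) b (ρ b) where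
  asq := h1
  a'sq := by
    rw [← map_mul, h1, S.cm_rho_right, center_mul_rr S (S.comm_mem a b)]
  bsq := by
    rw [h2, S.cm_rho_right, center_mul_rr S (S.comm_mem a b)]
  b'sq := by
    rw [← map_mul, h2, S.cm_rho_right]
  aa' := S.fpf3.comm a
  bb' := S.fpf3.comm b
  ca := S.cm_comm _ _ _
  ca' := S.cm_comm _ _ _
  cb := S.cm_comm _ _ _
  cb' := S.cm_comm _ _ _
  da := S.cm_comm _ _ _
  da' := S.cm_comm _ _ _
  db := S.cm_comm _ _ _
  db' := S.cm_comm _ _ _
  csq := S.cm_sq _ _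
  dsq := S.cm_sq _ _
  a'b := (S.cm_d_eq a b).symm
  a'b' := by
    rw [S.cm_map, S.cm_rho_right, center_mul_rr S (S.comm_mem a b)]

/-- normalized generators -/
theorem exists_relU (S : Setup ρ) (hani : ∀ x : T, x * x = 1 → x ∈ center T) :
    ∃ a b : T, RelU a (ρ a) b (ρ b) ∧ ⁅a, b⁆ ≠ 1 := by
  obtain ⟨a, g, hag⟩ := S.na
  have haZ : a ∉ center T := fun h => hag (S.cz h g)
  set c := a * a with hc
  have hcZ : c ∈ center T := S.sq_mem a
  have hc1 : c ≠ 1 := fun h => haZ (hani a h)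
  have hcc : c * c = 1 := S.center_sq hcZ
  have he : ⁅a, g⁆ ≠ 1 := by rwa [Ne, cm_eq_one_iff]
  have heZ := S.comm_mem a g
  obtain ⟨b₀, hb₀⟩ : ∃ b₀ : T, ⁅a, b₀⁆ = c := by
    rcases S.fpf3.enum4 (center T) S.fpf3.inv_center S.card_center heZ he hcZ with h | h | h | h
    · exact absurd h hc1
    · exact ⟨g, h.symm⟩
    · exact ⟨ρ (ρ g), by rw [S.cm_rr_right, h]⟩
    · exact ⟨ρ g, by rw [S.cm_rho_right, h]⟩
  have hb₀Z : b₀ ∉ center T := by
    intro h
    rw [S.cm_central_right h] at hb₀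
    exact hc1 hb₀.symm
  set s := b₀ * b₀ with hs
  have hsZ : s ∈ center T := S.sq_mem b₀
  have hs1 : s ≠ 1 := fun h => hb₀Z (hani b₀ h)
  have hmrr : c * ρ (ρ c) = ρ c := center_mul_rr S hcZ
  have hρρc : ρ (ρ c) ∈ center T := S.fpf3.inv_center _ (S.fpf3.inv_center _ hcZ)
  have hρcρρc : ρ c * ρ (ρ c) = c := by
    calc ρ c * ρ (ρ c) = (c * ρ (ρ c)) * ρ (ρ c) := by rw [hmrr]
      _ = c * (ρ (ρ c) * ρ (ρ c)) := mul_assoc _ _ _
      _ = c := by rw [S.center_sq hρρc, mul_one]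
  have h2 : (b₀ * ρ a) * (b₀ * ρ a) = s * c := by
    rw [S.sq_mul, ← map_mul, ← hc, ← hs, S.cm_rho_left, hb₀, mul_assoc, hρcρρc]
  have h3 : ⁅a, b₀ * ρ a⁆ = c := by
    rw [S.cm_mul_right, hb₀, S.cm_self_rho, mul_one]
  have hsc1 : s * c ≠ 1 := by
    intro h
    have := hani _ (h2.trans h)
    rw [S.cm_central_right this] at h3
    exact hc1 h3.symm
  rcases S.fpf3.enum4 (center T) S.fpf3.inv_center S.card_center hcZ hc1 hsZ with h | h | h | h
  · exact absurd h hs1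
  · exfalso
    apply hsc1
    rw [h]
    exact hcc
  · refine ⟨a, b₀, relU_of S ?_ ?_, ?_⟩
    · rw [hb₀]
    · rw [hb₀, ← h]
    · rw [hb₀]; exact hc1
  · refine ⟨a, b₀ * ρ a, relU_of S ?_ ?_, ?_⟩
    · rw [h3]
    · rw [h3, h2, h, ← S.cz hcZ, hmrr]
    · rw [h3]; exact hc1

end norm

section iso

variable {T₁ T₂ : Type*} [Group T₁] [Finite T₁] [Group T₂] [Finite T₂]
  {ρ₁ : MulAut T₁} {ρ₂ : MulAut T₂}

/-- uniqueness of the group -/
theorem iso_of_aniso (S₁ : Setup ρ₁) (S₂ : Setup ρ₂)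
    (h₁ : ∀ x : T₁, x * x = 1 → x ∈ center T₁) (h₂ : ∀ x : T₂, x * x = 1 → x ∈ center T₂) :
    Nonempty (T₁ ≃* T₂) := by
  obtain ⟨a, b, hR, hab⟩ := exists_relU S₁ h₁
  obtain ⟨A, B, hR', hAB⟩ := exists_relU S₂ h₂
  obtain ⟨ψ, e1, e2, e3, e4⟩ := exists_hom (T64C.closure_eq_top S₁ hab) S₁.card hR hR'
  have hsurj : Function.Surjective ψ := by
    rw [← MonoidHom.range_eq_top, eq_top_iff, ← T64C.closure_eq_top S₂ hAB, closure_le]
    intro x hx
    simp only [Set.mem_insert_iff, Set.mem_singleton_iff] at hx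
    rcases hx with h | h | h | h
    · rw [h]; exact ⟨a, e1⟩
    · rw [h]; exact ⟨ρ₁ a, e2⟩
    · rw [h]; exact ⟨b, e3⟩
    · rw [h]; exact ⟨ρ₁ b, e4⟩
  have hbij := hsurj.bijective_of_nat_card_le (by rw [S₁.card, S₂.card])
  exact ⟨MulEquiv.ofBijective ψ hbij⟩

end iso

end Cfsg.Agent.Helper39.P2F
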