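import Mathlib
import Cfsg.Agent.Lib.Helper39.T64A
import Cfsg.Agent.Lib.Helper39.P2A
import Cfsg.Agent.Lib.Helper39.P2B

/-!
# Conjugation automorphisms of a subgroup

For S2933: the elements `ρ`, `t` of the ambient group induce automorphisms of `T` in the class
`PD`.
-/

set_option autoImplicit false
set_option linter.unusedSectionVars false
set_option linter.style.haveILetI false

universe u

namespace Cfsg.Agent.Helper39.P2G

open Subgroup Cfsg.Agent.Helper39.T64A Cfsg.Agent.Helper39.P2A Cfsg.Agent.Helper39.P2B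
open scoped commutatorElement

section fixed

variable {M : Type u} [Group M] [Finite M]

/-- an involutory automorphism of a `2`-group has a nontrivial fixed point in every nontrivial
invariant subgroup -/
lemma exists_fixed_of_invol (h2 : IsPGroup 2 M) {t : MulAut M} (htt : ∀ g, t (t g) = g)
    (F : Subgroup M) (hF : Inv t F) (hne : F ≠ ⊥) : ∃ y ∈ F, y ≠ 1 ∧ t y = y := by
  classical
  haveI : Fintype F := Fintype.ofFinite F
  haveI : Fact (Nat.Prime 2) := ⟨Nat.prime_two⟩
  let f : Function.End F := fun h => ⟨t h, hF h h.2⟩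
  have hf : f ^ 2 ^ 1 = 1 := by
    funext h
    apply Subtype.ext
    show t (t (h : M)) = h
    exact htt _
  have h1 := Equiv.Perm.card_fixedPoints_modEq (p := 2) (n := 1) hf
  have hone : f 1 = 1 := by
    apply Subtype.ext
    show t ((1 : F) : M) = ((1 : F) : M)
    simp
  have hcard : 1 < Nat.card F := (Subgroup.one_lt_card_iff_ne_bot F).mpr hne
  obtain ⟨k, hk⟩ := (IsPGroup.iff_card).mp (h2.to_subgroup F)
  have hk0 : k ≠ 0 := by
    intro h0
    rw [h0, pow_zero] at hk
    omega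
  have heven : 2 ∣ Fintype.card F := by
    rw [← Nat.card_eq_fintype_card, hk]
    exact dvd_pow_self 2 hk0
  have hpos : 0 < Fintype.card ↥(Function.fixedPoints f) :=
    Fintype.card_pos_iff.mpr ⟨⟨1, hone⟩⟩
  have hgt : 1 < Fintype.card ↥(Function.fixedPoints f) := by
    have h3 : 2 ∣ Fintype.card ↥(Function.fixedPoints f) := by
      exact (Nat.ModEq.dvd_iff h1 (dvd_refl 2)).mp heven
    obtain ⟨j, hj⟩ := h3
    omega
  obtain ⟨b, hb⟩ := Fintype.exists_ne_of_one_lt_card hgt ⟨1, hone⟩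
  refine ⟨((b : F) : M), (b : F).2, ?_, ?_⟩
  · intro h
    apply hb
    apply Subtype.ext
    apply Subtype.ext
    exact h
  · have : f (b : F) = (b : F) := b.2
    exact congrArg Subtype.val this

/-- an automorphism of order dividing three of a group of order four with a nontrivial fixed point
is trivial -/
lemma fix_all_of_card4 (hM : Nat.card M = 4) {σ : MulAut M} (hcube : ∀ g, σ (σ (σ g)) = g)
    (y : M) (hy : y ≠ 1) (hfix : σ y = y) : ∀ v, σ v = v := by
  classical
  haveI : Fintype M := Fintype.ofFinite M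
  haveI : Fact (Nat.Prime 3) := ⟨by norm_num⟩
  let f : Function.End M := fun h => σ h
  have hf : f ^ 3 ^ 1 = 1 := by
    funext h
    show σ (σ (σ h)) = h
    exact hcube _
  have h1 := Equiv.Perm.card_fixedPoints_modEq (p := 3) (n := 1) hf
  have h2 : Fintype.card ↥(Function.fixedPoints f) = Nat.card (Fix σ) := by
    rw [← Nat.card_eq_fintype_card]
    rfl
  rw [h2, ← Nat.card_eq_fintype_card, hM] at h1
  have h3 : Nat.card (Fix σ) ∣ 4 := hM ▸ Subgroup.card_subgroup_dvd_card (Fix σ)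
  have h4 : 1 < Nat.card (Fix σ) := by
    rw [Subgroup.one_lt_card_iff_ne_bot]
    intro hbot
    have : y ∈ Fix σ := hfix
    rw [hbot, mem_bot] at this
    exact hy this
  have h5 : Nat.card (Fix σ) = 4 := by
    have hle : Nat.card (Fix σ) ≤ 4 := Nat.le_of_dvd (by norm_num) h3
    unfold Nat.ModEq at h1
    interval_cases h : Nat.card (Fix σ) <;> simp_all
  have h6 : Fix σ = ⊤ := Subgroup.eq_top_of_card_eq _ (by rw [h5, hM])
  intro v
  have : v ∈ Fix σ := by rw [h6]; exact mem_top _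
  exact this

end fixed

section conj

variable {G : Type u} [Group G]

/-- conjugation by a normalizing element -/
def cAut (T : Subgroup G) (g : G) (hg : g ∈ normalizer (T : Set G)) : MulAut T where
  toFun x := ⟨g * x * g⁻¹, (mem_normalizer_iff.mp hg x).mp x.2⟩
  invFun x := ⟨g⁻¹ * x * g, (mem_normalizer_iff''.mp hg x).mp x.2⟩
  left_inv x := Subtype.ext (by
    show g⁻¹ * (g * (x : G) * g⁻¹) * g = x
    group)
  right_inv x := Subtype.ext (by
    show g * (g⁻¹ * (x : G) * g) * g⁻¹ = x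
    group)
  map_mul' a b := Subtype.ext (by
    show g * ((a : G) * b) * g⁻¹ = (g * a * g⁻¹) * (g * b * g⁻¹)
    group)

lemma cAut_coe (T : Subgroup G) (g : G) (hg : g ∈ normalizer (T : Set G)) (x : T) :
    ((cAut T g hg x : T) : G) = g * x * g⁻¹ := rfl

variable [Finite G]

/-- the hypotheses of S2933 put the pair of conjugation automorphisms in the class `PD` -/
theorem pd_of_hyp (T V : Subgroup G) (hT : IsPGroup 2 ↥T)
    (hV4 : Nat.card ↥V = 4) (t ρ : G) (ht : orderOf t = 2) (hρ : orderOf ρ = 3)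
    (htT : t ∈ normalizer (T : Set G)) (hρT : ρ ∈ normalizer (T : Set G))
    (hρV : ρ ∈ normalizer (V : Set G)) (htρ : t * ρ = ρ * t)
    (hVρ : ⁅V, zpowers ρ⁆ = V) (hCt : T ⊓ centralizer ({t} : Set G) = V) :
    PD (cAut T ρ hρT) (cAut T t htT) := by
  have hρ3 : ρ * ρ * ρ = 1 := by
    have : ρ ^ 3 = 1 := by rw [← hρ]; exact pow_orderOf_eq_one ρ
    rw [← this, pow_succ, pow_two]
  have ht2 : t * t = 1 := by
    have : t ^ 2 = 1 := by rw [← ht]; exact pow_orderOf_eq_one t
    rw [← this, pow_two]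
  have hcube : ∀ g : T, cAut T ρ hρT (cAut T ρ hρT (cAut T ρ hρT g)) = g := by
    intro g
    apply Subtype.ext
    rw [cAut_coe, cAut_coe, cAut_coe]
    have : ρ * (ρ * (ρ * (g : G) * ρ⁻¹) * ρ⁻¹) * ρ⁻¹ = (ρ * ρ * ρ) * g * (ρ * ρ * ρ)⁻¹ := by group
    rw [this, hρ3, one_mul, inv_one, mul_one]
  have htt : ∀ g : T, cAut T t htT (cAut T t htT g) = g := by
    intro g
    apply Subtype.ext
    rw [cAut_coe, cAut_coe]
    have : t * (t * (g : G) * t⁻¹) * t⁻¹ = (t * t) * g * (t * t)⁻¹ := by group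
    rw [this, ht2, one_mul, inv_one, mul_one]
  have htr : ∀ g : T, cAut T t htT (cAut T ρ hρT g) = cAut T ρ hρT (cAut T t htT g) := by
    intro g
    apply Subtype.ext
    rw [cAut_coe, cAut_coe, cAut_coe, cAut_coe]
    calc t * (ρ * (g : G) * ρ⁻¹) * t⁻¹ = (t * ρ) * g * (t * ρ)⁻¹ := by group
      _ = (ρ * t) * g * (ρ * t)⁻¹ := by rw [htρ]
      _ = ρ * (t * (g : G) * t⁻¹) * ρ⁻¹ := by group
  have hfixV : ∀ g : T, cAut T t htT g = g → (g : G) ∈ V := by
    intro g hg
    rw [← hCt]
    refine Subgroup.mem_inf.mpr ⟨g.2, ?_⟩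
    rw [mem_centralizer_singleton_iff]
    have h1 : t * (g : G) * t⁻¹ = g := congrArg Subtype.val hg
    calc (g : G) * t = (t * (g : G) * t⁻¹) * t := by rw [h1]
      _ = t * g := by group
  have hfix : Nat.card (Fix (cAut T t htT)) ≤ 4 := by
    rw [← hV4]
    refine Nat.card_le_card_of_injective
      (fun x : Fix (cAut T t htT) => (⟨((x : T) : G), hfixV _ x.2⟩ : V)) ?_
    intro a b hab
    have := congrArg (fun z : V => (z : G)) hab
    exact Subtype.ext (Subtype.ext (by simpa using this))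
  refine ⟨⟨hcube, ?_⟩, htt, htr, hfix, hT⟩
  -- fixed-point-freeness
  intro x hx
  by_contra hx1
  have hFinv : Inv (cAut T t htT) (Fix (cAut T ρ hρT)) := by
    intro g hg
    rw [mem_Fix] at hg ⊢
    rw [← htr, hg]
  have hFne : Fix (cAut T ρ hρT) ≠ ⊥ := by
    intro hbot
    have : x ∈ Fix (cAut T ρ hρT) := hx
    rw [hbot, mem_bot] at this
    exact hx1 this
  obtain ⟨y, hyF, hy1, hyt⟩ := exists_fixed_of_invol hT htt _ hFinv hFne
  have hyV : (y : G) ∈ V := hfixV y hyt
  have hyρ : ρ * (y : G) * ρ⁻¹ = y := congrArg Subtype.val (show cAut T ρ hρT y = y from hyF)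
  -- `ρ` centralizes `V`
  have hcubeV : ∀ g : V, cAut V ρ hρV (cAut V ρ hρV (cAut V ρ hρV g)) = g := by
    intro g
    apply Subtype.ext
    rw [cAut_coe, cAut_coe, cAut_coe]
    have : ρ * (ρ * (ρ * (g : G) * ρ⁻¹) * ρ⁻¹) * ρ⁻¹ = (ρ * ρ * ρ) * g * (ρ * ρ * ρ)⁻¹ := by group
    rw [this, hρ3, one_mul, inv_one, mul_one]
  have hall := fix_all_of_card4 hV4 hcubeV ⟨(y : G), hyV⟩
    (by
      intro h
      apply hy1
      apply Subtype.ext
      have := congrArg (fun z : V => (z : G)) h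
      simpa using this)
    (Subtype.ext hyρ)
  have hρC : ρ ∈ centralizer (V : Set G) := by
    rw [mem_centralizer_iff]
    intro v hv
    have h1 : ρ * v * ρ⁻¹ = v := congrArg Subtype.val (hall ⟨v, hv⟩)
    calc v * ρ = (ρ * v * ρ⁻¹) * ρ := by rw [h1]
      _ = ρ * v := by group
  have hbot : ⁅V, zpowers ρ⁆ = ⊥ := by
    rw [Subgroup.commutator_eq_bot_iff_le_centralizer, Subgroup.le_centralizer_iff, zpowers_le]
    exact hρC
  rw [hbot] at hVρ
  rw [← hVρ, Subgroup.card_bot] at hV4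
  omega

end conj

end Cfsg.Agent.Helper39.P2G
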