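import Mathlib

/-!
# Counting additive endomorphisms and ring automorphisms of a finite field of characteristic 2
-/

set_option autoImplicit false

namespace Cfsg.Agent.Helper39.SzAutU

section Count

variable {F : Type*} [Field F] [Finite F]

theorem finrank_zmod2 [Algebra (ZMod 2) F] (n : ℕ) (hcard : Nat.card F = 2 ^ n) :
    Module.finrank (ZMod 2) F = n := by
  have h := Module.natCard_eq_pow_finrank (K := ZMod 2) (V := F)
  rw [hcard, Nat.card_zmod] at h
  exact (Nat.pow_right_injective (le_refl 2) h).symm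

theorem card_addHom (h2 : (2 : F) = 0) (n : ℕ) (hcard : Nat.card F = 2 ^ n) :
    Nat.card (F →+ F) = 2 ^ (n ^ 2) := by
  haveI : CharP F 2 := CharTwo.of_one_ne_zero_of_two_eq_zero one_ne_zero h2
  letI := ZMod.algebra F 2
  have hfr := finrank_zmod2 (F := F) n hcard
  let b := Module.finBasis (ZMod 2) F
  have e1 : (F →+ F) ≃ (F →ₗ[ZMod 2] F) := (AddMonoidHom.toZModLinearMapEquiv 2).toEquiv
  have e2 : (Fin (Module.finrank (ZMod 2) F) → F) ≃ (F →ₗ[ZMod 2] F) := (b.constr ℕ).toEquiv
  rw [Nat.card_congr (e1.trans e2.symm), Nat.card_fun, Nat.card_fin, hfr, hcard, ← pow_mul, sq]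

theorem card_ringAut (h2 : (2 : F) = 0) (n : ℕ) (hcard : Nat.card F = 2 ^ n) :
    Nat.card (F ≃+* F) = n := by
  haveI : CharP F 2 := CharTwo.of_one_ne_zero_of_two_eq_zero one_ne_zero h2
  letI := ZMod.algebra F 2
  have hfr := finrank_zmod2 (F := F) n hcard
  have e : (F ≃+* F) ≃ (F ≃ₐ[ZMod 2] F) :=
    { toFun := fun σ => AlgEquiv.ofRingEquiv (f := σ) (by
        intro x
        have : (σ : F →+* F).comp (algebraMap (ZMod 2) F) = algebraMap (ZMod 2) F :=
          Subsingleton.elim _ _
        exact RingHom.congr_fun this x)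
      invFun := fun e => e.toRingEquiv
      left_inv := fun σ => by ext; rfl
      right_inv := fun e => by ext; rfl }
  rw [Nat.card_congr e, IsGalois.card_aut_eq_finrank, hfr]

end Count

end Cfsg.Agent.Helper39.SzAutU
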