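import Mathlib

/-!
# Similitudes of the hermitian plane `K / Fix σ` in characteristic two are semilinear

Pure field theory: an additive bijection `A` of `K` together with a map `B` on the fixed field
compatible with the hermitian pairing and the norm is of the form `μ · τ` with `τ` a field
automorphism.
-/

set_option autoImplicit false

namespace Cfsg.Agent.Helper39.UAut

variable {K : Type*} [Field K]

/-- the trace `x + σ x` -/
def Tr (σ : K →+* K) (x : K) : K := x + σ x
/-- the norm `x σ x` -/
def Nm (σ : K →+* K) (x : K) : K := x * σ x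
/-- the polar form of the norm -/
def pair (σ : K →+* K) (x y : K) : K := σ x * y + x * σ y

section basic

variable {σ : K →+* K} (hσ : ∀ x, σ (σ x) = x) (h2 : (2 : K) = 0)

include hσ in
lemma Nm_fixed (x : K) : σ (Nm σ x) = Nm σ x := by
  unfold Nm
  rw [map_mul, hσ]
  ring

include hσ in
lemma Tr_fixed (x : K) : σ (Tr σ x) = Tr σ x := by
  unfold Tr
  rw [map_add, hσ]
  ring

include hσ in
lemma pair_fixed (x y : K) : σ (pair σ x y) = pair σ x y := by
  unfold pair
  simp only [map_add, map_mul, hσ]
  ring

lemma Nm_eq_zero_iff {x : K} : Nm σ x = 0 ↔ x = 0 := by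
  unfold Nm
  constructor
  · intro h
    rcases mul_eq_zero.mp h with h | h
    · exact h
    · exact (map_eq_zero σ).mp h
  · rintro rfl
    simp

lemma Nm_mul (x y : K) : Nm σ (x * y) = Nm σ x * Nm σ y := by
  unfold Nm
  rw [map_mul]
  ring

lemma Nm_one : Nm σ 1 = 1 := by
  unfold Nm
  simp

lemma Nm_div (x y : K) : Nm σ (x / y) = Nm σ x / Nm σ y := by
  unfold Nm
  rw [map_div₀]
  by_cases hy : y = 0
  · subst hy
    simp
  · have : σ y ≠ 0 := (map_ne_zero σ).mpr hy
    field_simp

lemma pair_smul_right {t : K} (ht : σ t = t) (x y : K) : pair σ x (t * y) = t * pair σ x y := by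
  unfold pair
  rw [map_mul, ht]
  ring

lemma pair_smul_left {t : K} (ht : σ t = t) (x y : K) : pair σ (t * x) y = t * pair σ x y := by
  unfold pair
  rw [map_mul, ht]
  ring

include h2 in
lemma pair_self (x : K) : pair σ x x = 0 := by
  unfold pair
  linear_combination (x * σ x) * h2

lemma pair_mul_mul (m x y : K) : pair σ (m * x) (m * y) = Nm σ m * pair σ x y := by
  unfold pair Nm
  simp only [map_mul]
  ring

lemma pair_one (y : K) : pair σ 1 y = Tr σ y := by
  unfold pair Tr
  simp

lemma pair_add_right (x y z : K) : pair σ x (y + z) = pair σ x y + pair σ x z := by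
  unfold pair
  rw [map_add]
  ring

include h2 in
lemma sq_eq (x : K) : x ^ 2 = Tr σ x * x + Nm σ x := by
  unfold Tr Nm
  linear_combination (-(x * σ x)) * h2

include h2 in
lemma perp_fixed {x y : K} (h : pair σ x y = 0) (hx : x ≠ 0) : σ (y / x) = y / x := by
  have hσx : σ x ≠ 0 := (map_ne_zero σ).mpr hx
  rw [map_div₀, div_eq_div_iff hσx hx]
  unfold pair at h
  linear_combination h - (σ x * y) * h2

include h2 in
lemma fixed_of_Tr_eq_zero {s : K} (h : Tr σ s = 0) : σ s = s := by
  unfold Tr at h
  linear_combination h - s * h2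

end basic

section main

variable {σ : K →+* K}

theorem semilinear (hσ : ∀ x, σ (σ x) = x) (h2 : (2 : K) = 0) (t0 : K) (ht0 : t0 + σ t0 = 1)
    (A : K →+ K) (hA : Function.Bijective A) (B : K → K)
    (hBfix : ∀ c, σ c = c → σ (B c) = B c)
    (hBadd : ∀ c d, σ c = c → σ d = d → B (c + d) = B c + B d)
    (hBinj : ∀ c, σ c = c → B c = 0 → c = 0)
    (hpair : ∀ b b', B (pair σ b b') = pair σ (A b) (A b'))
    (hNm : ∀ b, B (Nm σ b) = Nm σ (A b)) :
    ∃ μ : K, μ ≠ 0 ∧ ∃ τ : K ≃+* K, (∀ b, A b = μ * τ b) ∧
      (∀ c, σ c = c → B c = Nm σ μ * τ c) := by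
  have hA0 : ∀ b, b ≠ 0 → A b ≠ 0 := by
    intro b hb h0
    apply hb
    apply hA.1
    rw [h0, map_zero]
  have hB0 : B 0 = 0 := by
    have := hBadd 0 0 (map_zero σ) (map_zero σ)
    rw [add_zero] at this
    linear_combination -this
  have h1fix : σ 1 = 1 := map_one σ
  have hB1 : B 1 ≠ 0 := fun h => one_ne_zero (hBinj 1 h1fix h)
  have key : ∀ t b, σ t = t → A (t * b) = (B t / B 1) * A b := by
    intro t b ht
    by_cases hb : b = 0
    · subst hb
      simp
    have hAb := hA0 b hb
    have hNb : Nm σ b ≠ 0 := fun h => hb (Nm_eq_zero_iff.mp h)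
    have hρA : A (t * b) = (A (t * b) / A b) * A b := by field_simp
    have hρfix : σ (A (t * b) / A b) = A (t * b) / A b := by
      apply perp_fixed h2 _ hAb
      rw [← hpair, pair_smul_right ht, pair_self h2, mul_zero, hB0]
    have hbb' : pair σ b (b * t0 / Nm σ b) = 1 := by
      have hNfix := Nm_fixed hσ b
      have : pair σ b (b * t0 / Nm σ b) = Nm σ b * (t0 + σ t0) / Nm σ b := by
        unfold pair
        rw [map_div₀, map_mul, hNfix]
        unfold Nm
        field_simp
      rw [this, ht0, mul_one, div_self hNb]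
    have e1 : B t = (A (t * b) / A b) * B 1 := by
      calc B t = B (pair σ (t * b) (b * t0 / Nm σ b)) := by
            rw [pair_smul_left ht, hbb', mul_one]
        _ = pair σ (A (t * b)) (A (b * t0 / Nm σ b)) := hpair _ _
        _ = (A (t * b) / A b) * pair σ (A b) (A (b * t0 / Nm σ b)) := by
            conv_lhs => rw [hρA]
            rw [pair_smul_left hρfix]
        _ = (A (t * b) / A b) * B 1 := by rw [← hpair, hbb']
    rw [e1]
    field_simp
  have hτfix : ∀ t, σ t = t → σ (B t / B 1) = B t / B 1 := by
    intro t ht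
    rw [map_div₀, hBfix t ht, hBfix 1 h1fix]
  have hBmul : ∀ t y, σ t = t → σ y = y → B (t * y) = (B t / B 1) * B y := by
    intro t y ht hy
    have e0 : pair σ 1 (y * t0) = y := by
      unfold pair
      rw [map_one, map_mul, hy]
      linear_combination y * ht0
    calc B (t * y) = B (pair σ (t * 1) (y * t0)) := by rw [pair_smul_left ht, e0]
      _ = pair σ (A (t * 1)) (A (y * t0)) := hpair _ _
      _ = (B t / B 1) * pair σ (A 1) (A (y * t0)) := by
          rw [key t 1 ht, pair_smul_left (hτfix t ht)]
      _ = (B t / B 1) * B y := by rw [← hpair, e0]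
  set μ := A 1 with hμ
  have hμ0 : μ ≠ 0 := hA0 1 one_ne_zero
  have hNmμ : Nm σ μ = B 1 := by
    have := hNm 1
    rw [Nm_one] at this
    exact this.symm
  -- the normalized map
  have a1_add : ∀ x y, A (x + y) / μ = A x / μ + A y / μ := by
    intro x y
    rw [map_add, add_div]
  have a1_smul : ∀ t b, σ t = t → A (t * b) / μ = (B t / B 1) * (A b / μ) := by
    intro t b ht
    rw [key t b ht]
    ring
  have a1_fixed : ∀ t, σ t = t → A t / μ = B t / B 1 := by
    intro t ht
    have := key t 1 ht
    rw [mul_one] at this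
    rw [this, ← hμ]
    field_simp
  have a1_Nm : ∀ b, Nm σ (A b / μ) = B (Nm σ b) / B 1 := by
    intro b
    rw [Nm_div, hNmμ, hNm]
  have a1_Tr : ∀ b, Tr σ (A b / μ) = B (Tr σ b) / B 1 := by
    intro b
    have e1 : pair σ μ (A b) = B (Tr σ b) := by
      rw [hμ, ← hpair, pair_one]
    have e2 : pair σ μ (A b) = Nm σ μ * Tr σ (A b / μ) := by
      rw [← pair_one, ← pair_mul_mul, mul_one]
      congr 1
      field_simp
    rw [e2, hNmμ] at e1
    rw [← e1]
    field_simp
  have a1_sq : ∀ x, A (x ^ 2) / μ = (A x / μ) ^ 2 := by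
    intro x
    have hT := Tr_fixed hσ x
    have hN := Nm_fixed hσ x
    have e1 : x ^ 2 = Tr σ x * x + Nm σ x * 1 := by rw [mul_one]; exact sq_eq h2 x
    rw [e1, a1_add, a1_smul _ _ hT, a1_smul _ _ hN, sq_eq (σ := σ) h2 (A x / μ), a1_Tr, a1_Nm,
      ← hμ, div_self hμ0, mul_one]
  have a1_mul : ∀ x y, A (x * y) / μ = (A x / μ) * (A y / μ) := by
    intro x y
    by_cases hx : σ x = x
    · rw [a1_smul x y hx, a1_fixed x hx]
    · have hd : x + σ x ≠ 0 := by
        intro h
        apply hx
        linear_combination h - x * h2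
      have hdfix : σ (x + σ x) = x + σ x := Tr_fixed hσ x
      have htfix : σ ((y + σ y) / (x + σ x)) = (y + σ y) / (x + σ x) := by
        rw [map_div₀, hdfix]
        congr 1
        exact Tr_fixed hσ y
      set t := (y + σ y) / (x + σ x) with ht
      have hsfix : σ (y + t * x) = y + t * x := by
        apply fixed_of_Tr_eq_zero h2
        unfold Tr
        rw [map_add, map_mul, htfix]
        have : t * (x + σ x) = y + σ y := by
          rw [ht]
          field_simp
        linear_combination (y + σ y) * h2 + this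
      set s := y + t * x with hs
      have hy : y = s * 1 + t * x := by
        rw [hs]
        linear_combination (-(t * x)) * h2
      have e1 : x * y = s * x + t * x ^ 2 := by
        rw [hs]
        linear_combination (-(t * x ^ 2)) * h2
      rw [e1, a1_add, a1_smul s x hsfix, a1_smul t _ htfix, a1_sq]
      conv_rhs => rw [hy, a1_add, a1_smul s 1 hsfix, a1_smul t x htfix, ← hμ, div_self hμ0]
      ring
  let τ0 : K →+* K :=
    { toFun := fun x => A x / μ
      map_one' := div_self hμ0
      map_mul' := a1_mul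
      map_zero' := by simp
      map_add' := a1_add }
  have hτ0 : Function.Bijective τ0 := by
    constructor
    · intro x y hxy
      apply hA.1
      have : A x / μ = A y / μ := hxy
      field_simp at this
      exact this
    · intro y
      obtain ⟨x, hx⟩ := hA.2 (μ * y)
      refine ⟨x, ?_⟩
      change A x / μ = y
      rw [hx]
      field_simp
  refine ⟨μ, hμ0, RingEquiv.ofBijective τ0 hτ0, ?_, ?_⟩
  · intro b
    change A b = μ * (A b / μ)
    field_simp
  · intro c hc
    change B c = Nm σ μ * (A c / μ)
    rw [a1_fixed c hc, hNmμ]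
    field_simp

end main

end Cfsg.Agent.Helper39.UAut
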