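import Mathlib
import Cfsg.Agent.Lib.Helper63.SuzModel
import Cfsg.Agent.Lib.Helper39.UAutA

/-!
# Coordinates of the automorphisms of the unitary model group `UM σ hσ` in characteristic two
-/

set_option autoImplicit false

namespace Cfsg.Agent.Helper39.UAut

open Cfsg.Agent.Helper63.SuzModel
open scoped commutatorElement

variable {K : Type*} [Field K] [CharP K 2] {σ : K →+* K} {hσ : ∀ x, σ (σ x) = x}

/-- central elements of the model group -/
def zel (hσ : ∀ x, σ (σ x) = x) (c : K) (hc : σ c = c) : UM σ hσ :=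
  ⟨0, c, by rw [hc, zero_mul, add_zero]; exact CharTwo.add_self_eq_zero c⟩

@[simp] lemma zel_b (c : K) (hc : σ c = c) : (zel hσ c hc).b = 0 := rfl
@[simp] lemma zel_c (c : K) (hc : σ c = c) : (zel hσ c hc).c = c := rfl

lemma eq_zel (x : UM σ hσ) (hx : x.b = 0) : x = zel hσ x.c (fixed_c_of_b_zero x hx) := by
  ext
  · rw [hx, zel_b]
  · rfl

variable (htr : ∀ s : K, σ s = s → ∃ x : K, x + σ x = s)

variable (α β : UM σ hσ ≃* UM σ hσ)

lemma apply_b_zero {x : UM σ hσ} (hx : x.b = 0) : (α x).b = 0 := by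
  rw [← Cfsg.Agent.Helper63.SuzModel.mul_self_eq_one_iff] at hx ⊢
  rw [← map_mul, hx, map_one]

lemma apply_b_congr {x y : UM σ hσ} (h : x.b = y.b) : (α x).b = (α y).b := by
  have h1 : (x⁻¹ * y).b = 0 := by
    rw [mul_b, inv_b, h]
    ring
  have h2 := apply_b_zero α h1
  rw [map_mul, map_inv, mul_b, inv_b] at h2
  linear_combination (-1 : K) * h2

/-- the action on the centre -/
noncomputable def Bf (c : K) : K := by
  classical
  exact if hc : σ c = c then (α (zel hσ c hc)).c else 0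

lemma Bf_pos {c : K} (hc : σ c = c) : Bf α c = (α (zel hσ c hc)).c := by
  classical
  unfold Bf
  exact dif_pos hc

lemma apply_c_of_b_zero (x : UM σ hσ) (hx : x.b = 0) : (α x).c = Bf α x.c := by
  rw [Bf_pos α (fixed_c_of_b_zero x hx), ← eq_zel x hx]

lemma apply_zel {c : K} (hc : σ c = c) :
    α (zel hσ c hc) = zel hσ (Bf α c) (by
      rw [Bf_pos α hc]
      exact fixed_c_of_b_zero _ (apply_b_zero α rfl)) := by
  ext
  · rw [apply_b_zero α rfl, zel_b]
  · rw [zel_c, Bf_pos α hc]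

lemma Bf_fixed {c : K} (hc : σ c = c) : σ (Bf α c) = Bf α c := by
  rw [Bf_pos α hc]
  exact fixed_c_of_b_zero _ (apply_b_zero α rfl)

lemma zel_mul {c d : K} (hc : σ c = c) (hd : σ d = d) :
    zel hσ c hc * zel hσ d hd = zel hσ (c + d) (by rw [map_add, hc, hd]) := by
  ext
  · simp
  · simp

lemma Bf_add {c d : K} (hc : σ c = c) (hd : σ d = d) : Bf α (c + d) = Bf α c + Bf α d := by
  have hcd : σ (c + d) = c + d := by rw [map_add, hc, hd]
  rw [Bf_pos α hcd, Bf_pos α hc, Bf_pos α hd, ← zel_mul hc hd, map_mul, mul_c,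
    apply_b_zero α (zel_b c hc), map_zero, zero_mul, sub_zero]

lemma Bf_inj {c : K} (hc : σ c = c) (h : Bf α c = 0) : c = 0 := by
  have h1 : α (zel hσ c hc) = 1 := by
    rw [eq_one_iff]
    exact ⟨apply_b_zero α rfl, by rw [← Bf_pos α hc]; exact h⟩
  have h2 : zel hσ c hc = 1 := by
    apply α.injective
    rw [h1, map_one]
  exact congrArg UM.c h2

lemma Bf_mul {c : K} (hc : σ c = c) : Bf (α * β) c = Bf α (Bf β c) := by
  rw [Bf_pos (α * β) hc, Bf_pos α (Bf_fixed β hc)]
  change (α (β (zel hσ c hc))).c = _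
  rw [apply_zel β hc]

lemma Bf_one {c : K} (hc : σ c = c) : Bf (1 : UM σ hσ ≃* UM σ hσ) c = c := by
  rw [Bf_pos _ hc]
  rfl

/-- a lift of `b` to the model group -/
noncomputable def lift (hσ : ∀ x, σ (σ x) = x) (b : K) : UM σ hσ :=
  Classical.choose (exists_b (hσ := hσ) htr b)

lemma lift_b (b : K) : (lift htr hσ b).b = b := Classical.choose_spec (exists_b (hσ := hσ) htr b)

/-- the action on the quotient by the centre -/
noncomputable def Af (b : K) : K := (α (lift htr hσ b)).b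

lemma apply_b (x : UM σ hσ) : (α x).b = Af htr α x.b :=
  apply_b_congr α (lift_b htr x.b).symm

lemma Af_add (b b' : K) : Af htr α (b + b') = Af htr α b + Af htr α b' := by
  have h := apply_b htr α (lift htr hσ b * lift htr hσ b')
  rw [map_mul, mul_b, mul_b, lift_b, lift_b] at h
  exact h.symm

lemma Af_zero : Af htr α 0 = 0 := by
  have h := apply_b htr α 1
  rw [map_one, one_b] at h
  exact h.symm

lemma Af_mul (b : K) : Af htr (α * β) b = Af htr α (Af htr β b) := by
  change (α (β (lift htr hσ b))).b = _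
  rw [apply_b htr α]
  rfl

lemma Af_one (b : K) : Af htr (1 : UM σ hσ ≃* UM σ hσ) b = b := lift_b htr b

lemma Af_bijective : Function.Bijective (Af htr α) := by
  refine Function.bijective_iff_has_inverse.mpr ⟨Af htr α⁻¹, ?_, ?_⟩
  · intro a
    rw [← Af_mul, inv_mul_cancel, Af_one]
  · intro a
    rw [← Af_mul, mul_inv_cancel, Af_one]

/-- `Af` as an additive map -/
noncomputable def AfHom : K →+ K where
  toFun := Af htr α
  map_zero' := Af_zero htr α
  map_add' := Af_add htr α

@[simp] lemma AfHom_apply (b : K) : AfHom htr α b = Af htr α b := rfl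

lemma two_eq_zero' : (2 : K) = 0 := CharTwo.two_eq_zero

lemma Bf_pair (b b' : K) : Bf α (pair σ b b') = pair σ (Af htr α b) (Af htr α b') := by
  have h2 : (2 : K) = 0 := CharTwo.two_eq_zero
  set g := lift htr hσ b
  set h := lift htr hσ b'
  have e1 : (⁅g, h⁆).c = pair σ b b' := by
    rw [comm_c, lift_b, lift_b]
    unfold pair
    linear_combination (-(σ b * b')) * h2
  have e2 := apply_c_of_b_zero α ⁅g, h⁆ (comm_b g h)
  rw [e1] at e2
  rw [← e2, map_commutatorElement, comm_c, apply_b htr α, apply_b htr α, lift_b, lift_b]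
  unfold pair
  linear_combination (-(σ (Af htr α b) * Af htr α b')) * h2

lemma Bf_Nm (b : K) : Bf α (Nm σ b) = Nm σ (Af htr α b) := by
  set g := lift htr hσ b
  have e1 : (g * g).c = Nm σ b := by
    rw [mul_self_c, lift_b]
    unfold Nm
    ring
  have e2 := apply_c_of_b_zero α (g * g) (mul_self_b g)
  rw [e1] at e2
  rw [← e2, map_mul, mul_self_c, apply_b htr α, lift_b]
  unfold Nm
  ring

/-- the semilinear form of `Af` and `Bf` -/
theorem aut_AB : ∃ μ : K, μ ≠ 0 ∧ ∃ τ : K ≃+* K, (∀ b, Af htr α b = μ * τ b) ∧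
    (∀ c, σ c = c → Bf α c = Nm σ μ * τ c) := by
  obtain ⟨t0, ht0⟩ := htr 1 (map_one σ)
  exact semilinear hσ CharTwo.two_eq_zero t0 ht0 (AfHom htr α) (Af_bijective htr α) (Bf α)
    (fun c hc => Bf_fixed α hc) (fun c d hc hd => Bf_add α hc hd) (fun c hc h => Bf_inj α hc h)
    (Bf_pair htr α) (Bf_Nm htr α)

/-- the defect of an automorphism from the standard one -/
noncomputable def Ef (μ : K) (τ : K ≃+* K) (x : UM σ hσ) : K := (α x).c + Nm σ μ * τ x.c

lemma Ef_congr {μ : K} {τ : K ≃+* K} (hB : ∀ c, σ c = c → Bf α c = Nm σ μ * τ c)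
    {x y : UM σ hσ} (h : x.b = y.b) : Ef α μ τ x = Ef α μ τ y := by
  have h2 : (2 : K) = 0 := CharTwo.two_eq_zero
  have hz : (x⁻¹ * y).b = 0 := by
    rw [mul_b, inv_b, h]
    ring
  have hy : y = x * (x⁻¹ * y) := by group
  have hzc := fixed_c_of_b_zero _ hz
  have e1 : y.c = x.c + (x⁻¹ * y).c := by
    conv_lhs => rw [hy]
    rw [mul_c, hz, mul_zero, sub_zero]
  have e2 : (α y).c = (α x).c + Nm σ μ * τ (x⁻¹ * y).c := by
    conv_lhs => rw [hy]
    rw [map_mul, mul_c, apply_b_zero α hz, mul_zero, sub_zero, apply_c_of_b_zero α _ hz, hB _ hzc]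
  unfold Ef
  rw [e2, e1, map_add]
  linear_combination (-(Nm σ μ * τ (x⁻¹ * y).c)) * h2

variable {q : ℕ} (hpow : ∀ x : K, σ x = x ^ q)

include hpow in
lemma ringEquiv_comm (τ : K ≃+* K) (x : K) : τ (σ x) = σ (τ x) := by
  rw [hpow, hpow, map_pow]

include hpow in
lemma ringEquiv_Nm (τ : K ≃+* K) (x : K) : τ (Nm σ x) = Nm σ (τ x) := by
  unfold Nm
  rw [map_mul, ringEquiv_comm hpow]

include htr hpow in
/-- every automorphism is standard -/
theorem aut_form : ∃ μ : Kˣ, ∃ τ : K ≃+* K, ∃ f : K →+ K, (∀ b, σ (f b) = f b) ∧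
    ∀ x : UM σ hσ, (α x).b = μ * τ x.b ∧ (α x).c = Nm σ (μ : K) * τ x.c + f x.b := by
  have h2 : (2 : K) = 0 := CharTwo.two_eq_zero
  obtain ⟨μ, hμ, τ, hA, hB⟩ := aut_AB htr α
  have hE : ∀ x : UM σ hσ, Ef α μ τ x = Ef α μ τ (lift htr hσ x.b) := fun x =>
    Ef_congr α hB (lift_b htr x.b).symm
  have hEmul : ∀ g h : UM σ hσ, Ef α μ τ (g * h) = Ef α μ τ g + Ef α μ τ h := by
    intro g h
    unfold Ef
    rw [map_mul, mul_c, mul_c, apply_b htr α, hA, map_sub, map_add, map_mul, map_mul,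
      ringEquiv_comm hpow, apply_b htr α, hA]
    unfold Nm
    linear_combination (-(μ * σ μ * σ (τ g.b) * τ h.b)) * h2
  have hEfix : ∀ g : UM σ hσ, σ (Ef α μ τ g) = Ef α μ τ g := by
    intro g
    apply fixed_of_Tr_eq_zero h2
    unfold Tr Ef
    have r1 := (α g).rel
    have r2 := g.rel
    rw [apply_b htr α, hA] at r1
    have r3 : τ g.c + σ (τ g.c) + τ g.b * σ (τ g.b) = 0 := by
      have := congrArg τ r2
      rw [map_add, map_add, map_mul, ringEquiv_comm hpow, ringEquiv_comm hpow, map_zero] at this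
      exact this
    rw [map_add, map_mul, Nm_fixed hσ]
    rw [map_mul] at r1
    unfold Nm
    linear_combination r1 + (μ * σ μ) * r3 - (μ * σ μ * τ g.b * σ (τ g.b)) * h2
  let f : K →+ K :=
    { toFun := fun b => Ef α μ τ (lift htr hσ b)
      map_zero' := by
        have := hEmul 1 1
        rw [mul_one] at this
        have h1 : Ef α μ τ (1 : UM σ hσ) = 0 := by linear_combination -this
        have h3 := hE 1
        rw [one_b] at h3
        rw [← h3, h1]
      map_add' := by
        intro b b'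
        have h1 := hE (lift htr hσ b * lift htr hσ b')
        rw [mul_b, lift_b, lift_b] at h1
        rw [← h1, hEmul] }
  refine ⟨Units.mk0 μ hμ, τ, f, fun b => hEfix _, ?_⟩
  intro x
  refine ⟨by rw [apply_b htr α, hA, Units.val_mk0], ?_⟩
  rw [Units.val_mk0]
  change (α x).c = Nm σ μ * τ x.c + Ef α μ τ (lift htr hσ x.b)
  rw [← hE x]
  unfold Ef
  linear_combination (-(Nm σ μ * τ x.c)) * h2

end Cfsg.Agent.Helper39.UAut
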