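import Mathlib
import Cfsg.Agent.Lib.Helper39.UAutB

/-!
# Standard automorphisms of the unitary model group and the order of its automorphism group
-/

set_option autoImplicit false

namespace Cfsg.Agent.Helper39.UAut

open Cfsg.Agent.Helper63.SuzModel

variable {K : Type*} [Field K] [CharP K 2] {σ : K →+* K} {hσ : ∀ x, σ (σ x) = x} {q : ℕ}

/-- bundled hypotheses on `σ` -/
structure UHyp (σ : K →+* K) (q : ℕ) : Prop where
  tr : ∀ s : K, σ s = s → ∃ x : K, x + σ x = s
  pow : ∀ x : K, σ x = x ^ q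

/-- the additive maps into the fixed field -/
abbrev FixHom (σ : K →+* K) : Type _ := {f : K →+ K // ∀ b, σ (f b) = f b}

/-- the zero map into the fixed field -/
def FixHom.zero (σ : K →+* K) : FixHom σ := ⟨0, fun b => by simp⟩

/-- the sum of maps into the fixed field -/
def FixHom.add (f g : FixHom σ) : FixHom σ :=
  ⟨f.1 + g.1, fun b => by rw [AddMonoidHom.add_apply, map_add, f.2, g.2]⟩

/-- the standard maps -/
def stdFun (hσ : ∀ x, σ (σ x) = x) (hy : UHyp σ q) (μ : Kˣ) (τ : K ≃+* K) (f : FixHom σ)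
    (x : UM σ hσ) : UM σ hσ :=
  ⟨μ * τ x.b, Nm σ (μ : K) * τ x.c + f.1 x.b, by
    have h2 : (2 : K) = 0 := CharTwo.two_eq_zero
    have r := congrArg τ x.rel
    rw [map_add, map_add, map_mul, ringEquiv_comm hy.pow, ringEquiv_comm hy.pow, map_zero] at r
    rw [map_add, map_mul, Nm_fixed hσ, f.2, map_mul]
    unfold Nm
    linear_combination ((μ : K) * σ μ) * r + f.1 x.b * h2⟩

lemma stdFun_b (hy : UHyp σ q) (μ : Kˣ) (τ : K ≃+* K) (f : FixHom σ) (x : UM σ hσ) :
    (stdFun hσ hy μ τ f x).b = μ * τ x.b := rfl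

lemma stdFun_c (hy : UHyp σ q) (μ : Kˣ) (τ : K ≃+* K) (f : FixHom σ) (x : UM σ hσ) :
    (stdFun hσ hy μ τ f x).c = Nm σ (μ : K) * τ x.c + f.1 x.b := rfl

lemma stdFun_mul (hy : UHyp σ q) (μ : Kˣ) (τ : K ≃+* K) (f : FixHom σ) (x y : UM σ hσ) :
    stdFun hσ hy μ τ f (x * y) = stdFun hσ hy μ τ f x * stdFun hσ hy μ τ f y := by
  ext
  · simp only [stdFun_b, mul_b, map_add]
    ring
  · simp only [stdFun_b, stdFun_c, mul_b, mul_c, map_add, map_sub, map_mul,
      ringEquiv_comm hy.pow, Nm]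
    ring

lemma stdFun_injective (hy : UHyp σ q) (μ : Kˣ) (τ : K ≃+* K) (f : FixHom σ) :
    Function.Injective (stdFun hσ hy μ τ f) := by
  intro x y hxy
  have h1 := congrArg UM.b hxy
  have h2 := congrArg UM.c hxy
  simp only [stdFun_b, stdFun_c] at h1 h2
  have hb : x.b = y.b := τ.injective (mul_left_cancel₀ μ.ne_zero h1)
  rw [hb] at h2
  have hN : Nm σ (μ : K) ≠ 0 := fun h => μ.ne_zero (Nm_eq_zero_iff.mp h)
  have hc : x.c = y.c := τ.injective (mul_left_cancel₀ hN (add_right_cancel h2))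
  exact UM.ext hb hc

variable [Finite K]

/-- the standard automorphisms -/
noncomputable def stdAut (hσ : ∀ x, σ (σ x) = x) (hy : UHyp σ q) (μ : Kˣ) (τ : K ≃+* K)
    (f : FixHom σ) : UM σ hσ ≃* UM σ hσ :=
  MulEquiv.ofBijective (MonoidHom.mk' (stdFun hσ hy μ τ f) (stdFun_mul hy μ τ f))
    ⟨stdFun_injective hy μ τ f, Finite.injective_iff_surjective.mp (stdFun_injective hy μ τ f)⟩

lemma stdAut_b (hy : UHyp σ q) (μ : Kˣ) (τ : K ≃+* K) (f : FixHom σ) (x : UM σ hσ) :
    (stdAut hσ hy μ τ f x).b = μ * τ x.b := rfl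

lemma stdAut_c (hy : UHyp σ q) (μ : Kˣ) (τ : K ≃+* K) (f : FixHom σ) (x : UM σ hσ) :
    (stdAut hσ hy μ τ f x).c = Nm σ (μ : K) * τ x.c + f.1 x.b := rfl

theorem stdAut_injective (hy : UHyp σ q) :
    Function.Injective
      (fun p : Kˣ × (K ≃+* K) × FixHom σ => stdAut hσ hy p.1 p.2.1 p.2.2) := by
  rintro ⟨μ, τ, f⟩ ⟨μ', τ', f'⟩ h
  simp only at h
  have hx : ∀ x : UM σ hσ, stdAut hσ hy μ τ f x = stdAut hσ hy μ' τ' f' x := fun x => by rw [h]
  have hμ : μ = μ' := by
    have := congrArg UM.b (hx (lift hy.tr hσ 1))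
    simp only [stdAut_b, lift_b, map_one, mul_one] at this
    exact Units.ext this
  subst hμ
  have hτ : τ = τ' := by
    ext a
    have := congrArg UM.b (hx (lift hy.tr hσ a))
    simp only [stdAut_b, lift_b] at this
    exact mul_left_cancel₀ μ.ne_zero this
  subst hτ
  have hf : f = f' := by
    apply Subtype.ext
    ext a
    have := congrArg UM.c (hx (lift hy.tr hσ a))
    simp only [stdAut_c, lift_b] at this
    exact add_left_cancel this
  subst hf
  rfl

theorem stdAut_surjective (hy : UHyp σ q) :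
    Function.Surjective
      (fun p : Kˣ × (K ≃+* K) × FixHom σ => stdAut hσ hy p.1 p.2.1 p.2.2) := by
  intro α
  obtain ⟨μ, τ, f, hf, h⟩ := aut_form hy.tr α hy.pow
  refine ⟨⟨μ, τ, ⟨f, hf⟩⟩, ?_⟩
  ext x
  · rw [(h x).1]
    rfl
  · rw [(h x).2]
    rfl

theorem card_aut (hy : UHyp σ q) :
    Nat.card (UM σ hσ ≃* UM σ hσ) =
      Nat.card Kˣ * (Nat.card (K ≃+* K) * Nat.card (FixHom σ)) := by
  rw [← Nat.card_prod, ← Nat.card_prod]
  exact (Nat.card_congr (Equiv.ofBijective _ ⟨stdAut_injective hy, stdAut_surjective hy⟩)).symm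

/-! ### counting the maps into the fixed field -/

omit [CharP K 2] [Finite K] in
theorem finrank_zmod2_module {V : Type*} [AddCommGroup V] [Module (ZMod 2) V] [Finite V] (m : ℕ)
    (hcard : Nat.card V = 2 ^ m) : Module.finrank (ZMod 2) V = m := by
  have h := Module.natCard_eq_pow_finrank (K := ZMod 2) (V := V)
  rw [hcard, Nat.card_zmod] at h
  exact (Nat.pow_right_injective (le_refl 2) h).symm

omit [CharP K 2] [Finite K] in
theorem card_addHom_sub {V : Type*} [AddCommGroup V] [Finite V] (h2 : ∀ x : V, 2 • x = 0)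
    (k : AddSubgroup V) (m : ℕ) (hV : Nat.card V = 2 ^ m) :
    Nat.card (V →+ k) = (Nat.card k) ^ m := by
  letI : Module (ZMod 2) V := AddCommGroup.zmodModule h2
  letI : Module (ZMod 2) k := AddCommGroup.zmodModule (fun x => Subtype.ext (by
    have := h2 x.1
    simpa using this))
  have hfr := finrank_zmod2_module (V := V) m hV
  let b := Module.finBasis (ZMod 2) V
  have e1 : (V →+ k) ≃ (V →ₗ[ZMod 2] k) := (AddMonoidHom.toZModLinearMapEquiv 2).toEquiv
  have e2 : (Fin (Module.finrank (ZMod 2) V) → k) ≃ (V →ₗ[ZMod 2] k) := (b.constr ℕ).toEquiv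
  rw [Nat.card_congr (e1.trans e2.symm), Nat.card_fun, Nat.card_fin, hfr]

/-- the fixed points as an additive subgroup -/
def fixAdd (σ : K →+* K) : AddSubgroup K where
  carrier := {c | σ c = c}
  add_mem' := by
    intro a b ha hb
    change σ (a + b) = a + b
    rw [map_add, ha, hb]
  zero_mem' := map_zero σ
  neg_mem' := by
    intro a ha
    change σ (-a) = -a
    rw [map_neg, ha]

omit [CharP K 2] [Finite K] in
lemma mem_fixAdd (c : K) : c ∈ fixAdd σ ↔ σ c = c := Iff.rfl

/-- maps into the fixed field, as maps into the subgroup of fixed points -/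
def fixHomEquiv (σ : K →+* K) : FixHom σ ≃ (K →+ fixAdd σ) where
  toFun f := f.1.codRestrict (fixAdd σ) f.2
  invFun g := ⟨(fixAdd σ).subtype.comp g, fun b => (g b).2⟩
  left_inv f := by
    apply Subtype.ext
    ext b
    rfl
  right_inv g := by
    ext b
    rfl

theorem card_FixHom (m n : ℕ) (hK : Nat.card K = 2 ^ m)
    (hk : Nat.card {c : K // σ c = c} = 2 ^ n) : Nat.card (FixHom σ) = 2 ^ (n * m) := by
  have h2 : ∀ x : K, 2 • x = 0 := by
    intro x
    rw [two_nsmul]
    exact CharTwo.add_self_eq_zero x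
  rw [Nat.card_congr (fixHomEquiv σ), card_addHom_sub h2 (fixAdd σ) m hK]
  have : Nat.card (fixAdd σ) = 2 ^ n := by
    rw [← hk]
    rfl
  rw [this, ← pow_mul]

end Cfsg.Agent.Helper39.UAut
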