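import Mathlib
import Cfsg.Prelude.Def_Transfer
import Cfsg.Prelude.Def_Solvable
import Cfsg.Agent.Lib.Helper39.UAutC
import Cfsg.Agent.Lib.Helper39.SzAutU4
import Cfsg.Agent.Lib.Helper48.Cores

/-!
# The `2`-core of the automorphism group of the unitary model group
-/

set_option autoImplicit false

namespace Cfsg.Agent.Helper39.UAut

open Cfsg.Agent.Helper63.SuzModel

variable {K : Type*} [Field K] [CharP K 2] {σ : K →+* K} {hσ : ∀ x, σ (σ x) = x} {q : ℕ}

/-- the central automorphisms -/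
def centralAut (σ : K →+* K) (hσ : ∀ x, σ (σ x) = x) : Subgroup (UM σ hσ ≃* UM σ hσ) where
  carrier := {α | ∀ x, (α x).b = x.b}
  mul_mem' := by
    intro α β hα hβ x
    change (α (β x)).b = x.b
    rw [hα, hβ]
  one_mem' := fun x => rfl
  inv_mem' := by
    intro α hα x
    have := hα (α⁻¹ x)
    rw [← this]
    change (α (α.symm x)).b = x.b
    rw [MulEquiv.apply_symm_apply]

lemma mem_centralAut (α : UM σ hσ ≃* UM σ hσ) :
    α ∈ centralAut σ hσ ↔ ∀ x, (α x).b = x.b := Iff.rfl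

theorem centralAut_normal : (centralAut σ hσ).Normal := by
  constructor
  intro α hα g x
  change (g (α (g⁻¹ x))).b = x.b
  rw [apply_b_congr g (hα (g⁻¹ x))]
  change (g (g.symm x)).b = x.b
  rw [MulEquiv.apply_symm_apply]

variable [Finite K]

/-- the central automorphism attached to a map into the fixed field -/
noncomputable def cenAut (hσ : ∀ x, σ (σ x) = x) (hy : UHyp σ q) (f : FixHom σ) :
    UM σ hσ ≃* UM σ hσ :=
  stdAut hσ hy 1 (RingEquiv.refl K) f

lemma cenAut_b (hy : UHyp σ q) (f : FixHom σ) (x : UM σ hσ) : (cenAut hσ hy f x).b = x.b := by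
  unfold cenAut
  rw [stdAut_b]
  simp

lemma cenAut_c (hy : UHyp σ q) (f : FixHom σ) (x : UM σ hσ) :
    (cenAut hσ hy f x).c = x.c + f.1 x.b := by
  unfold cenAut
  rw [stdAut_c]
  simp [Nm_one]

lemma cenAut_mem (hy : UHyp σ q) (f : FixHom σ) : cenAut hσ hy f ∈ centralAut σ hσ :=
  fun x => cenAut_b hy f x

theorem exists_cenAut (hy : UHyp σ q) {α : UM σ hσ ≃* UM σ hσ} (hα : α ∈ centralAut σ hσ) :
    ∃ f : FixHom σ, α = cenAut hσ hy f := by
  obtain ⟨μ, τ, f, hf, h⟩ := aut_form hy.tr α hy.pow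
  have hA : ∀ a : K, (μ : K) * τ a = a := by
    intro a
    have := (h (lift hy.tr hσ a)).1
    rw [hα, lift_b] at this
    exact this.symm
  have hμ : (μ : K) = 1 := by
    have := hA 1
    rwa [map_one, mul_one] at this
  have hτ : ∀ a, τ a = a := by
    intro a
    have := hA a
    rwa [hμ, one_mul] at this
  refine ⟨⟨f, hf⟩, ?_⟩
  ext x
  · rw [cenAut_b, hα]
  · rw [cenAut_c, (h x).2, hμ, hτ, Nm_one, one_mul]

theorem cenAut_mul (hy : UHyp σ q) (f g : FixHom σ) :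
    cenAut hσ hy f * cenAut hσ hy g = cenAut hσ hy (FixHom.add f g) := by
  ext x
  · change (cenAut hσ hy f (cenAut hσ hy g x)).b = _
    rw [cenAut_b, cenAut_b, cenAut_b]
  · change (cenAut hσ hy f (cenAut hσ hy g x)).c = _
    rw [cenAut_c, cenAut_c, cenAut_b, cenAut_c]
    change _ = x.c + (f.1 x.b + g.1 x.b)
    ring

theorem cenAut_sq (hy : UHyp σ q) (f : FixHom σ) : cenAut hσ hy f ^ 2 = 1 := by
  have h2 : (2 : K) = 0 := CharTwo.two_eq_zero
  rw [sq, cenAut_mul]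
  ext x
  · rw [cenAut_b]
    rfl
  · rw [cenAut_c]
    change x.c + (f.1 x.b + f.1 x.b) = x.c
    linear_combination f.1 x.b * h2

theorem centralAut_elementary (hy : UHyp σ q) :
    Cfsg.IsElementaryAbelian 2 (centralAut σ hσ) := by
  refine ⟨⟨⟨?_⟩⟩, ?_⟩
  · rintro ⟨α, hα⟩ ⟨β, hβ⟩
    obtain ⟨f, rfl⟩ := exists_cenAut hy hα
    obtain ⟨g, rfl⟩ := exists_cenAut hy hβ
    apply Subtype.ext
    change cenAut hσ hy f * cenAut hσ hy g = cenAut hσ hy g * cenAut hσ hy f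
    rw [cenAut_mul, cenAut_mul]
    congr 1
    apply Subtype.ext
    change f.1 + g.1 = g.1 + f.1
    rw [add_comm]
  · intro α hα
    obtain ⟨f, rfl⟩ := exists_cenAut hy hα
    exact cenAut_sq hy f

theorem card_centralAut (hy : UHyp σ q) :
    Nat.card (centralAut σ hσ) = Nat.card (FixHom σ) := by
  symm
  apply Nat.card_congr
  refine Equiv.ofBijective
    (fun f => (⟨cenAut hσ hy f, cenAut_mem hy f⟩ : centralAut σ hσ)) ⟨?_, ?_⟩
  · intro f g h
    have h1 : cenAut hσ hy f = cenAut hσ hy g := congrArg Subtype.val h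
    have h2 := stdAut_injective (hσ := hσ) hy
      (a₁ := ((1 : Kˣ), RingEquiv.refl K, f)) (a₂ := ((1 : Kˣ), RingEquiv.refl K, g)) h1
    simpa using h2
  · rintro ⟨α, hα⟩
    obtain ⟨f, rfl⟩ := exists_cenAut hy hα
    exact ⟨f, rfl⟩

instance : Finite (UM σ hσ ≃* UM σ hσ) :=
  Finite.of_injective (fun α : UM σ hσ ≃* UM σ hσ => (α : UM σ hσ → UM σ hσ))
    DFunLike.coe_injective

omit [Finite K] in
lemma pow_two_pow_eq_one {c : K} {k : ℕ} (h : c ^ 2 ^ k = 1) : c = 1 := by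
  induction k with
  | zero => simpa using h
  | succ k ih =>
    apply ih
    rw [pow_succ, pow_mul] at h
    have h2 : (2 : K) = 0 := CharTwo.two_eq_zero
    have : (c ^ 2 ^ k - 1) ^ 2 = 0 := by linear_combination h - (c ^ 2 ^ k) * h2 + h2
    exact sub_eq_zero.mp (pow_eq_zero_iff (two_ne_zero) |>.mp this)

/-- an element of 2-power order acting on `b` by a scalar acts trivially on `b` -/
lemma scalar_eq_one {γ : UM σ hσ ≃* UM σ hσ} {c : K} (hγ : ∀ x, (γ x).b = c * x.b) {k : ℕ}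
    (hk : γ ^ 2 ^ k = 1) (hy : UHyp σ q) : c = 1 := by
  have hpow : ∀ j : ℕ, ∀ x, ((γ ^ j) x).b = c ^ j * x.b := by
    intro j
    induction j with
    | zero => intro x; simp
    | succ j ih =>
      intro x
      rw [pow_succ]
      change ((γ ^ j) (γ x)).b = _
      rw [ih, hγ]
      ring
  have h1 := hpow (2 ^ k) (lift hy.tr hσ 1)
  rw [hk, lift_b, mul_one] at h1
  change (lift hy.tr hσ 1).b = _ at h1
  rw [lift_b] at h1
  exact pow_two_pow_eq_one h1.symm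

theorem pCore_le_centralAut (hy : UHyp σ q) :
    Cfsg.pCore 2 (UM σ hσ ≃* UM σ hσ) ≤ centralAut σ hσ := by
  have hP : IsPGroup 2 (Cfsg.pCore 2 (UM σ hσ ≃* UM σ hσ)) :=
    Cfsg.Agent.Helper48.isPGroup_pCore 2 _
  have hPn : (Cfsg.pCore 2 (UM σ hσ ≃* UM σ hσ)).Normal :=
    Subgroup.sSup_normal _ (fun _ h => h.1)
  intro α hα
  obtain ⟨μ, τ, f, hf, h⟩ := aut_form hy.tr α hy.pow
  have horder : ∀ γ ∈ Cfsg.pCore 2 (UM σ hσ ≃* UM σ hσ), ∃ k : ℕ, γ ^ 2 ^ k = 1 := by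
    intro γ hγ
    obtain ⟨k, hk⟩ := hP ⟨γ, hγ⟩
    exact ⟨k, by simpa using congrArg Subtype.val hk⟩
  -- τ is trivial
  have hτ : ∀ ν : Kˣ, τ (ν : K) = ν := by
    intro ν
    set s := stdAut hσ hy ν (RingEquiv.refl K) (FixHom.zero σ) with hs
    have hγmem : α * s * α⁻¹ * s⁻¹ ∈ Cfsg.pCore 2 (UM σ hσ ≃* UM σ hσ) := by
      have h1 : s * α⁻¹ * s⁻¹ ∈ Cfsg.pCore 2 (UM σ hσ ≃* UM σ hσ) :=
        hPn.conj_mem _ (inv_mem hα) s
      have h2 := mul_mem hα h1
      have e : α * (s * α⁻¹ * s⁻¹) = α * s * α⁻¹ * s⁻¹ := by group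
      rwa [e] at h2
    obtain ⟨k, hk⟩ := horder _ hγmem
    have hsb : ∀ x, (s x).b = ν * x.b := by
      intro x
      rw [hs, stdAut_b]
      rfl
    have hsinv : ∀ x, (s⁻¹ x).b = (ν : K)⁻¹ * x.b := by
      intro x
      have := hsb (s⁻¹ x)
      have e : s (s⁻¹ x) = x := MulEquiv.apply_symm_apply s x
      rw [e] at this
      rw [this]
      field_simp
    have hαinv : ∀ x, (μ : K) * τ (α⁻¹ x).b = x.b := by
      intro x
      have := (h (α⁻¹ x)).1
      have e : α (α⁻¹ x) = x := MulEquiv.apply_symm_apply α x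
      rw [e] at this
      exact this.symm
    have hγ : ∀ x, ((α * s * α⁻¹ * s⁻¹) x).b = (τ (ν : K) * (ν : K)⁻¹) * x.b := by
      intro x
      change (α (s (α⁻¹ (s⁻¹ x)))).b = _
      rw [(h _).1, hsb, map_mul]
      have := hαinv (s⁻¹ x)
      rw [hsinv] at this
      linear_combination (τ (ν : K)) * this
    have hc := scalar_eq_one hγ hk hy
    have hν0 : (ν : K) ≠ 0 := ν.ne_zero
    field_simp at hc
    exact hc
  have hτ' : ∀ a : K, τ a = a := by
    intro a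
    by_cases ha : a = 0
    · rw [ha, map_zero]
    · exact hτ (Units.mk0 a ha)
  obtain ⟨k, hk⟩ := horder α hα
  have hαb : ∀ x, (α x).b = (μ : K) * x.b := by
    intro x
    rw [(h x).1, hτ']
  have hμ := scalar_eq_one hαb hk hy
  intro x
  rw [hαb, hμ, one_mul]

theorem UM_main (hy : UHyp σ q) (n : ℕ) (hK : Nat.card K = 2 ^ (2 * n))
    (hk : Nat.card {c : K // σ c = c} = 2 ^ n) :
    Cfsg.IsElementaryAbelian 2 (Cfsg.pCore 2 (UM σ hσ ≃* UM σ hσ)) ∧
      Nat.card ↥(Cfsg.pCore 2 (UM σ hσ ≃* UM σ hσ)) = 2 ^ (2 * n ^ 2) ∧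
      Nat.card (UM σ hσ ≃* UM σ hσ) = 2 ^ (2 * n ^ 2) * (2 * n * ((2 ^ n) ^ 2 - 1)) := by
  have h2 : (2 : K) = 0 := CharTwo.two_eq_zero
  have hcardF : Nat.card (FixHom σ) = 2 ^ (2 * n ^ 2) := by
    rw [card_FixHom (2 * n) n hK hk]
    congr 1
    ring
  have hcardAut : Nat.card (UM σ hσ ≃* UM σ hσ) =
      2 ^ (2 * n ^ 2) * (2 * n * ((2 ^ n) ^ 2 - 1)) := by
    rw [card_aut hy, Nat.card_units, hK, Cfsg.Agent.Helper39.SzAutU.card_ringAut h2 _ hK, hcardF,
      ← pow_mul, mul_comm n 2]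
    ring
  have hcardC : Nat.card (centralAut σ hσ) = 2 ^ (2 * n ^ 2) := by
    rw [card_centralAut hy, hcardF]
  have hCn := centralAut_normal (σ := σ) (hσ := hσ)
  have hCp : IsPGroup 2 (centralAut σ hσ) := IsPGroup.of_card hcardC
  have hle : centralAut σ hσ ≤ Cfsg.pCore 2 (UM σ hσ ≃* UM σ hσ) :=
    Cfsg.Agent.Helper48.le_pCore hCn hCp
  have heq : centralAut σ hσ = Cfsg.pCore 2 (UM σ hσ ≃* UM σ hσ) :=
    le_antisymm hle (pCore_le_centralAut hy)
  rw [← heq]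
  exact ⟨centralAut_elementary hy, hcardC, hcardAut⟩

end Cfsg.Agent.Helper39.UAut
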