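import Mathlib
import Cfsg.Agent.Lib.Helper63.SU3Unip
import Cfsg.Agent.Lib.Helper39.UAutD

/-!
# The Sylow 2-subgroups of `SU₃(2ⁿ)` are unitary model groups
-/

set_option autoImplicit false

namespace Cfsg.Agent.Helper39.UAut

open Cfsg.Agent.Helper63.SuzModel Cfsg.Agent.Helper63.SU3

variable {K : Type*} [Field K] [Fintype K] {q : ℕ} (hK : Fintype.card K = q ^ 2)

theorem uHyp_frobQ : UHyp (frobQ hK) q where
  tr := fun _ hs => exists_trace_eq hK hs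
  pow := fun _ => rfl

include hK in
theorem charP_two_of_card {n : ℕ} (hq : q = 2 ^ n) (hn : 1 ≤ n) : CharP K 2 := by
  obtain ⟨p, hp, hc, j, hj⟩ := Cfsg.Agent.Helper19.herm_q_eq_pow hK
  have hp2 : p = 2 := by
    have h1 : 2 ∣ p ^ j := by rw [← hj, hq]; exact dvd_pow_self 2 (by omega)
    exact ((Nat.prime_dvd_prime_iff_eq Nat.prime_two hp.out).mp
      (Nat.prime_two.dvd_of_dvd_pow h1)).symm
  subst hp2
  exact hc

theorem sylow_SU3_equiv [CharP K 2] {n : ℕ} (hq : q = 2 ^ n) (hn : 1 ≤ n)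
    (P : Sylow 2 (Cfsg.SU 3 K q)) :
    Nonempty (↥(P : Subgroup (Cfsg.SU 3 K q)) ≃* UM (frobQ hK) (frobQ_frobQ hK)) := by
  obtain ⟨v, w, v', hyp, P0, hP0⟩ := exists_sylow_eq_Uv hK hq hn
  have hcard : Nat.card (Uv (q := q) v w) = q ^ 3 := by
    rw [← hP0]; exact card_sylow_SU3 hK hq hn P0
  let e1 : Uv (q := q) v w ≃* UM (frobQ hK) (frobQ_frobQ hK) :=
    MulEquiv.ofBijective hyp.toUM (hyp.toUM_bijective hcard)
  let e2 : (P0 : Subgroup (Cfsg.SU 3 K q)) ≃* Uv (q := q) v w := MulEquiv.subgroupCongr hP0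
  exact ⟨(Sylow.equiv P P0).trans (e2.trans e1)⟩

/-- the structure of the automorphism group of the model group over the field with `4ⁿ` elements -/
theorem UM_main_frobQ [CharP K 2] {n : ℕ} (hq : q = 2 ^ n) :
    Cfsg.IsElementaryAbelian 2
        (Cfsg.pCore 2 (UM (frobQ hK) (frobQ_frobQ hK) ≃* UM (frobQ hK) (frobQ_frobQ hK))) ∧
      Nat.card ↥(Cfsg.pCore 2
        (UM (frobQ hK) (frobQ_frobQ hK) ≃* UM (frobQ hK) (frobQ_frobQ hK))) = 2 ^ (2 * n ^ 2) ∧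
      Nat.card (UM (frobQ hK) (frobQ_frobQ hK) ≃* UM (frobQ hK) (frobQ_frobQ hK)) =
        2 ^ (2 * n ^ 2) * (2 * n * ((2 ^ n) ^ 2 - 1)) := by
  apply UM_main (uHyp_frobQ hK) n
  · rw [Nat.card_eq_fintype_card, hK, hq, ← pow_mul, mul_comm]
  · rw [card_fixed hK, hq]

end Cfsg.Agent.Helper39.UAut
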