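import Mathlib
import Cfsg.Agent.Lib.Helper63.SU3Unip
import Cfsg.Agent.Lib.Helper63.SuzModel
import Cfsg.Agent.Lib.Helper39.UAutE
import Cfsg.Agent.Lib.Helper39.T64A
import Cfsg.Agent.Lib.Helper39.T64B
import Cfsg.Agent.Lib.Helper39.P2F

/-!
# The Sylow `2`-subgroup of `U₃(4)` as a group of order `64` with central involutions

For S2933: the model group over the field of `16` elements is nonabelian of order `64`, has a
fixed-point-free automorphism of order three, and all its involutions are central.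
-/

set_option autoImplicit false
set_option linter.unusedSectionVars false
set_option linter.style.haveILetI false

namespace Cfsg.Agent.Helper39.P2H

open Subgroup Cfsg.Agent.Helper63.SuzModel Cfsg.Agent.Helper63.SU3 Cfsg.Agent.Helper39.T64A
  Cfsg.Agent.Helper39.T64B

variable {K : Type*} [Field K] [Fintype K] (hK : Fintype.card K = 4 ^ 2)

lemma htr : ∀ s : K, frobQ hK s = s → ∃ x : K, x + frobQ hK x = s :=
  fun _ hs => exists_trace_eq hK hs

include hK in
lemma exists_omega : ∃ ω : Kˣ, orderOf ω = 3 := by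
  classical
  haveI : Fact (Nat.Prime 3) := ⟨by norm_num⟩
  have hcard : Nat.card Kˣ = 15 := by
    rw [Nat.card_eq_fintype_card, Fintype.card_units, hK]
    norm_num
  exact exists_prime_orderOf_dvd_card' 3 (by rw [hcard]; norm_num)

/-- the model group with the torus element of order three -/
theorem setup_UM [CharP K 2] (ω : Kˣ) (hω : orderOf ω = 3) :
    Setup (Phi ω : MulAut (UM (frobQ hK) (frobQ_frobQ hK))) := by
  haveI : Fact (Nat.Prime 2) := ⟨Nat.prime_two⟩
  have hω3 : ω ^ 3 = 1 := by rw [← hω]; exact pow_orderOf_eq_one ω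
  have hω1 : (ω : K) ≠ 1 := by
    intro h
    have : ω = 1 := Units.ext h
    rw [this, orderOf_one] at hω
    omega
  have hω2 : (ω : K) ^ 2 ≠ 1 := by
    intro h
    have h1 : ω ^ 2 = 1 := Units.ext (by rw [Units.val_pow_eq_pow_val, h, Units.val_one])
    have := orderOf_dvd_of_pow_eq_one h1
    rw [hω] at this
    omega
  have hω3' : (ω : K) ^ 3 = 1 := by
    rw [← Units.val_pow_eq_pow_val, hω3, Units.val_one]
  refine ⟨?_, ?_, ?_, ?_⟩
  · obtain ⟨S⟩ := (inferInstance : Nonempty (Sylow 2 (Cfsg.PSU 3 K 4)))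
    have := (sylow_PSU3_mulEquiv hK (p := 2) (n := 2) (by norm_num) (by norm_num) S).1
    rw [this]
    norm_num
  · obtain ⟨x, hx⟩ := exists_b (hσ := frobQ_frobQ hK) (htr hK) 1
    have hxZ : x ∉ center (UM (frobQ hK) (frobQ_frobQ hK)) := by
      rw [mem_center_iff (htr hK), hx]
      exact one_ne_zero
    rw [Subgroup.mem_center_iff] at hxZ
    push Not at hxZ
    obtain ⟨g, hg⟩ := hxZ
    exact ⟨g, x, hg⟩
  · intro x
    have h1 : (Phi ω) ((Phi ω) ((Phi ω) x)) = (Phi (ω ^ 3)) x := by
      rw [pow_succ, pow_two, map_mul, map_mul]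
      rfl
    rw [h1, hω3, map_one]
    rfl
  · intro x hx
    rw [Phi_apply] at hx
    have hb := congrArg UM.b hx
    have hc := congrArg UM.c hx
    rw [phiHom_b] at hb
    rw [phiHom_c, frobQ_apply] at hc
    have hb0 : x.b = 0 := by
      have : ((ω : K) - 1) * x.b = 0 := by linear_combination hb
      rcases mul_eq_zero.mp this with h | h
      · exact absurd (sub_eq_zero.mp h) hω1
      · exact h
    have hc0 : x.c = 0 := by
      have h5 : (ω : K) * (ω : K) ^ 4 = (ω : K) ^ 2 := by
        calc (ω : K) * (ω : K) ^ 4 = (ω : K) ^ 3 * (ω : K) ^ 2 := by ring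
          _ = (ω : K) ^ 2 := by rw [hω3', one_mul]
      rw [h5] at hc
      have : ((ω : K) ^ 2 - 1) * x.c = 0 := by linear_combination hc
      rcases mul_eq_zero.mp this with h | h
      · exact absurd (sub_eq_zero.mp h) hω2
      · exact h
    exact (eq_one_iff x).mpr ⟨hb0, hc0⟩

include hK in
/-- a nonabelian group of order `64` with a fixed-point-free automorphism of order three and
central involutions is isomorphic to every Sylow `2`-subgroup of `PSU₃(4)` -/
theorem iso_sylow_PSU {T : Type*} [Group T] [Finite T] {ρ : MulAut T} (S : Setup ρ)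
    (hani : ∀ x : T, x * x = 1 → x ∈ center T) (P : Sylow 2 (Cfsg.PSU 3 K 4)) :
    Nonempty (T ≃* ↥(P : Subgroup (Cfsg.PSU 3 K 4))) := by
  haveI : Fact (Nat.Prime 2) := ⟨Nat.prime_two⟩
  haveI : CharP K 2 := Cfsg.Agent.Helper39.UAut.charP_two_of_card hK (n := 2) (by norm_num)
    (by norm_num)
  obtain ⟨ω, hω⟩ := exists_omega hK
  obtain ⟨-, ⟨e1⟩⟩ := sylow_PSU3_mulEquiv hK (p := 2) (n := 2) (by norm_num) (by norm_num) P
  obtain ⟨e2⟩ := P2F.iso_of_aniso S (setup_UM hK ω hω) hani
    (fun x hx => mem_center_of_sq (htr hK) x hx)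
  exact ⟨e2.trans e1.symm⟩

end Cfsg.Agent.Helper39.P2H
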