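import Cfsg.Agent.Lib.Helper39.StbAsm
import Cfsg.Agent.Lib.Helper9.Stb2F1
import Cfsg.Agent.Lib.Helper9.Stb2DC
import Cfsg.Agent.Lib.Helper59.Stb2R
import Cfsg.Agent.Lib.Helper59.Stb2M
import Cfsg.Agent.Lib.Helper22.Stb2D3
import Cfsg.Agent.Lib.Helper22.Stb2P
import Cfsg.Agent.Lib.Helper58.Stb2D1
import Cfsg.Agent.Lib.Helper58.Stb2D2
import Cfsg.Agent.Lib.Helper68.Stb2X1

/-!
# The Steinberg character on `B`: abstract (B,N)-pair statement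
-/

set_option autoImplicit false
set_option linter.unusedSectionVars false

namespace Cfsg.Agent.Helper39.Stb

open Cfsg Cfsg.Agent.Helper6 Cfsg.Agent.Helper6.Weyl Cfsg.Agent.Helper59.Poincare Matrix
open Cfsg.Agent.Helper9.Stb2 Cfsg.Agent.Helper59.Stb2 Cfsg.Agent.Helper22.Stb2 Cfsg.Agent.Helper58.Stb2
open Cfsg.Agent.Helper68.Stb2

/-- the number of fixed points of `b ∈ A` on the cosets of `A ∩ nAn⁻¹` in `A` -/
noncomputable def fixA {G : Type*} [Group G] (A : Subgroup G) (n : G) (b : ↥A) : ℕ :=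
  Nat.card (MulAction.fixedBy (↥A ⧸ (A ⊓ A.map (MulAut.conj n).toMonoidHom).subgroupOf A) b)

theorem mem_map_conj_iff {G : Type*} [Group G] (A : Subgroup G) (n c : G) :
    c ∈ A.map (MulAut.conj n).toMonoidHom ↔ n⁻¹ * c * n ∈ A := by
  rw [Subgroup.mem_map]
  constructor
  · rintro ⟨a, ha, rfl⟩
    have : n⁻¹ * ((MulAut.conj n).toMonoidHom a) * n = a := by
      simp [MulAut.conj_apply, mul_assoc]
    rw [this]; exact ha
  · intro h
    refine ⟨n⁻¹ * c * n, h, ?_⟩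
    simp [MulAut.conj_apply, mul_assoc]

theorem fixA_mul_card {G : Type*} [Group G] [Finite G] (A : Subgroup G) (n : G) (b : ↥A) :
    fixA A n b * Nat.card {c : G // c ∈ A ∧ n⁻¹ * c * n ∈ A} =
      Nat.card {c : G // c ∈ A ∧ n⁻¹ * (c⁻¹ * (b : G) * c) * n ∈ A} := by
  set K' : Subgroup G := A ⊓ A.map (MulAut.conj n).toMonoidHom with hK'
  have h1 := card_fixedBy_mul_card (K'.subgroupOf A) b
  have h2 : Nat.card ↥(K'.subgroupOf A) = Nat.card {c : G // c ∈ A ∧ n⁻¹ * c * n ∈ A} := by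
    refine Nat.card_congr
      { toFun := fun x => ⟨x.1.1, x.1.2, (mem_map_conj_iff A n _).1 (Subgroup.mem_subgroupOf.1 x.2).2⟩
        invFun := fun c => ⟨⟨c.1, c.2.1⟩,
          Subgroup.mem_subgroupOf.2 ⟨c.2.1, (mem_map_conj_iff A n _).2 c.2.2⟩⟩
        left_inv := fun x => rfl
        right_inv := fun c => rfl }
  have h3 : Nat.card {x : ↥A // x⁻¹ * b * x ∈ K'.subgroupOf A} =
      Nat.card {c : G // c ∈ A ∧ n⁻¹ * (c⁻¹ * (b : G) * c) * n ∈ A} := by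
    refine Nat.card_congr
      { toFun := fun x => ⟨x.1.1, x.1.2, (mem_map_conj_iff A n _).1 (Subgroup.mem_subgroupOf.1 x.2).2⟩
        invFun := fun c => ⟨⟨c.1, c.2.1⟩, Subgroup.mem_subgroupOf.2
          ⟨A.mul_mem (A.mul_mem (A.inv_mem c.2.1) b.2) c.2.1, (mem_map_conj_iff A n _).2 c.2.2⟩⟩
        left_inv := fun x => rfl
        right_inv := fun c => rfl }
  unfold fixA
  rw [← h2, ← h3]
  exact h1

section Group

variable {G : Type*} [Group G] (P : Cfsg.BNPair G) {l : ℕ} (V : VDatum l)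
  (ψ : P.N →* V.Wf)
  (hker : ∀ n : P.N, ψ n = 1 ↔ (n : G) ∈ P.B)
  (hS : ∀ s (hs : s ∈ P.S), ∃ i, ψ ⟨s, P.subset hs⟩ = V.σ i)
  (hS' : ∀ i, ∃ s, ∃ hs : s ∈ P.S, ψ ⟨s, P.subset hs⟩ = V.σ i)
variable (J : Fin l → Prop) [DecidablePred J] (T : Set G) (hT : T ⊆ P.S)
  (hT1 : ∀ s (hs : s ∈ T), ∃ i, J i ∧ ψ ⟨s, P.subset (hT hs)⟩ = V.σ i)
  (hT2 : ∀ i, J i → ∃ s, ∃ hs : s ∈ T, ψ ⟨s, P.subset (hT hs)⟩ = V.σ i)
variable [Finite G]

include hker hS hS' hT1 hT2 in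
/-- the fixed points of `b ∈ B` on `G / P_T` -/
theorem card_fixedBy_parabolic (ν : V.Wf → G) (hν : ∀ w, ν w ∈ P.N)
    (hψν : ∀ w, ψ ⟨ν w, hν w⟩ = w) (b : ↥P.B) :
    Nat.card (MulAction.fixedBy (G ⧸ P.parabolic T) (b : G)) =
      ∑ᶠ u : {u : V.Wf // IsMin V J ((u : V.Wf) : (Mat l)ˣ)}, fixA P.B (ν (u : V.Wf)) b := by
  classical
  have hM : ∀ {n : G} (hn : n ∈ P.N), IsMin V J ((ψ ⟨n, hn⟩ : V.Wf) : (Mat l)ˣ) →
      ∀ {k : G}, k ∈ Subgroup.closure T → ∀ {x y : G}, x ∈ C P n → y ∈ C P k →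
        x * y ∈ C P (n * k) :=
    fun hn hmin _ hk _ _ hx hy =>
      C_mul_mem_min P V ψ hker hS hS' J T hT hT1 hT2
        (fun hs hn hle hx hy => C_mul_mem_right P hs hn hle hx hy) hn hmin hk hx hy
  have hBK : P.B ≤ P.parabolic T := le_sup_left
  have hpart := card_partition P V ψ hker J T
    (fun x => exists_min_doset P V ψ J T hT hT2 x)
    (fun hn hn' hmin hmin' _ _ _ _ hc hc' hp hp' h =>
      min_doset_unique P V ψ hker J T hT hT1 hM hn hn' hmin hmin' hc hc' hp hp' h)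
    ν hν hψν (fun x => x⁻¹ * (b : G) * x ∈ P.parabolic T)
  have hF := card_fixedBy_mul_card (P.parabolic T) (b : G)
  haveI := finite_Wf V
  haveI : Finite {u : V.Wf // IsMin V J ((u : V.Wf) : (Mat l)ˣ)} := Subtype.finite
  letI : Fintype {u : V.Wf // IsMin V J ((u : V.Wf) : (Mat l)ˣ)} := Fintype.ofFinite _
  have hKpos : 0 < Nat.card ↥(P.parabolic T) := Nat.card_pos
  have hterm : ∀ u : {u : V.Wf // IsMin V J ((u : V.Wf) : (Mat l)ˣ)},
      Nat.card {x : G // (∃ c ∈ P.B, ∃ p ∈ P.parabolic T, x = c * ν (u : V.Wf) * p) ∧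
        x⁻¹ * (b : G) * x ∈ P.parabolic T} =
        fixA P.B (ν (u : V.Wf)) b * Nat.card ↥(P.parabolic T) := by
    intro u
    have hmin : IsMin V J ((ψ ⟨ν (u : V.Wf), hν _⟩ : V.Wf) : (Mat l)ˣ) := by
      rw [hψν]; exact u.2
    have hstab : ∀ g ∈ P.B, (ν (u : V.Wf))⁻¹ * g * ν (u : V.Wf) ∈ P.parabolic T ↔
        (ν (u : V.Wf))⁻¹ * g * ν (u : V.Wf) ∈ P.B :=
      fun g hg => ⟨fun h => min_stab P V ψ J T hT hM (hν _) hmin hg h, fun h => hBK h⟩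
    have hDC := doset_fixed_count P.B (P.parabolic T) (ν (u : V.Wf)) (b : G) b.2
    have e1 : Nat.card {c : G // c ∈ P.B ∧ (ν (u : V.Wf))⁻¹ * c * ν (u : V.Wf) ∈ P.parabolic T} =
        Nat.card {c : G // c ∈ P.B ∧ (ν (u : V.Wf))⁻¹ * c * ν (u : V.Wf) ∈ P.B} := by
      apply Nat.card_congr
      apply Equiv.subtypeEquivRight
      intro c
      constructor
      · rintro ⟨h1, h2⟩; exact ⟨h1, (hstab c h1).1 h2⟩
      · rintro ⟨h1, h2⟩; exact ⟨h1, (hstab c h1).2 h2⟩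
    have e2 : Nat.card {c : G // c ∈ P.B ∧
          (ν (u : V.Wf))⁻¹ * (c⁻¹ * (b : G) * c) * ν (u : V.Wf) ∈ P.parabolic T} =
        Nat.card {c : G // c ∈ P.B ∧
          (ν (u : V.Wf))⁻¹ * (c⁻¹ * (b : G) * c) * ν (u : V.Wf) ∈ P.B} := by
      apply Nat.card_congr
      apply Equiv.subtypeEquivRight
      intro c
      constructor
      · rintro ⟨h1, h2⟩
        exact ⟨h1, (hstab _ (P.B.mul_mem (P.B.mul_mem (P.B.inv_mem h1) b.2) h1)).1 h2⟩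
      · rintro ⟨h1, h2⟩
        exact ⟨h1, (hstab _ (P.B.mul_mem (P.B.mul_mem (P.B.inv_mem h1) b.2) h1)).2 h2⟩
    have hA := fixA_mul_card P.B (ν (u : V.Wf)) b
    rw [e1, e2, ← hA] at hDC
    have hApos : 0 < Nat.card {c : G // c ∈ P.B ∧ (ν (u : V.Wf))⁻¹ * c * ν (u : V.Wf) ∈ P.B} := by
      haveI : Nonempty {c : G // c ∈ P.B ∧ (ν (u : V.Wf))⁻¹ * c * ν (u : V.Wf) ∈ P.B} :=
        ⟨⟨1, P.B.one_mem, by simp [P.B.one_mem]⟩⟩
      exact Nat.card_pos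
    have : Nat.card {x : G // (∃ c ∈ P.B, ∃ p ∈ P.parabolic T, x = c * ν (u : V.Wf) * p) ∧
        x⁻¹ * (b : G) * x ∈ P.parabolic T} *
          Nat.card {c : G // c ∈ P.B ∧ (ν (u : V.Wf))⁻¹ * c * ν (u : V.Wf) ∈ P.B} =
        fixA P.B (ν (u : V.Wf)) b * Nat.card ↥(P.parabolic T) *
          Nat.card {c : G // c ∈ P.B ∧ (ν (u : V.Wf))⁻¹ * c * ν (u : V.Wf) ∈ P.B} := by
      rw [hDC]; ring
    exact Nat.eq_of_mul_eq_mul_right hApos this
  rw [finsum_eq_sum_of_fintype] at hpart ⊢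
  rw [hpart, Finset.sum_congr rfl (fun u _ => hterm u), ← Finset.sum_mul] at hF
  exact Nat.eq_of_mul_eq_mul_right hKpos hF

end Group


section Alt

variable {G : Type*} [Group G] (P : Cfsg.BNPair G) {l : ℕ} (V : VDatum l)
  (ψ : P.N →* V.Wf)
  (hker : ∀ n : P.N, ψ n = 1 ↔ (n : G) ∈ P.B)
  (hS : ∀ s (hs : s ∈ P.S), ∃ i, ψ ⟨s, P.subset hs⟩ = V.σ i)
  (hS' : ∀ i, ∃ s, ∃ hs : s ∈ P.S, ψ ⟨s, P.subset hs⟩ = V.σ i)
variable [Finite G]

include hker hS hS' in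
/-- the alternating sum of the fixed-point numbers of `b ∈ B` on the `G / P_S` -/
theorem alt_fixed_sum (TS : Finset (Fin l) → Set G) (hTS : ∀ S, TS S ⊆ P.S)
    (hT1 : ∀ S, ∀ s (hs : s ∈ TS S), ∃ i, i ∈ S ∧ ψ ⟨s, P.subset (hTS S hs)⟩ = V.σ i)
    (hT2 : ∀ S, ∀ i, i ∈ S → ∃ s, ∃ hs : s ∈ TS S, ψ ⟨s, P.subset (hTS S hs)⟩ = V.σ i)
    (ν : V.Wf → G) (hν : ∀ w, ν w ∈ P.N) (hψν : ∀ w, ψ ⟨ν w, hν w⟩ = w) (b : ↥P.B)
    (u0 : V.Wf) (h0 : IsLongest V ((u0 : V.Wf) : (Mat l)ˣ)) :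
    ∑ S ∈ (Finset.univ : Finset (Fin l)).powerset, (-1 : ℤ) ^ S.card *
      (Nat.card (MulAction.fixedBy (G ⧸ P.parabolic (TS S)) (b : G)) : ℤ) =
      (fixA P.B (ν u0) b : ℤ) := by
  rw [← alt_sum_gen V (fun u => (fixA P.B (ν u) b : ℤ)) u0 h0]
  apply Finset.sum_congr rfl
  intro S _
  congr 1
  rw [card_fixedBy_parabolic P V ψ hker hS hS' (fun i => i ∈ S) (TS S) (hTS S) (hT1 S) (hT2 S)
    ν hν hψν b]
  haveI := finite_Wf V
  haveI : Finite {u : V.Wf // IsMin V (fun i => i ∈ S) ((u : V.Wf) : (Mat l)ˣ)} := Subtype.finite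
  letI : Fintype {u : V.Wf // IsMin V (fun i => i ∈ S) ((u : V.Wf) : (Mat l)ˣ)} :=
    Fintype.ofFinite _
  rw [finsum_eq_sum_of_fintype, finsum_eq_sum_of_fintype]
  push_cast
  rfl

/-- `|B n B| * |B ∩ n B n⁻¹| = |B|²` -/
theorem card_C_mul_card_inf (n : G) :
    Nat.card (C P n) * Nat.card {c : G // c ∈ P.B ∧ n⁻¹ * c * n ∈ P.B} =
      Nat.card P.B * Nat.card P.B := by
  have h := doset_fixed_count P.B P.B n 1 P.B.one_mem
  have e1 : Nat.card {x : G // (∃ c ∈ P.B, ∃ p ∈ P.B, x = c * n * p) ∧ x⁻¹ * 1 * x ∈ P.B} =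
      Nat.card (C P n) := by
    apply Nat.card_congr
    apply Equiv.subtypeEquivRight
    intro x
    rw [mem_C]
    constructor
    · rintro ⟨h1, _⟩; exact h1
    · intro h1; exact ⟨h1, by simp [P.B.one_mem]⟩
  have e2 : Nat.card {c : G // c ∈ P.B ∧ n⁻¹ * (c⁻¹ * 1 * c) * n ∈ P.B} = Nat.card P.B := by
    apply Nat.card_congr
    apply Equiv.subtypeEquivRight
    intro c
    constructor
    · rintro ⟨h1, _⟩; exact h1
    · intro h1; exact ⟨h1, by simp [P.B.one_mem]⟩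
  rw [e1, e2] at h
  exact h

include hker hS hS' in
/-- the order of `B ∩ n₀ B n₀⁻¹` for the longest element -/
theorem card_inf_conj_longest {q : ℕ} (hq : ∀ s ∈ P.S, Nat.card (C P s) = q * Nat.card P.B)
    (n0 : P.N) (h0 : IsLongest V ((ψ n0 : V.Wf) : (Mat l)ˣ)) :
    Nat.card {c : G // c ∈ P.B ∧ (n0 : G)⁻¹ * c * (n0 : G) ∈ P.B} * q ^ (V.posJ VDatum.allJ).card =
      Nat.card P.B := by
  have h1 := card_C_mul_card_inf P (n0 : G)
  have hlen : len P (n0 : G) = (V.posJ VDatum.allJ).card := by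
    rw [Cfsg.Agent.Helper59.WeylGlue.len_eq_nJ P V ψ hker hS hS' n0]
    exact Cfsg.Agent.Helper95.Stb.nJ_longest V (ψ n0).2 h0
  rw [Cfsg.Agent.Helper59.BNCount.card_C P hq _ (n0 : G) n0.2 hlen] at h1
  have hBpos : 0 < Nat.card P.B := Nat.card_pos
  have : Nat.card {c : G // c ∈ P.B ∧ (n0 : G)⁻¹ * c * (n0 : G) ∈ P.B} *
      q ^ (V.posJ VDatum.allJ).card * Nat.card P.B = Nat.card P.B * Nat.card P.B := by
    rw [← h1]; ring
  exact Nat.eq_of_mul_eq_mul_right hBpos this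

end Alt

/-- transport of `fixA` along equalities of subgroups -/
theorem fixA_eq_of_eq {G : Type*} [Group G] {A A' : Subgroup G} (h : A = A') (n : G)
    (H' : Subgroup G) (hH : A ⊓ A.map (MulAut.conj n).toMonoidHom = H') (b : ↥A') :
    fixA A n ⟨b.1, h ▸ b.2⟩ =
      Nat.card (MulAction.fixedBy (↥A' ⧸ H'.subgroupOf A') b) := by
  subst h
  subst hH
  rfl

end Cfsg.Agent.Helper39.Stb
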