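import Cfsg.Agent.Lib.Helper22.Stb3PR
import Cfsg.Agent.Lib.Helper22.Stb3ORB
import Cfsg.Agent.Lib.Helper34.Stb3EX
import Cfsg.Agent.Lib.Helper34.Stb3UN1
import Cfsg.Agent.Lib.Helper19.Stb3SOL
import Cfsg.Agent.Lib.Helper19.Stb3UN
import Cfsg.Agent.Lib.Helper19.Stb3LX
import Cfsg.Agent.Lib.Helper33.Stb3CH1
import Cfsg.Agent.Lib.Helper33.Stb3CH2

/-!
# Irreducibility of the Steinberg character: abstract (B,N)-pair statement
-/

set_option autoImplicit false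
set_option linter.unusedSectionVars false

namespace Cfsg.Agent.Helper39.Stb

open Cfsg Cfsg.Agent.Helper6 Cfsg.Agent.Helper6.Weyl Cfsg.Agent.Helper59.Poincare Matrix
open Cfsg.Agent.Helper22.Stb3 Cfsg.Agent.Helper34.Stb3 Cfsg.Agent.Helper19.Stb3 Cfsg.Agent.Helper33.Stb3

section Group

variable {G : Type*} [Group G] (P : Cfsg.BNPair G) {l : ℕ} (V : VDatum l)
  (ψ : P.N →* V.Wf)
  (hker : ∀ n : P.N, ψ n = 1 ↔ (n : G) ∈ P.B)
variable [Finite G]

include hker in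
/-- the alternating double sum of the numbers of orbits on pairs of parabolic cosets -/
theorem alt_orbits_sum (TS : Finset (Fin l) → Set G) (hTS : ∀ S, TS S ⊆ P.S)
    (hT1 : ∀ S, ∀ s (hs : s ∈ TS S), ∃ i, i ∈ S ∧ ψ ⟨s, P.subset (hTS S hs)⟩ = V.σ i)
    (hT2 : ∀ S, ∀ i, i ∈ S → ∃ s, ∃ hs : s ∈ TS S, ψ ⟨s, P.subset (hTS S hs)⟩ = V.σ i)
    (ν : V.Wf → G) (hν : ∀ w, ν w ∈ P.N) (hψν : ∀ w, ψ ⟨ν w, hν w⟩ = w) :
    ∑ S₁ ∈ (Finset.univ : Finset (Fin l)).powerset, ∑ S₂ ∈ (Finset.univ : Finset (Fin l)).powerset,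
      (-1 : ℤ) ^ (S₁.card + S₂.card) *
        (Nat.card (MulAction.orbitRel.Quotient G
          ((G ⧸ P.parabolic (TS S₁)) × (G ⧸ P.parabolic (TS S₂)))) : ℤ) = 1 := by
  classical
  haveI := finite_Wf V
  letI : Fintype V.Wf := Fintype.ofFinite _
  refine Eq.trans ?_ (alt_sum_biMin V)
  apply Finset.sum_congr rfl
  intro S₁ _
  apply Finset.sum_congr rfl
  intro S₂ _
  congr 2
  exact card_orbits_parabolic P V ψ hker (fun i => i ∈ S₁) (fun i => i ∈ S₂) (TS S₁) (TS S₂)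
    (hTS S₁) (hTS S₂) (hT1 S₁) (hT2 S₁) (hT1 S₂) (hT2 S₂)
    (fun hn hx hy hz => parabolic_mul_C_mul_parabolic P (hTS S₁) (hTS S₂) hn hx hy hz)
    (fun w hw => exists_biMin V (fun i => i ∈ S₁) (fun i => i ∈ S₂) hw)
    (fun hd ha hb hmin hmin' h =>
      biMin_unique V (fun i => i ∈ S₁) (fun i => i ∈ S₂)
        (fun hd₀ hmin₀ ha hb he hemin =>
          biMin_eq_of_minimal V (fun i => i ∈ S₁) (fun i => i ∈ S₂)
            (fun hL _ h => exchange_left V VDatum.allJ hL trivial h) hd₀ hmin₀ ha hb he hemin)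
        hd ha hb hmin hmin' h)
    ν hν hψν

end Group

end Cfsg.Agent.Helper39.Stb
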