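import Cfsg.Agent.Lib.Helper59.StbG3a
import Cfsg.Agent.Lib.Helper19.StbW10
import Cfsg.Agent.Lib.Helper15.StbG5
import Cfsg.Agent.Lib.Helper15.StbGL
import Cfsg.Agent.Lib.Helper95.StbWA
import Cfsg.Agent.Lib.Helper95.StbWL
import Cfsg.Agent.Lib.Helper34.StbW4
import Cfsg.Agent.Lib.Helper34.StbW4b
import Cfsg.Agent.Lib.Helper34.StbW6
import Cfsg.Agent.Lib.Helper96.StbW5
import Cfsg.Agent.Lib.Helper96.StbW3

/-!
# Steinberg character degree: assembly of the abstract (B,N)-pair statement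
-/

set_option autoImplicit false
set_option linter.unusedSectionVars false

namespace Cfsg.Agent.Helper39.Stb

open Cfsg Cfsg.Agent.Helper6 Cfsg.Agent.Helper6.Weyl Cfsg.Agent.Helper59.Poincare Matrix
open Cfsg.Agent.Helper59.Stb Cfsg.Agent.Helper19.Stb Cfsg.Agent.Helper15.Stb Cfsg.Agent.Helper95.Stb
open Cfsg.Agent.Helper34.Stb Cfsg.Agent.Helper96.Stb

section Weyl

variable {n : ℕ} (D : VDatum n)
variable (J : Fin n → Prop) [DecidablePred J]

theorem poinc_factor' (t : ℕ) : poinc D VDatum.allJ t = poinc D J t * minSum D J t := by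
  have hadd : ∀ u v : (Mat n)ˣ, u ∈ D.Wf → IsMin D J u → v ∈ D.W J →
      D.nJ VDatum.allJ (u * v) = D.nJ VDatum.allJ u + D.nJ J v :=
    fun u v hu hmin hv => nJ_mul_add D J (fun x hx β hβ => smul_mem_sdiff D J hx hβ) hu hmin hv
  exact poinc_factor D J hadd (fun w hw => exists_min' D J hw)
    (fun u u' v v' hu hu' hm hm' hv hv' h => min_factor_unique D J hadd hu hu' hm hm' hv hv' h) t

theorem alt_sum' (t : ℕ) :
    ∑ S ∈ (Finset.univ : Finset (Fin n)).powerset,
      (-1 : ℤ) ^ S.card * (minSum D (fun i => i ∈ S) t : ℤ) =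
      (t : ℤ) ^ (D.posJ VDatum.allJ).card :=
  alt_sum D (exists_longest D) (fun u hu h => nJ_longest D hu h)
    (fun u hu u' hu' h h' => longest_unique D hu hu' h h') t

end Weyl

section Group

variable {G : Type*} [Group G] (P : Cfsg.BNPair G) {l : ℕ} (V : VDatum l)
  (ψ : P.N →* V.Wf)
  (hker : ∀ n : P.N, ψ n = 1 ↔ (n : G) ∈ P.B)
  (hS : ∀ s (hs : s ∈ P.S), ∃ i, ψ ⟨s, P.subset hs⟩ = V.σ i)
  (hS' : ∀ i, ∃ s, ∃ hs : s ∈ P.S, ψ ⟨s, P.subset hs⟩ = V.σ i)
variable (J : Fin l → Prop) [DecidablePred J] (T : Set G) (hT : T ⊆ P.S)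
  (hT1 : ∀ s (hs : s ∈ T), ∃ i, J i ∧ ψ ⟨s, P.subset (hT hs)⟩ = V.σ i)
  (hT2 : ∀ i, J i → ∃ s, ∃ hs : s ∈ T, ψ ⟨s, P.subset (hT hs)⟩ = V.σ i)
variable [Finite G]

include hker hS hS' hT1 hT2 in
/-- the order of a standard parabolic subgroup -/
theorem card_parabolic {q : ℕ} (hq : ∀ s ∈ P.S, Nat.card (C P s) = q * Nat.card P.B) :
    Nat.card ↥(P.parabolic T) = Nat.card P.B * poinc V J q := by
  rw [card_parabolic_aux P V ψ hker hS hS' J T hT
    (fun n hn => psi_mem_W P V ψ J T hT hT1 hn)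
    (fun w hw => exists_lift_W P V ψ J T hT hT2 hw) hq]
  congr 1
  unfold poinc
  apply finsum_congr
  intro w
  rw [nJ_allJ_eq_of_mem V J w.2]

include hker hS hS' hT1 hT2 in
/-- the index of a standard parabolic subgroup -/
theorem index_parabolic (hsurj : Function.Surjective ψ) {q : ℕ}
    (hq : ∀ s ∈ P.S, Nat.card (C P s) = q * Nat.card P.B) :
    (P.parabolic T).index = minSum V J q := by
  have h1 := card_parabolic P V ψ hker hS hS' J T hT hT1 hT2 hq
  have h2 := Cfsg.Agent.Helper59.WeylGlue.card_eq P V ψ hker hS hS' hsurj hq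
  have h3 := (P.parabolic T).card_mul_index
  have h4 := poinc_factor' V J q
  have hpos : 0 < Nat.card ↥(P.parabolic T) := Nat.card_pos
  rw [h2, h1, h4] at h3
  rw [h1] at hpos
  have : Nat.card ↥P.B * poinc V J q * (P.parabolic T).index =
      Nat.card ↥P.B * poinc V J q * minSum V J q := by
    rw [h3]; ring
  exact Nat.eq_of_mul_eq_mul_left hpos this

end Group

end Cfsg.Agent.Helper39.Stb
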