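import Cfsg.Agent.Lib.Helper59.ChevOrder
import Cfsg.Agent.Lib.Helper39.StbAsm
import Cfsg.Prelude.Def_ParabolicCharacters

/-!
# Steinberg character degree of the Chevalley groups `G₂ … E₈`: glue to the explicit matrix groups
-/

set_option autoImplicit false
set_option linter.unusedSectionVars false

namespace Cfsg.Agent.Helper39.Stb

open Cfsg Cfsg.Lie Cfsg.Agent.S1043 Cfsg.Agent.Helper17 Cfsg.Agent.Helper18 Cfsg.Agent.Helper6
open Cfsg.Agent.Helper6.Weyl Cfsg.Agent.Helper59.Poincare Cfsg.Agent.Helper59.ChevOrder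
open Cfsg.Agent.Helper15.Stb

section

variable {F : Type*} [Field F] (D : ChevalleyDatum) (hD : Good D)

/-- the generators of the parabolic `P_J` inside the group -/
def parT (J : Finset ℕ) : Set ↥(D.group F) :=
  {n | ∃ j ∈ J, j < D.rank ∧ ((n : GL D.Idx F) : Matrix D.Idx D.Idx F) = D.nMat F (D.simple j) 1}

include hD in
theorem parabolicIn_eq (P : Cfsg.BNPair ↥(D.group F))
    (hPB : P.B = (D.borelSubgroup F).subgroupOf (D.group F)) (J : Finset ℕ) :
    D.parabolicIn F J = P.parabolic (parT D J) := by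
  have hBG : D.borelSubgroup F ≤ D.group F := borel_le D hD
  set SJ : Set (GL D.Idx F) := {g | ∃ j ∈ (↑J : Set ℕ), j < D.rank ∧
    (g : Matrix D.Idx D.Idx F) = D.nMat F (D.simple j) 1} with hSJ
  have hSG : SJ ⊆ (D.group F : Set (GL D.Idx F)) := by
    rintro g ⟨j, _, _, hg⟩
    have : g = nGL D hD j := Units.ext (hg.trans (nGL_val D hD j).symm)
    rw [this]
    exact nGL_mem_group D hD j
  have hCG : Subgroup.closure SJ ≤ D.group F := (Subgroup.closure_le _).2 hSG
  have hpre : parT (F := F) D J = (D.group F).subtype ⁻¹' SJ := by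
    ext n
    simp only [parT, hSJ, Set.mem_setOf_eq, Set.mem_preimage, Finset.mem_coe]
    rfl
  have himg : (D.group F).subtype '' ((D.group F).subtype ⁻¹' SJ) = SJ := by
    rw [Set.image_preimage_eq_inter_range]
    apply Set.inter_eq_left.2
    intro g hg
    exact ⟨⟨g, hSG hg⟩, rfl⟩
  have hcl : (Subgroup.closure SJ).subgroupOf (D.group F) = Subgroup.closure (parT (F := F) D J) := by
    rw [hpre]
    have h1 : Subgroup.closure SJ = (Subgroup.closure ((D.group F).subtype ⁻¹' SJ)).map (D.group F).subtype := by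
      rw [MonoidHom.map_closure, himg]
    rw [Subgroup.subgroupOf, h1,
      Subgroup.comap_map_eq_self_of_injective (Subgroup.subtype_injective _)]
  show (D.borelSubgroup F ⊔ Subgroup.closure SJ).subgroupOf (D.group F) = _
  rw [Subgroup.subgroupOf_sup hBG hCG, hcl, BNPair.parabolic, hPB]

include hD in
theorem exists_psi {l : ℕ} (hrank : D.rank = l) (M : CoxeterMatrix (Fin l)) (V : VDatum l)
    (P : Cfsg.BNPair ↥(D.group F))
    (hPB : P.B = (D.borelSubgroup F).subgroupOf (D.group F))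
    (hPN : P.N = (D.monomialSubgroup F).subgroupOf (D.group F))
    (hPS : P.S = {n : ↥(D.group F) | ∃ i < D.rank,
      ((n : GL D.Idx F) : Matrix D.Idx D.Idx F) = D.nMat F (D.simple i) 1})
    (φ : ↥(D.monomialSubgroup F) →* M.Group) (hφs : Function.Surjective φ)
    (hφk : φ.ker = (D.diagonalSubgroup F).subgroupOf (D.monomialSubgroup F))
    (hφn : ∀ (i : Fin l) (g : ↥(D.monomialSubgroup F)),
      ((g : GL D.Idx F) : Matrix D.Idx D.Idx F) = D.nMat F (D.simple i) 1 → φ g = M.simple i)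
    (e : M.Group ≃* V.Wf) (he : ∀ i, e (M.simple i) = V.σ i)
    (hBN : D.borelSubgroup F ⊓ D.monomialSubgroup F = D.diagonalSubgroup F) :
    ∃ ψ : ↥P.N →* V.Wf, (∀ n : P.N, ψ n = 1 ↔ (n : ↥(D.group F)) ∈ P.B) ∧
      (∀ s (hs : s ∈ P.S), ∃ i, ψ ⟨s, P.subset hs⟩ = V.σ i) ∧
      (∀ i, ∃ s, ∃ hs : s ∈ P.S, ψ ⟨s, P.subset hs⟩ = V.σ i) ∧
      Function.Surjective ψ ∧
      (∀ (i : Fin l) (s : ↥(D.group F)) (hs : s ∈ P.S),
        ((s : GL D.Idx F) : Matrix D.Idx D.Idx F) = D.nMat F (D.simple i) 1 →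
          ψ ⟨s, P.subset hs⟩ = V.σ i) := by
  have hNG : D.monomialSubgroup F ≤ D.group F := monomial_le D hD
  have hHB : D.diagonalSubgroup F ≤ D.borelSubgroup F := le_sup_right
  have hmemN : ∀ n : ↥(D.group F), n ∈ P.N ↔ (n : GL D.Idx F) ∈ D.monomialSubgroup F := by
    intro n; rw [hPN, Subgroup.mem_subgroupOf]
  have hmemB : ∀ g : ↥(D.group F), g ∈ P.B ↔ (g : GL D.Idx F) ∈ D.borelSubgroup F := by
    intro g; rw [hPB, Subgroup.mem_subgroupOf]
  let ι : ↥P.N →* ↥(D.monomialSubgroup F) :=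
    { toFun := fun n => ⟨((n : ↥(D.group F)) : GL D.Idx F), (hmemN n.1).1 n.2⟩
      map_one' := rfl
      map_mul' := fun _ _ => rfl }
  have hι : Function.Surjective ι := by
    rintro ⟨n, hn⟩
    exact ⟨⟨⟨n, hNG hn⟩, (hmemN _).2 hn⟩, rfl⟩
  let ψ : ↥P.N →* V.Wf := e.toMonoidHom.comp (φ.comp ι)
  have hψ : ∀ n, ψ n = e (φ (ι n)) := fun _ => rfl
  have hsurj : Function.Surjective ψ := e.surjective.comp (hφs.comp hι)
  have hker : ∀ n : P.N, ψ n = 1 ↔ (n : ↥(D.group F)) ∈ P.B := by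
    intro n
    rw [hψ, hmemB, MulEquiv.map_eq_one_iff, ← MonoidHom.mem_ker, hφk, Subgroup.mem_subgroupOf]
    constructor
    · intro h; exact hHB h
    · intro h
      have : ((n : ↥(D.group F)) : GL D.Idx F) ∈ D.borelSubgroup F ⊓ D.monomialSubgroup F :=
        Subgroup.mem_inf.2 ⟨h, (hmemN n.1).1 n.2⟩
      rw [hBN] at this
      exact this
  have hψn : ∀ (i : Fin l) (s : ↥(D.group F)) (hs : s ∈ P.S),
      ((s : GL D.Idx F) : Matrix D.Idx D.Idx F) = D.nMat F (D.simple i) 1 →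
        ψ ⟨s, P.subset hs⟩ = V.σ i := by
    intro i s hs hmat
    rw [hψ, hφn i _ hmat, he]
  have hS : ∀ s (hs : s ∈ P.S), ∃ i, ψ ⟨s, P.subset hs⟩ = V.σ i := by
    intro s hs
    have hs' := hs
    rw [hPS] at hs'
    obtain ⟨i, hi, hmat⟩ := hs'
    exact ⟨⟨i, hrank ▸ hi⟩, hψn ⟨i, hrank ▸ hi⟩ s hs hmat⟩
  have hS' : ∀ i, ∃ s, ∃ hs : s ∈ P.S, ψ ⟨s, P.subset hs⟩ = V.σ i := by
    intro i
    have hi : (i : ℕ) < D.rank := by rw [hrank]; exact i.2
    have hs : (⟨nGL D hD i, nGL_mem_group D hD i⟩ : ↥(D.group F)) ∈ P.S := by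
      rw [hPS]
      exact ⟨i, hi, nGL_val D hD i⟩
    exact ⟨_, hs, hψn i _ hs (nGL_val D hD i)⟩
  exact ⟨ψ, hker, hS, hS', hsurj, hψn⟩

/-- reindexing of the sum over subsets of `range l` by subsets of `Fin l` -/
theorem sum_powerset_range_eq {l : ℕ} (f : (Fin l → Prop) → ℂ) :
    ∑ J ∈ (Finset.range l).powerset, (-1 : ℂ) ^ J.card * f (fun i => (i : ℕ) ∈ J) =
      ∑ S ∈ (Finset.univ : Finset (Fin l)).powerset, (-1 : ℂ) ^ S.card * f (fun i => i ∈ S) := by
  symm
  apply Finset.sum_nbij' (fun S => S.map Fin.valEmbedding)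
    (fun J => Finset.univ.filter (fun i : Fin l => (i : ℕ) ∈ J))
  · intro S _
    rw [Finset.mem_powerset]
    intro x hx
    rw [Finset.mem_map] at hx
    obtain ⟨i, _, rfl⟩ := hx
    exact Finset.mem_range.2 i.2
  · intro J _
    exact Finset.mem_powerset.2 (Finset.subset_univ _)
  · intro S _
    ext i
    simp only [Finset.mem_filter, Finset.mem_univ, true_and, Finset.mem_map,
      Fin.valEmbedding_apply]
    constructor
    · rintro ⟨a, ha, hai⟩
      rwa [← Fin.ext hai]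
    · intro hi
      exact ⟨i, hi, rfl⟩
  · intro J hJ
    rw [Finset.mem_powerset] at hJ
    ext x
    simp only [Finset.mem_map, Finset.mem_filter, Finset.mem_univ, true_and, Fin.valEmbedding_apply]
    constructor
    · rintro ⟨i, hi, rfl⟩
      exact hi
    · intro hx
      exact ⟨⟨x, Finset.mem_range.1 (hJ hx)⟩, hx, rfl⟩
  · intro S _
    rw [Finset.card_map]
    congr 2
    funext i
    apply propext
    simp only [Finset.mem_map, Fin.valEmbedding_apply]
    constructor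
    · intro hi
      exact ⟨i, hi, rfl⟩
    · rintro ⟨a, ha, hai⟩
      rwa [← Fin.ext hai]

variable [Fintype F]

include hD in
/-- the degree of the Steinberg character -/
theorem steinberg_degree {l : ℕ} (hrank : D.rank = l) (M : CoxeterMatrix (Fin l)) (V : VDatum l)
    (hM : ∀ i j, M i j = orderOf (V.s i * V.s j))
    (hBNP : ∃ P : Cfsg.BNPair ↥(D.group F),
      P.B = (D.borelSubgroup F).subgroupOf (D.group F) ∧
      P.N = (D.monomialSubgroup F).subgroupOf (D.group F) ∧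
      P.S = {n : ↥(D.group F) | ∃ i < D.rank,
        ((n : GL D.Idx F) : Matrix D.Idx D.Idx F) = D.nMat F (D.simple i) 1})
    (hφ : ∃ φ : ↥(D.monomialSubgroup F) →* M.Group, Function.Surjective φ ∧
      φ.ker = (D.diagonalSubgroup F).subgroupOf (D.monomialSubgroup F) ∧
      ∀ (i : Fin l) (g : ↥(D.monomialSubgroup F)),
        ((g : GL D.Idx F) : Matrix D.Idx D.Idx F) = D.nMat F (D.simple i) 1 → φ g = M.simple i)
    (hB : BNFacts D) (hU : UiFacts D) {tbl : List ℕ} (hT : TorusData D tbl)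
    (hTri : TriOK D) (hNeg : NegTriOK D)
    (hconj : ∀ i < D.rank, ∀ s < D.nroots, ConjGoal' F D i s)
    (hNH : D.monomialSubgroup F ≤ Subgroup.normalizer (D.diagonalSubgroup F : Set (GL D.Idx F)))
    (hinj : ∀ r < D.nroots, ∀ t : F, D.x F r t = 1 → t = 0)
    (hBN : D.borelSubgroup F ⊓ D.monomialSubgroup F = D.diagonalSubgroup F)
    {N : ℕ} (hN : (V.posJ VDatum.allJ).card = N) :
    D.steinbergCharacter F 1 = (Fintype.card F : ℂ) ^ N := by
  obtain ⟨P, hPB, hPN, hPS⟩ := hBNP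
  obtain ⟨φ, hφs, hφk, hφn⟩ := hφ
  obtain ⟨e, he⟩ := V.exists_mulEquiv M hM
  have hqC : ∀ s ∈ P.S, Nat.card (C P s) = Fintype.card F * Nat.card P.B := by
    intro s hs
    have hs' := hs
    rw [hPS] at hs'
    obtain ⟨i, hi, hmat⟩ := hs'
    have : s = ⟨nGL D hD i, nGL_mem_group D hD i⟩ :=
      Subtype.ext (Units.ext (hmat.trans (nGL_val D hD i).symm))
    rw [this]
    exact card_C_simple D hD P hPB hB hU hT hTri hNeg hconj hNH hinj i hi
  obtain ⟨ψ, hker, hS, hS', hsurj, hψn⟩ :=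
    exists_psi D hD hrank M V P hPB hPN hPS φ hφs hφk hφn e he hBN
  -- the index of each parabolic
  have hidx : ∀ J : Finset ℕ, ((D.parabolicIn F J).index : ℂ) =
      (minSum V (fun i : Fin l => (i : ℕ) ∈ J) (Fintype.card F) : ℂ) := by
    intro J
    have hTS : parT (F := F) D J ⊆ P.S := by
      rintro n ⟨j, _, hjr, hmat⟩
      rw [hPS]
      exact ⟨j, hjr, hmat⟩
    have hT1 : ∀ s (hs : s ∈ parT (F := F) D J),
        ∃ i : Fin l, (i : ℕ) ∈ J ∧ ψ ⟨s, P.subset (hTS hs)⟩ = V.σ i := by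
      rintro s ⟨j, hjJ, hjr, hmat⟩
      exact ⟨⟨j, hrank ▸ hjr⟩, hjJ, hψn ⟨j, hrank ▸ hjr⟩ s (hTS ⟨j, hjJ, hjr, hmat⟩) hmat⟩
    have hT2 : ∀ i : Fin l, (i : ℕ) ∈ J →
        ∃ s, ∃ hs : s ∈ parT (F := F) D J, ψ ⟨s, P.subset (hTS hs)⟩ = V.σ i := by
      intro i hiJ
      have hi : (i : ℕ) < D.rank := by rw [hrank]; exact i.2
      have hs : (⟨nGL D hD i, nGL_mem_group D hD i⟩ : ↥(D.group F)) ∈ parT (F := F) D J :=
        ⟨i, hiJ, hi, nGL_val D hD i⟩
      exact ⟨_, hs, hψn i _ (hTS hs) (nGL_val D hD i)⟩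
    rw [parabolicIn_eq D hD P hPB J,
      index_parabolic P V ψ hker hS hS' (fun i : Fin l => (i : ℕ) ∈ J) (parT D J) hTS hT1 hT2 hsurj hqC]
  unfold ChevalleyDatum.steinbergCharacter
  simp only [fixedPointCharacter_one, hidx]
  rw [hrank, sum_powerset_range_eq (fun J => (minSum V J (Fintype.card F) : ℂ))]
  have h := alt_sum' V (Fintype.card F)
  have h2 := congrArg (fun z : ℤ => (z : ℂ)) h
  simp only [Int.cast_sum, Int.cast_mul, Int.cast_pow, Int.cast_neg, Int.cast_one,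
    Int.cast_natCast] at h2
  rw [h2, hN]

end

end Cfsg.Agent.Helper39.Stb
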