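import Cfsg.Agent.Lib.Helper39.StbChev
import Cfsg.Agent.Lib.Helper39.Stb2Asm

/-!
# The Steinberg character of the Chevalley groups `G₂ … E₈` restricted to `B`
-/

set_option autoImplicit false
set_option linter.unusedSectionVars false

namespace Cfsg.Agent.Helper39.Stb

open Cfsg Cfsg.Lie Cfsg.Agent.S1043 Cfsg.Agent.Helper17 Cfsg.Agent.Helper18 Cfsg.Agent.Helper6
open Cfsg.Agent.Helper6.Weyl Cfsg.Agent.Helper59.Poincare Cfsg.Agent.Helper59.ChevOrder

/-- reindexing of a sum over the subsets of `range l` by the subsets of `Fin l` -/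
theorem sum_powerset_range_map {l : ℕ} (g : Finset ℕ → ℂ) :
    ∑ J ∈ (Finset.range l).powerset, g J =
      ∑ S ∈ (Finset.univ : Finset (Fin l)).powerset, g (S.map Fin.valEmbedding) := by
  symm
  apply Finset.sum_nbij' (fun S => S.map Fin.valEmbedding)
    (fun J => Finset.univ.filter (fun i : Fin l => (i : ℕ) ∈ J))
  · intro S _
    rw [Finset.mem_powerset]
    intro x hx
    rw [Finset.mem_map] at hx
    obtain ⟨i, _, rfl⟩ := hx
    exact Finset.mem_range.2 i.2
  · intro J _
    exact Finset.mem_powerset.2 (Finset.subset_univ _)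
  · intro S _
    ext i
    simp only [Finset.mem_filter, Finset.mem_univ, true_and, Finset.mem_map,
      Fin.valEmbedding_apply]
    constructor
    · rintro ⟨a, ha, hai⟩
      rwa [← Fin.ext hai]
    · intro hi
      exact ⟨i, hi, rfl⟩
  · intro J hJ
    rw [Finset.mem_powerset] at hJ
    ext x
    simp only [Finset.mem_map, Finset.mem_filter, Finset.mem_univ, true_and, Fin.valEmbedding_apply]
    constructor
    · rintro ⟨i, hi, rfl⟩
      exact hi
    · intro hx
      exact ⟨⟨x, Finset.mem_range.1 (hJ hx)⟩, hx, rfl⟩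
  · intro S _
    rfl

section

variable {F : Type*} [Field F] [Fintype F] (D : ChevalleyDatum) (hD : Good D)

include hD in
/-- the restriction of the Steinberg character to `B` -/
theorem steinberg_restrict_borel {l : ℕ} (hrank : D.rank = l) (M : CoxeterMatrix (Fin l)) (V : VDatum l)
    (hM : ∀ i j, M i j = orderOf (V.s i * V.s j))
    (hBNP : ∃ P : Cfsg.BNPair ↥(D.group F),
      P.B = (D.borelSubgroup F).subgroupOf (D.group F) ∧
      P.N = (D.monomialSubgroup F).subgroupOf (D.group F) ∧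
      P.S = {n : ↥(D.group F) | ∃ i < D.rank,
        ((n : GL D.Idx F) : Matrix D.Idx D.Idx F) = D.nMat F (D.simple i) 1})
    (hφ : ∃ φ : ↥(D.monomialSubgroup F) →* M.Group, Function.Surjective φ ∧
      φ.ker = (D.diagonalSubgroup F).subgroupOf (D.monomialSubgroup F) ∧
      ∀ (i : Fin l) (g : ↥(D.monomialSubgroup F)),
        ((g : GL D.Idx F) : Matrix D.Idx D.Idx F) = D.nMat F (D.simple i) 1 → φ g = M.simple i)
    (hB : BNFacts D) (hU : UiFacts D) {tbl : List ℕ} (hT : TorusData D tbl)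
    (hTri : TriOK D) (hNeg : NegTriOK D)
    (hconj : ∀ i < D.rank, ∀ s < D.nroots, ConjGoal' F D i s)
    (hNH : D.monomialSubgroup F ≤ Subgroup.normalizer (D.diagonalSubgroup F : Set (GL D.Idx F)))
    (hinj : ∀ r < D.nroots, ∀ t : F, D.x F r t = 1 → t = 0)
    (hBN : D.borelSubgroup F ⊓ D.monomialSubgroup F = D.diagonalSubgroup F)
    (hUH : D.posUnipotent F ⊓ D.diagonalSubgroup F = ⊥)
    (hUcard : Nat.card (D.posUnipotent F) = Fintype.card F ^ (V.posJ VDatum.allJ).card)
    (b : ↥((D.borelSubgroup F).subgroupOf (D.group F))) :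
    D.steinbergCharacter F (((D.borelSubgroup F).subgroupOf (D.group F)).subtype b) =
      Cfsg.fixedPointCharacter
        (((D.diagonalSubgroup F).subgroupOf (D.group F)).subgroupOf
          ((D.borelSubgroup F).subgroupOf (D.group F))) b := by
  classical
  subst hrank
  have hrank : D.rank = D.rank := rfl
  obtain ⟨P, hPB, hPN, hPS⟩ := hBNP
  obtain ⟨φ, hφs, hφk, hφn⟩ := hφ
  obtain ⟨e, he⟩ := V.exists_mulEquiv M hM
  have hBG : D.borelSubgroup F ≤ D.group F := borel_le D hD
  have hHG : D.diagonalSubgroup F ≤ D.group F := diagonal_le D hD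
  have hHB : D.diagonalSubgroup F ≤ D.borelSubgroup F := le_sup_right
  have hqC : ∀ s ∈ P.S, Nat.card (C P s) = Fintype.card F * Nat.card P.B := by
    intro s hs
    have hs' := hs
    rw [hPS] at hs'
    obtain ⟨i, hi, hmat⟩ := hs'
    have : s = ⟨nGL D hD i, nGL_mem_group D hD i⟩ :=
      Subtype.ext (Units.ext (hmat.trans (nGL_val D hD i).symm))
    rw [this]
    exact card_C_simple D hD P hPB hB hU hT hTri hNeg hconj hNH hinj i hi
  obtain ⟨ψ, hker, hS, hS', hsurj, hψn⟩ :=
    exists_psi D hD hrank M V P hPB hPN hPS φ hφs hφk hφn e he hBN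
  -- the section and the longest element
  let ν : V.Wf → ↥(D.group F) := fun w => ((Function.surjInv hsurj w : P.N) : ↥(D.group F))
  have hν : ∀ w, ν w ∈ P.N := fun w => (Function.surjInv hsurj w).2
  have hψν : ∀ w, ψ ⟨ν w, hν w⟩ = w := fun w => Function.surjInv_eq hsurj w
  obtain ⟨u, hu, hlong⟩ := Cfsg.Agent.Helper34.Stb.exists_longest V
  set u0 : V.Wf := ⟨u, hu⟩ with hu0
  -- the generating sets
  let TS : Finset (Fin D.rank) → Set ↥(D.group F) := fun S => parT D (S.map Fin.valEmbedding)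
  have hTS : ∀ S, TS S ⊆ P.S := by
    rintro S n ⟨j, _, hjr, hmat⟩
    rw [hPS]
    exact ⟨j, hjr, hmat⟩
  have hT1 : ∀ S, ∀ s (hs : s ∈ TS S), ∃ i, i ∈ S ∧ ψ ⟨s, P.subset (hTS S hs)⟩ = V.σ i := by
    rintro S s ⟨j, hjJ, hjr, hmat⟩
    rw [Finset.mem_map] at hjJ
    obtain ⟨i, hiS, rfl⟩ := hjJ
    exact ⟨i, hiS, hψn i s (hTS S ⟨_, Finset.mem_map.2 ⟨i, hiS, rfl⟩, hjr, hmat⟩) hmat⟩
  have hT2 : ∀ S, ∀ i, i ∈ S → ∃ s, ∃ hs : s ∈ TS S, ψ ⟨s, P.subset (hTS S hs)⟩ = V.σ i := by
    intro S i hiS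
    have hi : (i : ℕ) < D.rank := i.2
    have hs : (⟨nGL D hD i, nGL_mem_group D hD i⟩ : ↥(D.group F)) ∈ TS S :=
      ⟨i, Finset.mem_map.2 ⟨i, hiS, rfl⟩, hi, nGL_val D hD i⟩
    exact ⟨_, hs, hψn i _ (hTS S hs) (nGL_val D hD i)⟩
  -- `b` as an element of `P.B`
  have hbB : (b : ↥(D.group F)) ∈ P.B := by rw [hPB]; exact b.2
  have halt := alt_fixed_sum P V ψ hker hS hS' TS hTS hT1 hT2 ν hν hψν ⟨b.1, hbB⟩ u0 hlong
  -- `B ∩ n₀ B n₀⁻¹ = H`
  have hH : P.B ⊓ P.B.map (MulAut.conj (ν u0)).toMonoidHom =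
      (D.diagonalSubgroup F).subgroupOf (D.group F) := by
    symm
    apply Subgroup.eq_of_le_of_card_ge
    · intro h hh
      rw [Subgroup.mem_subgroupOf] at hh
      refine Subgroup.mem_inf.2 ⟨?_, ?_⟩
      · rw [hPB, Subgroup.mem_subgroupOf]; exact hHB hh
      · rw [mem_map_conj_iff, hPB, Subgroup.mem_subgroupOf]
        apply hHB
        have hn0 : ((ν u0 : ↥(D.group F)) : GL D.Idx F) ∈ D.monomialSubgroup F := by
          have := hν u0
          rw [hPN, Subgroup.mem_subgroupOf] at this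
          exact this
        have hnorm := inv_mem (hNH hn0)
        have := (Subgroup.mem_normalizer_iff.1 hnorm (h : GL D.Idx F)).1 hh
        simpa using this
    · have h1 := card_inf_conj_longest P V ψ hker hS hS' hqC (Function.surjInv hsurj u0)
        (by rw [Function.surjInv_eq hsurj u0]; exact hlong)
      have h2 : Nat.card P.B = Nat.card (D.borelSubgroup F) := by
        rw [hPB]
        exact Nat.card_congr (Subgroup.subgroupOfEquivOfLe hBG).toEquiv
      have h3 : Nat.card (D.borelSubgroup F) =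
          Nat.card (D.posUnipotent F) * Nat.card (D.diagonalSubgroup F) :=
        card_sup_eq _ _ (diag_le_normalizer D hT) hUH
      have h4 : Nat.card ↥((D.diagonalSubgroup F).subgroupOf (D.group F)) =
          Nat.card (D.diagonalSubgroup F) :=
        Nat.card_congr (Subgroup.subgroupOfEquivOfLe hHG).toEquiv
      have h5 : Nat.card ↥(P.B ⊓ P.B.map (MulAut.conj (ν u0)).toMonoidHom) =
          Nat.card {c : ↥(D.group F) // c ∈ P.B ∧ (ν u0)⁻¹ * c * ν u0 ∈ P.B} := by
        apply Nat.card_congr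
        apply Equiv.subtypeEquivRight
        intro c
        rw [Subgroup.mem_inf, mem_map_conj_iff]
      have hqpos : 0 < Fintype.card F ^ (V.posJ VDatum.allJ).card :=
        pow_pos Fintype.card_pos _
      rw [h2, h3, hUcard] at h1
      rw [h4, h5]
      apply le_of_eq
      have h1' : Nat.card {c : ↥(D.group F) // c ∈ P.B ∧ (ν u0)⁻¹ * c * ν u0 ∈ P.B} *
          Fintype.card F ^ (V.posJ VDatum.allJ).card =
          Nat.card (D.diagonalSubgroup F) * Fintype.card F ^ (V.posJ VDatum.allJ).card := by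
        exact h1.trans (mul_comm _ _)
      exact Nat.eq_of_mul_eq_mul_right hqpos h1'
  have hfix := fixA_eq_of_eq hPB (ν u0) _ hH b
  -- the Steinberg character
  unfold ChevalleyDatum.steinbergCharacter fixedPointCharacter
  rw [← hfix,
    sum_powerset_range_map (l := D.rank) (fun J => (-1 : ℂ) ^ J.card *
      ((Nat.card (MulAction.fixedBy (↥(D.group F) ⧸ D.parabolicIn F J)
        (((D.borelSubgroup F).subgroupOf (D.group F)).subtype b)) : ℕ) : ℂ))]
  have h2 := congrArg (fun z : ℤ => (z : ℂ)) halt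
  simp only [Int.cast_sum, Int.cast_mul, Int.cast_pow, Int.cast_neg, Int.cast_one,
    Int.cast_natCast] at h2
  rw [← h2]
  apply Finset.sum_congr rfl
  intro S _
  rw [Finset.card_map, parabolicIn_eq D hD P hPB (S.map Fin.valEmbedding)]
  rfl

end

end Cfsg.Agent.Helper39.Stb
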