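import Cfsg.Agent.Lib.Helper39.StbChev2
import Cfsg.Agent.Lib.Helper39.Stb3Asm

/-!
# The Steinberg character of the Chevalley groups `G₂ … E₈` is irreducible
-/

set_option autoImplicit false
set_option linter.unusedSectionVars false

namespace Cfsg.Agent.Helper39.Stb

open Cfsg Cfsg.Lie Cfsg.Agent.S1043 Cfsg.Agent.Helper17 Cfsg.Agent.Helper18 Cfsg.Agent.Helper6
open Cfsg.Agent.Helper6.Weyl Cfsg.Agent.Helper59.Poincare Cfsg.Agent.Helper59.ChevOrder
open Cfsg.Agent.Helper33.Stb3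

section

variable {F : Type*} [Field F] [Fintype F] (D : ChevalleyDatum) (hD : Good D)

include hD in
/-- the Steinberg character is an irreducible character -/
theorem steinberg_irreducible {l : ℕ} (hrank : D.rank = l) (M : CoxeterMatrix (Fin l)) (V : VDatum l)
    (hM : ∀ i j, M i j = orderOf (V.s i * V.s j))
    (hBNP : ∃ P : Cfsg.BNPair ↥(D.group F),
      P.B = (D.borelSubgroup F).subgroupOf (D.group F) ∧
      P.N = (D.monomialSubgroup F).subgroupOf (D.group F) ∧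
      P.S = {n : ↥(D.group F) | ∃ i < D.rank,
        ((n : GL D.Idx F) : Matrix D.Idx D.Idx F) = D.nMat F (D.simple i) 1})
    (hφ : ∃ φ : ↥(D.monomialSubgroup F) →* M.Group, Function.Surjective φ ∧
      φ.ker = (D.diagonalSubgroup F).subgroupOf (D.monomialSubgroup F) ∧
      ∀ (i : Fin l) (g : ↥(D.monomialSubgroup F)),
        ((g : GL D.Idx F) : Matrix D.Idx D.Idx F) = D.nMat F (D.simple i) 1 → φ g = M.simple i)
    (hB : BNFacts D) (hU : UiFacts D) {tbl : List ℕ} (hT : TorusData D tbl)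
    (hTri : TriOK D) (hNeg : NegTriOK D)
    (hconj : ∀ i < D.rank, ∀ s < D.nroots, ConjGoal' F D i s)
    (hNH : D.monomialSubgroup F ≤ Subgroup.normalizer (D.diagonalSubgroup F : Set (GL D.Idx F)))
    (hinj : ∀ r < D.nroots, ∀ t : F, D.x F r t = 1 → t = 0)
    (hBN : D.borelSubgroup F ⊓ D.monomialSubgroup F = D.diagonalSubgroup F)
    {N : ℕ} (hN : (V.posJ VDatum.allJ).card = N) :
    Cfsg.IsIrrCharacter ↥(D.group F) (D.steinbergCharacter F) := by
  classical
  subst hrank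
  have hrank : D.rank = D.rank := rfl
  have hdeg := steinberg_degree (F := F) D hD hrank M V hM hBNP hφ hB hU hT hTri hNeg hconj hNH hinj
    hBN hN
  obtain ⟨P, hPB, hPN, hPS⟩ := hBNP
  obtain ⟨φ, hφs, hφk, hφn⟩ := hφ
  obtain ⟨e, he⟩ := V.exists_mulEquiv M hM
  obtain ⟨ψ, hker, hS, hS', hsurj, hψn⟩ :=
    exists_psi D hD hrank M V P hPB hPN hPS φ hφs hφk hφn e he hBN
  let ν : V.Wf → ↥(D.group F) := fun w => ((Function.surjInv hsurj w : P.N) : ↥(D.group F))
  have hν : ∀ w, ν w ∈ P.N := fun w => (Function.surjInv hsurj w).2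
  have hψν : ∀ w, ψ ⟨ν w, hν w⟩ = w := fun w => Function.surjInv_eq hsurj w
  let TS : Finset (Fin D.rank) → Set ↥(D.group F) := fun S => parT D (S.map Fin.valEmbedding)
  have hTS : ∀ S, TS S ⊆ P.S := by
    rintro S n ⟨j, _, hjr, hmat⟩
    rw [hPS]
    exact ⟨j, hjr, hmat⟩
  have hT1 : ∀ S, ∀ s (hs : s ∈ TS S), ∃ i, i ∈ S ∧ ψ ⟨s, P.subset (hTS S hs)⟩ = V.σ i := by
    rintro S s ⟨j, hjJ, hjr, hmat⟩
    rw [Finset.mem_map] at hjJ
    obtain ⟨i, hiS, rfl⟩ := hjJ
    exact ⟨i, hiS, hψn i s (hTS S ⟨_, Finset.mem_map.2 ⟨i, hiS, rfl⟩, hjr, hmat⟩) hmat⟩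
  have hT2 : ∀ S, ∀ i, i ∈ S → ∃ s, ∃ hs : s ∈ TS S, ψ ⟨s, P.subset (hTS S hs)⟩ = V.σ i := by
    intro S i hiS
    have hi : (i : ℕ) < D.rank := i.2
    have hs : (⟨nGL D hD i, nGL_mem_group D hD i⟩ : ↥(D.group F)) ∈ TS S :=
      ⟨i, Finset.mem_map.2 ⟨i, hiS, rfl⟩, hi, nGL_val D hD i⟩
    exact ⟨_, hs, hψn i _ (hTS S hs) (nGL_val D hD i)⟩
  have halt := alt_orbits_sum P V ψ hker TS hTS hT1 hT2 ν hν hψν
  letI : Fintype ↥(D.group F) := Fintype.ofFinite _
  have hfun : D.steinbergCharacter F = fun g => ∑ J ∈ (Finset.range D.rank).powerset,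
      (-1 : ℂ) ^ J.card * Cfsg.fixedPointCharacter (D.parabolicIn F J) g := rfl
  have hgen : Cfsg.IsGeneralizedCharacter ↥(D.group F) (D.steinbergCharacter F) := by
    rw [hfun]
    exact isGeneralizedCharacter_alt _ Finset.card (D.parabolicIn F)
  have hnorm : Cfsg.classInner (D.steinbergCharacter F) (D.steinbergCharacter F) = 1 := by
    rw [hfun, classInner_alt,
      sum_powerset_range_map (l := D.rank) (fun J => ∑ K ∈ (Finset.range D.rank).powerset,
        (-1 : ℂ) ^ (J.card + K.card) * ((Nat.card (MulAction.orbitRel.Quotient ↥(D.group F)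
          ((↥(D.group F) ⧸ D.parabolicIn F J) × (↥(D.group F) ⧸ D.parabolicIn F K))) : ℕ) : ℂ))]
    have h2 := congrArg (fun z : ℤ => (z : ℂ)) halt
    simp only [Int.cast_sum, Int.cast_mul, Int.cast_pow, Int.cast_neg, Int.cast_one,
      Int.cast_natCast] at h2
    refine Eq.trans ?_ h2
    apply Finset.sum_congr rfl
    intro S₁ _
    rw [sum_powerset_range_map (l := D.rank) (fun K => (-1 : ℂ) ^ ((S₁.map Fin.valEmbedding).card + K.card) *
      ((Nat.card (MulAction.orbitRel.Quotient ↥(D.group F)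
        ((↥(D.group F) ⧸ D.parabolicIn F (S₁.map Fin.valEmbedding)) ×
          (↥(D.group F) ⧸ D.parabolicIn F K))) : ℕ) : ℂ))]
    apply Finset.sum_congr rfl
    intro S₂ _
    rw [Finset.card_map, Finset.card_map, parabolicIn_eq D hD P hPB (S₁.map Fin.valEmbedding),
      parabolicIn_eq D hD P hPB (S₂.map Fin.valEmbedding)]
  rcases Cfsg.Agent.Helper82.genChar_norm_one hgen hnorm with h | h
  · exact h
  · exfalso
    obtain ⟨m, hmpos, hm1⟩ := Cfsg.Agent.Helper82.irr_degree_pos h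
    rw [Pi.neg_apply, hdeg] at hm1
    have hm2 : -(((Fintype.card F ^ N : ℕ) : ℤ) : ℂ) = ((m : ℤ) : ℂ) := by
      push_cast
      exact hm1
    have hm3 : -((Fintype.card F ^ N : ℕ) : ℤ) = (m : ℤ) := by exact_mod_cast hm2
    omega

end

end Cfsg.Agent.Helper39.Stb
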