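import Cfsg.Agent.Lib.Helper39.StbChev3
import Cfsg.Agent.Lib.Helper74.DefectZero

/-!
# The Steinberg character of the Chevalley groups `G₂ … E₈` vanishes on `p`-singular elements

`St` is irreducible of degree `q^N`, the full `p`-part of `|G| = q^N |H| W(q)`, hence of `p`-defect
zero.
-/

set_option autoImplicit false
set_option linter.unusedSectionVars false

namespace Cfsg.Agent.Helper39.Stb

open Cfsg Cfsg.Lie Cfsg.Agent.S1043 Cfsg.Agent.Helper17 Cfsg.Agent.Helper18 Cfsg.Agent.Helper6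
open Cfsg.Agent.Helper6.Weyl Cfsg.Agent.Helper59.Poincare Cfsg.Agent.Helper59.ChevOrder

/-- the Poincaré sum is `1` modulo any divisor of the variable -/
theorem poinc_mod_one {n : ℕ} (V : VDatum n) (J : Fin n → Prop) [DecidablePred J] (t p : ℕ)
    (hp : p ∣ t) : poinc V J t % p = 1 % p := by
  classical
  have := finite_W V J
  have := Fintype.ofFinite (V.W J)
  unfold poinc
  rw [finsum_eq_sum_of_fintype]
  rw [← Finset.add_sum_erase _ _ (Finset.mem_univ (1 : V.W J))]
  have h1 : t ^ V.nJ J ((1 : V.W J) : (Mat n)ˣ) = 1 := by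
    rw [Subgroup.coe_one, VDatum.nJ_one, pow_zero]
  rw [h1]
  have h2 : p ∣ ∑ w ∈ Finset.univ.erase (1 : V.W J), t ^ V.nJ J (w : (Mat n)ˣ) := by
    apply Finset.dvd_sum
    intro w hw
    have hw1 : w ≠ 1 := Finset.ne_of_mem_erase hw
    have : V.nJ J (w : (Mat n)ˣ) ≠ 0 :=
      fun h => hw1 (Subtype.ext (V.eq_one_of_nJ_eq_zero J w.2 h))
    exact hp.trans (dvd_pow_self t this)
  obtain ⟨k, hk⟩ := h2
  rw [hk, Nat.add_mul_mod_self_left]

section

variable {F : Type*} [Field F] [Fintype F] (D : ChevalleyDatum) (hD : Good D)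

include hD in
/-- the Steinberg character vanishes on the `p`-singular elements -/
theorem steinberg_vanish (p : ℕ) [Fact p.Prime] [CharP F p]
    {l : ℕ} (hrank : D.rank = l) (M : CoxeterMatrix (Fin l)) (V : VDatum l)
    (hM : ∀ i j, M i j = orderOf (V.s i * V.s j))
    (hBNP : ∃ P : Cfsg.BNPair ↥(D.group F),
      P.B = (D.borelSubgroup F).subgroupOf (D.group F) ∧
      P.N = (D.monomialSubgroup F).subgroupOf (D.group F) ∧
      P.S = {n : ↥(D.group F) | ∃ i < D.rank,
        ((n : GL D.Idx F) : Matrix D.Idx D.Idx F) = D.nMat F (D.simple i) 1})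
    (hφ : ∃ φ : ↥(D.monomialSubgroup F) →* M.Group, Function.Surjective φ ∧
      φ.ker = (D.diagonalSubgroup F).subgroupOf (D.monomialSubgroup F) ∧
      ∀ (i : Fin l) (g : ↥(D.monomialSubgroup F)),
        ((g : GL D.Idx F) : Matrix D.Idx D.Idx F) = D.nMat F (D.simple i) 1 → φ g = M.simple i)
    (hB : BNFacts D) (hU : UiFacts D) {tbl : List ℕ} (hT : TorusData D tbl)
    (hTri : TriOK D) (hNeg : NegTriOK D)
    (hconj : ∀ i < D.rank, ∀ s < D.nroots, ConjGoal' F D i s)
    (hNH : D.monomialSubgroup F ≤ Subgroup.normalizer (D.diagonalSubgroup F : Set (GL D.Idx F)))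
    (hinj : ∀ r < D.nroots, ∀ t : F, D.x F r t = 1 → t = 0)
    (hBN : D.borelSubgroup F ⊓ D.monomialSubgroup F = D.diagonalSubgroup F)
    (hUH : D.posUnipotent F ⊓ D.diagonalSubgroup F = ⊥)
    (hUcard : Nat.card (D.posUnipotent F) = Fintype.card F ^ (V.posJ VDatum.allJ).card)
    {d : ℕ} (hH : d * Nat.card (D.diagonalSubgroup F) = (Fintype.card F - 1) ^ l)
    (g : ↥(D.group F)) (hg : p ∣ orderOf g) :
    D.steinbergCharacter F g = 0 := by
  classical
  have hirr := steinberg_irreducible (F := F) D hD hrank M V hM hBNP hφ hB hU hT hTri hNeg hconj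
    hNH hinj hBN rfl
  have hdeg := steinberg_degree (F := F) D hD hrank M V hM hBNP hφ hB hU hT hTri hNeg hconj
    hNH hinj hBN rfl
  obtain ⟨P, hPB, hPN, hPS⟩ := hBNP
  obtain ⟨φ, hφs, hφk, hφn⟩ := hφ
  obtain ⟨e, he⟩ := V.exists_mulEquiv M hM
  have hBG : D.borelSubgroup F ≤ D.group F := borel_le D hD
  have hqC : ∀ s ∈ P.S, Nat.card (C P s) = Fintype.card F * Nat.card P.B := by
    intro s hs
    have hs' := hs
    rw [hPS] at hs'
    obtain ⟨i, hi, hmat⟩ := hs'
    have : s = ⟨nGL D hD i, nGL_mem_group D hD i⟩ :=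
      Subtype.ext (Units.ext (hmat.trans (nGL_val D hD i).symm))
    rw [this]
    exact card_C_simple D hD P hPB hB hU hT hTri hNeg hconj hNH hinj i hi
  have h1 := card_group D hD hrank M V P hPB hPN hPS φ hφs hφk hφn e he hBN hqC
  have h2 : Nat.card P.B = Nat.card (D.borelSubgroup F) := by
    rw [hPB]
    exact Nat.card_congr (Subgroup.subgroupOfEquivOfLe hBG).toEquiv
  have h3 : Nat.card (D.borelSubgroup F) =
      Nat.card (D.posUnipotent F) * Nat.card (D.diagonalSubgroup F) :=
    card_sup_eq _ _ (diag_le_normalizer D hT) hUH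
  -- arithmetic
  have hp : p.Prime := Fact.out
  set q := Fintype.card F with hq
  set N := (V.posJ VDatum.allJ).card with hNdef
  have hpq : p ∣ q := by
    obtain ⟨n, _, hn⟩ := FiniteField.card F p
    rw [hq, hn]
    exact dvd_pow_self p n.ne_zero
  have hq1 : 1 ≤ q := Fintype.card_pos
  have hcopH : ¬ p ∣ Nat.card (D.diagonalSubgroup F) := by
    intro h
    have h4 : p ∣ (q - 1) ^ l := by rw [← hH]; exact h.mul_left d
    have h5 : p ∣ q - 1 := hp.dvd_of_dvd_pow h4
    have h6 : p ∣ q - (q - 1) := Nat.dvd_sub hpq h5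
    have h7 : q - (q - 1) = 1 := by omega
    rw [h7] at h6
    exact hp.one_lt.ne' (Nat.dvd_one.1 h6)
  have hcopW : ¬ p ∣ poinc V VDatum.allJ q := by
    intro h
    have h4 := poinc_mod_one V VDatum.allJ q p hpq
    rw [Nat.mod_eq_zero_of_dvd h, Nat.mod_eq_of_lt hp.one_lt] at h4
    exact absurd h4 (by norm_num)
  have hcard : Nat.card ↥(D.group F) =
      q ^ N * (Nat.card (D.diagonalSubgroup F) * poinc V VDatum.allJ q) := by
    rw [h1, h2, h3, hUcard]; ring
  have hqN : q ^ N ≠ 0 := pow_ne_zero _ (by omega)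
  have hm0 : Nat.card (D.diagonalSubgroup F) * poinc V VDatum.allJ q ≠ 0 := by
    intro h
    have : Nat.card ↥(D.group F) = 0 := by rw [hcard, h, mul_zero]
    exact Nat.card_pos.ne' this
  have hm : ¬ p ∣ Nat.card (D.diagonalSubgroup F) * poinc V VDatum.allJ q := by
    intro h
    rcases (Nat.Prime.dvd_mul hp).1 h with h | h
    · exact hcopH h
    · exact hcopW h
  have hfac : (Nat.card ↥(D.group F)).factorization p = (q ^ N).factorization p := by
    rw [hcard, Nat.factorization_mul hqN hm0, Finsupp.add_apply,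
      Nat.factorization_eq_zero_of_not_dvd hm, add_zero]
  have hcd : Cfsg.charDegree (D.steinbergCharacter F) = q ^ N := by
    unfold Cfsg.charDegree
    rw [hdeg]
    have : ((q : ℂ) ^ N) = ((q ^ N : ℕ) : ℂ) := by push_cast; rfl
    rw [this, Complex.natCast_re, Nat.floor_natCast]
  exact Cfsg.Agent.Helper74.DZ.irr_vanish_of_defect_zero
    (⟨D.steinbergCharacter F, hirr⟩ : Cfsg.IrrCharacter ↥(D.group F)) p hp
    (by rw [hfac, hcd]; exact Nat.ordProj_dvd _ _) g hg

end

end Cfsg.Agent.Helper39.Stb
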