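import Cfsg.Agent.Lib.Helper6.WeylDataG2
import Cfsg.Agent.Lib.Helper6.WeylDataB2
import Cfsg.Agent.Lib.Helper6.WeylDataD4
import Cfsg.Agent.Lib.Helper6.WeylDataF4
import Cfsg.Agent.Lib.Helper6.WeylDataE6
import Cfsg.Agent.Lib.Helper6.WeylDataE7
import Cfsg.Agent.Lib.Helper6.WeylDataE8

/-!
# Number of positive roots of the seven concrete root data
-/

set_option autoImplicit false
set_option maxRecDepth 100000

namespace Cfsg.Agent.Helper39.Stb

open Cfsg.Agent.Helper6.Weyl

theorem card_posJ_all {n : ℕ} (D : VDatum n) (codes : List ℕ)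
    (hpos : D.pos = codes.map (decode n))
    (hnd : codes.Nodup) (hlt : ∀ c ∈ codes, c < 16 ^ n) :
    (D.posJ VDatum.allJ).card = codes.length := by
  have hnd' : (codes.map (decode n)).Nodup := by
    apply List.Nodup.map_on _ hnd
    intro a ha b hb hab
    exact decode_inj n a b (hlt a ha) (hlt b hb) hab
  unfold VDatum.posJ
  rw [List.filter_eq_self.2 (fun β _ => by simp), hpos,
    List.toFinset_card_of_nodup hnd', List.length_map]

theorem card_pos_G2 : (G2.vd.posJ VDatum.allJ).card = 6 :=
  card_posJ_all G2.vd G2.posCodes rfl (by decide +kernel) (by decide +kernel)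

theorem card_pos_B2 : (B2.vd.posJ VDatum.allJ).card = 4 :=
  card_posJ_all B2.vd B2.posCodes rfl (by decide +kernel) (by decide +kernel)

theorem card_pos_D4 : (D4.vd.posJ VDatum.allJ).card = 12 :=
  card_posJ_all D4.vd D4.posCodes rfl (by decide +kernel) (by decide +kernel)

theorem card_pos_F4 : (F4.vd.posJ VDatum.allJ).card = 24 :=
  card_posJ_all F4.vd F4.posCodes rfl (by decide +kernel) (by decide +kernel)

theorem card_pos_E6 : (E6.vd.posJ VDatum.allJ).card = 36 :=
  card_posJ_all E6.vd E6.posCodes rfl (by decide +kernel) (by decide +kernel)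

theorem card_pos_E7 : (E7.vd.posJ VDatum.allJ).card = 63 :=
  card_posJ_all E7.vd E7.posCodes rfl (by decide +kernel) (by decide +kernel)

theorem card_pos_E8 : (E8.vd.posJ VDatum.allJ).card = 120 :=
  card_posJ_all E8.vd E8.posCodes rfl (by decide +kernel) (by decide +kernel)

end Cfsg.Agent.Helper39.Stb
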