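import Cfsg.Agent.Lib.Helper59.PoincA

/-!
# Steinberg character degree: definitions for the Weyl-group side

`IsMin D J u`: `u` sends every simple root of `J` to a positive root (i.e. `u` is the minimal
representative of the coset `u W_J`).  `minSum D J t = ∑_{u minimal for J} t^{n(u)}`.
-/

set_option autoImplicit false

namespace Cfsg.Agent.Helper39.Stb

open Cfsg.Agent.Helper6.Weyl Cfsg.Agent.Helper59.Poincare Matrix

variable {n : ℕ} (D : VDatum n)

/-- `u` keeps every simple root of `J` positive -/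
def IsMin (J : Fin n → Prop) (u : (Mat n)ˣ) : Prop :=
  ∀ j, J j → u • (Pi.single j 1 : Vec n) ∈ D.posJ VDatum.allJ

/-- `u` makes every simple root negative (the longest element) -/
def IsLongest (u : (Mat n)ˣ) : Prop :=
  ∀ j : Fin n, -(u • (Pi.single j 1 : Vec n)) ∈ D.posJ VDatum.allJ

/-- the Poincaré sum over the minimal coset representatives of `W / W_J` -/
noncomputable def minSum (J : Fin n → Prop) (t : ℕ) : ℕ :=
  ∑ᶠ u : {u : D.Wf // IsMin D J ((u : D.Wf) : (Mat n)ˣ)},
    t ^ D.nJ VDatum.allJ (((u : {u : D.Wf // IsMin D J ((u : D.Wf) : (Mat n)ˣ)}) : D.Wf) : (Mat n)ˣ)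

end Cfsg.Agent.Helper39.Stb
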