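import Mathlib
import Cfsg.Agent.Lib.Helper39.SuzukiMat

set_option autoImplicit false

namespace Cfsg.Agent.Helper39

open Matrix Polynomial

variable {F : Type*} [Field F]

/-- The bottom-left entry of a Suzuki unipotent matrix. -/
def fS (r : ℕ) (c e : F) : F := c ^ 2 * c ^ r + c * e + e ^ r

/-- Polynomial version of the Suzuki unipotent matrices: `S(c X, e X^(1+r))`. -/
noncomputable def pS (r : ℕ) (c e : F) : Matrix (Fin 4) (Fin 4) F[X] :=
  !![1, 0, 0, 0;
     C c * X ^ 1, 1, 0, 0;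
     C (c * c ^ r + e) * X ^ (1 + r), C (c ^ r) * X ^ r, 1, 0;
     C (fS r c e) * X ^ (2 + r), C e * X ^ (1 + r), C c * X ^ 1, 1]

/-- The antidiagonal matrix over the polynomial ring. -/
noncomputable def pT : Matrix (Fin 4) (Fin 4) F[X] :=
  !![0, 0, 0, 1;
     0, 0, 1, 0;
     0, 1, 0, 0;
     1, 0, 0, 0]

theorem pT_mulVec (v : Fin 4 → F[X]) : pT *ᵥ v = ![v 3, v 2, v 1, v 0] := by
  ext i
  fin_cases i <;> simp [pT, Matrix.mulVec, dotProduct, Fin.sum_univ_four]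

theorem pT_pT_mulVec (v : Fin 4 → F[X]) : pT *ᵥ (pT *ᵥ v) = v := by
  rw [pT_mulVec, pT_mulVec]
  ext i
  fin_cases i <;> simp

theorem pS_mulVec (r : ℕ) (c e : F) (v : Fin 4 → F[X]) :
    pS r c e *ᵥ v = ![v 0, C c * X ^ 1 * v 0 + v 1,
      C (c * c ^ r + e) * X ^ (1 + r) * v 0 + C (c ^ r) * X ^ r * v 1 + v 2,
      C (fS r c e) * X ^ (2 + r) * v 0 + C e * X ^ (1 + r) * v 1 + C c * X ^ 1 * v 2 + v 3] := by
  ext i
  fin_cases i <;> simp [pS, Matrix.mulVec, dotProduct, Fin.sum_univ_four]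

theorem pS_mul {r : ℕ} (h : TitsHyp F r) (c e c' e' : F) :
    pS r c e * pS r c' e' = pS r (c + c') (e + e' + c * c' ^ r) := by
  have h2 : (2 : F[X]) = 0 := by
    rw [← map_ofNat (C : F →+* F[X]) 2, h.two, map_zero]
  have e1 : (c + c') ^ r = c ^ r + c' ^ r := h.add c c'
  have e2 : (e + e' + c * c' ^ r) ^ r = e ^ r + e' ^ r + c ^ r * c' ^ 2 := by
    rw [h.add, h.add, mul_pow, h.sq]
  ext i j : 1
  fin_cases i <;> fin_cases j <;>
    simp [pS, fS, Matrix.mul_apply, Fin.sum_univ_four, e1, e2] <;>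
    (rw [← sub_eq_zero]; ring_nf; try simp [h2])

/-- The first entry dominates, with degree `m`. -/
def OmM (v : Fin 4 → F[X]) (m : ℕ) : Prop :=
  degree (v 0) = (m : WithBot ℕ) ∧ ∀ j : Fin 4, j ≠ 0 → degree (v j) < (m : WithBot ℕ)

/-- The last entry dominates, with degree `m`. -/
def OmP (v : Fin 4 → F[X]) (m : ℕ) : Prop :=
  degree (v 3) = (m : WithBot ℕ) ∧ ∀ j : Fin 4, j ≠ 3 → degree (v j) < (m : WithBot ℕ)

theorem pT_OmP {v : Fin 4 → F[X]} {m : ℕ} (h : OmP v m) : OmM (pT *ᵥ v) m := by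
  rw [pT_mulVec]
  refine ⟨h.1, ?_⟩
  intro j hj
  fin_cases j
  · exact absurd rfl hj
  · exact h.2 2 (by decide)
  · exact h.2 1 (by decide)
  · exact h.2 0 (by decide)

theorem deg_term_lt (a : F) (k n N : ℕ) (p : F[X]) (hp : degree p < (n : WithBot ℕ))
    (hk : k + n ≤ N) : degree (C a * X ^ k * p) < (N : WithBot ℕ) := by
  rw [degree_lt_iff_coeff_zero] at hp ⊢
  intro j hj
  rw [mul_assoc, coeff_C_mul, coeff_X_pow_mul']
  split_ifs with hkj
  · rw [hp (j - k) (by omega), mul_zero]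
  · rw [mul_zero]

theorem deg_lt_of_le (n N : ℕ) (p : F[X]) (hp : degree p < (n : WithBot ℕ)) (hk : n ≤ N) :
    degree p < (N : WithBot ℕ) :=
  lt_of_lt_of_le hp (by exact_mod_cast hk)

theorem deg_lt_of_eq (n N : ℕ) (p : F[X]) (hp : degree p = (n : WithBot ℕ)) (hk : n < N) :
    degree p < (N : WithBot ℕ) := by
  rw [hp]
  exact_mod_cast hk

theorem deg_term_lt' (a : F) (k n N : ℕ) (p : F[X]) (hp : degree p = (n : WithBot ℕ))
    (hk : k + n < N) : degree (C a * X ^ k * p) < (N : WithBot ℕ) :=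
  deg_term_lt a k (n + 1) N p (deg_lt_of_eq n (n + 1) p hp (by omega)) (by omega)

theorem deg_add_lt (N : ℕ) (p q : F[X]) (hp : degree p < (N : WithBot ℕ))
    (hq : degree q < (N : WithBot ℕ)) : degree (p + q) < (N : WithBot ℕ) :=
  lt_of_le_of_lt (degree_add_le p q) (max_lt hp hq)

theorem pS_OmM {r : ℕ} {c e : F} {v : Fin 4 → F[X]} {m : ℕ} (h : OmM v m) (hf : fS r c e ≠ 0) :
    OmP (pS r c e *ᵥ v) (m + (2 + r)) := by
  obtain ⟨h0, hj⟩ := h
  have h1 := hj 1 (by decide)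
  have h2 := hj 2 (by decide)
  have h3 := hj 3 (by decide)
  rw [pS_mulVec]
  refine ⟨?_, ?_⟩
  · change degree (C (fS r c e) * X ^ (2 + r) * v 0 + C e * X ^ (1 + r) * v 1 + C c * X ^ 1 * v 2
      + v 3) = _
    have hmain : degree (C (fS r c e) * X ^ (2 + r) * v 0) = ((m + (2 + r) : ℕ) : WithBot ℕ) := by
      rw [degree_mul, degree_C_mul_X_pow _ hf, h0]
      push_cast
      rw [add_comm]
    rw [add_assoc, add_assoc, degree_add_eq_left_of_degree_lt, hmain]
    rw [hmain]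
    apply deg_add_lt
    · exact deg_term_lt _ _ m _ _ h1 (by omega)
    apply deg_add_lt
    · exact deg_term_lt _ _ m _ _ h2 (by omega)
    · exact deg_lt_of_le m _ _ h3 (by omega)
  · intro j hj3
    fin_cases j
    · change degree (v 0) < _
      exact deg_lt_of_eq m _ _ h0 (by omega)
    · change degree (C c * X ^ 1 * v 0 + v 1) < _
      apply deg_add_lt
      · exact deg_term_lt' _ _ m _ _ h0 (by omega)
      · exact deg_lt_of_le m _ _ h1 (by omega)
    · change degree (C (c * c ^ r + e) * X ^ (1 + r) * v 0 + C (c ^ r) * X ^ r * v 1 + v 2) < _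
      apply deg_add_lt
      apply deg_add_lt
      · exact deg_term_lt' _ _ m _ _ h0 (by omega)
      · exact deg_term_lt _ _ m _ _ h1 (by omega)
      · exact deg_lt_of_le m _ _ h2 (by omega)
    · exact absurd rfl hj3

theorem fS_pos {r : ℕ} (h : TitsHyp F r) {c : F} (hc : c ≠ 0) : fS r c 0 ≠ 0 := by
  simp only [fS, mul_zero, add_zero, zero_pow h.rpos.ne']
  exact mul_ne_zero (pow_ne_zero _ hc) (pow_ne_zero _ hc)

theorem fS_neg {r : ℕ} (h : TitsHyp F r) {c : F} (hc : c ≠ 0) : fS r c (c * c ^ r) ≠ 0 := by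
  have h2 := h.two
  have : fS r c (c * c ^ r) = c ^ r * c ^ 2 := by
    simp only [fS, mul_pow, h.sq]
    linear_combination (c ^ 2 * c ^ r) * h2
  rw [this]
  exact mul_ne_zero (pow_ne_zero _ hc) (pow_ne_zero _ hc)

theorem fS_mix1 {r : ℕ} (h : TitsHyp F r) (ci cj : F) :
    fS r (ci + cj) (0 + cj * cj ^ r + ci * cj ^ r) = ci ^ 2 * ci ^ r + cj ^ 2 * cj ^ r := by
  have h2 := h.two
  have h4 : (4 : F) = 0 := by linear_combination 2 * h2
  simp only [fS, zero_add, h.add, mul_pow, h.sq]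
  rw [← sub_eq_zero]
  ring_nf
  try simp [h2, h4]

theorem fS_mix2 {r : ℕ} (h : TitsHyp F r) (ci cj : F) :
    fS r (ci + cj) (ci * ci ^ r + 0 + ci * cj ^ r) = (ci + cj) * (ci * ci ^ r + cj * cj ^ r) := by
  have h2 := h.two
  simp only [fS, add_zero, h.add, mul_pow, h.sq]
  rw [← sub_eq_zero]
  ring_nf
  try simp [h2]

theorem tits_inj {r : ℕ} (h : TitsHyp F r) {x y : F} (hxy : x * x ^ r = y * y ^ r) : x = y := by
  have key : ∀ z : F, (z * z ^ r) ^ (r - 1) * z = z ^ 2 := by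
    intro z
    have hr : r - 1 + 1 = r := Nat.sub_add_cancel h.rpos
    calc (z * z ^ r) ^ (r - 1) * z = (z ^ (r - 1) * z) * (z ^ r) ^ (r - 1) := by
          rw [mul_pow]; ring
      _ = z ^ r * (z ^ r) ^ (r - 1) := by rw [← pow_succ, hr]
      _ = (z ^ r) ^ r := by rw [← pow_succ', hr]
      _ = z ^ 2 := h.sq z
  by_cases hx : x = 0
  · subst hx
    rw [zero_mul] at hxy
    have := mul_eq_zero.mp hxy.symm
    rcases this with h0 | h0
    · exact h0.symm
    · exact (pow_eq_zero_iff h.rpos.ne').mp h0 |>.symm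
  · have hy : y ≠ 0 := by
      intro hy
      subst hy
      rw [zero_mul] at hxy
      rcases mul_eq_zero.mp hxy with h0 | h0
      · exact hx h0
      · exact hx ((pow_eq_zero_iff h.rpos.ne').mp h0)
    have kx := key x
    have ky := key y
    rw [hxy] at kx
    have e1 : (y * y ^ r) ^ (r - 1) = x := by
      apply mul_right_cancel₀ hx
      rw [kx]; ring
    have e2 : (y * y ^ r) ^ (r - 1) = y := by
      apply mul_right_cancel₀ hy
      rw [ky]; ring
    rw [← e1, e2]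

theorem fS_mix_ne {r : ℕ} (h : TitsHyp F r) {ci cj : F} (hne : ci ≠ cj) :
    (ci + cj) * (ci * ci ^ r + cj * cj ^ r) ≠ 0 := by
  have h2 := h.two
  have hadd : ∀ x y : F, x + y = 0 → x = y := by
    intro x y hxy
    linear_combination hxy - y * h2
  apply mul_ne_zero
  · intro h0
    exact hne (hadd _ _ h0)
  · intro h0
    exact hne (tits_inj h (hadd _ _ h0))

theorem fS_mix_ne' {r : ℕ} (h : TitsHyp F r) {ci cj : F} (hne : ci ≠ cj) :
    ci ^ 2 * ci ^ r + cj ^ 2 * cj ^ r ≠ 0 := by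
  have h2 := h.two
  have hadd : ∀ x y : F, x + y = 0 → x = y := by
    intro x y hxy
    linear_combination hxy - y * h2
  intro h0
  have h1 : ci ^ 2 * ci ^ r = cj ^ 2 * cj ^ r := hadd _ _ h0
  have h3 : (ci ^ 2 * ci ^ r) ^ r = (cj ^ 2 * cj ^ r) ^ r := by rw [h1]
  rw [mul_pow, mul_pow, h.sq, h.sq, ← pow_mul, ← pow_mul, mul_comm 2 r, pow_mul, pow_mul] at h3
  have h4 : (ci * ci ^ r + cj * cj ^ r) ^ 2 = 0 := by
    linear_combination h3 + (ci * ci ^ r * (cj * cj ^ r) + cj ^ 2 * (cj ^ r) ^ 2) * h2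
  have h5 : ci * ci ^ r + cj * cj ^ r = 0 := by
    exact pow_eq_zero_iff (n := 2) (by norm_num) |>.mp h4
  exact hne (tits_inj h (hadd _ _ h5))

/-- The action of a letter on a column vector of polynomials. -/
noncomputable def actP (r : ℕ) (c : ℕ → F) (l : ℕ × Bool) (v : Fin 4 → F[X]) : Fin 4 → F[X] :=
  if l.2 then pS r (c l.1) 0 *ᵥ (pT *ᵥ (pS r (c l.1) 0 *ᵥ (pT *ᵥ v)))
  else pT *ᵥ (pS r (c l.1) (c l.1 * c l.1 ^ r) *ᵥ
    (pT *ᵥ (pS r (c l.1) (c l.1 * c l.1 ^ r) *ᵥ v)))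

/-- The state invariant after `k` letters, `l` being the last letter applied. -/
def StP (r : ℕ) (c : ℕ → F) (k : ℕ) (l : ℕ × Bool) (v : Fin 4 → F[X]) : Prop :=
  ∃ (y : Fin 4 → F[X]) (m : ℕ), OmM y m ∧ m + (2 + r) ≤ 2 * k * (2 + r) ∧
    v = if l.2 then pS r (c l.1) 0 *ᵥ y else pT *ᵥ (pS r (c l.1) (c l.1 * c l.1 ^ r) *ᵥ y)

/-- The first basis vector. -/
noncomputable def e1P : Fin 4 → F[X] := ![1, 0, 0, 0]

theorem OmM_e1P : OmM (e1P : Fin 4 → F[X]) 0 := by
  refine ⟨by simp [e1P], ?_⟩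
  intro j hj
  fin_cases j
  · exact absurd rfl hj
  all_goals simp [e1P]

theorem stP_init {r : ℕ} (h : TitsHyp F r) (c : ℕ → F) (l : ℕ × Bool) (hl : c l.1 ≠ 0) :
    StP r c 1 l (actP r c l e1P) := by
  rcases l with ⟨i, b⟩
  cases b with
  | true =>
    refine ⟨e1P, 0, OmM_e1P, by omega, ?_⟩
    simp only [actP, if_true]
    have e1 : pT *ᵥ (e1P : Fin 4 → F[X]) = ![0, 0, 0, 1] := by
      rw [pT_mulVec]; simp [e1P]
    have e2 : pS r (c i) 0 *ᵥ (![0, 0, 0, 1] : Fin 4 → F[X]) = ![0, 0, 0, 1] := by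
      rw [pS_mulVec]; simp
    have e3 : pT *ᵥ (![0, 0, 0, 1] : Fin 4 → F[X]) = e1P := by
      rw [pT_mulVec]; simp [e1P]
    rw [e1, e2, e3]
  | false =>
    simp only at hl
    refine ⟨pT *ᵥ (pS r (c i) (c i * c i ^ r) *ᵥ e1P), 0 + (2 + r),
      pT_OmP (pS_OmM OmM_e1P (fS_neg h hl)), by omega, ?_⟩
    simp only [actP, Bool.false_eq_true, if_false]

theorem stP_step {r : ℕ} (h : TitsHyp F r) (c : ℕ → F) (k : ℕ) (l l' : ℕ × Bool)
    (v : Fin 4 → F[X]) (hred : l.1 = l'.1 → l.2 = l'.2) (hl : c l.1 ≠ 0) (hl' : c l'.1 ≠ 0)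
    (hinj : c l.1 = c l'.1 → l.1 = l'.1) (hst : StP r c k l' v) :
    StP r c (k + 1) l (actP r c l v) := by
  obtain ⟨y, m, hy, hm, hv⟩ := hst
  rcases l with ⟨i, b⟩
  rcases l' with ⟨j, b'⟩
  simp only at hred hl hl' hinj hv
  cases b <;> cases b'
  · -- l = (i,-), l' = (j,-)
    simp only [Bool.false_eq_true, if_false] at hv
    refine ⟨pT *ᵥ (pS r (c i) (c i * c i ^ r) *ᵥ v), m + (2 + r) + (2 + r), ?_, ?_, ?_⟩
    · rw [hv]
      exact pT_OmP (pS_OmM (pT_OmP (pS_OmM hy (fS_neg h hl'))) (fS_neg h hl))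
    · have : 2 * (k + 1) * (2 + r) = 2 * k * (2 + r) + 2 * (2 + r) := by ring
      omega
    · simp only [actP, Bool.false_eq_true, if_false]
  · -- l = (i,-), l' = (j,+)
    simp only [if_true] at hv
    have hij : c i ≠ c j := by
      intro hc
      have := hred (hinj hc)
      simp at this
    refine ⟨pT *ᵥ (pS r (c i + c j) (c i * c i ^ r + 0 + c i * c j ^ r) *ᵥ y), m + (2 + r),
      ?_, ?_, ?_⟩
    · refine pT_OmP (pS_OmM hy ?_)
      rw [fS_mix2 h]
      exact fS_mix_ne h hij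
    · have : 2 * (k + 1) * (2 + r) = 2 * k * (2 + r) + 2 * (2 + r) := by ring
      omega
    · simp only [actP, Bool.false_eq_true, if_false]
      rw [hv, ← pS_mul h, ← Matrix.mulVec_mulVec]
  · -- l = (i,+), l' = (j,-)
    simp only [Bool.false_eq_true, if_false] at hv
    have hij : c i ≠ c j := by
      intro hc
      have := hred (hinj hc)
      simp at this
    refine ⟨pT *ᵥ (pS r (c i + c j) (0 + c j * c j ^ r + c i * c j ^ r) *ᵥ y), m + (2 + r),
      ?_, ?_, ?_⟩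
    · refine pT_OmP (pS_OmM hy ?_)
      rw [fS_mix1 h]
      exact fS_mix_ne' h hij
    · have : 2 * (k + 1) * (2 + r) = 2 * k * (2 + r) + 2 * (2 + r) := by ring
      omega
    · simp only [actP, if_true]
      rw [hv, pT_pT_mulVec, ← pS_mul h, ← Matrix.mulVec_mulVec]
  · -- l = (i,+), l' = (j,+)
    simp only [if_true] at hv
    refine ⟨pT *ᵥ (pS r (c i) 0 *ᵥ (pT *ᵥ v)), m + (2 + r) + (2 + r), ?_, ?_, ?_⟩
    · rw [hv]
      exact pT_OmP (pS_OmM (pT_OmP (pS_OmM hy (fS_pos h hl'))) (fS_pos h hl))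
    · have : 2 * (k + 1) * (2 + r) = 2 * k * (2 + r) + 2 * (2 + r) := by ring
      omega
    · simp only [actP, if_true]

theorem stP_final {r : ℕ} (h : TitsHyp F r) (c : ℕ → F) (k : ℕ) (l : ℕ × Bool)
    (v : Fin 4 → F[X]) (hl : c l.1 ≠ 0) (hst : StP r c k l v) :
    ∃ (j : Fin 4) (d : ℕ), degree (v j) = (d : WithBot ℕ) ∧ 2 + r ≤ d ∧ d ≤ 2 * k * (2 + r) := by
  obtain ⟨y, m, hy, hm, hv⟩ := hst
  rcases l with ⟨i, b⟩
  simp only at hl hv
  cases b with
  | true =>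
    simp only [if_true] at hv
    have := pS_OmM hy (fS_pos (r := r) h hl)
    refine ⟨3, m + (2 + r), ?_, by omega, hm⟩
    rw [hv]
    exact this.1
  | false =>
    simp only [Bool.false_eq_true, if_false] at hv
    have := pT_OmP (pS_OmM hy (fS_neg (r := r) h hl))
    refine ⟨0, m + (2 + r), ?_, by omega, hm⟩
    rw [hv]
    exact this.1

theorem stP_run {r : ℕ} (h : TitsHyp F r) (c : ℕ → F) :
    ∀ (L : List (ℕ × Bool)) (l : ℕ × Bool), FreeGroup.IsReduced (l :: L) →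
      (∀ x ∈ l :: L, c x.1 ≠ 0) →
      (∀ x ∈ l :: L, ∀ x' ∈ l :: L, c x.1 = c x'.1 → x.1 = x'.1) →
      StP r c (L.length + 1) l ((l :: L).foldr (actP r c) e1P) := by
  intro L
  induction L with
  | nil =>
    intro l _ h0 _
    exact stP_init h c l (h0 l (by simp))
  | cons l' L ih =>
    intro l hred h0 hinj
    rw [FreeGroup.isReduced_cons_cons] at hred
    have h1 := ih l' hred.2 (fun x hx => h0 x (List.mem_cons_of_mem _ hx))
      (fun x hx y hy => hinj x (List.mem_cons_of_mem _ hx) y (List.mem_cons_of_mem _ hy))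
    have h2 := stP_step h c (L.length + 1) l l' _ hred.1 (h0 l (by simp)) (h0 l' (by simp))
      (hinj l (by simp) l' (by simp)) h1
    simpa using h2

/-- Main polynomial statement: some entry of the image of `e₁` under a nonempty reduced word
has large degree. -/
theorem word_degree {r : ℕ} (h : TitsHyp F r) (c : ℕ → F) (L : List (ℕ × Bool)) (hL : L ≠ [])
    (hred : FreeGroup.IsReduced L) (h0 : ∀ x ∈ L, c x.1 ≠ 0)
    (hinj : ∀ x ∈ L, ∀ x' ∈ L, c x.1 = c x'.1 → x.1 = x'.1) :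
    ∃ (j : Fin 4) (d : ℕ), degree ((L.foldr (actP r c) e1P) j) = (d : WithBot ℕ) ∧ 2 + r ≤ d ∧
      d ≤ 2 * L.length * (2 + r) := by
  obtain ⟨l, L', rfl⟩ := List.exists_cons_of_ne_nil hL
  have := stP_run h c L' l hred h0 hinj
  have h2 := stP_final h c _ l _ (h0 l (by simp)) this
  simpa using h2

end Cfsg.Agent.Helper39
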