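import Mathlib
import Cfsg.Agent.Lib.Helper39.SuzukiPoly

set_option autoImplicit false

namespace Cfsg.Agent.Helper39

open Matrix Polynomial

variable {F : Type*} [Field F]

/-- Evaluation of a vector of polynomials. -/
noncomputable def evalVec (s : F) (v : Fin 4 → F[X]) : Fin 4 → F := fun i => eval s (v i)

theorem evalVec_pT (s : F) (v : Fin 4 → F[X]) :
    evalVec s (pT *ᵥ v) = (tMat : Matrix (Fin 4) (Fin 4) F) *ᵥ evalVec s v := by
  rw [pT_mulVec]
  ext i
  fin_cases i <;> simp [evalVec, tMat, Matrix.mulVec, dotProduct, Fin.sum_univ_four]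

theorem evalVec_pS {r : ℕ} (h : TitsHyp F r) (c e s : F) (v : Fin 4 → F[X]) :
    evalVec s (pS r c e *ᵥ v) = sMat r (c * s) (e * s ^ (1 + r)) *ᵥ evalVec s v := by
  have key : (e * s ^ (1 + r)) ^ r = e ^ r * (s ^ r * s ^ 2) := by
    rw [mul_pow, pow_add, mul_pow, h.sq, pow_one]
  rw [pS_mulVec]
  ext i
  fin_cases i <;>
    simp [evalVec, sMat, fS, Matrix.mulVec, dotProduct, Fin.sum_univ_four, key, mul_pow,
      -mul_eq_mul_right_iff, -mul_eq_mul_left_iff] <;> ring

/-- The matrix of a letter, specialised at `s`. -/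
def matS (r : ℕ) (c : ℕ → F) (s : F) (l : ℕ × Bool) : Matrix (Fin 4) (Fin 4) F :=
  if l.2 then sMat r (c l.1 * s) 0 * tMat * sMat r (c l.1 * s) 0 * tMat
  else tMat * sMat r (c l.1 * s) (c l.1 * s * (c l.1 * s) ^ r + 0) * tMat *
    sMat r (c l.1 * s) (c l.1 * s * (c l.1 * s) ^ r + 0)

theorem evalVec_actP {r : ℕ} (h : TitsHyp F r) (c : ℕ → F) (s : F) (l : ℕ × Bool)
    (v : Fin 4 → F[X]) : evalVec s (actP r c l v) = matS r c s l *ᵥ evalVec s v := by
  rcases l with ⟨i, b⟩
  have e0 : (0 : F) * s ^ (1 + r) = 0 := zero_mul _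
  have e1 : c i * c i ^ r * s ^ (1 + r) = c i * s * (c i * s) ^ r + 0 := by
    rw [mul_pow, pow_add, pow_one]; ring
  cases b
  · simp only [actP, matS, Bool.false_eq_true, if_false]
    rw [evalVec_pT, evalVec_pS h, evalVec_pT, evalVec_pS h, e1]
    simp only [Matrix.mulVec_mulVec, Matrix.mul_assoc]
  · simp only [actP, matS, if_true]
    rw [evalVec_pS h, evalVec_pT, evalVec_pS h, evalVec_pT, e0]
    simp only [Matrix.mulVec_mulVec, Matrix.mul_assoc]

theorem evalVec_foldr {r : ℕ} (h : TitsHyp F r) (c : ℕ → F) (s : F) :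
    ∀ (L : List (ℕ × Bool)) (v : Fin 4 → F[X]),
      evalVec s (L.foldr (actP r c) v) = (L.map (matS r c s)).prod *ᵥ evalVec s v := by
  intro L
  induction L with
  | nil => intro v; simp
  | cons l L ih =>
    intro v
    rw [List.foldr_cons, evalVec_actP h, ih, List.map_cons, List.prod_cons, Matrix.mulVec_mulVec]

/-- The generators in the Suzuki group. -/
def genSz {r : ℕ} (h : TitsHyp F r) (c : ℕ → F) (s : F) (i : ℕ) : ↥(Cfsg.Lie.Sz F r) :=
  ⟨gS h (c i * s) 0 * gT * gS h (c i * s) 0 * gT,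
    mul_mem (mul_mem (mul_mem (gS_mem_Sz h _ _) (gT_mem_Sz h)) (gS_mem_Sz h _ _)) (gT_mem_Sz h)⟩

theorem genSz_letter {r : ℕ} (h : TitsHyp F r) (c : ℕ → F) (s : F) (l : ℕ × Bool) :
    (((cond l.2 (genSz h c s l.1) (genSz h c s l.1)⁻¹ : ↥(Cfsg.Lie.Sz F r)) : GL (Fin 4) F) :
      Matrix (Fin 4) (Fin 4) F) = matS r c s l := by
  rcases l with ⟨i, b⟩
  cases b
  · simp only [cond_false, matS, Bool.false_eq_true, if_false]
    rw [Subgroup.coe_inv]
    simp only [genSz, _root_.mul_inv_rev, Units.val_mul, gS_inv_val, gT_inv_val, Matrix.mul_assoc]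
  · simp only [cond_true, matS, if_true]
    simp only [genSz, Units.val_mul, gS_val, gT_val]

theorem lift_genSz_val {r : ℕ} (h : TitsHyp F r) (c : ℕ → F) (s : F) (L : List (ℕ × Bool)) :
    (((FreeGroup.lift (genSz h c s) (FreeGroup.mk L) : ↥(Cfsg.Lie.Sz F r)) : GL (Fin 4) F) :
      Matrix (Fin 4) (Fin 4) F) = (L.map (matS r c s)).prod := by
  rw [FreeGroup.lift_mk]
  induction L with
  | nil => simp
  | cons l L ih =>
    rw [List.map_cons, List.prod_cons, Subgroup.coe_mul, Units.val_mul, ih, List.map_cons,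
      List.prod_cons, genSz_letter]

/-- For a nonempty reduced word and suitable constants, some specialisation is nontrivial. -/
theorem exists_sz_ne_one {r : ℕ} (h : TitsHyp F r) [Fintype F] (c : ℕ → F)
    (L : List (ℕ × Bool)) (hL : L ≠ []) (hred : FreeGroup.IsReduced L)
    (h0 : ∀ x ∈ L, c x.1 ≠ 0) (hinj : ∀ x ∈ L, ∀ x' ∈ L, c x.1 = c x'.1 → x.1 = x'.1)
    (hcard : 2 * L.length * (2 + r) < Fintype.card F) :
    ∃ s : F, FreeGroup.lift (genSz h c s) (FreeGroup.mk L) ≠ 1 := by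
  by_contra hcon
  push Not at hcon
  obtain ⟨j, d, hd, hd1, hd2⟩ := word_degree h c L hL hred h0 hinj
  set p := (L.foldr (actP r c) e1P) j with hp
  have hpos : 0 < degree p := by
    rw [hd]
    exact_mod_cast (by omega : 0 < d)
  set P := p - C ((![1, 0, 0, 0] : Fin 4 → F) j) with hP
  have hdeg : degree P = (d : WithBot ℕ) := by
    rw [hP, degree_sub_C hpos, hd]
  have hne : P ≠ 0 := by
    intro h0'
    rw [h0', degree_zero] at hdeg
    exact WithBot.bot_ne_coe hdeg
  have hnat : P.natDegree = d := natDegree_eq_of_degree_eq_some hdeg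
  obtain ⟨s, hs⟩ := Polynomial.exists_eval_ne_zero_of_natDegree_lt_card P hne (by
    rw [Cardinal.mk_fintype, hnat]
    exact_mod_cast lt_of_le_of_lt hd2 hcard)
  apply hs
  have h1 := lift_genSz_val h c s L
  rw [hcon s] at h1
  have h2 := evalVec_foldr h c s L e1P
  rw [← h1] at h2
  have h3 : evalVec s (e1P : Fin 4 → F[X]) = ![1, 0, 0, 0] := by
    ext i
    fin_cases i <;> simp [evalVec, e1P]
  rw [h3] at h2
  have h4 := congrFun h2 j
  simp only [OneMemClass.coe_one, Units.val_one, Matrix.one_mulVec] at h4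
  rw [hP, eval_sub, eval_C, ← h4]
  simp [evalVec, hp]

end Cfsg.Agent.Helper39
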