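import Mathlib
import Cfsg.Agent.Lib.Helper39.SzSylow2

set_option autoImplicit false

namespace Cfsg.Agent.Helper39

open Matrix Cfsg.Lie
open scoped Pointwise

namespace SzModel

variable {F : Type*} [Field F] {r : ℕ} {G : Type*} [Group G] (X : SzModel F r G)
variable (h : TitsHyp F r)

theorem uEl_congr {a b c d : F} (hac : a = c) (hbd : b = d) : X.uEl h a b = X.uEl h c d := by
  rw [hac, hbd]

theorem mEl_conj_uEl (k : Fˣ) (a b : F) :
    X.mEl h k * X.uEl h a b * (X.mEl h k)⁻¹ =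
      X.uEl h (a * (k : F) ^ 2 / (k : F) ^ r) (b * (k : F) ^ r) := by
  rw [mul_inv_eq_iff_eq_mul, mEl_mul_uEl]

theorem uEl_conj (e f a b : F) :
    X.uEl h e f * X.uEl h a b * (X.uEl h e f)⁻¹ = X.uEl h a (b + e * a ^ r + a * e ^ r) := by
  have h2 := h.two
  rw [mul_inv_eq_iff_eq_mul, uEl_mul, uEl_mul]
  apply uEl_congr
  · ring
  · linear_combination (-(a * e ^ r)) * h2

theorem tEl_ne_one : X.tEl h ≠ 1 := by
  intro hcon
  apply X.tEl_not_mem_Bor h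
  rw [hcon]
  exact (X.Bor h).one_mem

/-- A normal subgroup inside the Borel subgroup is trivial. -/
theorem eq_bot_of_le_Bor (N : Subgroup G) [hNn : N.Normal] (hN : N ≤ X.Bor h) : N = ⊥ := by
  -- every element of N is in the torus
  have claim1 : ∀ n ∈ N, ∃ k : Fˣ, n = X.mEl h k := by
    intro n hn
    obtain ⟨k, a, b, rfl⟩ := (X.mem_Bor_iff h).mp (hN hn)
    have h1 : X.tEl h * (X.mEl h k * X.uEl h a b) * (X.tEl h)⁻¹ ∈ X.Bor h :=
      hN (hNn.conj_mem _ hn _)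
    rw [X.tEl_inv h] at h1
    have h2 : X.tEl h * (X.mEl h k * X.uEl h a b) * X.tEl h =
        X.mEl h k⁻¹ * (X.tEl h * X.uEl h a b * X.tEl h) := by
      rw [← mul_assoc, X.tEl_mul_mEl h]
      simp only [mul_assoc]
    rw [h2] at h1
    have h3 : X.tEl h * X.uEl h a b * X.tEl h ∈ X.Bor h := by
      have := (X.Bor h).mul_mem ((X.Bor h).inv_mem (X.mEl_mem_Bor h k⁻¹)) h1
      rwa [inv_mul_cancel_left] at this
    obtain ⟨ha, hb⟩ := X.tEl_conj_uEl_mem_Bor h h3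
    exact ⟨k, by rw [ha, hb, X.uEl_zero h, mul_one]⟩
  rw [eq_bot_iff]
  intro n hn
  obtain ⟨k, rfl⟩ := claim1 n hn
  have hn' : X.uEl h 1 0 * X.mEl h k * (X.uEl h 1 0)⁻¹ ∈ N := hNn.conj_mem _ hn _
  obtain ⟨k', hk'⟩ := claim1 _ hn'
  rw [mul_inv_eq_iff_eq_mul] at hk'
  have hk0 : (k : F) ≠ 0 := k.ne_zero
  have hkr : (k : F) ^ r ≠ 0 := pow_ne_zero _ hk0
  have h1 : X.mEl h k * X.uEl h ((k : F) ^ r / (k : F) ^ 2) 0 = X.uEl h 1 0 * X.mEl h k := by
    rw [mEl_mul_uEl]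
    congr 1
    apply uEl_congr
    · field_simp
    · ring
  rw [← h1] at hk'
  obtain ⟨hkk, ha, _⟩ := X.mEl_mul_uEl_inj h hk'
  have h2 : (k : F) ^ r = (k : F) ^ 2 := by
    field_simp at ha
    exact ha
  have h3 := h.eq_one_of_pow_eq_sq hk0 h2
  have h4 : k = 1 := Units.ext h3
  rw [h4, map_one]
  exact Subgroup.mem_bot.mpr rfl

/-- The opposite unipotent elements lie in `N ⊔ U` once `N ⊄ B`. -/
theorem tUt_mem_sup (N : Subgroup G) (hN : ¬ N ≤ X.Bor h) (a b : F) :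
    X.tEl h * X.uEl h a b * X.tEl h ∈ N ⊔ X.Uni h := by
  obtain ⟨n, hn, hnB⟩ := SetLike.not_le_iff_exists.mp hN
  obtain ⟨a₁, b₁, k, c, d, hnk⟩ := X.bruhat h hnB
  have hk0 : (k : F) ≠ 0 := k.ne_zero
  have hkr : (k : F) ^ r ≠ 0 := pow_ne_zero _ hk0
  have hU : X.Uni h ≤ N ⊔ X.Uni h := le_sup_right
  have hg : X.tEl h * X.mEl h k ∈ N ⊔ X.Uni h := by
    have : X.tEl h * X.mEl h k = (X.uEl h a₁ b₁)⁻¹ * n * (X.uEl h c d)⁻¹ := by
      rw [hnk]; group
    rw [this]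
    exact (N ⊔ X.Uni h).mul_mem ((N ⊔ X.Uni h).mul_mem
      ((N ⊔ X.Uni h).inv_mem (hU (X.uEl_mem_Uni h _ _))) (le_sup_left (a := N) hn))
      ((N ⊔ X.Uni h).inv_mem (hU (X.uEl_mem_Uni h _ _)))
  have hconj : X.tEl h * X.uEl h a b * X.tEl h =
      (X.tEl h * X.mEl h k) * X.uEl h (a * (k : F) ^ r / (k : F) ^ 2) (b / (k : F) ^ r) *
        (X.tEl h * X.mEl h k)⁻¹ := by
    have h1 : X.mEl h k * X.uEl h (a * (k : F) ^ r / (k : F) ^ 2) (b / (k : F) ^ r) *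
        (X.mEl h k)⁻¹ = X.uEl h a b := by
      rw [mEl_conj_uEl]
      apply uEl_congr
      · field_simp
      · field_simp
    rw [_root_.mul_inv_rev, X.tEl_inv h, ← h1]
    simp only [mul_assoc]
  rw [hconj]
  exact (N ⊔ X.Uni h).mul_mem ((N ⊔ X.Uni h).mul_mem hg (hU (X.uEl_mem_Uni h _ _)))
    ((N ⊔ X.Uni h).inv_mem hg)

theorem φ_bruhat_three_zero (a b : F) (k : Fˣ) (c d : F) :
    X.φ (X.uEl h a b * X.tEl h * X.mEl h k * X.uEl h c d) 3 0 = (k : F) := by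
  simp only [map_mul, φ_uEl, φ_tEl, φ_mEl]
  simp [uMat, tMat, mMat, Matrix.mul_apply, Fin.sum_univ_four]

/-- The unipotent subgroup and its opposite generate the group. -/
theorem eq_top_of_Uni_le [Finite F] (L : Subgroup G) (hU : X.Uni h ≤ L)
    (hL : ∀ a b : F, X.tEl h * X.uEl h a b * X.tEl h ∈ L) : L = ⊤ := by
  -- t * m(b^r) ∈ L for b ≠ 0
  have key : ∀ b : F, b ≠ 0 → ∃ k : Fˣ, (k : F) = b ^ r ∧ X.tEl h * X.mEl h k ∈ L := by
    intro b hb
    have hnB : X.tEl h * X.uEl h 0 b * X.tEl h ∉ X.Bor h := by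
      intro hcon
      exact hb (X.tEl_conj_uEl_mem_Bor h hcon).2
    obtain ⟨a₁, b₁, k, c, d, hnk⟩ := X.bruhat h hnB
    refine ⟨k, ?_, ?_⟩
    · have h1 := X.φ_bruhat_three_zero h a₁ b₁ k c d
      rw [← hnk] at h1
      rw [← h1]
      simp only [map_mul, φ_uEl, φ_tEl]
      simp [uMat, tMat, Matrix.mul_apply, Fin.sum_univ_four, h.rpos.ne']
    · have : X.tEl h * X.mEl h k = (X.uEl h a₁ b₁)⁻¹ * (X.tEl h * X.uEl h 0 b * X.tEl h) *
          (X.uEl h c d)⁻¹ := by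
        rw [hnk]; group
      rw [this]
      exact L.mul_mem (L.mul_mem (L.inv_mem (hU (X.uEl_mem_Uni h _ _))) (hL 0 b))
        (L.inv_mem (hU (X.uEl_mem_Uni h _ _)))
  have ht : X.tEl h ∈ L := by
    obtain ⟨k, hk, hkL⟩ := key 1 one_ne_zero
    have : k = 1 := Units.ext (by rw [hk, one_pow]; rfl)
    rwa [this, map_one, mul_one] at hkL
  have hsurj : Function.Surjective (fun x : F => x ^ r) :=
    Finite.injective_iff_surjective.mp h.pow_injective
  have hT : ∀ k : Fˣ, X.mEl h k ∈ L := by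
    intro k
    obtain ⟨b, hb⟩ := hsurj (k : F)
    have hb0 : b ≠ 0 := by
      rintro rfl
      simp only [zero_pow h.rpos.ne'] at hb
      exact k.ne_zero hb.symm
    obtain ⟨k', hk', hkL⟩ := key b hb0
    have : k' = k := Units.ext (by rw [hk', ← hb])
    rw [this] at hkL
    have := L.mul_mem ht hkL
    rwa [← mul_assoc, X.tEl_mul_tEl h, one_mul] at this
  have hB : X.Bor h ≤ L := by
    intro g hg
    obtain ⟨k, a, b, rfl⟩ := (X.mem_Bor_iff h).mp hg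
    exact L.mul_mem (hT k) (hU (X.uEl_mem_Uni h _ _))
  rw [eq_top_iff]
  intro g _
  by_cases hg : g ∈ X.Bor h
  · exact hB hg
  · obtain ⟨a, b, b', hb', rfl⟩ := X.bruhat' h hg
    exact L.mul_mem (L.mul_mem (hU (X.uEl_mem_Uni h _ _)) ht) (hB hb')

/-- A normal subgroup `N` with `N U = G` is everything. -/
theorem eq_top_of_sup_Uni (hw : ∃ w : F, w ≠ 0 ∧ w ≠ 1) (N : Subgroup G) [hNn : N.Normal]
    (hNU : N ⊔ X.Uni h = ⊤) : N = ⊤ := by
  obtain ⟨w, hw0, hw1⟩ := hw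
  have h2 := h.two
  set k : Fˣ := Units.mk0 w hw0 with hk
  have hkw : (k : F) = w := rfl
  have hwr : w ^ r ≠ 0 := pow_ne_zero _ hw0
  have hlam : w ^ 2 / w ^ r + 1 ≠ 0 := by
    intro hcon
    have h3 : w ^ 2 / w ^ r = 1 := by linear_combination hcon - h2
    have h4 : w ^ r = w ^ 2 := by
      field_simp at h3
      exact h3.symm
    exact hw1 (h.eq_one_of_pow_eq_sq hw0 h4)
  -- decompose the torus element
  have hmem : X.mEl h k ∈ ((N ⊔ X.Uni h : Subgroup G) : Set G) := by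
    rw [hNU]; trivial
  rw [Subgroup.normal_mul, Set.mem_mul] at hmem
  obtain ⟨n, hn, u₀, hu₀, hnu⟩ := hmem
  obtain ⟨e, f, rfl⟩ := (X.mem_Uni h).mp hu₀
  -- for every a there is b with u(a,b) ∈ N
  have step1 : ∀ a : F, ∃ b : F, X.uEl h a b ∈ N := by
    intro a
    set a₀ := a / (w ^ 2 / w ^ r + 1) with ha₀
    have e1 : X.mEl h k * X.uEl h a₀ 0 * (X.mEl h k)⁻¹ =
        X.uEl h (a₀ * w ^ 2 / w ^ r) 0 := by
      rw [mEl_conj_uEl, hkw, zero_mul]
    have e2 : X.mEl h k * X.uEl h a₀ 0 * (X.mEl h k)⁻¹ =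
        n * X.uEl h a₀ (0 + e * a₀ ^ r + a₀ * e ^ r) * n⁻¹ := by
      rw [← hnu, ← X.uEl_conj h e f a₀ 0]
      group
    rw [e1] at e2
    -- u' * y⁻¹ = n * (y * n⁻¹ * y⁻¹) ∈ N
    have e3 : X.uEl h (a₀ * w ^ 2 / w ^ r) 0 *
        (X.uEl h a₀ (0 + e * a₀ ^ r + a₀ * e ^ r))⁻¹ ∈ N := by
      rw [e2]
      have : n * X.uEl h a₀ (0 + e * a₀ ^ r + a₀ * e ^ r) * n⁻¹ *
          (X.uEl h a₀ (0 + e * a₀ ^ r + a₀ * e ^ r))⁻¹ =
          n * (X.uEl h a₀ (0 + e * a₀ ^ r + a₀ * e ^ r) * n⁻¹ *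
            (X.uEl h a₀ (0 + e * a₀ ^ r + a₀ * e ^ r))⁻¹) := by group
      rw [this]
      exact N.mul_mem hn (hNn.conj_mem _ (N.inv_mem hn) _)
    rw [uEl_inv, uEl_mul] at e3
    have e4 : a₀ * w ^ 2 / w ^ r + a₀ = a := by
      have := div_mul_cancel₀ a hlam
      rw [ha₀]
      linear_combination this
    rw [e4] at e3
    exact ⟨_, e3⟩
  -- the centre lies in N
  have step2 : ∀ b : F, X.uEl h 0 b ∈ N := by
    intro b
    obtain ⟨a, ha⟩ := h.exists_pow_succ_eq b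
    obtain ⟨b', hb'⟩ := step1 a
    have := N.mul_mem hb' hb'
    rw [uEl_mul] at this
    have e : X.uEl h (a + a) (b' + b' + a * a ^ r) = X.uEl h 0 b := by
      apply uEl_congr
      · linear_combination a * h2
      · rw [ha]; linear_combination b' * h2
    rwa [e] at this
  have step3 : X.Uni h ≤ N := by
    intro g hg
    obtain ⟨a, b, rfl⟩ := (X.mem_Uni h).mp hg
    obtain ⟨b', hb'⟩ := step1 a
    have := N.mul_mem hb' (step2 (b + b'))
    rw [uEl_mul] at this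
    have e : X.uEl h (a + 0) (b' + (b + b') + a * 0 ^ r) = X.uEl h a b := by
      apply uEl_congr
      · ring
      · rw [zero_pow h.rpos.ne']; linear_combination b' * h2
    rwa [e] at this
  rw [← hNU]
  exact (sup_eq_left.mpr step3).symm

include X h in
/-- The Suzuki groups are simple. -/
theorem isSimpleGroup [Finite F] (hw : ∃ w : F, w ≠ 0 ∧ w ≠ 1) : IsSimpleGroup G := by
  have : Nontrivial G := ⟨⟨X.tEl h, 1, X.tEl_ne_one h⟩⟩
  refine ⟨fun N hNn => ?_⟩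
  by_cases hN : N ≤ X.Bor h
  · left
    exact X.eq_bot_of_le_Bor h N hN
  · right
    apply X.eq_top_of_sup_Uni h hw N
    apply X.eq_top_of_Uni_le h _ le_sup_right
    exact X.tUt_mem_sup h N hN

end SzModel

end Cfsg.Agent.Helper39
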