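import Mathlib

/-!
# The abstract Suzuki 2-group and the coordinates of its automorphisms

`SU θ` is the group on `F × F` with `(a,b)(c,d) = (a+c, b+d+a θ(c))`.  For an automorphism `α` we
extract the additive maps `Af α`, `Bf α` (action on `U/Z` and on `Z`) and the function `Df α`.
-/

set_option autoImplicit false

namespace Cfsg.Agent.Helper39.SzAutU

/-- The abstract Suzuki 2-group attached to a ring endomorphism `θ`. -/
@[ext] structure SU {F : Type*} [Field F] (θ : F →+* F) where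
  a : F
  b : F

/-- The hypotheses on the twist `θ`. -/
structure Hyp {F : Type*} [Field F] (θ : F →+* F) (r : ℕ) : Prop where
  two : (2 : F) = 0
  pow : ∀ x : F, θ x = x ^ r
  sq : ∀ x : F, θ (θ x) = x ^ 2

namespace SU

variable {F : Type*} [Field F] {θ : F →+* F}

instance : Mul (SU θ) := ⟨fun x y => ⟨x.a + y.a, x.b + y.b + x.a * θ y.a⟩⟩
instance : One (SU θ) := ⟨⟨0, 0⟩⟩
instance : Inv (SU θ) := ⟨fun x => ⟨-x.a, -x.b + x.a * θ x.a⟩⟩

@[simp] theorem mul_a (x y : SU θ) : (x * y).a = x.a + y.a := rfl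
@[simp] theorem mul_b (x y : SU θ) : (x * y).b = x.b + y.b + x.a * θ y.a := rfl
@[simp] theorem one_a : (1 : SU θ).a = 0 := rfl
@[simp] theorem one_b : (1 : SU θ).b = 0 := rfl
@[simp] theorem inv_a (x : SU θ) : x⁻¹.a = -x.a := rfl
@[simp] theorem inv_b (x : SU θ) : x⁻¹.b = -x.b + x.a * θ x.a := rfl

instance : Group (SU θ) where
  mul_assoc x y z := by ext <;> simp [map_add] <;> ring
  one_mul x := by ext <;> simp
  mul_one x := by ext <;> simp
  inv_mul_cancel x := by ext <;> simp [map_neg]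

/-- The underlying equivalence with `F × F`. -/
def equivProd : SU θ ≃ F × F where
  toFun x := (x.a, x.b)
  invFun p := ⟨p.1, p.2⟩
  left_inv _ := rfl
  right_inv _ := rfl

instance [Finite F] : Finite (SU θ) := Finite.of_equiv _ (equivProd (θ := θ)).symm

theorem mk_mul_mk (a b c d : F) :
    (⟨a, b⟩ : SU θ) * ⟨c, d⟩ = ⟨a + c, b + d + a * θ c⟩ := rfl

theorem one_def : (1 : SU θ) = ⟨0, 0⟩ := rfl

theorem split (x : SU θ) : x = (⟨x.a, 0⟩ : SU θ) * ⟨0, x.b⟩ := by
  ext <;> simp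

end SU

section Aut

variable {F : Type*} [Field F] {θ : F →+* F} {r : ℕ}

/-- The norm-like map `x ↦ x θ(x)`. -/
def Q (θ : F →+* F) (x : F) : F := x * θ x

theorem Q_eq_zero_iff {x : F} : Q θ x = 0 ↔ x = 0 := by
  unfold Q
  constructor
  · intro h
    rcases mul_eq_zero.mp h with h | h
    · exact h
    · exact (map_eq_zero θ).mp h
  · rintro rfl
    simp

theorem Q_mul (x y : F) : Q θ (x * y) = Q θ x * Q θ y := by
  unfold Q
  rw [map_mul]
  ring

theorem Q_one : Q θ 1 = 1 := by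
  unfold Q
  simp

/-- `Q` is inverted by `y ↦ θ(y)/y`. -/
theorem Q_inv_formula (hy : Hyp θ r) {x : F} (hx : x ≠ 0) : θ (Q θ x) / Q θ x = x := by
  have hθx : θ x ≠ 0 := (map_ne_zero θ).mpr hx
  unfold Q
  rw [map_mul, hy.sq]
  field_simp

theorem Q_injective (hy : Hyp θ r) : Function.Injective (Q θ) := by
  intro x y hxy
  by_cases hx : x = 0
  · subst hx
    have : Q θ y = 0 := by rw [← hxy]; exact Q_eq_zero_iff.mpr rfl
    exact (Q_eq_zero_iff.mp this).symm
  · have hy0 : y ≠ 0 := by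
      rintro rfl
      apply hx
      apply Q_eq_zero_iff.mp
      rw [hxy]
      exact Q_eq_zero_iff.mpr rfl
    rw [← Q_inv_formula hy hx, ← Q_inv_formula hy hy0, hxy]

theorem Q_surjective (hy : Hyp θ r) : Function.Surjective (Q θ) := by
  intro y
  by_cases hy0 : y = 0
  · exact ⟨0, by rw [hy0]; exact Q_eq_zero_iff.mpr rfl⟩
  · refine ⟨θ y / y, ?_⟩
    have hθy : θ y ≠ 0 := (map_ne_zero θ).mpr hy0
    unfold Q
    rw [map_div₀, hy.sq]
    field_simp

theorem sq_eq (hy : Hyp θ r) (x : SU θ) : x * x = ⟨0, Q θ x.a⟩ := by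
  have h2 := hy.two
  ext
  · simp only [SU.mul_a]
    linear_combination x.a * h2
  · simp only [SU.mul_b, Q]
    linear_combination x.b * h2

theorem mul_self_eq_one_iff (hy : Hyp θ r) (x : SU θ) : x * x = 1 ↔ x.a = 0 := by
  rw [sq_eq hy, SU.one_def]
  constructor
  · intro h
    have := congrArg SU.b h
    exact Q_eq_zero_iff.mp this
  · intro h
    rw [h]
    congr 1
    exact Q_eq_zero_iff.mpr rfl

variable (α β : SU θ ≃* SU θ)

/-- Action on `U/Z`. -/
def Af (a : F) : F := (α ⟨a, 0⟩).a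
/-- Action on `Z`. -/
def Bf (b : F) : F := (α ⟨0, b⟩).b
/-- The remaining coordinate. -/
def Df (a : F) : F := (α ⟨a, 0⟩).b

theorem apply_zero_a (hy : Hyp θ r) (b : F) : (α ⟨0, b⟩).a = 0 := by
  rw [← mul_self_eq_one_iff hy, ← map_mul, (mul_self_eq_one_iff hy _).mpr rfl, map_one]

theorem apply_zero (hy : Hyp θ r) (b : F) : α ⟨0, b⟩ = ⟨0, Bf α b⟩ := by
  ext
  · exact apply_zero_a α hy b
  · rfl

theorem apply_a (hy : Hyp θ r) (x : SU θ) : (α x).a = Af α x.a := by
  conv_lhs => rw [SU.split x, map_mul]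
  rw [SU.mul_a, apply_zero_a α hy, add_zero]
  rfl

theorem apply_b (hy : Hyp θ r) (x : SU θ) : (α x).b = Df α x.a + Bf α x.b := by
  conv_lhs => rw [SU.split x, map_mul]
  rw [SU.mul_b, apply_zero α hy]
  simp only [map_zero, mul_zero, add_zero]
  rfl

theorem apply_eq (hy : Hyp θ r) (x : SU θ) : α x = ⟨Af α x.a, Df α x.a + Bf α x.b⟩ := by
  ext
  · exact apply_a α hy x
  · exact apply_b α hy x

theorem Af_add (hy : Hyp θ r) (a c : F) : Af α (a + c) = Af α a + Af α c := by
  have h := congrArg SU.a (map_mul α (⟨a, 0⟩ : SU θ) ⟨c, 0⟩)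
  rw [apply_a α hy, SU.mul_a] at h
  exact h

theorem Af_zero : Af α 0 = 0 := by
  unfold Af
  rw [← SU.one_def, map_one]
  rfl

theorem Df_zero : Df α 0 = 0 := by
  unfold Df
  rw [← SU.one_def, map_one]
  rfl

theorem Bf_zero : Bf α 0 = 0 := by
  unfold Bf
  rw [← SU.one_def, map_one]
  rfl

theorem Bf_add (hy : Hyp θ r) (b d : F) : Bf α (b + d) = Bf α b + Bf α d := by
  have h := congrArg SU.b (map_mul α (⟨0, b⟩ : SU θ) ⟨0, d⟩)
  rw [apply_b α hy, SU.mul_b, apply_zero α hy b, apply_zero α hy d] at h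
  simp only [SU.mul_a, SU.mul_b, map_zero, mul_zero, add_zero, Df_zero, zero_add] at h
  exact h

theorem Af_mul (hy : Hyp θ r) (a : F) : Af (α * β) a = Af α (Af β a) := by
  change (α (β ⟨a, 0⟩)).a = _
  rw [apply_a α hy]
  rfl

theorem Af_one (a : F) : Af (1 : SU θ ≃* SU θ) a = a := rfl

theorem Bf_mul (hy : Hyp θ r) (b : F) : Bf (α * β) b = Bf α (Bf β b) := by
  change (α (β ⟨0, b⟩)).b = _
  rw [apply_zero β hy]
  rfl

theorem Bf_one (b : F) : Bf (1 : SU θ ≃* SU θ) b = b := rfl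

theorem Af_bijective (hy : Hyp θ r) : Function.Bijective (Af α) := by
  refine Function.bijective_iff_has_inverse.mpr ⟨Af α⁻¹, ?_, ?_⟩
  · intro a
    rw [← Af_mul _ _ hy, inv_mul_cancel, Af_one]
  · intro a
    rw [← Af_mul _ _ hy, mul_inv_cancel, Af_one]

theorem Bf_bijective (hy : Hyp θ r) : Function.Bijective (Bf α) := by
  refine Function.bijective_iff_has_inverse.mpr ⟨Bf α⁻¹, ?_, ?_⟩
  · intro a
    rw [← Bf_mul _ _ hy, inv_mul_cancel, Bf_one]
  · intro a
    rw [← Bf_mul _ _ hy, mul_inv_cancel, Bf_one]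

/-- The squaring relation. -/
theorem Bf_Q (hy : Hyp θ r) (a : F) : Bf α (Q θ a) = Q θ (Af α a) := by
  have h := congrArg SU.b (map_mul α (⟨a, 0⟩ : SU θ) ⟨a, 0⟩)
  rw [sq_eq hy, sq_eq hy, apply_zero α hy] at h
  simp only at h
  rw [h]
  rfl

/-- The homomorphism relation for `Df`. -/
theorem Df_add (hy : Hyp θ r) (a c : F) :
    Df α (a + c) + Bf α (a * θ c) = Df α a + Df α c + Af α a * θ (Af α c) := by
  have h := congrArg SU.b (map_mul α (⟨a, 0⟩ : SU θ) ⟨c, 0⟩)
  rw [apply_b α hy, SU.mul_b] at h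
  simp only [SU.mul_a, SU.mul_b, zero_add] at h
  exact h

/-- The commutator relation. -/
theorem Bf_comm (hy : Hyp θ r) (a c : F) :
    Bf α (a * θ c + c * θ a) = Af α a * θ (Af α c) + Af α c * θ (Af α a) := by
  have h1 := Df_add α hy a c
  have h2 := Df_add α hy c a
  have h2' := hy.two
  rw [Bf_add α hy]
  rw [add_comm c a] at h2
  linear_combination h1 + h2 - (Df α (a + c) - Df α a - Df α c) * h2'

/-- The additive map underlying `Af`. -/
def AfHom (hy : Hyp θ r) : F →+ F where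
  toFun := Af α
  map_zero' := Af_zero α
  map_add' := Af_add α hy

/-- The additive map underlying `Bf`. -/
def BfHom (hy : Hyp θ r) : F →+ F where
  toFun := Bf α
  map_zero' := Bf_zero α
  map_add' := Bf_add α hy

@[simp] theorem AfHom_apply (hy : Hyp θ r) (a : F) : AfHom α hy a = Af α a := rfl
@[simp] theorem BfHom_apply (hy : Hyp θ r) (a : F) : BfHom α hy a = Bf α a := rfl

/-- The key "perpendicularity" relation: `B` maps `Q(a)·℘(F)` into `Q(A a)·℘(F)`. -/
theorem Bf_wp (hy : Hyp θ r) {a : F} (ha : a ≠ 0) (s : F) :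
    Bf α (Q θ a * (θ s + s)) =
      Bf α (Q θ a) * (θ (Af α (a * s) / Af α a) + Af α (a * s) / Af α a) := by
  have hA : Af α a ≠ 0 := by
    intro h0
    apply ha
    apply (Af_bijective α hy).1
    rw [h0, Af_zero]
  have hθA : θ (Af α a) ≠ 0 := (map_ne_zero θ).mpr hA
  have h := Bf_comm α hy a (a * s)
  have e1 : a * θ (a * s) + a * s * θ a = Q θ a * (θ s + s) := by
    unfold Q
    rw [map_mul]
    ring
  rw [e1] at h
  rw [h, Bf_Q α hy, map_div₀]
  unfold Q
  field_simp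

end Aut

end Cfsg.Agent.Helper39.SzAutU
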