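import Mathlib

/-!
# Additive bijections of a field that respect a "perpendicularity" relation are semilinear

The proof goes through Hua's identity.
-/

set_option autoImplicit false

namespace Cfsg.Agent.Helper39.SzAutU

section Hua

variable {F : Type*} [Field F]

/-- Hua's expression. -/
def hua (a b : F) : F := a - (a⁻¹ + (b⁻¹ - a)⁻¹)⁻¹

theorem hua_eq {a b : F} (ha : a ≠ 0) (hb : b ≠ 0) (hab : a * b ≠ 1) : hua a b = a ^ 2 * b := by
  unfold hua
  have h1' : 1 - a * b ≠ 0 := fun h => hab (sub_eq_zero.mp h).symm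
  have h1 : b⁻¹ - a ≠ 0 := by
    intro h
    apply hab
    have : b⁻¹ = a := sub_eq_zero.mp h
    rw [← this, inv_mul_cancel₀ hb]
  have e1 : (b⁻¹ - a)⁻¹ = b / (1 - a * b) := by
    rw [inv_eq_one_div, div_eq_div_iff h1 h1']
    field_simp
  have e2 : a⁻¹ + b / (1 - a * b) = 1 / (a * (1 - a * b)) := by
    field_simp
    ring
  rw [e1, e2, one_div, inv_inv]
  ring

theorem zmod2_cases (x : ZMod 2) : x = 0 ∨ x = 1 := by
  revert x
  decide

theorem functional_eq {V : Type*} [AddCommGroup V] (f g : V →+ ZMod 2) (hf : f ≠ 0)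
    (hker : ∀ z, g z = 0 → f z = 0) : f = g := by
  have hex : ∃ z0, f z0 ≠ 0 := by
    by_contra hcon
    push Not at hcon
    apply hf
    ext z
    simpa using hcon z
  obtain ⟨z0, hz0⟩ := hex
  have hf0 : f z0 = 1 := (zmod2_cases _).resolve_left hz0
  have hg0 : g z0 = 1 := (zmod2_cases _).resolve_left (fun h => hz0 (hker z0 h))
  ext z
  rcases zmod2_cases (g z) with h | h
  · rw [h, hker z h]
  · have h1 : g (z - z0) = 0 := by rw [map_sub, h, hg0, sub_self]
    have h2 := hker _ h1
    rw [map_sub, sub_eq_zero] at h2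
    rw [h2, hf0, h]

theorem semilinear_of_perp (lam : F →+ ZMod 2) (hlam : lam ≠ 0) (B : F →+ F)
    (hB : Function.Bijective B) (hsq : ∀ c : F, ∃ a, a ^ 2 = c)
    (hperp : ∀ y z : F, y ≠ 0 → lam (z / y) = 0 → lam (B z / B y) = 0) :
    ∃ ν : F, ν ≠ 0 ∧ ∃ σ : F ≃+* F, ∀ x, B x = ν * σ x := by
  have hB0 : ∀ x, x ≠ 0 → B x ≠ 0 := by
    intro x hx h0
    apply hx
    apply hB.1
    rw [h0, map_zero]
  obtain ⟨w0, hw0⟩ : ∃ w0, lam w0 ≠ 0 := by
    by_contra hcon
    push Not at hcon
    apply hlam
    ext z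
    simpa using hcon z
  -- step 1
  have key1 : ∀ y z : F, y ≠ 0 → lam (B z / B y) = lam (z / y) := by
    intro y z hy
    have hBy := hB0 y hy
    let f : F →+ ZMod 2 := lam.comp ((AddMonoidHom.mulRight (B y)⁻¹).comp B)
    let g : F →+ ZMod 2 := lam.comp (AddMonoidHom.mulRight y⁻¹)
    have hfg : f = g := by
      apply functional_eq
      · intro hf
        obtain ⟨z1, hz1⟩ := hB.2 (w0 * B y)
        have : f z1 = 0 := by rw [hf]; rfl
        apply hw0
        rw [← this]
        change lam w0 = lam (B z1 * (B y)⁻¹)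
        rw [hz1, mul_assoc, mul_inv_cancel₀ hBy, mul_one]
      · intro z hz
        change lam (B z * (B y)⁻¹) = 0
        rw [← div_eq_mul_inv]
        apply hperp y z hy
        rw [div_eq_mul_inv]
        exact hz
    have := DFunLike.congr_fun hfg z
    change lam (B z * (B y)⁻¹) = lam (z * y⁻¹) at this
    rw [div_eq_mul_inv, div_eq_mul_inv]
    exact this
  -- step 2
  set B' : F → F := fun y => (B y⁻¹)⁻¹ with hB'
  have key2 : ∀ z y : F, lam (z * y) = lam (B z * B' y) := by
    intro z y
    by_cases hy : y = 0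
    · subst hy
      simp [hB']
    · have := key1 y⁻¹ z (inv_ne_zero hy)
      rw [div_eq_mul_inv, div_eq_mul_inv, inv_inv] at this
      rw [hB']
      exact this.symm
  have nondeg : ∀ d : F, (∀ w, lam (w * d) = 0) → d = 0 := by
    intro d hd
    by_contra hd0
    apply hw0
    have := hd (w0 * d⁻¹)
    rwa [mul_assoc, inv_mul_cancel₀ hd0, mul_one] at this
  have B'_add : ∀ y1 y2 : F, B' (y1 + y2) = B' y1 + B' y2 := by
    intro y1 y2
    rw [← sub_eq_zero]
    apply nondeg
    intro w
    obtain ⟨z, rfl⟩ := hB.2 w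
    rw [mul_sub, mul_add, map_sub, map_add, ← key2, ← key2, ← key2, mul_add, map_add, sub_self]
  have B'_zero : B' 0 = 0 := by simp [hB']
  have B_inv : ∀ x : F, B x⁻¹ = (B' x)⁻¹ := by
    intro x
    simp [hB']
  have B'_inv : ∀ x : F, B' x⁻¹ = (B x)⁻¹ := by
    intro x
    simp [hB']
  have B'_neg : ∀ x : F, B' (-x) = - B' x := by
    intro x
    have := B'_add x (-x)
    rw [add_neg_cancel, B'_zero] at this
    exact (neg_eq_of_add_eq_zero_right this.symm).symm
  have B'_sub : ∀ x y : F, B' (x - y) = B' x - B' y := by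
    intro x y
    rw [sub_eq_add_neg, B'_add, B'_neg, ← sub_eq_add_neg]
  have B'_ne : ∀ x, x ≠ 0 → B' x ≠ 0 := by
    intro x hx
    simp only [hB']
    exact inv_ne_zero (hB0 _ (inv_ne_zero hx))
  have B_hua : ∀ a b : F, B (hua a b) = hua (B a) (B' b) := by
    intro a b
    unfold hua
    rw [map_sub, B_inv, B'_add, B'_inv, B'_inv, map_sub, B_inv]
  have main : ∀ a b : F, B (a ^ 2 * b) = B a ^ 2 * B' b := by
    intro a b
    by_cases ha : a = 0
    · subst ha
      simp
    by_cases hb : b = 0
    · subst hb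
      simp [B'_zero]
    by_cases hab : a * b = 1
    · have hb' : b = a⁻¹ := eq_inv_of_mul_eq_one_right hab
      rw [hb', B'_inv, sq, mul_assoc, mul_inv_cancel₀ ha, mul_one, sq, mul_assoc,
        mul_inv_cancel₀ (hB0 a ha), mul_one]
    · rw [← hua_eq ha hb hab, B_hua, hua_eq (hB0 a ha) (B'_ne b hb)]
      intro h1
      apply hab
      have h2 : B a = B b⁻¹ := by
        have : B' b = (B b⁻¹)⁻¹ := rfl
        rw [this] at h1
        exact eq_of_mul_inv_eq_one h1
      have h3 := hB.1 h2
      rw [h3, inv_mul_cancel₀ hb]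
  -- conclusion
  set ν := B 1 with hν
  have hν0 : ν ≠ 0 := hB0 1 one_ne_zero
  have hB'ν : ∀ b, B' b = B b / ν ^ 2 := by
    intro b
    have := main 1 b
    rw [one_pow, one_mul, ← hν] at this
    rw [this]
    field_simp
  have main' : ∀ a b : F, B (a ^ 2 * b) * ν ^ 2 = B a ^ 2 * B b := by
    intro a b
    rw [main, hB'ν]
    field_simp
  have hsqB : ∀ a : F, B (a ^ 2) * ν = B a ^ 2 := by
    intro a
    have := main' a 1
    rw [mul_one] at this
    have h2 : ν * (B (a ^ 2) * ν) = ν * B a ^ 2 := by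
      rw [← hν] at this
      linear_combination this
    exact mul_left_cancel₀ hν0 h2
  have hmul : ∀ c b : F, B (c * b) * ν = B c * B b := by
    intro c b
    obtain ⟨a, rfl⟩ := hsq c
    have h1 := main' a b
    have h2 := hsqB a
    have h3 : ν * (B (a ^ 2 * b) * ν) = ν * (B (a ^ 2) * B b) := by
      rw [← h2] at h1
      linear_combination h1
    exact mul_left_cancel₀ hν0 h3
  let σ0 : F →+* F :=
    { toFun := fun x => B x / ν
      map_one' := div_self hν0
      map_mul' := by
        intro x y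
        have := hmul x y
        field_simp
        linear_combination this
      map_zero' := by simp
      map_add' := by
        intro x y
        rw [map_add, add_div] }
  have hσ0 : Function.Bijective σ0 := by
    constructor
    · intro x y hxy
      apply hB.1
      have : B x / ν = B y / ν := hxy
      field_simp at this
      exact this
    · intro y
      obtain ⟨x, hx⟩ := hB.2 (ν * y)
      refine ⟨x, ?_⟩
      change B x / ν = y
      rw [hx]
      field_simp
  refine ⟨ν, hν0, RingEquiv.ofBijective σ0 hσ0, ?_⟩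
  intro x
  change B x = ν * (B x / ν)
  field_simp

end Hua

end Cfsg.Agent.Helper39.SzAutU
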