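import Mathlib
import Cfsg.Agent.Lib.Helper39.SzAutU1
import Cfsg.Agent.Lib.Helper39.SzAutU2

/-!
# Every automorphism of the abstract Suzuki 2-group is standard
-/

set_option autoImplicit false

namespace Cfsg.Agent.Helper39.SzAutU

variable {F : Type*} [Field F] {θ : F →+* F} {r : ℕ}

/-- The map `s ↦ θ s + s`. -/
def wp (θ : F →+* F) : F →+ F := θ.toAddMonoidHom + AddMonoidHom.id F

theorem wp_apply (s : F) : wp θ s = θ s + s := rfl

theorem wp_eq_zero_iff (hy : Hyp θ r) (s : F) : wp θ s = 0 ↔ s = 0 ∨ s = 1 := by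
  have h2 := hy.two
  rw [wp_apply]
  constructor
  · intro h
    have h1 : θ s = s := by linear_combination h - s * h2
    have h3 : s ^ 2 = s := by rw [← hy.sq, h1, h1]
    have h4 : s * (s - 1) = 0 := by linear_combination h3
    rcases mul_eq_zero.mp h4 with h5 | h5
    · exact Or.inl h5
    · exact Or.inr (sub_eq_zero.mp h5)
  · rintro (rfl | rfl)
    · simp
    · rw [map_one]
      linear_combination h2

theorem card_wp_ker (hy : Hyp θ r) : Nat.card (wp θ).ker = 2 := by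
  rw [Nat.card_eq_two_iff]
  refine ⟨⟨0, (wp θ).ker.zero_mem⟩, ⟨1, ?_⟩, ?_, ?_⟩
  · rw [AddMonoidHom.mem_ker, wp_eq_zero_iff hy]
    exact Or.inr rfl
  · intro h
    have := congrArg Subtype.val h
    exact zero_ne_one this
  · ext ⟨x, hx⟩
    simp only [Set.mem_insert_iff, Set.mem_singleton_iff, Set.mem_univ, iff_true, Subtype.mk.injEq]
    rw [AddMonoidHom.mem_ker, wp_eq_zero_iff hy] at hx
    exact hx

theorem index_wp_range [Finite F] (hy : Hyp θ r) : (wp θ).range.index = 2 := by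
  rw [AddSubgroup.index_range, card_wp_ker hy]

/-- The `ZMod 2`-valued functional attached to an index two subgroup. -/
noncomputable def lamOf (K : AddSubgroup F) (hK : K.index = 2) : F →+ ZMod 2 := by
  classical
  exact
  { toFun := fun z => if z ∈ K then 0 else 1
    map_zero' := by simp [K.zero_mem]
    map_add' := by
      intro x y
      have := AddSubgroup.add_mem_iff_of_index_two hK (a := x) (b := y)
      by_cases hx : x ∈ K <;> by_cases hy : y ∈ K <;> simp [hx, hy, this]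
      decide }

theorem lamOf_eq_zero_iff (K : AddSubgroup F) (hK : K.index = 2) (z : F) :
    lamOf K hK z = 0 ↔ z ∈ K := by
  classical
  change (if z ∈ K then (0 : ZMod 2) else 1) = 0 ↔ _
  by_cases hz : z ∈ K <;> simp [hz]

theorem lamOf_ne_zero (K : AddSubgroup F) (hK : K.index = 2) : lamOf K hK ≠ 0 := by
  intro h
  have htop : K = ⊤ := by
    rw [eq_top_iff]
    intro z _
    rw [← lamOf_eq_zero_iff K hK, h]
    rfl
  rw [htop, AddSubgroup.index_top] at hK
  omega

theorem exists_sq [Finite F] (hy : Hyp θ r) (c : F) : ∃ a : F, a ^ 2 = c := by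
  have hsurj : Function.Surjective θ := Finite.injective_iff_surjective.mp θ.injective
  obtain ⟨b, hb⟩ := hsurj c
  obtain ⟨a, ha⟩ := hsurj b
  exact ⟨a, by rw [← hy.sq, ha, hb]⟩

theorem aut_semilinear [Finite F] (hy : Hyp θ r) (α : SU θ ≃* SU θ) :
    ∃ ν : F, ν ≠ 0 ∧ ∃ σ : F ≃+* F, ∀ x, Bf α x = ν * σ x := by
  have hidx := index_wp_range (θ := θ) hy
  have hbij := Bf_bijective α hy
  have hB0 : ∀ x, x ≠ 0 → Bf α x ≠ 0 := by
    intro x hx h0
    apply hx
    apply hbij.1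
    rw [h0, Bf_zero]
  obtain ⟨ν, hν, σ, hσ⟩ := semilinear_of_perp (lamOf (wp θ).range hidx)
    (lamOf_ne_zero _ hidx) (BfHom α hy) hbij (exists_sq hy) (by
      intro y z hy0 hz
      rw [lamOf_eq_zero_iff] at hz ⊢
      obtain ⟨s, hs⟩ := hz
      obtain ⟨a, rfl⟩ := Q_surjective hy y
      have ha : a ≠ 0 := by
        rintro rfl
        exact hy0 (Q_eq_zero_iff.mpr rfl)
      have hz' : z = Q θ a * (θ s + s) := by
        rw [wp_apply] at hs
        rw [hs]
        field_simp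
      refine ⟨Af α (a * s) / Af α a, ?_⟩
      rw [wp_apply, BfHom_apply, BfHom_apply, hz', Bf_wp α hy ha]
      have := hB0 _ hy0
      field_simp)
  exact ⟨ν, hν, σ, hσ⟩

theorem ringEquiv_comm (hy : Hyp θ r) (σ : F ≃+* F) (x : F) : σ (θ x) = θ (σ x) := by
  rw [hy.pow, hy.pow, map_pow]

theorem ringEquiv_Q (hy : Hyp θ r) (σ : F ≃+* F) (x : F) : σ (Q θ x) = Q θ (σ x) := by
  unfold Q
  rw [map_mul, ringEquiv_comm hy]

/-- Every automorphism is standard. -/
theorem aut_form [Finite F] (hy : Hyp θ r) (α : SU θ ≃* SU θ) :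
    ∃ μ : Fˣ, ∃ σ : F ≃+* F, ∃ D : F →+ F,
      ∀ x : SU θ, α x = ⟨μ * σ x.a, D x.a + Q θ (μ : F) * σ x.b⟩ := by
  obtain ⟨ν, hν, σ, hσ⟩ := aut_semilinear hy α
  obtain ⟨μ0, hμ0⟩ := Q_surjective hy ν
  have hμ00 : μ0 ≠ 0 := by
    rintro rfl
    exact hν (by rw [← hμ0]; exact Q_eq_zero_iff.mpr rfl)
  have hA : ∀ a, Af α a = μ0 * σ a := by
    intro a
    apply Q_injective hy
    rw [← Bf_Q α hy, hσ, Q_mul, hμ0, ringEquiv_Q hy]
  have hD : ∀ a c, Df α (a + c) = Df α a + Df α c := by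
    intro a c
    have h := Df_add α hy a c
    rw [hσ, hA, hA, ← hμ0, map_mul, ringEquiv_comm hy, map_mul] at h
    unfold Q at h
    linear_combination h
  refine ⟨Units.mk0 μ0 hμ00, σ, ⟨⟨Df α, Df_zero α⟩, hD⟩, ?_⟩
  intro x
  rw [apply_eq α hy x, hA, hσ, Units.val_mk0, hμ0]
  rfl

/-- The standard maps. -/
def stdFun (θ : F →+* F) (μ : Fˣ) (σ : F ≃+* F) (D : F →+ F) (x : SU θ) : SU θ :=
  ⟨μ * σ x.a, D x.a + Q θ (μ : F) * σ x.b⟩

theorem stdFun_mul (hy : Hyp θ r) (μ : Fˣ) (σ : F ≃+* F) (D : F →+ F) (x y : SU θ) :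
    stdFun θ μ σ D (x * y) = stdFun θ μ σ D x * stdFun θ μ σ D y := by
  ext
  · simp only [stdFun, SU.mul_a, map_add]
    ring
  · simp only [stdFun, SU.mul_a, SU.mul_b, map_add, map_mul, ringEquiv_comm hy, Q]
    ring

theorem stdFun_injective (μ : Fˣ) (σ : F ≃+* F) (D : F →+ F) :
    Function.Injective (stdFun θ μ σ D) := by
  intro x y hxy
  have h1 := congrArg SU.a hxy
  have h2 := congrArg SU.b hxy
  simp only [stdFun] at h1 h2
  have ha : x.a = y.a := by
    apply σ.injective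
    exact mul_left_cancel₀ μ.ne_zero h1
  rw [ha] at h2
  have hQ : Q θ (μ : F) ≠ 0 := fun h => μ.ne_zero (Q_eq_zero_iff.mp h)
  have hb : x.b = y.b := by
    apply σ.injective
    exact mul_left_cancel₀ hQ (add_left_cancel h2)
  exact SU.ext ha hb

/-- The standard automorphisms. -/
noncomputable def stdAut [Finite F] (hy : Hyp θ r) (μ : Fˣ) (σ : F ≃+* F) (D : F →+ F) :
    SU θ ≃* SU θ :=
  MulEquiv.ofBijective (MonoidHom.mk' (stdFun θ μ σ D) (stdFun_mul hy μ σ D))
    ⟨stdFun_injective μ σ D, Finite.injective_iff_surjective.mp (stdFun_injective μ σ D)⟩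

theorem stdAut_apply [Finite F] (hy : Hyp θ r) (μ : Fˣ) (σ : F ≃+* F) (D : F →+ F) (x : SU θ) :
    stdAut hy μ σ D x = ⟨μ * σ x.a, D x.a + Q θ (μ : F) * σ x.b⟩ := rfl

theorem stdAut_injective [Finite F] (hy : Hyp θ r) :
    Function.Injective (fun p : Fˣ × (F ≃+* F) × (F →+ F) => stdAut (θ := θ) hy p.1 p.2.1 p.2.2) := by
  rintro ⟨μ, σ, D⟩ ⟨μ', σ', D'⟩ h
  simp only at h
  have hx : ∀ x : SU θ, stdAut hy μ σ D x = stdAut hy μ' σ' D' x := fun x => by rw [h]
  have hμ : μ = μ' := by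
    have := congrArg SU.a (hx ⟨1, 0⟩)
    simp only [stdAut_apply, map_one, mul_one] at this
    exact Units.ext this
  subst hμ
  have hσ : σ = σ' := by
    ext a
    have := congrArg SU.a (hx ⟨a, 0⟩)
    simp only [stdAut_apply] at this
    exact mul_left_cancel₀ μ.ne_zero this
  subst hσ
  have hD : D = D' := by
    ext a
    have := congrArg SU.b (hx ⟨a, 0⟩)
    simp only [stdAut_apply, map_zero, mul_zero, add_zero] at this
    exact this
  subst hD
  rfl

theorem stdAut_surjective [Finite F] (hy : Hyp θ r) :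
    Function.Surjective (fun p : Fˣ × (F ≃+* F) × (F →+ F) => stdAut (θ := θ) hy p.1 p.2.1 p.2.2) := by
  intro α
  obtain ⟨μ, σ, D, h⟩ := aut_form hy α
  refine ⟨⟨μ, σ, D⟩, ?_⟩
  ext x : 1
  rw [h x]
  rfl

theorem card_aut [Finite F] (hy : Hyp θ r) :
    Nat.card (SU θ ≃* SU θ) = Nat.card Fˣ * (Nat.card (F ≃+* F) * Nat.card (F →+ F)) := by
  rw [← Nat.card_prod, ← Nat.card_prod]
  exact (Nat.card_congr (Equiv.ofBijective _ ⟨stdAut_injective hy, stdAut_surjective hy⟩)).symm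

end Cfsg.Agent.Helper39.SzAutU
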