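import Mathlib
import Cfsg.Prelude.Def_Transfer
import Cfsg.Prelude.Def_Solvable
import Cfsg.Agent.Lib.Helper39.SzAutU3
import Cfsg.Agent.Lib.Helper39.SzAutU4
import Cfsg.Agent.Lib.Helper48.Cores

/-!
# The structure of the automorphism group of the abstract Suzuki 2-group
-/

set_option autoImplicit false

namespace Cfsg.Agent.Helper39.SzAutU

variable {F : Type*} [Field F] {θ : F →+* F} {r : ℕ}

/-- The central automorphisms. -/
def centralAut (hy : Hyp θ r) : Subgroup (SU θ ≃* SU θ) where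
  carrier := {α | ∀ a, Af α a = a}
  mul_mem' := by
    intro α β hα hβ a
    rw [Af_mul α β hy, hβ a, hα]
  one_mem' := fun a => rfl
  inv_mem' := by
    intro α hα a
    have := Af_mul α⁻¹ α hy a
    rw [inv_mul_cancel, Af_one, hα a] at this
    exact this.symm

theorem mem_centralAut (hy : Hyp θ r) (α : SU θ ≃* SU θ) :
    α ∈ centralAut hy ↔ ∀ a, Af α a = a := Iff.rfl

theorem centralAut_normal (hy : Hyp θ r) : (centralAut hy).Normal := by
  constructor
  intro α hα g a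
  rw [Af_mul _ _ hy, Af_mul _ _ hy, hα, ← Af_mul _ _ hy, mul_inv_cancel, Af_one]

variable [Finite F]

/-- The central automorphism attached to an additive map. -/
noncomputable def cenAut (hy : Hyp θ r) (D : F →+ F) : SU θ ≃* SU θ :=
  stdAut hy 1 (RingEquiv.refl F) D

theorem cenAut_apply (hy : Hyp θ r) (D : F →+ F) (x : SU θ) :
    cenAut hy D x = ⟨x.a, D x.a + x.b⟩ := by
  unfold cenAut
  rw [stdAut_apply]
  simp [Q_one]

theorem cenAut_mem (hy : Hyp θ r) (D : F →+ F) : cenAut hy D ∈ centralAut hy := by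
  intro a
  unfold Af
  rw [cenAut_apply]

theorem exists_cenAut (hy : Hyp θ r) {α : SU θ ≃* SU θ} (hα : α ∈ centralAut hy) :
    ∃ D : F →+ F, α = cenAut hy D := by
  obtain ⟨μ, σ, D, h⟩ := aut_form hy α
  have hA : ∀ a, (μ : F) * σ a = a := by
    intro a
    have := hα a
    unfold Af at this
    rw [h] at this
    exact this
  have hμ : (μ : F) = 1 := by
    have := hA 1
    rwa [map_one, mul_one] at this
  have hσ : ∀ a, σ a = a := by
    intro a
    have := hA a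
    rwa [hμ, one_mul] at this
  refine ⟨D, ?_⟩
  ext x : 1
  rw [h, cenAut_apply, hμ, hσ, hσ, Q_one, one_mul, one_mul]

theorem cenAut_mul (hy : Hyp θ r) (D D' : F →+ F) :
    cenAut hy D * cenAut hy D' = cenAut hy (D + D') := by
  ext x : 1
  change cenAut hy D (cenAut hy D' x) = _
  rw [cenAut_apply, cenAut_apply, cenAut_apply]
  simp only [AddMonoidHom.add_apply]
  congr 1
  ring

theorem cenAut_sq (hy : Hyp θ r) (D : F →+ F) : cenAut hy D ^ 2 = 1 := by
  have h2 := hy.two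
  rw [sq, cenAut_mul]
  ext x : 1
  rw [cenAut_apply]
  change (⟨x.a, D x.a + D x.a + x.b⟩ : SU θ) = x
  ext
  · rfl
  · simp only
    linear_combination D x.a * h2

theorem centralAut_elementary (hy : Hyp θ r) : Cfsg.IsElementaryAbelian 2 (centralAut hy) := by
  refine ⟨⟨⟨?_⟩⟩, ?_⟩
  · rintro ⟨α, hα⟩ ⟨β, hβ⟩
    obtain ⟨D, rfl⟩ := exists_cenAut hy hα
    obtain ⟨D', rfl⟩ := exists_cenAut hy hβ
    apply Subtype.ext
    change cenAut hy D * cenAut hy D' = cenAut hy D' * cenAut hy D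
    rw [cenAut_mul, cenAut_mul, add_comm]
  · intro α hα
    obtain ⟨D, rfl⟩ := exists_cenAut hy hα
    exact cenAut_sq hy D

theorem card_centralAut (hy : Hyp θ r) : Nat.card (centralAut hy) = Nat.card (F →+ F) := by
  symm
  apply Nat.card_congr
  refine Equiv.ofBijective (fun D => (⟨cenAut hy D, cenAut_mem hy D⟩ : centralAut hy)) ⟨?_, ?_⟩
  · intro D D' h
    have h1 : cenAut hy D = cenAut hy D' := congrArg Subtype.val h
    have h2 := stdAut_injective (θ := θ) hy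
      (a₁ := ((1 : Fˣ), RingEquiv.refl F, D)) (a₂ := ((1 : Fˣ), RingEquiv.refl F, D')) h1
    simpa using h2
  · rintro ⟨α, hα⟩
    obtain ⟨D, rfl⟩ := exists_cenAut hy hα
    exact ⟨D, rfl⟩

instance : Finite (SU θ ≃* SU θ) :=
  Finite.of_injective (fun α : SU θ ≃* SU θ => (α : SU θ → SU θ)) DFunLike.coe_injective

theorem SU_main (hy : Hyp θ r) (m : ℕ) (hcard : Nat.card F = 2 ^ (2 * m + 1)) :
    Cfsg.IsElementaryAbelian 2 (Cfsg.pCore 2 (SU θ ≃* SU θ)) ∧
      Nat.card ↥(Cfsg.pCore 2 (SU θ ≃* SU θ)) = 2 ^ ((2 * m + 1) ^ 2) ∧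
      Nat.card (SU θ ≃* SU θ) =
        2 ^ ((2 * m + 1) ^ 2) * ((2 * m + 1) * (2 ^ (2 * m + 1) - 1)) := by
  have hcardAut : Nat.card (SU θ ≃* SU θ) =
      2 ^ ((2 * m + 1) ^ 2) * ((2 * m + 1) * (2 ^ (2 * m + 1) - 1)) := by
    rw [card_aut hy, Nat.card_units, hcard, card_ringAut hy.two _ hcard,
      card_addHom hy.two _ hcard]
    ring
  have hcardC : Nat.card (centralAut hy) = 2 ^ ((2 * m + 1) ^ 2) := by
    rw [card_centralAut hy, card_addHom hy.two _ hcard]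
  have hCn := centralAut_normal hy
  have hCp : IsPGroup 2 (centralAut hy) := IsPGroup.of_card hcardC
  have hle : centralAut hy ≤ Cfsg.pCore 2 (SU θ ≃* SU θ) := Cfsg.Agent.Helper48.le_pCore hCn hCp
  have hP : IsPGroup 2 (Cfsg.pCore 2 (SU θ ≃* SU θ)) := Cfsg.Agent.Helper48.isPGroup_pCore 2 _
  obtain ⟨k, hk⟩ := hP.exists_card_eq
  have hdvd : 2 ^ k ∣ 2 ^ ((2 * m + 1) ^ 2) * ((2 * m + 1) * (2 ^ (2 * m + 1) - 1)) := by
    rw [← hk, ← hcardAut]
    exact Subgroup.card_subgroup_dvd_card _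
  have hodd : Nat.Coprime (2 ^ k) ((2 * m + 1) * (2 ^ (2 * m + 1) - 1)) := by
    apply Nat.Coprime.pow_left
    rw [Nat.coprime_two_left]
    apply Odd.mul
    · exact ⟨m, rfl⟩
    · have h1 : 2 ^ (2 * m + 1) = 2 * 2 ^ (2 * m) := by rw [pow_succ]; ring
      have h2 : 0 < 2 ^ (2 * m) := by positivity
      exact ⟨2 ^ (2 * m) - 1, by omega⟩
  have hdvd2 : 2 ^ k ∣ 2 ^ ((2 * m + 1) ^ 2) := hodd.dvd_of_dvd_mul_right hdvd
  have hcle : Nat.card (Cfsg.pCore 2 (SU θ ≃* SU θ)) ≤ Nat.card (centralAut hy) := by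
    rw [hk, hcardC]
    exact Nat.le_of_dvd (by positivity) hdvd2
  have heq : centralAut hy = Cfsg.pCore 2 (SU θ ≃* SU θ) :=
    Subgroup.eq_of_le_of_card_ge hle hcle
  rw [← heq]
  exact ⟨centralAut_elementary hy, hcardC, hcardAut⟩

/-- Transport of the conclusion along an isomorphism. -/
theorem transport {T T' : Type*} [Group T] [Group T'] (e : T ≃* T') (n k : ℕ)
    (h : Cfsg.IsElementaryAbelian 2 (Cfsg.pCore 2 T) ∧ Nat.card ↥(Cfsg.pCore 2 T) = n ∧
      Nat.card T = k) :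
    Cfsg.IsElementaryAbelian 2 (Cfsg.pCore 2 T') ∧ Nat.card ↥(Cfsg.pCore 2 T') = n ∧
      Nat.card T' = k := by
  obtain ⟨⟨hc, he⟩, hn, hk⟩ := h
  rw [← Cfsg.Agent.Helper48.map_pCore_eq (p := 2) e]
  refine ⟨⟨⟨⟨?_⟩⟩, ?_⟩, ?_, ?_⟩
  · rintro ⟨x, hx⟩ ⟨y, hy⟩
    obtain ⟨x0, hx0, rfl⟩ := hx
    obtain ⟨y0, hy0, rfl⟩ := hy
    apply Subtype.ext
    change e x0 * e y0 = e y0 * e x0
    have := hc.is_comm.comm (⟨x0, hx0⟩ : ↥(Cfsg.pCore 2 T)) ⟨y0, hy0⟩
    have h' : x0 * y0 = y0 * x0 := congrArg Subtype.val this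
    rw [← map_mul, ← map_mul, h']
  · rintro x ⟨x0, hx0, rfl⟩
    change e x0 ^ 2 = 1
    rw [← map_pow, he x0 hx0, map_one]
  · rw [← hn]
    exact Nat.card_congr
      ((Cfsg.pCore 2 T).equivMapOfInjective e.toMonoidHom e.injective).symm.toEquiv
  · rw [← hk]
    exact Nat.card_congr e.symm.toEquiv

end Cfsg.Agent.Helper39.SzAutU
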