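import Mathlib
import Cfsg.Agent.Lib.Helper39.SzAutU5
import Cfsg.Agent.Lib.Helper39.SzSylow2
import Cfsg.Agent.Lib.Helper39.SzModels

/-!
# The Sylow 2-subgroups of `Sz(q)` are abstract Suzuki 2-groups
-/

set_option autoImplicit false

namespace Cfsg.Agent.Helper39.SzAutU

open Cfsg.Agent.Helper39

variable {F : Type*} [Field F] {r : ℕ}

/-- The Tits endomorphism as a ring homomorphism. -/
def thetaHom (h : TitsHyp F r) : F →+* F where
  toFun x := x ^ r
  map_one' := one_pow r
  map_mul' x y := mul_pow x y r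
  map_zero' := zero_pow h.rpos.ne'
  map_add' := h.add

theorem thetaHom_apply (h : TitsHyp F r) (x : F) : thetaHom h x = x ^ r := rfl

theorem hyp_thetaHom (h : TitsHyp F r) : Hyp (thetaHom h) r where
  two := h.two
  pow := fun _ => rfl
  sq := h.sq

/-- The unipotent subgroup of a Suzuki model is the abstract Suzuki 2-group. -/
noncomputable def uniEquivSU {G : Type*} [Group G] (X : SzModel F r G) (h : TitsHyp F r) :
    SU (thetaHom h) ≃* ↥(X.Uni h) :=
  MulEquiv.ofBijective
    (MonoidHom.mk' (fun x : SU (thetaHom h) => X.uS h x.a x.b) (by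
      intro x y
      rw [X.uS_mul h]
      rfl))
    ⟨by
      intro x y hxy
      have := X.uS_inj h hxy
      exact SU.ext this.1 this.2,
     by
      intro u
      obtain ⟨a, b, rfl⟩ := X.uS_surj h u
      exact ⟨⟨a, b⟩, rfl⟩⟩

theorem sylow_Sz_equiv [Fintype F] (m : ℕ) (hF : Fintype.card F = 2 ^ (2 * m + 1))
    (P : Sylow 2 ↥(Cfsg.Lie.Sz F (2 ^ (m + 1)))) :
    Nonempty (↥(P : Subgroup ↥(Cfsg.Lie.Sz F (2 ^ (m + 1)))) ≃*
      SU (thetaHom (titsHyp_of_card m hF))) := by
  set h := titsHyp_of_card m hF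
  let X := lieSzModel h
  have : Finite ↥(Cfsg.Lie.Sz F (2 ^ (m + 1))) := X.finite_G
  have e : ↥P ≃* ↥(X.Uni h) := Sylow.equiv P (X.sylU h hF (by omega))
  exact ⟨e.trans (uniEquivSU X h).symm⟩

end Cfsg.Agent.Helper39.SzAutU
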