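import Mathlib
import Cfsg.Agent.Lib.Helper39.SzFix4

set_option autoImplicit false

namespace Cfsg.Agent.Helper39

namespace SzFix

open MulAction SzOdd SzSubfield Cfsg.Agent.Helper37 Cfsg.Agent.Helper6

variable {F : Type*} [Field F] [Fintype F] {m : ℕ}
variable {Ω : Type*} [MulAction ↥(Cfsg.Sz F m) Ω]

theorem eight_le_q (hm : 1 ≤ m) : 8 ≤ 2 ^ (2 * m + 1) := by
  calc 8 = 2 ^ 3 := by norm_num
    _ ≤ 2 ^ (2 * m + 1) := Nat.pow_le_pow_right (by norm_num) (by omega)

/-- The even case: a point stabiliser containing a central involution of the standard unipotent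
subgroup leads to a point whose stabiliser is the standard Borel subgroup. -/
theorem even_case [Finite Ω] [IsPretransitive ↥(Cfsg.Sz F m) Ω] (hm : 1 ≤ m)
    (hF : Fintype.card F = 2 ^ (2 * m + 1))
    (hfix : ∀ s : ↥(Cfsg.Sz F m), s ≠ 1 → Nat.card (fixedBy Ω s) ≤ 2)
    (hex : ∃ s : ↥(Cfsg.Sz F m), s ≠ 1 ∧ Nat.card (fixedBy Ω s) = 2)
    (α : Ω) {b : F} (hb : b ≠ 0)
    (hbα : (cfsgSzModel m hm hF).uEl (titsHyp_of_card m hF) 0 b • α = α) :
    ∃ α' : Ω, stabilizer ↥(Cfsg.Sz F m) α' =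
      (cfsgSzModel m hm hF).Bor (titsHyp_of_card m hF) := by
  set X := cfsgSzModel m hm hF with hX
  set h := titsHyp_of_card m hF with hh
  have : Finite ↥(Cfsg.Sz F m) := X.finite_G
  have hq8 : 8 ≤ Fintype.card F := by rw [hF]; exact eight_le_q hm
  set i := X.uEl h 0 b with hi
  have hi1 : i ≠ 1 := X.uEl_ne_one h (Or.inr hb)
  have hU : ∀ β : Ω, i • β = β → Fintype.card F ^ 2 ≤
      2 * Nat.card (X.Uni h ⊓ stabilizer ↥(Cfsg.Sz F m) β : Subgroup ↥(Cfsg.Sz F m)) := by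
    intro β hβ
    have := Fixity.card_le_two_mul_inf hfix (X.Uni h) β hi1 (fun c hc =>
      Fixity.smul_comm_fixed hβ (by
        obtain ⟨c', d', rfl⟩ := (X.mem_Uni h).mp hc
        exact X.uEl_zero_comm h b c' d'))
    rwa [X.card_Uni h] at this
  have hZ : Fintype.card F ≤
      2 * Nat.card (X.Zen h ⊓ stabilizer ↥(Cfsg.Sz F m) α : Subgroup ↥(Cfsg.Sz F m)) := by
    have := Fixity.card_le_two_mul_inf hfix (X.Zen h) α hi1 (fun c hc =>
      Fixity.smul_comm_fixed hbα (by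
        obtain ⟨c', rfl⟩ := (X.mem_Zen h).mp hc
        exact X.uEl_zero_comm h b 0 c'))
    rwa [X.card_Zen h] at this
  set H := stabilizer ↥(Cfsg.Sz F m) α with hH
  have hiH : i ∈ H := hbα
  by_cases hHB : H ≤ X.Bor h
  · by_cases hHU : H ≤ X.Uni h
    · exfalso
      have h4 : 4 ≤ Nat.card (X.Zen h ⊓ H : Subgroup ↥(Cfsg.Sz F m)) := by omega
      have h3 : 3 ≤ Nat.card (fixedBy Ω i) := X.three_le_card_fixedBy h α hHU hb h4
      have h2 := hfix i hi1
      omega
    · obtain ⟨x, hxH, hxU⟩ := SetLike.not_le_iff_exists.mp hHU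
      obtain ⟨k, a, c, rfl⟩ := (X.mem_Bor_iff h).mp (hHB hxH)
      have hk : k ≠ 1 := by
        rintro rfl
        apply hxU
        rw [map_one, one_mul]
        exact X.uEl_mem_Uni h a c
      obtain ⟨v, hvU, hv⟩ := X.exists_conj_mEl h hk a c
      refine ⟨v • α, ?_⟩
      set H' := stabilizer ↥(Cfsg.Sz F m) (v • α) with hH'
      have hmemH' : ∀ y, y ∈ H' ↔ v⁻¹ * y * v ∈ H := fun y => Fixity.mem_stabilizer_smul_iff
      have hkH' : X.mEl h k ∈ H' := by
        rw [hmemH', ← hv]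
        have : v⁻¹ * (v * (X.mEl h k * X.uEl h a c) * v⁻¹) * v = X.mEl h k * X.uEl h a c := by
          group
        rw [this]; exact hxH
      have hiH' : i ∈ H' := by
        rw [hmemH']
        obtain ⟨c', d', rfl⟩ := (X.mem_Uni h).mp hvU
        have e := X.uEl_zero_comm h b c' d'
        have : (X.uEl h c' d')⁻¹ * i * X.uEl h c' d' = i := by
          rw [mul_assoc, ← e, ← mul_assoc, inv_mul_cancel, one_mul]
        rw [this]; exact hiH
      have hH'B : H' ≤ X.Bor h := by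
        intro y hy
        have h1 := hHB ((hmemH' y).mp hy)
        have hvB := X.Uni_le_Bor h hvU
        have : y = v * (v⁻¹ * y * v) * v⁻¹ := by group
        rw [this]
        exact (X.Bor h).mul_mem ((X.Bor h).mul_mem hvB h1) ((X.Bor h).inv_mem hvB)
      have hkα' : X.mEl h k • (v • α) = v • α := hkH'
      have hmk1 : X.mEl h k ≠ 1 := fun h0 => hk (X.mEl_injective h (h0.trans (map_one _).symm))
      have hTodd : ¬ 2 ∣ Nat.card (X.Tor h) := by
        rw [X.card_Tor h, hF]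
        have : 2 ^ (2 * m + 1) = 2 * 2 ^ (2 * m) := by rw [pow_succ]; ring
        have h1 : 1 ≤ 2 ^ (2 * m) := Nat.one_le_two_pow
        omega
      have hTH' : X.Tor h ≤ H' := Fixity.le_stabilizer_of_odd hfix _ hTodd (v • α) hmk1
        (fun c hc => Fixity.smul_comm_fixed hkα' (by
          obtain ⟨k', rfl⟩ := hc
          rw [← map_mul, ← map_mul, mul_comm]))
      have hnc : ∃ a' c' : F, a' ≠ 0 ∧ X.uEl h a' c' ∈ H' := by
        by_contra hno
        have hle : X.Uni h ⊓ H' ≤ X.Zen h := by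
          rintro y ⟨hyU, hyH⟩
          obtain ⟨a', c', rfl⟩ := (X.mem_Uni h).mp hyU
          by_cases ha' : a' = 0
          · subst ha'; exact X.uEl_zero_mem_Zen h c'
          · exact absurd ⟨a', c', ha', hyH⟩ hno
        have h1 := hU (v • α) hiH'
        have : Finite ↥(X.Zen h) := inferInstance
        have h2 := Subgroup.card_le_of_le hle
        rw [X.card_Zen h] at h2
        nlinarith
      obtain ⟨a', c', ha', hac'⟩ := hnc
      have hBH' := X.Bor_le_of h H' (fun k' => hTH' ⟨k', rfl⟩) hb hiH' ha' hac'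
      exact le_antisymm hH'B hBH'
  · exfalso
    rcases SzSubgroups.subgroup_cases hm hF H with ⟨P, hP⟩ | ⟨A, hA, hHA⟩ | ⟨g₀, E, he, hmem⟩
    · exact hHB (sylow_case hm hF H P hP hb hiH)
    · have hsecond : ∃ b₂ : F, b₂ ≠ 0 ∧ b₂ ≠ b ∧ X.uEl h 0 b₂ ∈ H := by
        by_contra hno
        have hsub : ((X.Zen h ⊓ H : Subgroup ↥(Cfsg.Sz F m)) : Set ↥(Cfsg.Sz F m)) ⊆ {1, i} := by
          rintro y ⟨⟨b₂, rfl⟩, hyH⟩
          by_cases h0 : b₂ = 0
          · left; rw [h0, X.uEl_zero h]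
          · by_cases h1 : b₂ = b
            · right; rw [h1]; rfl
            · exact absurd ⟨b₂, h0, h1, hyH⟩ hno
        have hc2 : Nat.card (X.Zen h ⊓ H : Subgroup ↥(Cfsg.Sz F m)) ≤ 2 := by
          have e1 : Nat.card (X.Zen h ⊓ H : Subgroup ↥(Cfsg.Sz F m)) =
              ((X.Zen h ⊓ H : Subgroup ↥(Cfsg.Sz F m)) : Set ↥(Cfsg.Sz F m)).ncard :=
            Nat.card_coe_set_eq _
          rw [e1]
          calc ((X.Zen h ⊓ H : Subgroup ↥(Cfsg.Sz F m)) : Set ↥(Cfsg.Sz F m)).ncard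
              ≤ ({1, i} : Set ↥(Cfsg.Sz F m)).ncard := Set.ncard_le_ncard hsub (Set.toFinite _)
            _ ≤ 2 := by
              have := Set.ncard_insert_le (1 : ↥(Cfsg.Sz F m)) {i}
              rw [Set.ncard_singleton] at this
              exact this
        omega
      obtain ⟨b₂, hb₂, hb₂b, hb₂H⟩ := hsecond
      exact torus_case_false hm hF H A hA hHA hb₂b.symm hb hb₂ hiH hb₂H
    · have hR2 : IsPGroup 2 (X.Uni h ⊓ H : Subgroup ↥(Cfsg.Sz F m)) :=
        (X.isPGroup_Uni h hF).to_le inf_le_left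
      have hRc := hU α hbα
      rw [hF] at hRc
      have hHtop := subfield_case hm hF H (X.Uni h ⊓ H) g₀ E he hmem inf_le_right hR2 hRc
      obtain ⟨s₀, hs₀1, hs₀2⟩ := hex
      have hsub : Subsingleton Ω := ⟨fun ω₁ ω₂ => by
        obtain ⟨g₁, rfl⟩ := exists_smul_eq ↥(Cfsg.Sz F m) α ω₁
        obtain ⟨g₂, rfl⟩ := exists_smul_eq ↥(Cfsg.Sz F m) α ω₂
        have h1 : g₁ ∈ H := by rw [hHtop]; trivial
        have h2 : g₂ ∈ H := by rw [hHtop]; trivial
        rw [mem_stabilizer_iff.mp h1, mem_stabilizer_iff.mp h2]⟩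
      have : Nat.card (fixedBy Ω s₀) ≤ 1 := Finite.card_le_one_iff_subsingleton.mpr inferInstance
      omega

/-- Actions of fixity two of the Suzuki group: the point stabilisers are Borel subgroups or have
order `q - 1`. -/
theorem fixity_two [Finite Ω] [IsPretransitive ↥(Cfsg.Sz F m) Ω] (hm : 1 ≤ m)
    (hF : Fintype.card F = 2 ^ (2 * m + 1))
    (hfix : ∀ s : ↥(Cfsg.Sz F m), s ≠ 1 → Nat.card (fixedBy Ω s) ≤ 2)
    (hex : ∃ s : ↥(Cfsg.Sz F m), s ≠ 1 ∧ Nat.card (fixedBy Ω s) = 2) :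
    (∃ α : Ω, stabilizer ↥(Cfsg.Sz F m) α =
      (cfsgSzModel m hm hF).Bor (titsHyp_of_card m hF)) ∨
    (∃ α : Ω, Nat.card (stabilizer ↥(Cfsg.Sz F m) α) = 2 ^ (2 * m + 1) - 1) := by
  set X := cfsgSzModel m hm hF with hX
  set h := titsHyp_of_card m hF with hh
  have hn : 1 ≤ 2 * m + 1 := by omega
  have : Finite ↥(Cfsg.Sz F m) := X.finite_G
  by_cases hev : ∃ (α : Ω) (s : ↥(Cfsg.Sz F m)), s • α = α ∧ orderOf s = 2
  · left
    obtain ⟨α₁, s, hsα, hs2⟩ := hev
    have hs1 : s ≠ 1 := by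
      rintro rfl
      rw [orderOf_one] at hs2
      omega
    have hss : s * s = 1 := by rw [← pow_two, ← hs2, pow_orderOf_eq_one]
    have hP : IsPGroup 2 (Subgroup.zpowers s) :=
      IsPGroup.of_card (n := 1) (by rw [Nat.card_zpowers, hs2, pow_one])
    obtain ⟨g, hg⟩ := X.exists_conj_of_isPGroup h hF hn (Subgroup.zpowers s) hP
    have hxU := hg s (Subgroup.mem_zpowers s)
    have hx1 : g⁻¹ * s * g ≠ 1 := by
      intro h0
      apply hs1
      have : s = g * (g⁻¹ * s * g) * g⁻¹ := by group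
      rw [this, h0]; group
    have hx2 : (g⁻¹ * s * g) * (g⁻¹ * s * g) = 1 := by
      have : (g⁻¹ * s * g) * (g⁻¹ * s * g) = g⁻¹ * (s * s) * g := by group
      rw [this, hss]; group
    obtain ⟨b, hb, hxb⟩ := X.involution_form h hxU hx1 hx2
    apply even_case hm hF hfix hex (g⁻¹ • α₁) hb
    rw [← hxb, ← mul_smul]
    have : g⁻¹ * s * g * g⁻¹ = g⁻¹ * s := by group
    rw [this, mul_smul, hsα]
  · right
    obtain ⟨s₀, hs₀1, hs₀2⟩ := hex
    have hne : Nonempty (fixedBy Ω s₀) := by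
      by_contra hno
      rw [not_nonempty_iff] at hno
      rw [Nat.card_of_isEmpty] at hs₀2
      omega
    obtain ⟨⟨α₀, hα₀⟩⟩ := hne
    have hodd : ∀ α : Ω, ¬ 2 ∣ Nat.card (stabilizer ↥(Cfsg.Sz F m) α) := by
      intro α h2
      have : Fact (Nat.Prime 2) := ⟨Nat.prime_two⟩
      obtain ⟨x, hx⟩ := exists_prime_orderOf_dvd_card' 2 h2
      apply hev
      exact ⟨α, x.1, x.2, by rw [Subgroup.orderOf_coe]; exact hx⟩
    exact ⟨α₀, odd_case hm hF hfix hodd α₀ hα₀ hs₀1⟩

/-- Actions of fixity two of the Suzuki group, full statement. -/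
theorem fixity_two_full [Fintype Ω] [IsPretransitive ↥(Cfsg.Sz F m) Ω] (hm : 1 ≤ m)
    (hF : Fintype.card F = 2 ^ (2 * m + 1))
    (hfix : ∀ s : ↥(Cfsg.Sz F m), s ≠ 1 → Nat.card (fixedBy Ω s) ≤ 2)
    (hex : ∃ s : ↥(Cfsg.Sz F m), s ≠ 1 ∧ Nat.card (fixedBy Ω s) = 2) :
    (Fintype.card Ω = Fintype.card F ^ 2 + 1 ∧
      IsMultiplyPretransitive ↥(Cfsg.Sz F m) Ω 2) ∨
    (Fintype.card Ω = Fintype.card F ^ 2 * (Fintype.card F ^ 2 + 1) ∧
      ∀ α : Ω, Nat.card (stabilizer ↥(Cfsg.Sz F m) α) = Fintype.card F - 1) := by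
  set X := cfsgSzModel m hm hF with hX
  set h := titsHyp_of_card m hF with hh
  have : Finite ↥(Cfsg.Sz F m) := X.finite_G
  rcases fixity_two hm hF hfix hex with ⟨α, hα⟩ | ⟨α, hα⟩
  · left
    constructor
    · have h1 := index_stabilizer ↥(Cfsg.Sz F m) α
      rw [orbit_eq_univ, Set.ncard_univ, Nat.card_eq_fintype_card, hα, X.index_Bor h] at h1
      exact h1.symm
    · apply two_pretransitive_of_bruhat α (X.tEl h • α)
      · intro x
        exact exists_smul_eq ↥(Cfsg.Sz F m) α x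
      · intro x hx
        obtain ⟨g, rfl⟩ := exists_smul_eq ↥(Cfsg.Sz F m) α x
        have hg : g ∉ X.Bor h := by
          intro hg
          apply hx
          rw [← hα] at hg
          exact hg
        obtain ⟨a, b, b', hb', rfl⟩ := X.bruhat' h hg
        refine ⟨X.uEl h a b, ?_, ?_⟩
        · have : X.uEl h a b ∈ stabilizer ↥(Cfsg.Sz F m) α := by
            rw [hα]; exact X.Uni_le_Bor h (X.uEl_mem_Uni h a b)
          exact this
        · have hb'α : b' • α = α := by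
            have : b' ∈ stabilizer ↥(Cfsg.Sz F m) α := by rw [hα]; exact hb'
            exact this
          rw [mul_smul, mul_smul, hb'α]
  · right
    have hS := X.card_G h
    have h1 := Fixity.card_stabilizer_mul_card (S := ↥(Cfsg.Sz F m)) α
    rw [hα, hS, ← hF] at h1
    have hq1 : 0 < Fintype.card F - 1 := by
      have : 1 < Fintype.card F := Fintype.one_lt_card
      omega
    have hΩ : Fintype.card Ω = Fintype.card F ^ 2 * (Fintype.card F ^ 2 + 1) := by
      apply Nat.eq_of_mul_eq_mul_right hq1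
      rw [h1]; ring
    refine ⟨hΩ, fun α' => ?_⟩
    have h2 := Fixity.card_stabilizer_mul_card (S := ↥(Cfsg.Sz F m)) α'
    rw [hS, hΩ] at h2
    have hpos : 0 < Fintype.card F ^ 2 * (Fintype.card F ^ 2 + 1) := by positivity
    apply Nat.eq_of_mul_eq_mul_left hpos
    rw [h2]; ring

end SzFix

end Cfsg.Agent.Helper39
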