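import Mathlib

set_option autoImplicit false

namespace Cfsg.Agent.Helper39

namespace Mult

section basic

variable {Γ : Type*} [Group Γ]

theorem comm_mul_left {x₁ x₂ y : Γ}
    (hc : x₁ * (x₂ * y * x₂⁻¹ * y⁻¹) = (x₂ * y * x₂⁻¹ * y⁻¹) * x₁) :
    (x₁ * x₂) * y * (x₁ * x₂)⁻¹ * y⁻¹ =
      (x₂ * y * x₂⁻¹ * y⁻¹) * (x₁ * y * x₁⁻¹ * y⁻¹) := by
  have e : (x₁ * x₂) * y * (x₁ * x₂)⁻¹ * y⁻¹ =
      (x₁ * (x₂ * y * x₂⁻¹ * y⁻¹)) * (y * x₁⁻¹ * y⁻¹) := by group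
  rw [e, hc]
  group

theorem comm_mul_right {x y₁ y₂ : Γ}
    (hc : y₁ * (x * y₂ * x⁻¹ * y₂⁻¹) = (x * y₂ * x⁻¹ * y₂⁻¹) * y₁) :
    x * (y₁ * y₂) * x⁻¹ * (y₁ * y₂)⁻¹ =
      (x * y₁ * x⁻¹ * y₁⁻¹) * (x * y₂ * x⁻¹ * y₂⁻¹) := by
  have e : x * (y₁ * y₂) * x⁻¹ * (y₁ * y₂)⁻¹ =
      (x * y₁ * x⁻¹) * ((x * y₂ * x⁻¹ * y₂⁻¹) * y₁⁻¹) := by group
  have hc' : (x * y₂ * x⁻¹ * y₂⁻¹) * y₁⁻¹ = y₁⁻¹ * (x * y₂ * x⁻¹ * y₂⁻¹) := by
    have this : y₁⁻¹ * (y₁ * (x * y₂ * x⁻¹ * y₂⁻¹)) * y₁⁻¹ =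
        y₁⁻¹ * ((x * y₂ * x⁻¹ * y₂⁻¹) * y₁) * y₁⁻¹ := by rw [hc]
    have l1 : y₁⁻¹ * (y₁ * (x * y₂ * x⁻¹ * y₂⁻¹)) * y₁⁻¹ = (x * y₂ * x⁻¹ * y₂⁻¹) * y₁⁻¹ := by
      group
    have l2 : y₁⁻¹ * ((x * y₂ * x⁻¹ * y₂⁻¹) * y₁) * y₁⁻¹ = y₁⁻¹ * (x * y₂ * x⁻¹ * y₂⁻¹) := by
      group
    rw [l1, l2] at this
    exact this
  rw [e, hc']
  group

theorem sq_mul_eq {x y : Γ}
    (hc : x * (y * x * y⁻¹ * x⁻¹) = (y * x * y⁻¹ * x⁻¹) * x) :
    (x * y) * (x * y) = (y * x * y⁻¹ * x⁻¹) * (x * x) * (y * y) := by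
  have e : (x * y) * (x * y) = (x * (y * x * y⁻¹ * x⁻¹)) * (x * y * y) := by group
  rw [e, hc]
  group

end basic

/-- An extension of an elementary abelian group `F` by a central subgroup `C`, carrying maps
acting transitively on the non-zero elements of `F`: every invariant functional on `C` of
exponent two kills all squares and commutators. -/
theorem rho_trivial {Γ : Type*} [Group Γ] {F : Type*} [Field F] {A : Type*} [CommGroup A]
    (E C : Subgroup Γ) (hCE : C ≤ E)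
    (hcent : ∀ w ∈ C, ∀ x ∈ E, w * x = x * w)
    (hsq : ∀ x ∈ E, x * x ∈ C)
    (hcomm : ∀ x ∈ E, ∀ y ∈ E, x * y * x⁻¹ * y⁻¹ ∈ C)
    (c : Γ → F) (hcmul : ∀ x ∈ E, ∀ y ∈ E, c (x * y) = c x + c y)
    (hc0 : ∀ x ∈ E, c x = 0 ↔ x ∈ C)
    (hcsurj : ∀ a : F, ∃ x ∈ E, c x = a)
    (α : Fˣ → Γ → Γ) (hαE : ∀ μ, ∀ x ∈ E, α μ x ∈ E)
    (hαmul : ∀ μ, ∀ x ∈ E, ∀ y ∈ E, α μ (x * y) = α μ x * α μ y)
    (hαc : ∀ μ : Fˣ, ∀ x ∈ E, c (α μ x) = (μ : F) * c x)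
    (ρ : Γ → A) (hρmul : ∀ w ∈ C, ∀ w' ∈ C, ρ (w * w') = ρ w * ρ w')
    (hρsq : ∀ w ∈ C, ρ w * ρ w = 1) (hρα : ∀ μ, ∀ w ∈ C, ρ (α μ w) = ρ w)
    (hindep : ∃ l₁ l₂ l₃ : F, l₁ ≠ 0 ∧ l₂ ≠ 0 ∧ l₃ ≠ 0 ∧ l₁ + l₂ ≠ 0 ∧ l₁ + l₃ ≠ 0 ∧
      l₂ + l₃ ≠ 0 ∧ l₁ + l₂ + l₃ ≠ 0) :
    (∀ x ∈ E, ρ (x * x) = 1) ∧ (∀ x ∈ E, ∀ y ∈ E, ρ (x * y * x⁻¹ * y⁻¹) = 1) := by
  have hρ1 : ρ 1 = 1 := by
    have := hρmul 1 C.one_mem 1 C.one_mem
    rw [mul_one] at this
    exact (mul_eq_left.mp this.symm)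
  have hc1 : c 1 = 0 := by
    have := hcmul 1 E.one_mem 1 E.one_mem
    rw [mul_one] at this
    exact (add_eq_left.mp this.symm)
  have hcinv : ∀ x ∈ E, c x⁻¹ = - c x := by
    intro x hx
    have := hcmul x hx x⁻¹ (E.inv_mem hx)
    rw [mul_inv_cancel, hc1] at this
    exact (neg_eq_of_add_eq_zero_right this.symm).symm
  have hαC : ∀ μ, ∀ w ∈ C, α μ w ∈ C := by
    intro μ w hw
    rw [← hc0 _ (hαE μ w (hCE hw)), hαc μ w (hCE hw), (hc0 w (hCE hw)).mpr hw, mul_zero]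
  -- the square functional
  have hS1 : ∀ x ∈ E, ∀ y ∈ E, c x = c y → ρ (y * y) = ρ (x * x) := by
    intro x hx y hy hxy
    set w := x⁻¹ * y with hw
    have hwE : w ∈ E := E.mul_mem (E.inv_mem hx) hy
    have hwC : w ∈ C := by
      rw [← hc0 w hwE, hw, hcmul _ (E.inv_mem hx) _ hy, hcinv x hx, hxy]
      ring
    have hy' : y = x * w := by rw [hw]; group
    have e : y * y = (x * x) * (w * w) := by
      rw [hy']
      have h1 := hcent w hwC x hx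
      calc x * w * (x * w) = x * (w * x) * w := by group
        _ = x * (x * w) * w := by rw [h1]
        _ = x * x * (w * w) := by group
    rw [e, hρmul _ (hsq x hx) _ (C.mul_mem hwC hwC), hρmul w hwC w hwC, hρsq w hwC, mul_one]
  have hS2 : ∀ μ, ∀ x ∈ E, ρ (α μ x * α μ x) = ρ (x * x) := by
    intro μ x hx
    rw [← hαmul μ x hx x hx, hρα μ _ (hsq x hx)]
  have hS3 : ∀ x ∈ E, ∀ y ∈ E, c x ≠ 0 → c y ≠ 0 → ρ (y * y) = ρ (x * x) := by
    intro x hx y hy hx0 hy0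
    set μ : Fˣ := Units.mk0 (c y / c x) (div_ne_zero hy0 hx0) with hμ
    have h1 : c (α μ x) = c y := by
      rw [hαc μ x hx, hμ, Units.val_mk0]
      field_simp
    rw [hS1 (α μ x) (hαE μ x hx) y hy h1, hS2 μ x hx]
  obtain ⟨l₁, l₂, l₃, h1, h2, h3, h12, h13, h23, h123⟩ := hindep
  obtain ⟨x₁, hx₁E, hx₁⟩ := hcsurj l₁
  obtain ⟨x₂, hx₂E, hx₂⟩ := hcsurj l₂
  obtain ⟨x₃, hx₃E, hx₃⟩ := hcsurj l₃
  set ε := ρ (x₁ * x₁) with hε
  have hεsq : ε * ε = 1 := hρsq _ (hsq x₁ hx₁E)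
  have hSε : ∀ x ∈ E, c x ≠ 0 → ρ (x * x) = ε := by
    intro x hx hx0
    exact hS3 x₁ hx₁E x hx (by rw [hx₁]; exact h1) hx0
  -- commutators of independent elements
  have hK : ∀ x ∈ E, ∀ y ∈ E, c x ≠ 0 → c y ≠ 0 → c x + c y ≠ 0 →
      ρ (y * x * y⁻¹ * x⁻¹) = ε := by
    intro x hx y hy hx0 hy0 hxy0
    have hκC := hcomm y hy x hx
    have e := sq_mul_eq (x := x) (y := y) ((hcent _ hκC x hx).symm)
    have hxyE : x * y ∈ E := E.mul_mem hx hy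
    have h4 : ρ ((x * y) * (x * y)) = ε := hSε _ hxyE (by rw [hcmul x hx y hy]; exact hxy0)
    rw [e, hρmul _ (C.mul_mem hκC (hsq x hx)) _ (hsq y hy), hρmul _ hκC _ (hsq x hx),
      hSε x hx hx0, hSε y hy hy0, mul_assoc, hεsq, mul_one] at h4
    exact h4
  have hε1 : ε = 1 := by
    have hx12E : x₁ * x₂ ∈ E := E.mul_mem hx₁E hx₂E
    have k1 := hK x₃ hx₃E (x₁ * x₂) hx12E (by rw [hx₃]; exact h3)
      (by rw [hcmul x₁ hx₁E x₂ hx₂E, hx₁, hx₂]; exact h12)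
      (by rw [hcmul x₁ hx₁E x₂ hx₂E, hx₁, hx₂, hx₃, add_comm]; exact h123)
    have k2 := hK x₃ hx₃E x₁ hx₁E (by rw [hx₃]; exact h3) (by rw [hx₁]; exact h1)
      (by rw [hx₃, hx₁, add_comm]; exact h13)
    have k3 := hK x₃ hx₃E x₂ hx₂E (by rw [hx₃]; exact h3) (by rw [hx₂]; exact h2)
      (by rw [hx₃, hx₂, add_comm]; exact h23)
    have hκ2 := hcomm x₂ hx₂E x₃ hx₃E
    have hκ1 := hcomm x₁ hx₁E x₃ hx₃E
    have e := comm_mul_left (x₁ := x₁) (x₂ := x₂) (y := x₃) ((hcent _ hκ2 x₁ hx₁E).symm)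
    rw [e, hρmul _ hκ2 _ hκ1, k2, k3, hεsq] at k1
    exact k1.symm
  refine ⟨fun x hx => ?_, fun x hx y hy => ?_⟩
  · by_cases hx0 : c x = 0
    · have hxC := (hc0 x hx).mp hx0
      rw [hρmul x hxC x hxC, hρsq x hxC]
    · rw [hSε x hx hx0, hε1]
  · by_cases hy0 : c y = 0
    · have hyC := (hc0 y hy).mp hy0
      have h4 := hcent y hyC x hx
      have : x * y * x⁻¹ * y⁻¹ = 1 := by
        rw [← h4]; group
      rw [this, hρ1]
    · by_cases hx0 : c x = 0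
      · have hxC := (hc0 x hx).mp hx0
        have h4 := hcent x hxC y hy
        have : x * y * x⁻¹ * y⁻¹ = 1 := by
          rw [h4]; group
        rw [this, hρ1]
      · by_cases hxy0 : c y + c x = 0
        · have hyxE : y * x ∈ E := E.mul_mem hy hx
          have hyxC : y * x ∈ C := by
            rw [← hc0 _ hyxE, hcmul y hy x hx]; exact hxy0
          have h4 := hcent _ hyxC x hx
          -- `y * x * x = x * y * x`, hence `y * x = x * y`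
          have h5 : y * x = x * y := by
            have : y * x * x = x * (y * x) := h4
            have := congrArg (fun t => t * x⁻¹) this
            simpa [mul_assoc] using this
          have : x * y * x⁻¹ * y⁻¹ = 1 := by
            rw [← h5]; group
          rw [this, hρ1]
        · rw [hK y hy x hx hy0 hx0 hxy0, hε1]

/-- A central element lying in the commutator subgroup: its `index`-th power lies in the
commutator subgroup of any subgroup of finite index containing... (transfer). -/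
theorem pow_index_mem_commutator {Γ : Type*} [Group Γ] (P : Subgroup Γ) [P.FiniteIndex] {z : Γ}
    (hzc : ∀ x : Γ, z * x = x * z) (hz : z ∈ commutator Γ) : z ^ P.index ∈ ⁅P, P⁆ := by
  have hV : MonoidHom.transfer (Abelianization.of : P →* Abelianization P) z = 1 :=
    MonoidHom.mem_ker.mp ((Abelianization.commutator_subset_ker _) hz)
  have hpow : ∀ k : ℕ, ∀ x : Γ, z ^ k * x = x * z ^ k := by
    intro k x
    induction k with
    | zero => simp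
    | succ n ih => rw [pow_succ, mul_assoc, hzc x, ← mul_assoc, ih, mul_assoc]
  have key : ∀ (k : ℕ) (g₀ : Γ), g₀⁻¹ * z ^ k * g₀ ∈ P → g₀⁻¹ * z ^ k * g₀ = z ^ k := by
    intro k g₀ _
    rw [mul_assoc, hpow k g₀, ← mul_assoc, inv_mul_cancel, one_mul]
  have h1 := MonoidHom.transfer_eq_pow (Abelianization.of : P →* Abelianization P) z key
  rw [hV] at h1
  have h2 : (⟨z ^ P.index, MonoidHom.transfer_eq_pow_aux z key⟩ : P) ∈ commutator P := by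
    rw [← Abelianization.ker_of, MonoidHom.mem_ker]
    exact h1.symm
  rw [← Subgroup.map_subtype_commutator]
  exact ⟨_, h2, rfl⟩

/-- A homomorphism into an abelian group defined on a subgroup `L`, which detects a central
element `z` of an abelian subgroup `H` of `L` (the transfer from `L` to `H`). -/
theorem exists_invariant_hom {Γ : Type*} [Group Γ] (L H : Subgroup Γ)
    (hab : ∀ a ∈ H, ∀ b ∈ H, a * b = b * a) (hfin : (H.subgroupOf L).index ≠ 0) {z : Γ}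
    (hzL : z ∈ L) (hzc : ∀ x ∈ L, z * x = x * z) :
    ∃ ρ : Γ → Abelianization ↥(H.subgroupOf L), (∀ x ∈ L, ∀ y ∈ L, ρ (x * y) = ρ x * ρ y) ∧
      (ρ z = 1 → z ^ (H.subgroupOf L).index = 1) := by
  classical
  have : (H.subgroupOf L).FiniteIndex := ⟨hfin⟩
  set V := MonoidHom.transfer
    (Abelianization.of : ↥(H.subgroupOf L) →* Abelianization ↥(H.subgroupOf L)) with hV
  refine ⟨fun x => if hx : x ∈ L then V ⟨x, hx⟩ else 1, ?_, ?_⟩
  · intro x hx y hy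
    simp only [dif_pos hx, dif_pos hy, dif_pos (L.mul_mem hx hy)]
    rw [← map_mul]
    rfl
  · intro hρ
    simp only [dif_pos hzL] at hρ
    set z' : ↥L := ⟨z, hzL⟩ with hz'
    have hz'c : ∀ x : ↥L, z' * x = x * z' := fun x => Subtype.ext (hzc x.1 x.2)
    have hpow : ∀ k : ℕ, ∀ x : ↥L, z' ^ k * x = x * z' ^ k := by
      intro k x
      induction k with
      | zero => simp
      | succ n ih => rw [pow_succ, mul_assoc, hz'c x, ← mul_assoc, ih, mul_assoc]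
    have key : ∀ (k : ℕ) (g₀ : ↥L), g₀⁻¹ * z' ^ k * g₀ ∈ H.subgroupOf L →
        g₀⁻¹ * z' ^ k * g₀ = z' ^ k := by
      intro k g₀ _
      rw [mul_assoc, hpow k g₀, ← mul_assoc, inv_mul_cancel, one_mul]
    have h1 := MonoidHom.transfer_eq_pow
      (Abelianization.of : ↥(H.subgroupOf L) →* Abelianization ↥(H.subgroupOf L)) z' key
    rw [← hV, hρ] at h1
    have h2 : (⟨z' ^ (H.subgroupOf L).index, MonoidHom.transfer_eq_pow_aux z' key⟩ :
        ↥(H.subgroupOf L)) ∈ commutator ↥(H.subgroupOf L) := by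
      rw [← Abelianization.ker_of, MonoidHom.mem_ker]
      exact h1.symm
    have hbot : commutator ↥(H.subgroupOf L) = ⊥ := by
      rw [commutator_def, eq_bot_iff, Subgroup.commutator_le]
      intro g₁ _ g₂ _
      rw [Subgroup.mem_bot, commutatorElement_eq_one_iff_commute]
      have := hab g₁.1.1 g₁.2 g₂.1.1 g₂.2
      exact Subtype.ext (Subtype.ext this)
    rw [hbot, Subgroup.mem_bot] at h2
    have h3 := congrArg (fun t : ↥(H.subgroupOf L) => ((t : ↥L) : Γ)) h2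
    simpa using h3

end Mult

end Cfsg.Agent.Helper39
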