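import Mathlib
import Cfsg.Agent.Lib.Helper39.SzFix2
import Cfsg.Agent.Lib.Helper39.SzModelCard
import Cfsg.Agent.Lib.Helper39.SzMult1

set_option autoImplicit false

namespace Cfsg.Agent.Helper39

namespace Mult

/-- A bi-additive pairing `F × F → A` invariant under the torus action of the Suzuki group, with
weights `k ^ 2 / k ^ r` and `k ^ r`, is trivial as soon as `k ^ 2 ≠ k ^ (r / 2)` for some `k`. -/
theorem pairing_trivial {F : Type*} [Field F] {r s : ℕ} (h : TitsHyp F r) (hrs : r = 2 * s)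
    {A : Type*} [CommGroup A] (f : F → F → A)
    (hadd₁ : ∀ a a' b, f (a + a') b = f a b * f a' b)
    (hadd₂ : ∀ a b b', f a (b + b') = f a b * f a b')
    (hinv : ∀ (k : Fˣ) (a b : F), f (a * (k : F) ^ 2 / (k : F) ^ r) (b * (k : F) ^ r) = f a b)
    (hk₀ : ∃ k₀ : F, k₀ ^ 2 ≠ k₀ ^ s) : ∀ a b, f a b = 1 := by
  have h2 : ∀ x : F, x + x = 0 := fun x => by
    have : x + x = 2 * x := by ring
    rw [this, h.two, zero_mul]
  have hf0₁ : ∀ b, f 0 b = 1 := by
    intro b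
    have := hadd₁ 0 0 b
    rw [add_zero] at this
    exact mul_eq_left.mp this.symm
  have hf0₂ : ∀ a, f a 0 = 1 := by
    intro a
    have := hadd₂ a 0 0
    rw [add_zero] at this
    exact mul_eq_left.mp this.symm
  have hsq : ∀ a b, f a b * f a b = 1 := by
    intro a b
    rw [← hadd₂, h2, hf0₂]
  have hsq2 : ∀ k : F, (k + k) = 0 := h2
  have hadd_sq : ∀ k l : F, (k + l) ^ 2 = k ^ 2 + l ^ 2 := by
    intro k l
    have : (k + l) ^ 2 = k ^ 2 + l ^ 2 + 2 * (k * l) := by ring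
    rw [this, h.two, zero_mul, add_zero]
  -- Step 1
  have step1 : ∀ (k a b : F), f (k ^ 2 * a) (k ^ r * b) = f (k ^ r * a) b := by
    intro k a b
    by_cases hk : k = 0
    · subst hk
      rw [zero_pow (by norm_num), zero_pow h.rpos.ne', zero_mul, zero_mul, hf0₁, hf0₁]
    · have := hinv (Units.mk0 k hk) (k ^ r * a) b
      rw [Units.val_mk0] at this
      have e : k ^ r * a * k ^ 2 / k ^ r = k ^ 2 * a := by
        have : k ^ r ≠ 0 := pow_ne_zero _ hk
        field_simp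
      rw [e, mul_comm b] at this
      exact this
  -- Step 2 + 3
  have step3 : ∀ (k l a b : F), f (k ^ 2 * a) (l ^ r * b) = f (l ^ 2 * a) (k ^ r * b) := by
    intro k l a b
    have h1 := step1 (k + l) a b
    rw [hadd_sq, h.add, add_mul, add_mul, add_mul, hadd₁, hadd₁, hadd₂, hadd₂, step1 k a b,
      step1 l a b] at h1
    -- h1 : f(k^r a) b * f (k²a) (l^r b) * (f (l²a) (k^r b) * f (l^r a) b) = f(k^r a) b * f (l^r a) b
    have h3 : f (k ^ 2 * a) (l ^ r * b) * f (l ^ 2 * a) (k ^ r * b) = 1 := by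
      have eA : ∀ p q u v : A, p * q * (u * v) = (q * u) * (p * v) := by
        intro p q u v
        simp only [mul_comm, mul_left_comm]
      rw [eA] at h1
      exact mul_eq_right.mp h1
    calc f (k ^ 2 * a) (l ^ r * b)
        = f (k ^ 2 * a) (l ^ r * b) * (f (l ^ 2 * a) (k ^ r * b) * f (l ^ 2 * a) (k ^ r * b)) := by
          rw [hsq, mul_one]
      _ = f (l ^ 2 * a) (k ^ r * b) := by rw [← mul_assoc, h3, one_mul]
  -- Step 4
  have step4 : ∀ (k a b : F), f (k ^ 2 * a) b = f a (k ^ r * b) := by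
    intro k a b
    have := step3 k 1 a b
    rwa [one_pow, one_pow, one_mul, one_mul] at this
  -- Step 5
  have step5 : ∀ (k a b : F), f a ((k ^ r * k ^ r + (k ^ s) ^ r) * b) = 1 := by
    intro k a b
    have e1 := step1 k a b
    rw [step4 k a (k ^ r * b)] at e1
    have e2 : k ^ r = (k ^ s) ^ 2 := by rw [← pow_mul, hrs, mul_comm]
    have e3 : f (k ^ r * a) b = f a ((k ^ s) ^ r * b) := by
      conv_lhs => rw [e2]
      exact step4 (k ^ s) a b
    rw [e3] at e1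
    rw [add_mul, hadd₂, mul_assoc, e1, hsq]
  obtain ⟨k₀, hk₀⟩ := hk₀
  have hy₀ : k₀ ^ r * k₀ ^ r + (k₀ ^ s) ^ r ≠ 0 := by
    intro h0
    apply hk₀
    apply h.pow_injective
    show (k₀ ^ 2) ^ r = (k₀ ^ s) ^ r
    have e : (k₀ ^ 2) ^ r = k₀ ^ r * k₀ ^ r := by rw [← pow_mul, mul_comm, pow_mul, sq]
    rw [e]
    have this : k₀ ^ r * k₀ ^ r + (k₀ ^ s) ^ r + (k₀ ^ s) ^ r = 0 + (k₀ ^ s) ^ r := by rw [h0]
    rw [add_assoc, h2, add_zero, zero_add] at this
    exact this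
  intro a b
  have := step5 k₀ a ((k₀ ^ r * k₀ ^ r + (k₀ ^ s) ^ r)⁻¹ * b)
  rwa [← mul_assoc, mul_inv_cancel₀ hy₀, one_mul] at this

/-- Three elements of a field with more than four elements, all of whose non-empty subsums are
non-zero. -/
theorem exists_indep {F : Type*} [Field F] [Fintype F] (hcard : 4 < Fintype.card F) :
    ∃ l₁ l₂ l₃ : F, l₁ ≠ 0 ∧ l₂ ≠ 0 ∧ l₃ ≠ 0 ∧ l₁ + l₂ ≠ 0 ∧ l₁ + l₃ ≠ 0 ∧
      l₂ + l₃ ≠ 0 ∧ l₁ + l₂ + l₃ ≠ 0 := by
  classical
  have key : ∀ S : Finset F, S.card ≤ 4 → ∃ x : F, x ∉ S := by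
    intro S hS
    by_contra hno
    push Not at hno
    have : Finset.univ ⊆ S := fun x _ => hno x
    have := Finset.card_le_card this
    rw [Finset.card_univ] at this
    omega
  obtain ⟨l₂, hl₂⟩ := key {0, -1} (by
    refine (Finset.card_insert_le _ _).trans ?_
    simp)
  simp only [Finset.mem_insert, Finset.mem_singleton, not_or] at hl₂
  obtain ⟨l₃, hl₃⟩ := key {0, -1, -l₂, -1 - l₂} (by
    refine (Finset.card_insert_le _ _).trans ?_
    refine Nat.succ_le_succ ((Finset.card_insert_le _ _).trans ?_)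
    refine Nat.succ_le_succ ((Finset.card_insert_le _ _).trans ?_)
    simp)
  simp only [Finset.mem_insert, Finset.mem_singleton, not_or] at hl₃
  refine ⟨1, l₂, l₃, one_ne_zero, hl₂.1, hl₃.1, ?_, ?_, ?_, ?_⟩
  · intro h0
    exact hl₂.2 (by linear_combination h0)
  · intro h0
    exact hl₃.2.1 (by linear_combination h0)
  · intro h0
    exact hl₃.2.2.1 (by linear_combination h0)
  · intro h0
    exact hl₃.2.2.2 (by linear_combination h0)

/-- For `q = 2 ^ (2 m + 1)` with `m ≥ 2` some element has `k ^ 2 ≠ k ^ (2 ^ m)`. -/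
theorem exists_k0 {F : Type*} [Field F] [Fintype F] {m : ℕ} (hm : 2 ≤ m)
    (hF : Fintype.card F = 2 ^ (2 * m + 1)) : ∃ k₀ : F, k₀ ^ 2 ≠ k₀ ^ (2 ^ m) := by
  classical
  obtain ⟨g, hg⟩ := IsCyclic.exists_generator (α := Fˣ)
  have ho : orderOf g = 2 ^ (2 * m + 1) - 1 := by
    rw [orderOf_eq_card_of_forall_mem_zpowers hg, Nat.card_eq_fintype_card, Fintype.card_units, hF]
  refine ⟨(g : F), ?_⟩
  intro heq
  have h4 : 4 ≤ 2 ^ m := by
    calc 4 = 2 ^ 2 := by norm_num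
      _ ≤ 2 ^ m := Nat.pow_le_pow_right (by norm_num) hm
  have e : 2 ^ m = 2 + (2 ^ m - 2) := by omega
  rw [e, pow_add] at heq
  have hg0 : (g : F) ^ 2 ≠ 0 := pow_ne_zero _ g.ne_zero
  have h1 : (g : F) ^ (2 ^ m - 2) = 1 := by
    have : (g : F) ^ 2 * 1 = (g : F) ^ 2 * (g : F) ^ (2 ^ m - 2) := by rw [mul_one]; exact heq
    exact (mul_left_cancel₀ hg0 this).symm
  have h2 : g ^ (2 ^ m - 2) = 1 := by
    apply Units.ext
    rw [Units.val_pow_eq_pow_val, h1, Units.val_one]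
  have h3 := orderOf_dvd_of_pow_eq_one h2
  rw [ho] at h3
  have h5 : 2 ^ m - 2 < 2 ^ (2 * m + 1) - 1 := by
    have : 2 ^ m < 2 ^ (2 * m + 1) := Nat.pow_lt_pow_right (by norm_num) (by omega)
    omega
  have := Nat.le_of_dvd (by omega) h3
  omega

end Mult

namespace SzModel

variable {F : Type*} [Field F] {r : ℕ} {G : Type*} [Group G] (X : SzModel F r G)
variable (h : TitsHyp F r)

theorem uEl_zero_mul_mEl (k : Fˣ) (b : F) :
    X.uEl h 0 b * X.mEl h k = X.mEl h k * X.uEl h 0 (b / (k : F) ^ r) := by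
  rw [X.mEl_mul_uEl h]
  congr 1
  apply X.uEl_congr h
  · rw [zero_mul, zero_div]
  · have : (k : F) ^ r ≠ 0 := pow_ne_zero _ k.ne_zero
    field_simp

/-- The product of the torus and the centre of the unipotent subgroup. -/
def ZT : Subgroup G where
  carrier := {g | ∃ (k : Fˣ) (b : F), g = X.mEl h k * X.uEl h 0 b}
  mul_mem' := by
    rintro _ _ ⟨k, b, rfl⟩ ⟨k', b', rfl⟩
    refine ⟨k * k', b / (k' : F) ^ r + b', ?_⟩
    rw [map_mul, ← X.uEl_zero_mul_zero h, mul_assoc (X.mEl h k), ← mul_assoc (X.uEl h 0 b),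
      X.uEl_zero_mul_mEl h]
    simp only [mul_assoc]
  one_mem' := ⟨1, 0, by rw [map_one, X.uEl_zero h, one_mul]⟩
  inv_mem' := by
    rintro _ ⟨k, b, rfl⟩
    refine ⟨k⁻¹, b / ((k⁻¹ : Fˣ) : F) ^ r, ?_⟩
    rw [_root_.mul_inv_rev, X.uEl_zero_inv h, ← map_inv, X.uEl_zero_mul_mEl h]

theorem mem_ZT {g : G} : g ∈ X.ZT h ↔ ∃ (k : Fˣ) (b : F), g = X.mEl h k * X.uEl h 0 b := Iff.rfl

theorem Zen_le_ZT : X.Zen h ≤ X.ZT h := by
  rintro _ ⟨b, rfl⟩
  exact ⟨1, b, by rw [map_one, one_mul]⟩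

theorem mEl_mem_ZT (k : Fˣ) : X.mEl h k ∈ X.ZT h :=
  ⟨k, 0, by rw [X.uEl_zero h, mul_one]⟩

theorem card_ZT [Fintype F] : Nat.card (X.ZT h) = (Fintype.card F - 1) * Fintype.card F := by
  classical
  have e : Fˣ × F ≃ X.ZT h :=
    Equiv.ofBijective (fun p => ⟨X.mEl h p.1 * X.uEl h 0 p.2, ⟨p.1, p.2, rfl⟩⟩) ⟨by
      rintro ⟨k, b⟩ ⟨k', b'⟩ hp
      have hp' : X.mEl h k * X.uEl h 0 b = X.mEl h k' * X.uEl h 0 b' := congrArg Subtype.val hp
      obtain ⟨h1, -, h3⟩ := X.mEl_mul_uEl_inj h hp'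
      exact Prod.ext h1 h3, by
      rintro ⟨_, k, b, rfl⟩
      exact ⟨(k, b), rfl⟩⟩
  rw [← Nat.card_congr e, Nat.card_eq_fintype_card, Fintype.card_prod, Fintype.card_units]

theorem relIndex_Zen_ZT [Fintype F] : (X.Zen h).relIndex (X.ZT h) = Fintype.card F - 1 := by
  have h1 := Subgroup.relIndex_mul_relIndex ⊥ (X.Zen h) (X.ZT h) bot_le (X.Zen_le_ZT h)
  rw [Subgroup.relIndex_bot_left, Subgroup.relIndex_bot_left, X.card_Zen h, X.card_ZT h] at h1
  have hpos : 0 < Fintype.card F := Fintype.card_pos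
  apply Nat.eq_of_mul_eq_mul_left hpos
  rw [h1, mul_comm]

/-- the coordinates of a unipotent element -/
theorem φ_uEl_zero_one (a b : F) : X.φ (X.uEl h a b) 0 1 = a := by
  rw [φ_uEl]; simp [uMat]

theorem φ_uEl_zero_two (a b : F) : X.φ (X.uEl h a b) 0 2 = b := by
  rw [φ_uEl]; simp [uMat]

theorem uEl_comm_mem_Zen (a b c d : F) :
    X.uEl h a b * X.uEl h c d * (X.uEl h a b)⁻¹ * (X.uEl h c d)⁻¹ ∈ X.Zen h := by
  rw [X.uEl_conj h, X.uEl_inv h, X.uEl_mul h]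
  refine ⟨_, X.uEl_congr h ?_ rfl⟩
  have : c + c = 2 * c := by ring
  rw [this, h.two, zero_mul]

theorem uEl_sq_mem_Zen (a b : F) : X.uEl h a b * X.uEl h a b ∈ X.Zen h := by
  rw [X.uEl_mul_self h]
  exact X.uEl_zero_mem_Zen h _

end SzModel

end Cfsg.Agent.Helper39
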