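import Mathlib
import Cfsg.Agent.Lib.Helper39.SzMult2
import Cfsg.Agent.Lib.Helper39.SzSylow2
import Cfsg.Agent.Lib.Helper39.SzAut

set_option autoImplicit false

namespace Cfsg.Agent.Helper39

namespace Mult

open scoped IsMulCommutative

/-- the projection of a group to its centre (junk value `1` off the centre) -/
noncomputable def ρc {Γ : Type*} [Group Γ] (x : Γ) : Subgroup.center Γ :=
  haveI := Classical.propDecidable (x ∈ Subgroup.center Γ)
  if hx : x ∈ Subgroup.center Γ then ⟨x, hx⟩ else 1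

theorem ρc_of_mem {Γ : Type*} [Group Γ] {x : Γ} (hx : x ∈ Subgroup.center Γ) :
    ρc x = ⟨x, hx⟩ := by
  unfold ρc
  rw [dif_pos hx]

theorem ρc_mul {Γ : Type*} [Group Γ] {x y : Γ} (hx : x ∈ Subgroup.center Γ)
    (hy : y ∈ Subgroup.center Γ) : ρc (x * y) = ρc x * ρc y := by
  rw [ρc_of_mem hx, ρc_of_mem hy, ρc_of_mem ((Subgroup.center Γ).mul_mem hx hy)]
  rfl

theorem eq_one_of_ρc {Γ : Type*} [Group Γ] {x : Γ} (hx : x ∈ Subgroup.center Γ)
    (h1 : ρc x = 1) : x = 1 := by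
  rw [ρc_of_mem hx] at h1
  exact congrArg Subtype.val h1

section main

variable {F : Type*} [Field F] [Fintype F] {r : ℕ} {G : Type*} [Group G] (X : SzModel F r G)
variable (h : TitsHyp F r)
variable {Γ : Type*} [Group Γ] (σ : Γ →* G) (hσ : Function.Surjective σ) (z : Γ)
variable (hz1 : z ≠ 1) (hzc : ∀ x : Γ, z * x = x * z) (hker : ∀ x : Γ, σ x = 1 ↔ x = 1 ∨ x = z)

include hz1 hker in
theorem z_mul_self : z * z = 1 := by
  have h1 : σ (z * z) = 1 := by
    have := (hker z).mpr (Or.inr rfl)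
    rw [map_mul, this, one_mul]
  rcases (hker _).mp h1 with h2 | h2
  · exact h2
  · exfalso
    apply hz1
    have : z * z = z * 1 := by rw [mul_one]; exact h2
    exact mul_left_cancel this

include hzc hker in
theorem ker_central {w : Γ} (hw : σ w = 1) (x : Γ) : w * x = x * w := by
  rcases (hker w).mp hw with h0 | h0
  · rw [h0]; simp
  · rw [h0]; exact hzc x

include hzc hker in
theorem ker_mem_center {w : Γ} (hw : σ w = 1) : w ∈ Subgroup.center Γ := by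
  rw [Subgroup.mem_center_iff]
  intro x
  exact (ker_central σ z hzc hker hw x).symm

include hz1 hker in
theorem ker_mul_self {w : Γ} (hw : σ w = 1) : w * w = 1 := by
  rcases (hker w).mp hw with h0 | h0
  · rw [h0]; simp
  · rw [h0]; exact z_mul_self σ z hz1 hker

/-- the lift of a torus element -/
noncomputable def mt (k : Fˣ) : Γ := Function.surjInv hσ (X.mEl h k)

omit [Fintype F] in
theorem σ_mt (k : Fˣ) : σ (mt X h σ hσ k) = X.mEl h k := Function.surjInv_eq hσ _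

omit [Fintype F] in
theorem σ_conj_mt (k : Fˣ) (x : Γ) {a b : F} (hx : σ x = X.uEl h a b) :
    σ (mt X h σ hσ k * x * (mt X h σ hσ k)⁻¹) =
      X.uEl h (a * (k : F) ^ 2 / (k : F) ^ r) (b * (k : F) ^ r) := by
  rw [map_mul, map_mul, map_inv, σ_mt, hx, X.mEl_conj_uEl h]

include hσ hz1 hzc hker in
/-- Step 1: the preimage of the centre of the unipotent subgroup is elementary abelian. -/
theorem Zt_elementary (hcard : 4 < Fintype.card F) :
    (∀ w : Γ, (∃ b : F, σ w = X.uEl h 0 b) → w * w = 1) ∧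
    (∀ w w' : Γ, (∃ b : F, σ w = X.uEl h 0 b) → (∃ b : F, σ w' = X.uEl h 0 b) →
      w * w' = w' * w) := by
  classical
  have h2 : ∀ x : F, x + x = 0 := SzModel.add_self' h
  set Zt : Subgroup Γ := (X.Zen h).comap σ with hZt
  have hmemZ : ∀ x, x ∈ Zt ↔ ∃ b : F, σ x = X.uEl h 0 b := fun x => Iff.rfl
  have hroot : ∀ μ : Fˣ, ∃ k : Fˣ, (k : F) ^ r = μ :=
    fun μ => SzModel.exists_unit_pow_r h μ.ne_zero
  choose κ hκ using hroot
  have key := rho_trivial (F := F) (A := Subgroup.center Γ) Zt σ.ker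
    (by
      intro w hw
      rw [hmemZ]
      exact ⟨0, by rw [X.uEl_zero h]; exact hw⟩)
    (fun w hw x _ => ker_central σ z hzc hker hw x)
    (by
      intro x hx
      obtain ⟨b, hb⟩ := (hmemZ x).mp hx
      rw [MonoidHom.mem_ker, map_mul, hb, X.uEl_zero_mul_zero h, h2, X.uEl_zero h])
    (by
      intro x hx y hy
      obtain ⟨b, hb⟩ := (hmemZ x).mp hx
      obtain ⟨b', hb'⟩ := (hmemZ y).mp hy
      rw [MonoidHom.mem_ker, map_mul, map_mul, map_mul, map_inv, map_inv, hb, hb',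
        X.uEl_zero_inv h, X.uEl_zero_inv h, X.uEl_zero_mul_zero h, X.uEl_zero_mul_zero h,
        X.uEl_zero_mul_zero h]
      have : b + b' + b + b' = 0 := by
        have : b + b' + b + b' = (b + b) + (b' + b') := by ring
        rw [this, h2, h2, add_zero]
      rw [this, X.uEl_zero h])
    (fun x => X.φ (σ x) 0 2)
    (by
      intro x hx y hy
      obtain ⟨b, hb⟩ := (hmemZ x).mp hx
      obtain ⟨b', hb'⟩ := (hmemZ y).mp hy
      simp only [map_mul σ, hb, hb']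
      rw [X.uEl_zero_mul_zero h, X.φ_uEl_zero_two h, X.φ_uEl_zero_two h, X.φ_uEl_zero_two h])
    (by
      intro x hx
      obtain ⟨b, hb⟩ := (hmemZ x).mp hx
      simp only [hb]
      rw [X.φ_uEl_zero_two h, MonoidHom.mem_ker, hb]
      constructor
      · rintro rfl
        exact X.uEl_zero h
      · intro h0
        rw [← X.uEl_zero h] at h0
        exact (X.uEl_inj h h0).2)
    (by
      intro a
      obtain ⟨x, hx⟩ := hσ (X.uEl h 0 a)
      refine ⟨x, (hmemZ x).mpr ⟨a, hx⟩, ?_⟩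
      simp only [hx]
      exact X.φ_uEl_zero_two h 0 a)
    (fun μ x => mt X h σ hσ (κ μ) * x * (mt X h σ hσ (κ μ))⁻¹)
    (by
      intro μ x hx
      obtain ⟨b, hb⟩ := (hmemZ x).mp hx
      rw [hmemZ]
      refine ⟨b * ((κ μ : Fˣ) : F) ^ r, ?_⟩
      rw [σ_conj_mt X h σ hσ (κ μ) x hb]
      exact X.uEl_congr h (by rw [zero_mul, zero_div]) rfl)
    (by
      intro μ x _ y _
      group)
    (by
      intro μ x hx
      obtain ⟨b, hb⟩ := (hmemZ x).mp hx
      simp only [σ_conj_mt X h σ hσ (κ μ) x hb, hb]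
      rw [X.φ_uEl_zero_two h, X.φ_uEl_zero_two h, hκ μ, mul_comm])
    ρc
    (fun w hw w' hw' => ρc_mul (ker_mem_center σ z hzc hker hw) (ker_mem_center σ z hzc hker hw'))
    (by
      intro w hw
      rw [← ρc_mul (ker_mem_center σ z hzc hker hw) (ker_mem_center σ z hzc hker hw),
        ker_mul_self σ z hz1 hker hw, ρc_of_mem (Subgroup.one_mem _)]
      rfl)
    (by
      intro μ w hw
      have : mt X h σ hσ (κ μ) * w * (mt X h σ hσ (κ μ))⁻¹ = w := by
        rw [← ker_central σ z hzc hker hw, mul_assoc, mul_inv_cancel, mul_one]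
      simp only [this])
    (exists_indep hcard)
  constructor
  · intro w hw
    have hwZ : w ∈ Zt := (hmemZ w).mpr hw
    have hk : σ (w * w) = 1 := by
      obtain ⟨b, hb⟩ := hw
      rw [map_mul, hb, X.uEl_zero_mul_zero h, h2, X.uEl_zero h]
    exact eq_one_of_ρc (ker_mem_center σ z hzc hker hk) (key.1 w hwZ)
  · intro w w' hw hw'
    have hwZ : w ∈ Zt := (hmemZ w).mpr hw
    have hwZ' : w' ∈ Zt := (hmemZ w').mpr hw'
    have hk : σ (w * w' * w⁻¹ * w'⁻¹) = 1 := by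
      obtain ⟨b, hb⟩ := hw
      obtain ⟨b', hb'⟩ := hw'
      rw [map_mul, map_mul, map_mul, map_inv, map_inv, hb, hb',
        X.uEl_zero_inv h, X.uEl_zero_inv h, X.uEl_zero_mul_zero h, X.uEl_zero_mul_zero h,
        X.uEl_zero_mul_zero h]
      have : b + b' + b + b' = 0 := by
        have : b + b' + b + b' = (b + b) + (b' + b') := by ring
        rw [this, h2, h2, add_zero]
      rw [this, X.uEl_zero h]
    have h1 := eq_one_of_ρc (ker_mem_center σ z hzc hker hk) (key.2 w hwZ w' hwZ')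
    calc w * w' = (w * w' * w⁻¹ * w'⁻¹) * w' * w := by group
      _ = w' * w := by rw [h1, one_mul]

include hσ hz1 hzc hker in
/-- Step 2: the preimage of the centre of the unipotent subgroup is central in the preimage of
the unipotent subgroup (here `q ≥ 32` is used). -/
theorem Zt_central {s : ℕ} (hrs : r = 2 * s) (hk₀ : ∃ k₀ : F, k₀ ^ 2 ≠ k₀ ^ s)
    (hcard : 4 < Fintype.card F) :
    ∀ x w : Γ, (∃ a b : F, σ x = X.uEl h a b) → (∃ b : F, σ w = X.uEl h 0 b) →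
      x * w = w * x := by
  classical
  obtain ⟨hZsq, hZcomm⟩ := Zt_elementary X h σ hσ z hz1 hzc hker hcard
  have h2 : ∀ x : F, x + x = 0 := SzModel.add_self' h
  have hβker : ∀ x w : Γ, (∃ a b : F, σ x = X.uEl h a b) → (∃ b : F, σ w = X.uEl h 0 b) →
      σ (x * w * x⁻¹ * w⁻¹) = 1 := by
    rintro x w ⟨a, b, hx⟩ ⟨b', hw⟩
    rw [map_mul, map_mul, map_mul, map_inv, map_inv, hx, hw, X.uEl_zero_comm h b' a b]
    group
  have hβc : ∀ x w : Γ, (∃ a b : F, σ x = X.uEl h a b) → (∃ b : F, σ w = X.uEl h 0 b) →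
      x * w * x⁻¹ * w⁻¹ ∈ Subgroup.center Γ :=
    fun x w hx hw => ker_mem_center σ z hzc hker (hβker x w hx hw)
  have welldef₁ : ∀ x x' w : Γ, (∃ a b b'' : F, σ x = X.uEl h a b ∧ σ x' = X.uEl h a b'') →
      (∃ b : F, σ w = X.uEl h 0 b) → x' * w * x'⁻¹ * w⁻¹ = x * w * x⁻¹ * w⁻¹ := by
    rintro x x' w ⟨a, b, b'', hx, hx'⟩ hw
    set w₀ := x⁻¹ * x' with hw₀
    have hw₀Z : ∃ b : F, σ w₀ = X.uEl h 0 b := by
      refine ⟨a * a ^ r + b + b'' + a * a ^ r, ?_⟩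
      rw [hw₀, map_mul, map_inv, hx, hx', X.uEl_inv h, X.uEl_mul h]
      exact X.uEl_congr h (h2 a) rfl
    have hc := hZcomm w₀ w hw₀Z hw
    have e : x' = x * w₀ := by rw [hw₀]; group
    have e2 : w₀ * w * w₀⁻¹ = w := by rw [hc, mul_assoc, mul_inv_cancel, mul_one]
    calc x' * w * x'⁻¹ * w⁻¹ = x * (w₀ * w * w₀⁻¹) * x⁻¹ * w⁻¹ := by rw [e]; group
      _ = x * w * x⁻¹ * w⁻¹ := by rw [e2]
  have welldef₂ : ∀ x w w' : Γ, σ w = σ w' → x * w' * x⁻¹ * w'⁻¹ = x * w * x⁻¹ * w⁻¹ := by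
    intro x w w' hww
    set κ := w⁻¹ * w' with hκ
    have hκk : σ κ = 1 := by rw [hκ, map_mul, map_inv, hww, inv_mul_cancel]
    have hc := ker_central σ z hzc hker hκk
    have e : w' = w * κ := by rw [hκ]; group
    have e2 : κ * x⁻¹ * κ⁻¹ = x⁻¹ := by rw [hc, mul_assoc, mul_inv_cancel, mul_one]
    calc x * w' * x⁻¹ * w'⁻¹ = x * w * (κ * x⁻¹ * κ⁻¹) * w⁻¹ := by rw [e]; group
      _ = x * w * x⁻¹ * w⁻¹ := by rw [e2]
  -- lifts
  set ℓA : F → Γ := fun a => Function.surjInv hσ (X.uEl h a 0) with hℓA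
  set ℓB : F → Γ := fun b => Function.surjInv hσ (X.uEl h 0 b) with hℓB
  have hσA : ∀ a, σ (ℓA a) = X.uEl h a 0 := fun a => Function.surjInv_eq hσ _
  have hσB : ∀ b, σ (ℓB b) = X.uEl h 0 b := fun b => Function.surjInv_eq hσ _
  have hAU : ∀ a, ∃ a' b' : F, σ (ℓA a) = X.uEl h a' b' := fun a => ⟨a, 0, hσA a⟩
  have hBZ : ∀ b, ∃ b' : F, σ (ℓB b) = X.uEl h 0 b' := fun b => ⟨b, hσB b⟩
  set f : F → F → Subgroup.center Γ :=
    fun a b => ρc (ℓA a * ℓB b * (ℓA a)⁻¹ * (ℓB b)⁻¹) with hf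
  have hadd₁ : ∀ a a' b, f (a + a') b = f a b * f a' b := by
    intro a a' b
    have hprod : ∃ a₀ b₀ : F, σ (ℓA a * ℓA a') = X.uEl h a₀ b₀ :=
      ⟨_, _, by rw [map_mul, hσA, hσA, X.uEl_mul h]⟩
    have e1 := welldef₁ (ℓA (a + a')) (ℓA a * ℓA a') (ℓB b)
      ⟨a + a', 0, 0 + 0 + a * a' ^ r, hσA _, by rw [map_mul, hσA, hσA, X.uEl_mul h]⟩ (hBZ b)
    have e2 := comm_mul_left (x₁ := ℓA a) (x₂ := ℓA a') (y := ℓB b)
      (by
        have := hβc (ℓA a') (ℓB b) (hAU a') (hBZ b)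
        rw [Subgroup.mem_center_iff] at this
        exact this _)
    show ρc _ = ρc _ * ρc _
    rw [← e1, e2, ρc_mul (hβc _ _ (hAU a') (hBZ b)) (hβc _ _ (hAU a) (hBZ b)), mul_comm]
  have hadd₂ : ∀ a b b', f a (b + b') = f a b * f a b' := by
    intro a b b'
    have e1 := welldef₂ (ℓA a) (ℓB (b + b')) (ℓB b * ℓB b')
      (by rw [map_mul, hσB, hσB, hσB, X.uEl_zero_mul_zero h])
    have e2 := comm_mul_right (x := ℓA a) (y₁ := ℓB b) (y₂ := ℓB b')
      (by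
        have := hβc (ℓA a) (ℓB b') (hAU a) (hBZ b')
        rw [Subgroup.mem_center_iff] at this
        exact this _)
    show ρc _ = ρc _ * ρc _
    rw [← e1, e2, ρc_mul (hβc _ _ (hAU a) (hBZ b)) (hβc _ _ (hAU a) (hBZ b'))]
  have hinv : ∀ (k : Fˣ) (a b : F),
      f (a * (k : F) ^ 2 / (k : F) ^ r) (b * (k : F) ^ r) = f a b := by
    intro k a b
    set mk := mt X h σ hσ k with hmk
    have hx' := σ_conj_mt X h σ hσ k (ℓA a) (hσA a)
    have hw' := σ_conj_mt X h σ hσ k (ℓB b) (hσB b)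
    have hw'' : σ (mk * ℓB b * mk⁻¹) = X.uEl h 0 (b * (k : F) ^ r) := by
      rw [hw']
      exact X.uEl_congr h (by rw [zero_mul, zero_div]) rfl
    have e1 := welldef₁ (ℓA (a * (k : F) ^ 2 / (k : F) ^ r)) (mk * ℓA a * mk⁻¹)
      (ℓB (b * (k : F) ^ r)) ⟨_, _, _, hσA _, hx'⟩ (hBZ _)
    have e2 := welldef₂ (mk * ℓA a * mk⁻¹) (ℓB (b * (k : F) ^ r)) (mk * ℓB b * mk⁻¹)
      (by rw [hσB, hw''])
    have e3 : (mk * ℓA a * mk⁻¹) * (mk * ℓB b * mk⁻¹) * (mk * ℓA a * mk⁻¹)⁻¹ *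
        (mk * ℓB b * mk⁻¹)⁻¹ = mk * (ℓA a * ℓB b * (ℓA a)⁻¹ * (ℓB b)⁻¹) * mk⁻¹ := by group
    have hcen := hβc (ℓA a) (ℓB b) (hAU a) (hBZ b)
    have e4 : mk * (ℓA a * ℓB b * (ℓA a)⁻¹ * (ℓB b)⁻¹) * mk⁻¹ =
        ℓA a * ℓB b * (ℓA a)⁻¹ * (ℓB b)⁻¹ := by
      rw [Subgroup.mem_center_iff] at hcen
      rw [hcen mk, mul_assoc, mul_inv_cancel, mul_one]
    show ρc _ = ρc _
    rw [← e1, ← e2, e3, e4]
  have hf1 := pairing_trivial h hrs f hadd₁ hadd₂ hinv hk₀
  rintro x w ⟨a, b, hx⟩ ⟨b', hw⟩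
  have e1 := welldef₁ (ℓA a) x w ⟨a, 0, b, hσA a, hx⟩ ⟨b', hw⟩
  have e2 := welldef₂ (ℓA a) (ℓB b') w (by rw [hσB, hw])
  have h1 : x * w * x⁻¹ * w⁻¹ = 1 := by
    rw [e1, e2]
    exact eq_one_of_ρc (hβc _ _ (hAU a) (hBZ b')) (hf1 a b')
  calc x * w = (x * w * x⁻¹ * w⁻¹) * w * x := by group
    _ = w * x := by rw [h1, one_mul]

include hz1 hker in
theorem z_pow_odd {j : ℕ} (hj : ¬ 2 ∣ j) : z ^ j = z := by
  have hzz := z_mul_self σ z hz1 hker
  obtain ⟨i, hi⟩ : ∃ i, j = 2 * i + 1 := ⟨j / 2, by omega⟩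
  rw [hi, pow_succ, pow_mul, pow_two, hzz, one_pow, one_mul]

include X h hσ hz1 hzc hker in
/-- The generator of the kernel of a central extension of a Suzuki group, `q ≥ 32`, with kernel
of order two, does not lie in the commutator subgroup. -/
theorem z_not_mem_commutator {s n : ℕ} (hrs : r = 2 * s) (hk₀ : ∃ k₀ : F, k₀ ^ 2 ≠ k₀ ^ s)
    (hq : Fintype.card F = 2 ^ n) (hn : 1 ≤ n) (hcard : 4 < Fintype.card F) :
    z ∉ commutator Γ := by
  classical
  obtain ⟨hZsq, hZcomm⟩ := Zt_elementary X h σ hσ z hz1 hzc hker hcard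
  have hZcent := Zt_central X h σ hσ z hz1 hzc hker hrs hk₀ hcard
  have hσz : σ z = 1 := (hker z).mpr (Or.inr rfl)
  set Ut : Subgroup Γ := (X.Uni h).comap σ with hUt
  set Zt : Subgroup Γ := (X.Zen h).comap σ with hZt
  set Lt : Subgroup Γ := (X.ZT h).comap σ with hLt
  have hmemU : ∀ x, x ∈ Ut ↔ ∃ a b : F, σ x = X.uEl h a b := by
    intro x
    rw [hUt, Subgroup.mem_comap, X.mem_Uni h]
  have hmemZ : ∀ x, x ∈ Zt ↔ ∃ b : F, σ x = X.uEl h 0 b := fun x => Iff.rfl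
  have hZU : Zt ≤ Ut := Subgroup.comap_mono (X.Zen_le_Uni h)
  have hZL : Zt ≤ Lt := Subgroup.comap_mono (X.Zen_le_ZT h)
  have hqodd : ¬ 2 ∣ Fintype.card F - 1 := by
    rw [hq]
    obtain ⟨n', rfl⟩ : ∃ n', n = n' + 1 := ⟨n - 1, by omega⟩
    have : 1 ≤ 2 ^ n' := Nat.one_le_two_pow
    rw [pow_succ]
    omega
  -- the invariant functional
  have hidx : (Zt.subgroupOf Lt).index = Fintype.card F - 1 := by
    show Zt.relIndex Lt = _
    rw [hZt, hLt, Subgroup.relIndex_comap, Subgroup.map_comap_eq_self_of_surjective hσ,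
      X.relIndex_Zen_ZT h]
  have hq1 : Fintype.card F - 1 ≠ 0 := by omega
  obtain ⟨ρ, hρmul, hρz⟩ := exists_invariant_hom Lt Zt
    (fun a ha b hb => hZcomm a b ((hmemZ a).mp ha) ((hmemZ b).mp hb))
    (by rw [hidx]; exact hq1)
    (show z ∈ Lt by
      rw [hLt, Subgroup.mem_comap, hσz]; exact (X.ZT h).one_mem)
    (fun x _ => hzc x)
  have hρz1 : ρ z ≠ 1 := by
    intro h0
    have := hρz h0
    rw [hidx, z_pow_odd σ z hz1 hker hqodd] at this
    exact hz1 this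
  have hρ1 : ρ 1 = 1 := by
    have := hρmul 1 Lt.one_mem 1 Lt.one_mem
    rw [mul_one] at this
    exact mul_eq_left.mp this.symm
  have hroot : ∀ μ : Fˣ, ∃ k : Fˣ, (k : F) ^ 2 / (k : F) ^ r = μ := by
    intro μ
    obtain ⟨k, hk, -⟩ := SzModel.exists_mu h μ
    exact ⟨k, hk⟩
  choose κ hκ using hroot
  have hmtL : ∀ k : Fˣ, mt X h σ hσ k ∈ Lt := by
    intro k
    rw [hLt, Subgroup.mem_comap, σ_mt]
    exact X.mEl_mem_ZT h k
  have key := rho_trivial (F := F) Ut Zt hZU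
    (by
      intro w hw x hx
      exact (hZcent x w ((hmemU x).mp hx) ((hmemZ w).mp hw)).symm)
    (by
      intro x hx
      obtain ⟨a, b, hab⟩ := (hmemU x).mp hx
      rw [hZt, Subgroup.mem_comap, map_mul, hab]
      exact X.uEl_sq_mem_Zen h a b)
    (by
      intro x hx y hy
      obtain ⟨a, b, hab⟩ := (hmemU x).mp hx
      obtain ⟨c, d, hcd⟩ := (hmemU y).mp hy
      rw [hZt, Subgroup.mem_comap, map_mul, map_mul, map_mul, map_inv, map_inv, hab, hcd]
      exact X.uEl_comm_mem_Zen h a b c d)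
    (fun x => X.φ (σ x) 0 1)
    (by
      intro x hx y hy
      obtain ⟨a, b, hab⟩ := (hmemU x).mp hx
      obtain ⟨c, d, hcd⟩ := (hmemU y).mp hy
      simp only [map_mul σ, hab, hcd]
      rw [X.uEl_mul h, X.φ_uEl_zero_one h, X.φ_uEl_zero_one h, X.φ_uEl_zero_one h])
    (by
      intro x hx
      obtain ⟨a, b, hab⟩ := (hmemU x).mp hx
      simp only [hab]
      rw [X.φ_uEl_zero_one h, hmemZ, hab]
      constructor
      · rintro rfl
        exact ⟨b, rfl⟩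
      · rintro ⟨b', hb'⟩
        exact (X.uEl_inj h hb').1)
    (by
      intro a
      obtain ⟨x, hx⟩ := hσ (X.uEl h a 0)
      refine ⟨x, (hmemU x).mpr ⟨a, 0, hx⟩, ?_⟩
      simp only [hx]
      exact X.φ_uEl_zero_one h a 0)
    (fun μ x => mt X h σ hσ (κ μ) * x * (mt X h σ hσ (κ μ))⁻¹)
    (by
      intro μ x hx
      obtain ⟨a, b, hab⟩ := (hmemU x).mp hx
      rw [hmemU]
      exact ⟨_, _, σ_conj_mt X h σ hσ (κ μ) x hab⟩)
    (by
      intro μ x _ y _
      group)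
    (by
      intro μ x hx
      obtain ⟨a, b, hab⟩ := (hmemU x).mp hx
      simp only [σ_conj_mt X h σ hσ (κ μ) x hab, hab]
      rw [X.φ_uEl_zero_one h, X.φ_uEl_zero_one h, mul_div_assoc, hκ μ, mul_comm])
    ρ
    (fun w hw w' hw' => hρmul w (hZL hw) w' (hZL hw'))
    (by
      intro w hw
      rw [← hρmul w (hZL hw) w (hZL hw), hZsq w ((hmemZ w).mp hw), hρ1])
    (by
      intro μ w hw
      have hm := hmtL (κ μ)
      have hmi := Lt.inv_mem hm
      have hwL := hZL hw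
      show ρ (mt X h σ hσ (κ μ) * w * (mt X h σ hσ (κ μ))⁻¹) = ρ w
      rw [hρmul _ (Lt.mul_mem hm hwL) _ hmi, hρmul _ hm _ hwL, mul_comm (ρ _) (ρ w), mul_assoc,
        ← hρmul _ hm _ hmi, mul_inv_cancel, hρ1, mul_one])
    (exists_indep hcard)
  intro hzcomm
  have hUidx : Ut.index = (Fintype.card F ^ 2 + 1) * (Fintype.card F - 1) := by
    rw [hUt, Subgroup.index_comap_of_surjective _ hσ, X.index_Uni h]
  have hUodd : ¬ 2 ∣ Ut.index := by
    rw [hUidx]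
    exact SzModel.odd_part hq hn
  have : Ut.FiniteIndex := ⟨by
    intro h0
    rw [h0] at hUodd
    exact hUodd (dvd_zero 2)⟩
  have h1 := pow_index_mem_commutator Ut hzc hzcomm
  rw [z_pow_odd σ z hz1 hker hUodd] at h1
  -- the subgroup on which `ρ` vanishes
  let D : Subgroup Γ :=
    { carrier := {w | w ∈ Zt ∧ ρ w = 1}
      mul_mem' := by
        rintro a b ⟨ha, ha1⟩ ⟨hb, hb1⟩
        exact ⟨Zt.mul_mem ha hb, by rw [hρmul a (hZL ha) b (hZL hb), ha1, hb1, one_mul]⟩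
      one_mem' := ⟨Zt.one_mem, hρ1⟩
      inv_mem' := by
        rintro a ⟨ha, ha1⟩
        have : a⁻¹ = a := inv_eq_of_mul_eq_one_right (hZsq a ((hmemZ a).mp ha))
        rw [Set.mem_ofPred_eq, this]
        exact ⟨ha, ha1⟩ }
  have hle : ⁅Ut, Ut⁆ ≤ D := by
    rw [Subgroup.commutator_le]
    intro g₁ hg₁ g₂ hg₂
    rw [commutatorElement_def]
    refine ⟨?_, key.2 g₁ hg₁ g₂ hg₂⟩
    obtain ⟨a, b, hab⟩ := (hmemU g₁).mp hg₁
    obtain ⟨c, d, hcd⟩ := (hmemU g₂).mp hg₂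
    rw [hZt, Subgroup.mem_comap, map_mul, map_mul, map_mul, map_inv, map_inv, hab, hcd]
    exact X.uEl_comm_mem_Zen h a b c d
  exact hρz1 (hle h1).2

end main

end Mult

end Cfsg.Agent.Helper39
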