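import Mathlib
import Cfsg.Agent.Lib.Helper39.SzMult3
import Cfsg.Agent.Lib.Helper39.SzModels
import Cfsg.Agent.Lib.Helper39.SzSimple
import Cfsg.Agent.S0102
import Cfsg.Agent.S0331

set_option autoImplicit false

namespace Cfsg.Agent.Helper39

namespace Mult

open scoped commutatorElement

theorem commutator_eq_top_of_surjective {A B : Type*} [Group A] [Group B] (f : A →* B)
    (hf : Function.Surjective f) (hA : commutator A = ⊤) : commutator B = ⊤ := by
  rw [commutator_def] at hA ⊢
  have := Subgroup.map_commutator (⊤ : Subgroup A) ⊤ f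
  rw [hA, Subgroup.map_top_of_surjective f hf] at this
  exact this.symm

theorem commutator_eq_top_of_stem {A B : Type*} [Group A] [Group B] (f : A →* B)
    (hf : Function.Surjective f) (hk : f.ker ≤ commutator A) (hB : commutator B = ⊤) :
    commutator A = ⊤ := by
  rw [eq_top_iff]
  intro x _
  have h1 : f x ∈ (commutator A).map f := by
    have := Subgroup.map_commutator (⊤ : Subgroup A) ⊤ f
    rw [Subgroup.map_top_of_surjective f hf, ← commutator_def, ← commutator_def, hB] at this
    rw [this]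
    trivial
  obtain ⟨y, hy, hyx⟩ := h1
  have h2 : x * y⁻¹ ∈ f.ker := by
    rw [MonoidHom.mem_ker, map_mul, map_inv, hyx, mul_inv_cancel]
  have h3 := (commutator A).mul_mem (hk h2) hy
  rwa [inv_mul_cancel_right] at h3

section sz

variable {F : Type*} [Field F] [Fintype F] {m : ℕ}

theorem sz_perfect (hm : 1 ≤ m) (hF : Fintype.card F = 2 ^ (2 * m + 1)) :
    commutator ↥(Cfsg.Sz F m) = ⊤ := by
  set X := cfsgSzModel m hm hF with hX
  set h := titsHyp_of_card m hF with hh
  have hcard : 2 < Fintype.card F := by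
    rw [hF]
    calc 2 < 2 ^ 2 := by norm_num
      _ ≤ 2 ^ (2 * m + 1) := Nat.pow_le_pow_right (by norm_num) (by omega)
  have hw := exists_ne_zero_one hcard
  have hs : IsSimpleGroup ↥(Cfsg.Sz F m) := X.isSimpleGroup h hw
  rcases hs.eq_bot_or_eq_top_of_normal (commutator ↥(Cfsg.Sz F m)) inferInstance with h0 | h0
  · exfalso
    have h1 : ∀ a b : ↥(Cfsg.Sz F m), a * b = b * a := by
      intro a b
      have h2 : ⁅a, b⁆ ∈ commutator ↥(Cfsg.Sz F m) := by
        rw [commutator_def]
        exact Subgroup.commutator_mem_commutator (Subgroup.mem_top _) (Subgroup.mem_top _)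
      rw [h0, Subgroup.mem_bot, commutatorElement_eq_one_iff_commute] at h2
      exact h2.eq
    exact X.tEl_not_mem_Bor h (X.mem_Bor_of_commute_uEl h (a := 1) (b := 0)
      (Or.inl one_ne_zero) (h1 _ _))
  · exact h0

/-- A central extension of `Sz(q)`, `q ≥ 32`, by a group of order two is not perfect. -/
theorem no_perfect_double_cover (hm : 2 ≤ m) (hF : Fintype.card F = 2 ^ (2 * m + 1))
    {Γ : Type*} [Group Γ] (σ : Γ →* ↥(Cfsg.Sz F m)) (hσ : Function.Surjective σ)
    (hcen : σ.ker ≤ Subgroup.center Γ) (hcard : Nat.card σ.ker = 2)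
    (hperf : commutator Γ = ⊤) : False := by
  classical
  have hm1 : 1 ≤ m := by omega
  set X := cfsgSzModel m hm1 hF with hX
  set h := titsHyp_of_card m hF with hh
  have : Finite σ.ker := Nat.finite_of_card_ne_zero (by rw [hcard]; norm_num)
  have hne : (σ.ker : Subgroup Γ) ≠ ⊥ := by
    rw [← Subgroup.one_lt_card_iff_ne_bot, hcard]
    norm_num
  obtain ⟨⟨z, hzk⟩, hz1⟩ := Subgroup.ne_bot_iff_exists_ne_one.mp hne
  have hz1' : z ≠ 1 := fun h0 => hz1 (Subtype.ext h0)
  have hker : ∀ x : Γ, σ x = 1 ↔ x = 1 ∨ x = z := by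
    intro x
    constructor
    · intro hx
      by_contra hno
      push Not at hno
      have hx' : x ∈ σ.ker := hx
      -- three distinct elements of a group of order two
      have h3 : 2 < Nat.card σ.ker := by
        have : Fintype σ.ker := Fintype.ofFinite _
        rw [Nat.card_eq_fintype_card (α := σ.ker)]
        rw [Fintype.two_lt_card_iff]
        refine ⟨1, ⟨z, hzk⟩, ⟨x, hx'⟩, ?_, ?_, ?_⟩
        · exact fun h0 => hz1 h0.symm
        · intro h0
          exact hno.1 (congrArg Subtype.val h0).symm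
        · intro h0
          exact hno.2 (congrArg Subtype.val h0).symm
      omega
    · rintro (rfl | rfl)
      · exact map_one σ
      · exact hzk
  have hzc : ∀ x : Γ, z * x = x * z := by
    intro x
    have := hcen hzk
    rw [Subgroup.mem_center_iff] at this
    exact (this x).symm
  have hr : 2 ^ (m + 1) = 2 * 2 ^ m := by rw [pow_succ]; ring
  have h32 : 4 < Fintype.card F := by
    rw [hF]
    calc 4 < 2 ^ 3 := by norm_num
      _ ≤ 2 ^ (2 * m + 1) := Nat.pow_le_pow_right (by norm_num) (by omega)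
  have hnot := z_not_mem_commutator X h σ hσ z hz1' hzc hker hr (exists_k0 hm hF) hF
    (by omega) h32
  apply hnot
  rw [hperf]
  trivial

/-- Every finite perfect central extension of `Sz(q)`, `q ≥ 32`, is trivial. -/
theorem stem_ker_eq_bot (hm : 2 ≤ m) (hF : Fintype.card F = 2 ^ (2 * m + 1))
    {Γ : Type*} [Group Γ] [Finite Γ] (σ : Γ →* ↥(Cfsg.Sz F m)) (hσ : Function.Surjective σ)
    (hcen : σ.ker ≤ Subgroup.center Γ) (hcomm : σ.ker ≤ commutator Γ) : σ.ker = ⊥ := by
  classical
  have hm1 : 1 ≤ m := by omega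
  have : Finite ↥(Cfsg.Sz F m) := (cfsgSzModel m hm1 hF).finite_G
  have hG := sz_perfect hm1 hF
  have hΓ : commutator Γ = ⊤ := commutator_eq_top_of_stem σ hσ hcomm hG
  -- odd primes do not divide the order of the kernel
  have hodd : ∀ p : ℕ, p.Prime → p ∣ Nat.card σ.ker → p = 2 := by
    intro p hp hdvd
    by_contra hp2
    have : Fact p.Prime := ⟨hp⟩
    exact Cfsg.Agent.S0102.result hG (fun P => Cfsg.Agent.S0331.result hm1 hF hp2 P) σ hσ hcen hΓ
      hdvd
  have hpos : Nat.card σ.ker ≠ 0 := Nat.card_pos.ne'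
  have hpow := Nat.eq_prime_pow_of_unique_prime_dvd hpos (fun {d} hd hdvd => hodd d hd hdvd)
  set j := (Nat.card σ.ker).primeFactorsList.length with hj
  rcases Nat.eq_zero_or_pos j with hj0 | hjpos
  · rw [hj0, pow_zero] at hpow
    exact Subgroup.eq_bot_of_card_eq _ hpow
  · exfalso
    have : Fact (Nat.Prime 2) := ⟨Nat.prime_two⟩
    obtain ⟨K, hK⟩ := Sylow.exists_subgroup_card_pow_prime (G := σ.ker) 2 (n := j - 1) (by
      rw [hpow]
      exact pow_dvd_pow 2 (by omega))
    set K₀ : Subgroup Γ := K.map σ.ker.subtype with hK₀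
    have hK₀card : Nat.card K₀ = 2 ^ (j - 1) := by
      rw [← hK]
      exact (Nat.card_congr
        (K.equivMapOfInjective σ.ker.subtype σ.ker.subtype_injective).toEquiv).symm
    have hK₀ker : K₀ ≤ σ.ker := by
      rintro _ ⟨x, _, rfl⟩
      exact x.2
    have hK₀n : K₀.Normal := by
      constructor
      intro n hn g
      have hc := hcen (hK₀ker hn)
      rw [Subgroup.mem_center_iff] at hc
      rw [hc g, mul_assoc, mul_inv_cancel, mul_one]
      exact hn
    set σ' : Γ ⧸ K₀ →* ↥(Cfsg.Sz F m) := QuotientGroup.lift K₀ σ hK₀ker with hσ'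
    have hσ's : Function.Surjective σ' := by
      intro g
      obtain ⟨x, hx⟩ := hσ g
      exact ⟨QuotientGroup.mk x, by rw [hσ', QuotientGroup.lift_mk, hx]⟩
    have hkerσ' : σ'.ker = σ.ker.map (QuotientGroup.mk' K₀) := QuotientGroup.ker_lift K₀ σ hK₀ker
    have hcen' : σ'.ker ≤ Subgroup.center (Γ ⧸ K₀) := by
      rw [hkerσ']
      rintro _ ⟨x, hx, rfl⟩
      rw [Subgroup.mem_center_iff]
      intro y
      induction y using QuotientGroup.induction_on with
      | H y =>
        have hc := hcen hx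
        rw [Subgroup.mem_center_iff] at hc
        show (QuotientGroup.mk (y * x) : Γ ⧸ K₀) = QuotientGroup.mk (x * y)
        rw [hc y]
    have hperf' : commutator (Γ ⧸ K₀) = ⊤ :=
      commutator_eq_top_of_surjective (QuotientGroup.mk' K₀) (QuotientGroup.mk'_surjective K₀) hΓ
    -- the order of the kernel
    have hc1 : Nat.card Γ = Nat.card σ.ker * Nat.card ↥(Cfsg.Sz F m) := by
      rw [← Nat.card_congr (QuotientGroup.quotientKerEquivOfSurjective σ hσ).toEquiv, mul_comm]
      exact Subgroup.card_eq_card_quotient_mul_card_subgroup σ.ker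
    have hc2 : Nat.card (Γ ⧸ K₀) = Nat.card σ'.ker * Nat.card ↥(Cfsg.Sz F m) := by
      rw [← Nat.card_congr (QuotientGroup.quotientKerEquivOfSurjective σ' hσ's).toEquiv, mul_comm]
      exact Subgroup.card_eq_card_quotient_mul_card_subgroup σ'.ker
    have hc3 : Nat.card Γ = Nat.card (Γ ⧸ K₀) * Nat.card K₀ :=
      Subgroup.card_eq_card_quotient_mul_card_subgroup K₀
    have hGpos : 0 < Nat.card ↥(Cfsg.Sz F m) := Nat.card_pos
    have hcard' : Nat.card σ'.ker = 2 := by
      rw [hc1, hc2, hpow, hK₀card] at hc3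
      have e : 2 ^ j = 2 * 2 ^ (j - 1) := by
        have hj1 : j = (j - 1) + 1 := by omega
        conv_lhs => rw [hj1]
        rw [pow_succ, mul_comm]
      rw [e] at hc3
      have hpos2 : 0 < 2 ^ (j - 1) := by positivity
      have : 2 * Nat.card ↥(Cfsg.Sz F m) * 2 ^ (j - 1) =
          Nat.card σ'.ker * Nat.card ↥(Cfsg.Sz F m) * 2 ^ (j - 1) := by
        rw [← hc3]; ring
      have h5 := Nat.eq_of_mul_eq_mul_right hpos2 this
      exact (Nat.eq_of_mul_eq_mul_right hGpos h5).symm
    exact no_perfect_double_cover hm hF σ' hσ's hcen' hcard' hperf'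

end sz

end Mult

end Cfsg.Agent.Helper39
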