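import Mathlib
import Cfsg.Agent.Lib.Helper39.SzModels
import Cfsg.Agent.Lib.Helper39.SzModelCard

set_option autoImplicit false

namespace Cfsg.Agent.Helper39

open Matrix Cfsg.Lie

variable {F : Type*} [Field F]

theorem sl4_smul_mk_eq_iff (g : Matrix.SpecialLinearGroup (Fin 4) F) (v w : Fin 4 → F)
    (hv : v ≠ 0) (hw : w ≠ 0) :
    g • Projectivization.mk F v hv = Projectivization.mk F w hw ↔
      ∃ a : Fˣ, a • w = (g : Matrix (Fin 4) (Fin 4) F) *ᵥ v := by
  rw [Projectivization.smul_mk, Projectivization.mk_eq_mk_iff]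
  rfl

theorem mulVec_e0 (M : Matrix (Fin 4) (Fin 4) F) : M *ᵥ ![1, 0, 0, 0] = fun i => M i 0 := by
  ext i
  simp [Matrix.mulVec, dotProduct, Fin.sum_univ_four]

theorem mulVec_e3 (M : Matrix (Fin 4) (Fin 4) F) : M *ᵥ ![0, 0, 0, 1] = fun i => M i 3 := by
  ext i
  simp [Matrix.mulVec, dotProduct, Fin.sum_univ_four]

theorem sl4_fix_infty_iff (g : Matrix.SpecialLinearGroup (Fin 4) F) :
    g • Cfsg.suzukiPointInfinity F = Cfsg.suzukiPointInfinity F ↔
      IsPar (g : Matrix (Fin 4) (Fin 4) F) := by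
  unfold Cfsg.suzukiPointInfinity
  rw [sl4_smul_mk_eq_iff, mulVec_e0]
  constructor
  · rintro ⟨a, ha⟩
    have h1 := congrFun ha 1
    have h2 := congrFun ha 2
    have h3 := congrFun ha 3
    simp at h1 h2 h3
    exact ⟨h1.symm, h2.symm, h3.symm⟩
  · rintro ⟨h1, h2, h3⟩
    have h0 : (g : Matrix (Fin 4) (Fin 4) F) 0 0 ≠ 0 := by
      intro h0
      have hdet := g.2
      rw [Matrix.det_eq_zero_of_column_eq_zero 0] at hdet
      · exact zero_ne_one hdet
      · intro i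
        fin_cases i <;> simp [h0, h1, h2, h3]
    refine ⟨Units.mk0 _ h0, ?_⟩
    ext i
    fin_cases i <;> simp [h1, h2, h3, Units.smul_def]

theorem sl4_fix_zero_iff (g : Matrix.SpecialLinearGroup (Fin 4) F) :
    g • Cfsg.suzukiPointZero F = Cfsg.suzukiPointZero F ↔
      ((g : Matrix (Fin 4) (Fin 4) F) 0 3 = 0 ∧ (g : Matrix (Fin 4) (Fin 4) F) 1 3 = 0 ∧
        (g : Matrix (Fin 4) (Fin 4) F) 2 3 = 0) := by
  unfold Cfsg.suzukiPointZero
  rw [sl4_smul_mk_eq_iff, mulVec_e3]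
  constructor
  · rintro ⟨a, ha⟩
    have h1 := congrFun ha 0
    have h2 := congrFun ha 1
    have h3 := congrFun ha 2
    simp at h1 h2 h3
    exact ⟨h1.symm, h2.symm, h3.symm⟩
  · rintro ⟨h1, h2, h3⟩
    have h0 : (g : Matrix (Fin 4) (Fin 4) F) 3 3 ≠ 0 := by
      intro h0
      have hdet := g.2
      rw [Matrix.det_eq_zero_of_column_eq_zero 3] at hdet
      · exact zero_ne_one hdet
      · intro i
        fin_cases i <;> simp [h0, h1, h2, h3]
    refine ⟨Units.mk0 _ h0, ?_⟩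
    ext i
    fin_cases i <;> simp [h1, h2, h3, Units.smul_def]

section

variable [Fintype F] (m : ℕ) (hm : 1 ≤ m) (hF : Fintype.card F = 2 ^ (2 * m + 1))

/-- The stabiliser of the point at infinity is the Borel subgroup. -/
theorem stabilizer_infty_eq :
    MulAction.stabilizer (Cfsg.Sz F m) (Cfsg.suzukiPointInfinity F) =
      (cfsgSzModel m hm hF).Bor (titsHyp_of_card m hF) := by
  ext g
  rw [MulAction.mem_stabilizer_iff, SzModel.mem_Bor, cfsgSzModel_φ, ← sl4_fix_infty_iff]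
  rfl

/-- The two-point stabiliser is the torus. -/
theorem stabilizer_infty_zero_eq :
    MulAction.stabilizer (Cfsg.Sz F m) (Cfsg.suzukiPointInfinity F) ⊓
      MulAction.stabilizer (Cfsg.Sz F m) (Cfsg.suzukiPointZero F) =
      (cfsgSzModel m hm hF).Tor (titsHyp_of_card m hF) := by
  have h := titsHyp_of_card m hF
  ext g
  rw [Subgroup.mem_inf, stabilizer_infty_eq m hm hF, MulAction.mem_stabilizer_iff]
  have e : g • Cfsg.suzukiPointZero F = (g : Matrix.SpecialLinearGroup (Fin 4) F) •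
    Cfsg.suzukiPointZero F := rfl
  rw [e, sl4_fix_zero_iff]
  constructor
  · rintro ⟨hB, h03, h13, h23⟩
    obtain ⟨k, a, b, rfl⟩ := ((cfsgSzModel m hm hF).mem_Bor_iff h).mp hB
    have hφ : (((cfsgSzModel m hm hF).mEl h k * (cfsgSzModel m hm hF).uEl h a b :
        ↥(Cfsg.Sz F m)) : Matrix (Fin 4) (Fin 4) F) = mMat (2 ^ (m + 1)) (k : F) *
        uMat (2 ^ (m + 1)) a b := by
      rw [← cfsgSzModel_φ m hm hF, map_mul, SzModel.φ_mEl, SzModel.φ_uEl]
    rw [hφ] at h13 h23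
    have hk := k.ne_zero
    have hkr : (k : F) ^ (2 ^ (m + 1)) ≠ 0 := pow_ne_zero _ hk
    simp [mMat, uMat, Matrix.mul_apply, Fin.sum_univ_four, hk, hkr] at h13 h23
    subst h23
    have hb : b = 0 := by simpa [h.rpos.ne'] using h13
    subst hb
    rw [(cfsgSzModel m hm hF).uEl_zero h, mul_one]
    exact ⟨k, rfl⟩
  · rintro ⟨k, rfl⟩
    refine ⟨(cfsgSzModel m hm hF).mEl_mem_Bor h k, ?_⟩
    have hφ : (((cfsgSzModel m hm hF).mEl h k :
        ↥(Cfsg.Sz F m)) : Matrix (Fin 4) (Fin 4) F) = mMat (2 ^ (m + 1)) (k : F) := by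
      rw [← cfsgSzModel_φ m hm hF, SzModel.φ_mEl]
    rw [hφ]
    simp [mMat]

end

end Cfsg.Agent.Helper39
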