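import Mathlib
import Cfsg.Agent.Lib.Helper39.SzMat2
import Cfsg.Agent.Lib.Helper39.SuzukiPoly

set_option autoImplicit false

namespace Cfsg.Agent.Helper39

variable {F : Type*} [Field F] {r : ℕ}

/-- The Artin–Schreier-like map `x ↦ x^r + x`. -/
def wpHom (h : TitsHyp F r) : F →+ F where
  toFun x := x ^ r + x
  map_zero' := by simp [h.rpos.ne']
  map_add' x y := by rw [h.add]; ring

@[simp] theorem wpHom_apply (h : TitsHyp F r) (x : F) : wpHom h x = x ^ r + x := rfl

theorem wpHom_eq_zero_iff (h : TitsHyp F r) (x : F) : wpHom h x = 0 ↔ x = 0 ∨ x = 1 := by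
  have h2 := h.two
  constructor
  · intro hx
    apply h.pow_eq_self
    rw [wpHom_apply] at hx
    linear_combination hx - x * h2
  · rintro (rfl | rfl)
    · simp [h.rpos.ne']
    · simp only [wpHom_apply, one_pow]
      linear_combination h2

theorem one_notMem_range_wpHom (h : TitsHyp F r) : (1 : F) ∉ (wpHom h).range := by
  rintro ⟨x, hx⟩
  have h2 := h.two
  rw [wpHom_apply] at hx
  -- x^r = 1 + x, so x^2 = (x^r)^r = 1 + x^r = x
  have h1 : x ^ r = 1 + x := by linear_combination hx - x * h2
  have h3 : x ^ 2 = x := by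
    rw [← h.sq, h1, h.add, one_pow, h1]
    linear_combination h2
  have h4 : x * (x - 1) = 0 := by linear_combination h3
  rcases mul_eq_zero.mp h4 with h5 | h5
  · rw [h5] at hx
    simp [h.rpos.ne'] at hx
  · have : x = 1 := sub_eq_zero.mp h5
    rw [this, one_pow] at hx
    have : (1 : F) = 0 := by linear_combination h2 - hx
    exact one_ne_zero this

theorem card_ker_wpHom (h : TitsHyp F r) : Nat.card (wpHom h).ker = 2 := by
  rw [Nat.card_eq_two_iff' (0 : (wpHom h).ker)]
  refine ⟨⟨1, (wpHom_eq_zero_iff h 1).mpr (Or.inr rfl)⟩, ?_, ?_⟩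
  · intro hcon
    have := congrArg Subtype.val hcon
    simp at this
  · rintro ⟨y, hy⟩ hne
    rcases (wpHom_eq_zero_iff h y).mp hy with rfl | rfl
    · exact absurd rfl hne
    · rfl

theorem index_range_wpHom [Finite F] (h : TitsHyp F r) : (wpHom h).range.index = 2 := by
  have h1 := (wpHom h).ker.card_mul_index
  rw [AddSubgroup.index_ker, card_ker_wpHom h] at h1
  have h2 := (wpHom h).range.card_mul_index
  have hpos : 0 < Nat.card (wpHom h).range := Nat.card_pos
  have : Nat.card (wpHom h).range * (wpHom h).range.index = Nat.card (wpHom h).range * 2 := by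
    rw [h2, ← h1, mul_comm]
  exact Nat.eq_of_mul_eq_mul_left hpos this

theorem mem_or_add_one_mem_range_wpHom [Finite F] (h : TitsHyp F r) (y : F) :
    y ∈ (wpHom h).range ∨ y + 1 ∈ (wpHom h).range := by
  have h2 := h.two
  obtain ⟨a, ha, hab⟩ := AddSubgroup.index_eq_two_iff_exists_notMem_and.mp (index_range_wpHom h)
  by_cases hy : y ∈ (wpHom h).range
  · exact Or.inl hy
  · right
    have h1 : y + a ∈ (wpHom h).range := (hab y).resolve_right hy
    have h3 : 1 + a ∈ (wpHom h).range := (hab 1).resolve_right (one_notMem_range_wpHom h)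
    have := (wpHom h).range.add_mem h1 h3
    have e : y + a + (1 + a) = y + 1 := by linear_combination a * h2
    rwa [e] at this

/-- If `κ ≠ 0` and `κ P ⊆ P` for `P = range wp`, then `κ = 1`. -/
theorem eq_one_of_mul_range_wpHom [Finite F] (h : TitsHyp F r) {κ : F} (hκ0 : κ ≠ 0)
    (hκ : ∀ p ∈ (wpHom h).range, κ * p ∈ (wpHom h).range) : κ = 1 := by
  have h2 := h.two
  by_contra hκ1
  -- η ∈ P nonzero with η P ⊆ P
  obtain ⟨η, hη0, hηP, hη⟩ : ∃ η : F, η ≠ 0 ∧ η ∈ (wpHom h).range ∧
      ∀ p ∈ (wpHom h).range, η * p ∈ (wpHom h).range := by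
    rcases mem_or_add_one_mem_range_wpHom h κ with hk | hk
    · exact ⟨κ, hκ0, hk, hκ⟩
    · refine ⟨κ + 1, ?_, hk, ?_⟩
      · intro hcon
        apply hκ1
        linear_combination hcon - h2
      · intro p hp
        have := (wpHom h).range.add_mem (hκ p hp) hp
        have e : κ * p + p = (κ + 1) * p := by ring
        rwa [e] at this
  -- multiplication by η is a bijection of P
  let f : (wpHom h).range → (wpHom h).range := fun p => ⟨η * p.1, hη p.1 p.2⟩
  have hinj : Function.Injective f := by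
    intro p p' hpp
    have h1 : η * p.1 = η * p'.1 := congrArg Subtype.val hpp
    exact Subtype.ext (mul_left_cancel₀ hη0 h1)
  have hsurj : Function.Surjective f := Finite.injective_iff_surjective.mp hinj
  obtain ⟨p, hp⟩ := hsurj ⟨η, hηP⟩
  have h1 : η * p.1 = η := congrArg Subtype.val hp
  have h3 : p.1 = 1 := by
    have : η * p.1 = η * 1 := by rw [h1, mul_one]
    exact mul_left_cancel₀ hη0 this
  exact one_notMem_range_wpHom h (h3 ▸ p.2)

/-- The polarisation of the Suzuki commutator form. -/
def betaF (r : ℕ) (f a : F) : F := f * a ^ r + a * f ^ r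

theorem betaF_eq (h : TitsHyp F r) {a : F} (ha : a ≠ 0) (f : F) :
    betaF r f a = (a * a ^ r) * wpHom h (f / a) := by
  have har : a ^ r ≠ 0 := pow_ne_zero _ ha
  rw [wpHom_apply, div_pow, betaF]
  field_simp
  ring

theorem exists_betaF_eq (h : TitsHyp F r) {a : F} (ha : a ≠ 0) {p : F}
    (hp : p ∈ (wpHom h).range) : ∃ f : F, betaF r f a = (a * a ^ r) * p := by
  obtain ⟨x, rfl⟩ := hp
  refine ⟨x * a, ?_⟩
  rw [betaF_eq h ha, mul_div_cancel_right₀ _ ha]

/-- The radical of the form `(f, a) ↦ β(f, a)` modulo a proper subgroup has at most one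
nonzero element. -/
theorem radical_unique [Finite F] (h : TitsHyp F r) (K : AddSubgroup F) (hK : K ≠ ⊤)
    {a a' : F} (ha : a ≠ 0) (ha' : a' ≠ 0) (hKa : ∀ f : F, betaF r f a ∈ K)
    (hKa' : ∀ f : F, betaF r f a' ∈ K) : a = a' := by
  have h2 := h.two
  -- K = c P for c = a^(r+1), whenever c P ⊆ K
  have keyB : ∀ c : F, c ≠ 0 → (∀ p ∈ (wpHom h).range, c * p ∈ K) →
      ∀ y ∈ K, ∃ p ∈ (wpHom h).range, y = c * p := by
    intro c hc hcP y hy
    by_contra hcon
    push Not at hcon
    -- y / c ∉ P, so y / c + 1 ∈ P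
    have h1 : y / c ∉ (wpHom h).range := by
      intro hmem
      exact hcon _ hmem (by field_simp)
    have h3 := (mem_or_add_one_mem_range_wpHom h (y / c)).resolve_left h1
    have h4 : c * (y / c + 1) ∈ K := hcP _ h3
    have h5 : c ∈ K := by
      have e : c * (y / c + 1) = y + c := by field_simp
      rw [e] at h4
      have := K.sub_mem h4 hy
      simpa using this
    -- then K = ⊤
    apply hK
    rw [eq_top_iff]
    intro z _
    rcases mem_or_add_one_mem_range_wpHom h (z / c) with h6 | h6
    · have := hcP _ h6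
      have e : c * (z / c) = z := by field_simp
      rwa [e] at this
    · have := hcP _ h6
      have e : c * (z / c + 1) = z + c := by field_simp
      rw [e] at this
      have := K.sub_mem this h5
      simpa using this
  have hc : a * a ^ r ≠ 0 := mul_ne_zero ha (pow_ne_zero _ ha)
  have hc' : a' * a' ^ r ≠ 0 := mul_ne_zero ha' (pow_ne_zero _ ha')
  have hP : ∀ p ∈ (wpHom h).range, (a * a ^ r) * p ∈ K := by
    intro p hp
    obtain ⟨f, hf⟩ := exists_betaF_eq h ha hp
    rw [← hf]; exact hKa f
  have hP' : ∀ p ∈ (wpHom h).range, (a' * a' ^ r) * p ∈ K := by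
    intro p hp
    obtain ⟨f, hf⟩ := exists_betaF_eq h ha' hp
    rw [← hf]; exact hKa' f
  -- κ = c' / c stabilises P
  have hκ : ∀ p ∈ (wpHom h).range, (a' * a' ^ r) / (a * a ^ r) * p ∈ (wpHom h).range := by
    intro p hp
    obtain ⟨p', hp', hpp⟩ := keyB _ hc hP _ (hP' p hp)
    have : (a' * a' ^ r) / (a * a ^ r) * p = p' := by
      field_simp
      exact hpp
    rw [this]; exact hp'
  have := eq_one_of_mul_range_wpHom h (div_ne_zero hc' hc) hκ
  have h3 : a' * a' ^ r = a * a ^ r := by
    field_simp at this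
    exact this
  exact (tits_inj h h3).symm

end Cfsg.Agent.Helper39
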