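import Mathlib

set_option autoImplicit false

namespace Cfsg.Agent.Helper39

open Module

variable {K : Type*} [Field K] {V : Type*} [AddCommGroup V] [Module K V]

/-- An involution over a field of characteristic not two is semisimple. -/
theorem isSemisimple_of_sq_eq_one [FiniteDimensional K V] (h2 : (2 : K) ≠ 0) {f : End K V}
    (hf : f * f = 1) : f.IsSemisimple := by
  have hsep : (Polynomial.X ^ 2 - Polynomial.C (1 : K)).Separable :=
    Polynomial.separable_X_pow_sub_C (1 : K) (by simpa using h2) one_ne_zero
  apply Module.End.isSemisimple_of_squarefree_aeval_eq_zero hsep.squarefree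
  simp [sq, hf]

/-- Simultaneous eigenspaces of a family of operators. -/
def wtSpace {ι : Type*} (f : ι → End K V) (χ : ι → K) : Submodule K V :=
  ⨅ i, (f i).eigenspace (χ i)

theorem mem_wtSpace {ι : Type*} (f : ι → End K V) (χ : ι → K) (v : V) :
    v ∈ wtSpace f χ ↔ ∀ i, f i v = χ i • v := by
  simp [wtSpace]

theorem wtSpace_eq_iInf_maxGen [FiniteDimensional K V] (h2 : (2 : K) ≠ 0) {ι : Type*}
    (f : ι → End K V) (hf : ∀ i, f i * f i = 1) (χ : ι → K) :
    wtSpace f χ = ⨅ i, (f i).maxGenEigenspace (χ i) := by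
  unfold wtSpace
  congr 1
  ext i
  rw [(isSemisimple_of_sq_eq_one h2 (hf i)).isFinitelySemisimple.maxGenEigenspace_eq_eigenspace]

theorem iSup_wtSpace [IsAlgClosed K] [FiniteDimensional K V] (h2 : (2 : K) ≠ 0) {ι : Type*}
    (f : ι → End K V) (hf : ∀ i, f i * f i = 1) (hcomm : ∀ i j, Commute (f i) (f j)) :
    ⨆ χ : ι → K, wtSpace f χ = ⊤ := by
  simp_rw [wtSpace_eq_iInf_maxGen h2 f hf]
  apply Module.End.iSup_iInf_maxGenEigenspace_eq_top_of_iSup_maxGenEigenspace_eq_top_of_commute
  · intro i j _
    exact hcomm i j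
  · intro i
    exact Module.End.iSup_maxGenEigenspace_eq_top (f i)

theorem iSupIndep_wtSpace [FiniteDimensional K V] (h2 : (2 : K) ≠ 0) {ι : Type*}
    (f : ι → End K V) (hf : ∀ i, f i * f i = 1) (hcomm : ∀ i j, Commute (f i) (f j)) :
    iSupIndep (wtSpace f) := by
  have : wtSpace f = fun χ : ι → K => ⨅ i, (f i).maxGenEigenspace (χ i) := by
    funext χ
    exact wtSpace_eq_iInf_maxGen h2 f hf χ
  rw [this]
  apply Module.End.independent_iInf_maxGenEigenspace_of_forall_mapsTo
  intro i j φ
  exact Module.End.mapsTo_maxGenEigenspace_of_comm (hcomm i j).symm φ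

/-- If some operator of the family is not the identity, a weight with value `≠ 1` occurs. -/
theorem exists_wtSpace_ne_bot [IsAlgClosed K] [FiniteDimensional K V] (h2 : (2 : K) ≠ 0)
    {ι : Type*} (f : ι → End K V) (hf : ∀ i, f i * f i = 1)
    (hcomm : ∀ i j, Commute (f i) (f j)) (i₁ : ι) (hi₁ : f i₁ ≠ 1) :
    ∃ χ : ι → K, wtSpace f χ ≠ ⊥ ∧ χ i₁ ≠ 1 := by
  by_contra hcon
  push Not at hcon
  apply hi₁
  have htop := iSup_wtSpace h2 f hf hcomm
  have hle : (⨆ χ : ι → K, wtSpace f χ) ≤ (f i₁).eigenspace 1 := by
    apply iSup_le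
    intro χ
    by_cases hχ : wtSpace f χ = ⊥
    · rw [hχ]; exact bot_le
    · have h1 := hcon χ hχ
      intro v hv
      rw [mem_wtSpace] at hv
      rw [Module.End.mem_eigenspace_iff, hv i₁, h1]
  rw [htop] at hle
  apply LinearMap.ext
  intro v
  have := hle (Submodule.mem_top : v ∈ ⊤)
  rw [Module.End.mem_eigenspace_iff, one_smul] at this
  simpa using this

/-- Dimension count over a finite set of distinct weights. -/
theorem sum_finrank_wtSpace_le [FiniteDimensional K V] (h2 : (2 : K) ≠ 0) {ι : Type*}
    (f : ι → End K V) (hf : ∀ i, f i * f i = 1) (hcomm : ∀ i j, Commute (f i) (f j))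
    {κ : Type*} [Fintype κ] (χ : κ → (ι → K)) (hχ : Function.Injective χ) (n : ℕ)
    (hn : ∀ k, n ≤ finrank K (wtSpace f (χ k))) :
    Fintype.card κ * n ≤ finrank K V := by
  classical
  have hind := (iSupIndep_wtSpace h2 f hf hcomm).comp hχ
  -- choose n independent vectors in each weight space
  have hex : ∀ k, ∃ v : Fin n → wtSpace f (χ k), LinearIndependent K v := by
    intro k
    exact exists_linearIndependent_of_le_finrank (hn k)
  choose v hv using hex
  -- the combined family is linearly independent
  have hli : LinearIndependent K (fun p : κ × Fin n => ((v p.1 p.2 : wtSpace f (χ p.1)) : V)) := by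
    rw [linearIndependent_iff']
    intro t g hg p hp
    -- group by first coordinate
    set w : κ → V := fun k => ∑ j : Fin n, (if (k, j) ∈ t then g (k, j) else 0) •
      ((v k j : wtSpace f (χ k)) : V) with hw
    have hwmem : ∀ k, w k ∈ wtSpace f (χ k) := by
      intro k
      apply Submodule.sum_mem
      intro j _
      exact Submodule.smul_mem _ _ (v k j).2
    have hsum : ∑ k, w k = 0 := by
      rw [← hg]
      have h1 : ∑ k, w k = ∑ x : κ × Fin n, (if x ∈ t then g x else 0) •
          ((v x.1 x.2 : wtSpace f (χ x.1)) : V) := by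
        rw [Fintype.sum_prod_type]
      rw [h1, ← Finset.sum_subset (Finset.subset_univ t)]
      · apply Finset.sum_congr rfl
        intro x hx
        simp [hx]
      · intro x _ hx
        simp [hx]
    -- each w k vanishes by independence
    have hzero : ∀ k, w k = 0 := by
      intro k
      have hdisj := hind k
      rw [Submodule.disjoint_def] at hdisj
      apply hdisj (w k) (hwmem k)
      have : w k = - ∑ k' ∈ Finset.univ.erase k, w k' := by
        rw [← Finset.add_sum_erase Finset.univ w (Finset.mem_univ k)] at hsum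
        exact eq_neg_of_add_eq_zero_left hsum
      rw [this]
      apply Submodule.neg_mem
      apply Submodule.sum_mem
      intro k' hk'
      have hne : k' ≠ k := (Finset.mem_erase.mp hk').1
      exact Submodule.mem_iSup_of_mem k' (Submodule.mem_iSup_of_mem hne (hwmem k'))
    have h3 : ∑ j : Fin n, (if (p.1, j) ∈ t then g (p.1, j) else 0) •
        ((v p.1 j : wtSpace f (χ p.1)) : V) = 0 := hzero p.1
    have h4 : ∑ j : Fin n, (if (p.1, j) ∈ t then g (p.1, j) else 0) • v p.1 j = 0 := by
      apply Subtype.ext
      rw [Submodule.coe_sum]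
      simp only [Submodule.coe_smul, ZeroMemClass.coe_zero]
      exact h3
    have h5 := (linearIndependent_iff'.mp (hv p.1)) Finset.univ _ h4 p.2 (Finset.mem_univ _)
    simpa [hp] using h5
  have := hli.fintype_card_le_finrank
  simpa [Fintype.card_prod] using this

end Cfsg.Agent.Helper39
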