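import Mathlib
import Cfsg.Agent.Lib.Helper39.SzSimple
import Cfsg.Agent.Lib.Helper39.SzRad
import Cfsg.Agent.Lib.Helper39.Heis
import Cfsg.Agent.Lib.Helper39.WtSpace

set_option autoImplicit false

namespace Cfsg.Agent.Helper39

open Matrix Cfsg.Lie Module

theorem betaF_add {F : Type*} [Field F] {r : ℕ} (h : TitsHyp F r) (f a a' : F) :
    betaF r f (a + a') = betaF r f a + betaF r f a' := by
  unfold betaF
  rw [h.add]; ring

theorem betaF_zero {F : Type*} [Field F] {r : ℕ} (h : TitsHyp F r) (f : F) :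
    betaF r f 0 = 0 := by
  unfold betaF
  simp [h.rpos.ne']

theorem neg_eq_self {F : Type*} [Field F] {r : ℕ} (h : TitsHyp F r) (a : F) : -a = a := by
  linear_combination (-a) * h.two

namespace SzModel

variable {F : Type*} [Field F] {r : ℕ} {G : Type*} [Group G] (X : SzModel F r G)
variable (h : TitsHyp F r)

/-- central unipotent elements -/
noncomputable def zEl (b : F) : G := X.uEl h 0 b

/-- transversal unipotent elements -/
noncomputable def xEl (e : F) : G := X.uEl h e 0

theorem zEl_mul (b c : F) : X.zEl h b * X.zEl h c = X.zEl h (b + c) := by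
  unfold zEl
  rw [uEl_mul]
  apply uEl_congr
  · ring
  · ring

theorem zEl_zero : X.zEl h 0 = 1 := X.uEl_zero h

theorem zEl_inj {b c : F} (hbc : X.zEl h b = X.zEl h c) : b = c := (X.uEl_inj h hbc).2

theorem zEl_add_self (b : F) : X.zEl h b * X.zEl h b = 1 := by
  rw [zEl_mul, ← X.zEl_zero h]
  congr 1
  linear_combination b * h.two

theorem xEl_mul_zEl (e b : F) : X.xEl h e * X.zEl h b = X.zEl h b * X.xEl h e := by
  unfold xEl zEl
  rw [uEl_mul, uEl_mul]
  apply uEl_congr
  · ring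
  · simp [h.rpos.ne']

theorem xEl_mul_xEl (f e : F) :
    X.xEl h f * X.xEl h e = X.zEl h (betaF r f e) * (X.xEl h e * X.xEl h f) := by
  have h2 := h.two
  unfold xEl zEl betaF
  rw [uEl_mul, uEl_mul, uEl_mul]
  apply uEl_congr
  · ring
  · simp only [zero_add, add_zero, zero_mul]
    linear_combination (-(e * f ^ r)) * h2

theorem mEl_mul_zEl (k : Fˣ) (b : F) :
    X.mEl h k * X.zEl h b = X.zEl h (b * (k : F) ^ r) * X.mEl h k := by
  unfold zEl
  rw [mEl_mul_uEl]
  congr 1
  apply uEl_congr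
  · simp
  · rfl

section rep

variable {V : Type*} [AddCommGroup V] [Module ℂ V] (ρ : Representation ℂ G V)

/-- The commuting involutions coming from the centre of the Sylow 2-subgroup. -/
noncomputable def zOp (b : F) : End ℂ V := ρ (X.zEl h b)

theorem zOp_mul (b c : F) : X.zOp h ρ b * X.zOp h ρ c = X.zOp h ρ (b + c) := by
  unfold zOp
  rw [← map_mul, zEl_mul]

theorem zOp_mul_self (b : F) : X.zOp h ρ b * X.zOp h ρ b = 1 := by
  unfold zOp
  rw [← map_mul, zEl_add_self, map_one]

theorem zOp_comm (b c : F) : Commute (X.zOp h ρ b) (X.zOp h ρ c) := by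
  unfold Commute SemiconjBy
  rw [zOp_mul, zOp_mul, add_comm]

theorem zOp_zero : X.zOp h ρ 0 = 1 := by
  unfold zOp
  rw [zEl_zero, map_one]

/-- A weight occurring in the representation is a character of `(F, +)`. -/
theorem wt_char {χ : F → ℂ} (hχ : wtSpace (X.zOp h ρ) χ ≠ ⊥) :
    χ 0 = 1 ∧ ∀ b c : F, χ (b + c) = χ b * χ c := by
  obtain ⟨w, hw, hw0⟩ := Submodule.exists_mem_ne_zero_of_ne_bot hχ
  rw [mem_wtSpace] at hw
  constructor
  · have h1 := hw 0
    rw [zOp_zero] at h1
    have h2 : (1 - χ 0) • w = 0 := by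
      rw [sub_smul, one_smul, ← h1]; simp
    rcases smul_eq_zero.mp h2 with h3 | h3
    · exact (sub_eq_zero.mp h3).symm
    · exact absurd h3 hw0
  · intro b c
    have h1 := hw (b + c)
    rw [← zOp_mul] at h1
    simp only [Module.End.mul_apply] at h1
    rw [hw c, map_smul, hw b, smul_smul] at h1
    have h2 : (χ c * χ b - χ (b + c)) • w = 0 := by
      rw [sub_smul, h1]; simp
    rcases smul_eq_zero.mp h2 with h3 | h3
    · rw [← sub_eq_zero.mp h3, mul_comm]
    · exact absurd h3 hw0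

theorem wt_sq {χ : F → ℂ} (hχ : wtSpace (X.zOp h ρ) χ ≠ ⊥) (b : F) : χ b * χ b = 1 := by
  obtain ⟨h0, hadd⟩ := X.wt_char h ρ hχ
  rw [← hadd, ← h0]
  congr 1
  linear_combination b * h.two

theorem wt_sub {χ : F → ℂ} (hχ : wtSpace (X.zOp h ρ) χ ≠ ⊥) (b c : F) :
    χ (b - c) = χ b * χ c := by
  obtain ⟨h0, hadd⟩ := X.wt_char h ρ hχ
  rw [← hadd]
  congr 1
  linear_combination (-c) * h.two

theorem xEl_inv_mul (e : F) : (X.xEl h e)⁻¹ * X.xEl h e = 1 := inv_mul_cancel _

/-- The Heisenberg part of the bound: the weight space of a nontrivial weight is large. -/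
theorem heis_part [Fintype F] [FiniteDimensional ℂ V] {χ : F → ℂ}
    (hχ : wtSpace (X.zOp h ρ) χ ≠ ⊥) {b₁ : F} (hb₁ : χ b₁ ≠ 1) :
    Fintype.card F ≤ 2 * (finrank ℂ (wtSpace (X.zOp h ρ) χ) *
      finrank ℂ (wtSpace (X.zOp h ρ) χ)) := by
  classical
  obtain ⟨h0, hadd⟩ := X.wt_char h ρ hχ
  have hsub := X.wt_sub h ρ hχ
  have hsq := X.wt_sq h ρ hχ
  -- kernel subgroup
  let K₀ : AddSubgroup F :=
    { carrier := {b | χ b = 1}
      zero_mem' := h0
      add_mem' := by
        intro a b ha hb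
        change χ (a + b) = 1
        rw [hadd, ha, hb, mul_one]
      neg_mem' := by
        intro a ha
        change χ (-a) = 1
        rw [neg_eq_self h]
        exact ha }
  have hK₀mem : ∀ b, b ∈ K₀ ↔ χ b = 1 := fun b => Iff.rfl
  have hK₀ : K₀ ≠ ⊤ := by
    intro hcon
    apply hb₁
    rw [← hK₀mem, hcon]
    trivial
  -- radical subgroup
  let Rad : AddSubgroup F :=
    { carrier := {a | ∀ f, betaF r f a ∈ K₀}
      zero_mem' := by
        intro f
        rw [betaF_zero h]
        exact K₀.zero_mem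
      add_mem' := by
        intro a b ha hb f
        rw [betaF_add h]
        exact K₀.add_mem (ha f) (hb f)
      neg_mem' := by
        intro a ha
        rw [neg_eq_self h]
        exact ha }
  have hRadmem : ∀ a, a ∈ Rad ↔ ∀ f, betaF r f a ∈ K₀ := fun a => Iff.rfl
  have hRad : Nat.card Rad ≤ 2 := by
    have hinj : Function.Injective (fun x : Rad => decide ((x : F) = 0)) := by
      intro x y hxy
      simp only [decide_eq_decide] at hxy
      apply Subtype.ext
      by_cases hx : (x : F) = 0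
      · rw [hx, hxy.mp hx]
      · have hy : (y : F) ≠ 0 := fun hy => hx (hxy.mpr hy)
        exact radical_unique h K₀ hK₀ hx hy ((hRadmem _).mp x.2) ((hRadmem _).mp y.2)
    have := Nat.card_le_card_of_injective _ hinj
    simpa using this
  have hcard : Fintype.card F = Nat.card (F ⧸ Rad) * Nat.card Rad := by
    rw [← Nat.card_eq_fintype_card]
    exact AddSubgroup.card_eq_card_quotient_mul_card_addSubgroup Rad
  -- the Heisenberg operators
  set W := wtSpace (X.zOp h ρ) χ with hW
  have : Nontrivial ↥W := Submodule.nontrivial_iff_ne_bot.mpr hχ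
  have hinv : ∀ e : F, ∀ w ∈ W, ρ (X.xEl h e) w ∈ W := by
    intro e w hw
    rw [hW, mem_wtSpace] at hw ⊢
    intro b
    have h1 : X.zOp h ρ b (ρ (X.xEl h e) w) = ρ (X.xEl h e) (X.zOp h ρ b w) := by
      unfold zOp
      rw [← Module.End.mul_apply, ← Module.End.mul_apply, ← map_mul, ← map_mul, xEl_mul_zEl]
    rw [h1, hw b, map_smul]
  let B : F → (↥W →ₗ[ℂ] ↥W) := fun e => (ρ (X.xEl h e)).restrict (hinv e)
  have hBinj : ∀ e, Function.Injective (B e) := by
    intro e w w' hww'
    have h1 : ρ (X.xEl h e) w = ρ (X.xEl h e) w' := congrArg Subtype.val hww'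
    have h2 := congrArg (ρ (X.xEl h e)⁻¹) h1
    rw [← Module.End.mul_apply, ← Module.End.mul_apply, ← map_mul, inv_mul_cancel, map_one] at h2
    exact Subtype.ext h2
  have hBcomm : ∀ f e, B f ∘ₗ B e = (χ (betaF r f e)) • (B e ∘ₗ B f) := by
    intro f e
    apply LinearMap.ext
    intro w
    apply Subtype.ext
    have h1 : ρ (X.xEl h f) (ρ (X.xEl h e) w) =
        X.zOp h ρ (betaF r f e) (ρ (X.xEl h e) (ρ (X.xEl h f) w)) := by
      unfold zOp
      rw [← Module.End.mul_apply, ← Module.End.mul_apply, ← Module.End.mul_apply, ← map_mul,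
        ← map_mul, ← map_mul, xEl_mul_xEl, mul_assoc]
    have h2 : ρ (X.xEl h e) (ρ (X.xEl h f) w) ∈ W := hinv e _ (hinv f _ w.2)
    have h2' := (mem_wtSpace (X.zOp h ρ) χ _).mp h2
    change ρ (X.xEl h f) (ρ (X.xEl h e) w) = χ (betaF r f e) • ρ (X.xEl h e) (ρ (X.xEl h f) w)
    rw [h1, h2']
  -- separation
  have hsep : ∀ i j : F ⧸ Rad, i ≠ j → ∃ f, χ (betaF r f i.out) ≠ χ (betaF r f j.out) := by
    intro i j hij
    have hnot : i.out - j.out ∉ Rad := by
      intro hmem
      apply hij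
      rw [← QuotientAddGroup.out_eq' i, ← QuotientAddGroup.out_eq' j, QuotientAddGroup.eq]
      have := Rad.neg_mem hmem
      have e : -(Quotient.out i - Quotient.out j) = -Quotient.out i + Quotient.out j := by ring
      rwa [e] at this
    rw [hRadmem] at hnot
    push Not at hnot
    obtain ⟨f, hf⟩ := hnot
    refine ⟨f, ?_⟩
    intro heq
    apply hf
    rw [hK₀mem]
    have e : betaF r f (i.out - j.out) = betaF r f i.out - betaF r f j.out := by
      have := betaF_add h f (i.out - j.out) j.out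
      rw [sub_add_cancel] at this
      rw [this]; ring
    rw [e, hsub, heq, hsq]
  have hbound := heis_bound B hBinj (fun f e => χ (betaF r f e)) hBcomm
    (fun i : F ⧸ Rad => i.out) hsep
  rw [← Nat.card_eq_fintype_card] at hbound
  calc Fintype.card F = Nat.card (F ⧸ Rad) * Nat.card Rad := hcard
    _ ≤ Nat.card (F ⧸ Rad) * 2 := Nat.mul_le_mul_left _ hRad
    _ ≤ (finrank ℂ ↥W * finrank ℂ ↥W) * 2 := Nat.mul_le_mul_right _ hbound
    _ = 2 * (finrank ℂ ↥W * finrank ℂ ↥W) := mul_comm _ _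

/-- The torus-orbit part of the bound. -/
theorem orbit_part [Fintype F] [FiniteDimensional ℂ V] {χ : F → ℂ}
    (hχ : wtSpace (X.zOp h ρ) χ ≠ ⊥) {b₁ : F} (hb₁ : χ b₁ ≠ 1) :
    (Fintype.card F - 1) * finrank ℂ (wtSpace (X.zOp h ρ) χ) ≤ finrank ℂ V := by
  classical
  have hsub := X.wt_sub h ρ hχ
  have hsq := X.wt_sq h ρ hχ
  let χk : Fˣ → (F → ℂ) := fun k c => χ (c / (k : F) ^ r)
  have hinj : Function.Injective χk := by
    intro k k' hkk
    have hk0 : (k : F) ^ r ≠ 0 := pow_ne_zero _ k.ne_zero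
    have hk0' : (k' : F) ^ r ≠ 0 := pow_ne_zero _ k'.ne_zero
    have hpow : (k : F) ^ r = (k' : F) ^ r := by
      by_contra hne
      have hδ : 1 / (k : F) ^ r - 1 / (k' : F) ^ r ≠ 0 := by
        intro hcon
        apply hne
        have h1 : 1 / (k : F) ^ r = 1 / (k' : F) ^ r := sub_eq_zero.mp hcon
        field_simp at h1
        exact h1.symm
      set c := b₁ / (1 / (k : F) ^ r - 1 / (k' : F) ^ r) with hc
      have h1 : c / (k : F) ^ r - c / (k' : F) ^ r = b₁ := by
        have : c / (k : F) ^ r - c / (k' : F) ^ r = c * (1 / (k : F) ^ r - 1 / (k' : F) ^ r) := by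
          ring
        rw [this, hc, div_mul_cancel₀ _ hδ]
      have h2 : χ (c / (k : F) ^ r) = χ (c / (k' : F) ^ r) := congrFun hkk c
      apply hb₁
      rw [← h1, hsub, h2, hsq]
    have := h.pow_injective hpow
    exact Units.ext this
  have hdim : ∀ k : Fˣ, finrank ℂ (wtSpace (X.zOp h ρ) χ) ≤
      finrank ℂ (wtSpace (X.zOp h ρ) (χk k)) := by
    intro k
    have hk0 : (k : F) ^ r ≠ 0 := pow_ne_zero _ k.ne_zero
    have hmaps : ∀ w ∈ wtSpace (X.zOp h ρ) χ, ρ (X.mEl h k) w ∈ wtSpace (X.zOp h ρ) (χk k) := by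
      intro w hw
      rw [mem_wtSpace] at hw ⊢
      intro c
      have h1 : X.zOp h ρ c (ρ (X.mEl h k) w) =
          ρ (X.mEl h k) (X.zOp h ρ (c / (k : F) ^ r) w) := by
        unfold zOp
        rw [← Module.End.mul_apply, ← Module.End.mul_apply, ← map_mul, ← map_mul, mEl_mul_zEl,
          div_mul_cancel₀ _ hk0]
      rw [h1, hw, map_smul]
    have hTinj : Function.Injective ((ρ (X.mEl h k)).restrict hmaps) := by
      intro w w' hww'
      have h1 : ρ (X.mEl h k) w = ρ (X.mEl h k) w' := congrArg Subtype.val hww'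
      have h2 := congrArg (ρ (X.mEl h k)⁻¹) h1
      rw [← Module.End.mul_apply, ← Module.End.mul_apply, ← map_mul, inv_mul_cancel,
        map_one] at h2
      exact Subtype.ext h2
    exact LinearMap.finrank_le_finrank_of_injective hTinj
  have h2 : (2 : ℂ) ≠ 0 := two_ne_zero
  have := sum_finrank_wtSpace_le h2 (X.zOp h ρ) (X.zOp_mul_self h ρ) (X.zOp_comm h ρ) χk hinj
    (finrank ℂ (wtSpace (X.zOp h ρ) χ)) hdim
  rwa [Fintype.card_units] at this

/-- The Landazuri–Seitz type bound: a representation nontrivial on the centre of the Sylow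
2-subgroup has large dimension. -/
theorem min_degree_aux [Fintype F] [FiniteDimensional ℂ V] {b₁ : F}
    (hb₁ : ρ (X.zEl h b₁) ≠ 1) :
    ∃ d : ℕ, Fintype.card F ≤ 2 * (d * d) ∧ (Fintype.card F - 1) * d ≤ finrank ℂ V := by
  have h2 : (2 : ℂ) ≠ 0 := two_ne_zero
  obtain ⟨χ, hχ, hχb⟩ := exists_wtSpace_ne_bot h2 (X.zOp h ρ) (X.zOp_mul_self h ρ)
    (X.zOp_comm h ρ) b₁ hb₁
  exact ⟨_, X.heis_part h ρ hχ hχb, X.orbit_part h ρ hχ hχb⟩

end rep

end SzModel

end Cfsg.Agent.Helper39
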