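import Mathlib
import Cfsg.Agent.Lib.Helper39.SzSimple
import Cfsg.Agent.Lib.Helper39.SzProj

set_option autoImplicit false

namespace Cfsg.Agent.Helper39

open Matrix Cfsg.Lie

variable {F : Type*} [Field F]

/-- The point at infinity, as a point of the ovoid. -/
def pInf (F : Type*) [Field F] (m : ℕ) : ↥(Cfsg.suzukiOvoid F m) :=
  ⟨Cfsg.suzukiPointInfinity F, ![1, 0, 0, 0], by simp, rfl, Or.inl rfl⟩

/-- The point zero, as a point of the ovoid. -/
def pZero (F : Type*) [Field F] (m : ℕ) : ↥(Cfsg.suzukiOvoid F m) :=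
  ⟨Cfsg.suzukiPointZero F, ![0, 0, 0, 1], by simp, rfl, Or.inr ⟨0, 0, by simp⟩⟩

theorem pInf_ne_pZero (m : ℕ) : pInf F m ≠ pZero F m := by
  intro hcon
  have h1 := congrArg Subtype.val hcon
  change Cfsg.suzukiPointInfinity F = Cfsg.suzukiPointZero F at h1
  unfold Cfsg.suzukiPointInfinity Cfsg.suzukiPointZero at h1
  rw [Projectivization.mk_eq_mk_iff] at h1
  obtain ⟨a, ha⟩ := h1
  have := congrFun ha 0
  simp at this

section

variable [Fintype F] (m : ℕ) (hm : 1 ≤ m) (hF : Fintype.card F = 2 ^ (2 * m + 1))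
include hm hF

theorem smul_pInf_eq_iff (g : ↥(Cfsg.Sz F m)) :
    g • pInf F m = pInf F m ↔ g ∈ (cfsgSzModel m hm hF).Bor (titsHyp_of_card m hF) := by
  rw [← stabilizer_infty_eq m hm hF, MulAction.mem_stabilizer_iff, Subtype.ext_iff]
  rfl

theorem smul_pInf_pZero_eq_iff (g : ↥(Cfsg.Sz F m)) :
    (g • pInf F m = pInf F m ∧ g • pZero F m = pZero F m) ↔
      g ∈ (cfsgSzModel m hm hF).Tor (titsHyp_of_card m hF) := by
  rw [← stabilizer_infty_zero_eq m hm hF, Subgroup.mem_inf, MulAction.mem_stabilizer_iff,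
    MulAction.mem_stabilizer_iff, Subtype.ext_iff, Subtype.ext_iff]
  rfl

theorem exists_smul_pInf (p : ↥(Cfsg.suzukiOvoid F m)) :
    ∃ g : ↥(Cfsg.Sz F m), g • pInf F m = p := by
  have h := titsHyp_of_card m hF
  obtain ⟨p, hp⟩ := p
  induction p using Projectivization.ind with
  | h v hv =>
    have hov := (mem_suzukiOvoid_iff m v hv).mp hp
    obtain ⟨M, hM, hvM⟩ := isSz_of_ovVec h hov
    refine ⟨(cfsgSzModel m hm hF).lift M hM, ?_⟩
    apply Subtype.ext
    change (((cfsgSzModel m hm hF).lift M hM : ↥(Cfsg.Sz F m)) :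
      Matrix.SpecialLinearGroup (Fin 4) F) • Cfsg.suzukiPointInfinity F = Projectivization.mk F v hv
    unfold Cfsg.suzukiPointInfinity
    rw [sl4_smul_mk_eq_iff]
    refine ⟨1, ?_⟩
    rw [one_smul, hvM, ← cfsgSzModel_φ m hm hF, SzModel.φ_lift]
    rfl

theorem tEl_smul_pInf :
    (cfsgSzModel m hm hF).tEl (titsHyp_of_card m hF) • pInf F m = pZero F m := by
  apply Subtype.ext
  change (((cfsgSzModel m hm hF).tEl (titsHyp_of_card m hF) : ↥(Cfsg.Sz F m)) :
    Matrix.SpecialLinearGroup (Fin 4) F) • Cfsg.suzukiPointInfinity F = Cfsg.suzukiPointZero F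
  unfold Cfsg.suzukiPointInfinity Cfsg.suzukiPointZero
  rw [sl4_smul_mk_eq_iff]
  refine ⟨1, ?_⟩
  rw [one_smul, ← cfsgSzModel_φ m hm hF, SzModel.φ_tEl, mulVec_e0]
  ext i
  fin_cases i <;> simp [tMat]

/-- The stabiliser of infinity is transitive on the other points (via the unipotent group). -/
theorem exists_uEl_smul_pZero (p : ↥(Cfsg.suzukiOvoid F m)) (hp : p ≠ pInf F m) :
    ∃ a b : F, (cfsgSzModel m hm hF).uEl (titsHyp_of_card m hF) a b • pZero F m = p := by
  have h := titsHyp_of_card m hF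
  obtain ⟨g, rfl⟩ := exists_smul_pInf m hm hF p
  have hg : g ∉ (cfsgSzModel m hm hF).Bor h := by
    intro hg
    exact hp ((smul_pInf_eq_iff m hm hF g).mpr hg)
  obtain ⟨a, b, b', hb', rfl⟩ := (cfsgSzModel m hm hF).bruhat' h hg
  refine ⟨a, b, ?_⟩
  rw [mul_smul, mul_smul, (smul_pInf_eq_iff m hm hF b').mpr hb', tEl_smul_pInf m hm hF]

theorem uEl_smul_pInf (a b : F) :
    (cfsgSzModel m hm hF).uEl (titsHyp_of_card m hF) a b • pInf F m = pInf F m :=
  (smul_pInf_eq_iff m hm hF _).mpr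
    ((cfsgSzModel m hm hF).Uni_le_Bor _ ((cfsgSzModel m hm hF).uEl_mem_Uni _ a b))

theorem two_pretransitive_ovoid :
    MulAction.IsMultiplyPretransitive (Cfsg.Sz F m) (Cfsg.suzukiOvoid F m) 2 := by
  apply two_pretransitive_of_bruhat (pInf F m) (pZero F m)
  · exact exists_smul_pInf m hm hF
  · intro p hp
    obtain ⟨a, b, hab⟩ := exists_uEl_smul_pZero m hm hF p hp
    exact ⟨_, uEl_smul_pInf m hm hF a b, hab⟩

/-- An element fixing infinity, zero and a third point is trivial. -/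
theorem eq_one_of_fix_three' (g : ↥(Cfsg.Sz F m)) (c : ↥(Cfsg.suzukiOvoid F m))
    (hc1 : c ≠ pInf F m) (hc2 : c ≠ pZero F m) (h1 : g • pInf F m = pInf F m)
    (h2 : g • pZero F m = pZero F m) (h3 : g • c = c) : g = 1 := by
  have h := titsHyp_of_card m hF
  set X := cfsgSzModel m hm hF with hX
  obtain ⟨k, rfl⟩ := (smul_pInf_pZero_eq_iff m hm hF g).mp ⟨h1, h2⟩
  obtain ⟨a, b, rfl⟩ := exists_uEl_smul_pZero m hm hF c hc1
  -- u⁻¹ m(k) u fixes infinity and zero
  have h4 : ((X.uEl h a b)⁻¹ * X.mEl h k * X.uEl h a b) • pZero F m = pZero F m := by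
    rw [mul_smul, mul_smul, h3, inv_smul_smul]
  have h5 : ((X.uEl h a b)⁻¹ * X.mEl h k * X.uEl h a b) • pInf F m = pInf F m := by
    rw [smul_pInf_eq_iff m hm hF]
    exact (X.Bor h).mul_mem ((X.Bor h).mul_mem ((X.Bor h).inv_mem
      (X.Uni_le_Bor h (X.uEl_mem_Uni h a b))) (X.mEl_mem_Bor h k))
      (X.Uni_le_Bor h (X.uEl_mem_Uni h a b))
  obtain ⟨k', hk'⟩ := (smul_pInf_pZero_eq_iff m hm hF _).mp ⟨h5, h4⟩
  -- m(k) u = u m(k')
  have h6 : X.mEl h k * X.uEl h a b = X.uEl h a b * X.mEl h k' := by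
    rw [hk']; group
  rw [X.mEl_mul_uEl h] at h6
  -- invert both sides to compare
  have h7 := congrArg (fun z => z⁻¹) h6
  simp only [_root_.mul_inv_rev, X.uEl_inv h, ← map_inv] at h7
  obtain ⟨hkk, ha, hb⟩ := X.mEl_mul_uEl_inj h h7
  have hkk' : k = k' := inv_injective hkk
  have hk0 : (k : F) ≠ 0 := k.ne_zero
  have hkr : (k : F) ^ (2 ^ (m + 1)) ≠ 0 := pow_ne_zero _ hk0
  have hk1 : (k : F) = 1 := by
    by_cases ha0 : a = 0
    · have hb0 : b ≠ 0 := by
        intro hb0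
        apply hc2
        rw [ha0, hb0, X.uEl_zero h, one_smul]
      rw [ha, ha0] at hb
      simp only [zero_mul, zero_add] at hb
      have : (k : F) ^ (2 ^ (m + 1)) = 1 := by
        have h8 : b * ((k : F) ^ (2 ^ (m + 1)) - 1) = 0 := by linear_combination hb
        rcases mul_eq_zero.mp h8 with h9 | h9
        · exact absurd h9 hb0
        · exact sub_eq_zero.mp h9
      exact h.eq_one_of_pow_eq_one this
    · have : (k : F) ^ (2 ^ (m + 1)) = (k : F) ^ 2 := by
        rw [div_eq_iff hkr] at ha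
        exact (mul_left_cancel₀ ha0 ha).symm
      exact h.eq_one_of_pow_eq_sq hk0 this
  have : k = 1 := Units.ext hk1
  rw [this, map_one]

theorem eq_one_of_fix_three (g : ↥(Cfsg.Sz F m)) (a b c : ↥(Cfsg.suzukiOvoid F m))
    (hab : a ≠ b) (hbc : b ≠ c) (hac : a ≠ c) (ha : g • a = a) (hb : g • b = b)
    (hc : g • c = c) : g = 1 := by
  have h2t := two_pretransitive_ovoid m hm hF
  rw [MulAction.is_two_pretransitive_iff] at h2t
  obtain ⟨k, hka, hkb⟩ := h2t hab (pInf_ne_pZero (F := F) m)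
  have key : k * g * k⁻¹ = 1 := by
    apply eq_one_of_fix_three' m hm hF (k * g * k⁻¹) (k • c)
    · rw [← hka]
      intro hcon
      exact hac (smul_left_cancel k hcon).symm
    · rw [← hkb]
      intro hcon
      exact hbc (smul_left_cancel k hcon).symm
    · rw [← hka, mul_smul, mul_smul, inv_smul_smul, ha]
    · rw [← hkb, mul_smul, mul_smul, inv_smul_smul, hb]
    · rw [mul_smul, mul_smul, inv_smul_smul, hc]
  have : g = k⁻¹ * (k * g * k⁻¹) * k := by group
  rw [this, key]; group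

end

end Cfsg.Agent.Helper39
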