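import Mathlib
import Cfsg.Agent.Lib.Helper39.UAutD

/-!
# Automorphisms of finite fields of characteristic two as Frobenius powers, and consequences for
involutory automorphisms of the unitary model group
-/

set_option autoImplicit false

namespace Cfsg.Agent.Helper39.UAut

open Cfsg.Agent.Helper63.SuzModel

section field

variable {K : Type*} [Field K] [Finite K]

theorem ringAut_eq_pow (h2 : (2 : K) = 0) (m : ℕ) (hcard : Nat.card K = 2 ^ m) (τ : K ≃+* K) :
    ∃ j < m, ∀ x, τ x = x ^ 2 ^ j := by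
  have : CharP K 2 := CharTwo.of_one_ne_zero_of_two_eq_zero one_ne_zero h2
  letI := ZMod.algebra K 2
  have hfr := Cfsg.Agent.Helper39.SzAutU.finrank_zmod2 (F := K) m hcard
  let τ' : K ≃ₐ[ZMod 2] K := AlgEquiv.ofRingEquiv (f := τ) (by
    intro x
    have : (τ : K →+* K).comp (algebraMap (ZMod 2) K) = algebraMap (ZMod 2) K :=
      Subsingleton.elim _ _
    exact RingHom.congr_fun this x)
  obtain ⟨j, hj⟩ := (FiniteField.bijective_frobeniusAlgEquivOfAlgebraic_pow (ZMod 2) K).2 τ'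
  refine ⟨j.1, by rw [← hfr]; exact j.2, ?_⟩
  intro x
  have h1 : τ x = τ' x := rfl
  rw [h1, ← hj]
  change (FiniteField.frobeniusAlgEquivOfAlgebraic (ZMod 2) K ^ j.1) x = _
  rw [AlgEquiv.coe_pow, FiniteField.coe_frobeniusAlgEquivOfAlgebraic_iterate, ZMod.card]

theorem pow_two_pow_eq_self_iff (h2 : (2 : K) = 0) (m : ℕ) (hcard : Nat.card K = 2 ^ m) (i : ℕ) :
    (∀ x : K, x ^ 2 ^ i = x) ↔ m ∣ i := by
  have : CharP K 2 := CharTwo.of_one_ne_zero_of_two_eq_zero one_ne_zero h2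
  letI := ZMod.algebra K 2
  have hfr := Cfsg.Agent.Helper39.SzAutU.finrank_zmod2 (F := K) m hcard
  have hord := FiniteField.orderOf_frobeniusAlgEquivOfAlgebraic (ZMod 2) K
  rw [hfr] at hord
  rw [← hord, orderOf_dvd_iff_pow_eq_one]
  constructor
  · intro h
    ext x
    rw [AlgEquiv.coe_pow, FiniteField.coe_frobeniusAlgEquivOfAlgebraic_iterate, ZMod.card]
    exact h x
  · intro h x
    have := DFunLike.congr_fun h x
    rw [AlgEquiv.coe_pow, FiniteField.coe_frobeniusAlgEquivOfAlgebraic_iterate, ZMod.card] at this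
    exact this

theorem ringAut_sq_fixes (h2 : (2 : K) = 0) (n : ℕ) (hcard : Nat.card K = 2 ^ (2 * n))
    (τ : K ≃+* K) (hτ : ∀ x, τ (τ x) = x) (t : K) (ht : t ^ 2 ^ n = t) : τ t = t := by
  obtain ⟨j, hj, hτj⟩ := ringAut_eq_pow h2 _ hcard τ
  have h1 : ∀ x : K, x ^ 2 ^ (2 * j) = x := by
    intro x
    have := hτ x
    rw [hτj, hτj, ← pow_mul, ← pow_add] at this
    rw [two_mul]
    exact this
  have h3 : 2 * n ∣ 2 * j := (pow_two_pow_eq_self_iff h2 _ hcard _).mp h1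
  have h4 : n ∣ j := by
    rcases Nat.eq_zero_or_pos n with h0 | h0
    · subst h0
      simp at hj
    · exact (Nat.mul_dvd_mul_iff_left (by norm_num)).mp h3
  obtain ⟨k, rfl⟩ := h4
  rw [hτj]
  clear hτj h1 h3 hj
  induction k with
  | zero => simp
  | succ k ih =>
    rw [Nat.mul_succ, pow_add, pow_mul, ih, ht]

theorem ringAut_cube_eq_id (h2 : (2 : K) = 0) (m : ℕ) (hcard : Nat.card K = 2 ^ m)
    (hm : ¬ 3 ∣ m) (τ : K ≃+* K) (hτ : ∀ x, τ (τ (τ x)) = x) (x : K) : τ x = x := by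
  obtain ⟨j, hj, hτj⟩ := ringAut_eq_pow h2 _ hcard τ
  have h1 : ∀ x : K, x ^ 2 ^ (3 * j) = x := by
    intro x
    have := hτ x
    rw [hτj, hτj, hτj, ← pow_mul, ← pow_mul, ← pow_add, ← pow_add] at this
    have e : 3 * j = j + (j + j) := by ring
    rw [e]
    exact this
  have h3 : m ∣ 3 * j := (pow_two_pow_eq_self_iff h2 _ hcard _).mp h1
  have hcop : Nat.Coprime m 3 := by
    rw [Nat.coprime_comm]
    exact (Nat.Prime.coprime_iff_not_dvd Nat.prime_three).mpr hm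
  have h4 : m ∣ j := hcop.dvd_of_dvd_mul_left h3
  have h5 : j = 0 := Nat.eq_zero_of_dvd_of_lt h4 hj
  rw [hτj, h5]
  simp

end field

section model

variable {K : Type*} [Field K] [CharP K 2] [Finite K] {σ : K →+* K} {hσ : ∀ x, σ (σ x) = x} {q : ℕ}

/-- an automorphism whose square acts trivially on `b`-coordinates and on the centre acts trivially on
the centre -/
theorem involutive_aut_fixes_center (hy : UHyp σ q) (n : ℕ) (hK : Nat.card K = 2 ^ (2 * n))
    (hq : q = 2 ^ n) (β : UM σ hσ ≃* UM σ hσ) (hβ : ∀ u, (β (β u)).b = u.b)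
    (hβz : ∀ u : UM σ hσ, u.b = 0 → β (β u) = u) (u : UM σ hσ) (hu : u.b = 0) : β u = u := by
  have h2 : (2 : K) = 0 := CharTwo.two_eq_zero
  obtain ⟨μ, τ, f, hf, h⟩ := aut_form hy.tr β hy.pow
  have h1 : ∀ b : K, (μ : K) * τ μ * τ (τ b) = b := by
    intro b
    have := hβ (lift hy.tr hσ b)
    rw [(h _).1, (h _).1, lift_b, map_mul] at this
    linear_combination this
  have hμτ : (μ : K) * τ μ = 1 := by
    have := h1 1
    rwa [map_one, map_one, mul_one] at this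
  have hττ : ∀ b, τ (τ b) = b := by
    intro b
    have := h1 b
    rwa [hμτ, one_mul] at this
  have hfix : ∀ t : K, σ t = t → τ t = t := by
    intro t ht
    apply ringAut_sq_fixes h2 n hK τ hττ
    rw [← hq, ← hy.pow]
    exact ht
  have hf0 : f 0 = 0 := map_zero f
  have hc : ∀ v : UM σ hσ, v.b = 0 → (β v).c = Nm σ (μ : K) * v.c := by
    intro v hv
    rw [(h v).2, hv, hf0, add_zero, hfix _ (fixed_c_of_b_zero v hv)]
  have hb : ∀ v : UM σ hσ, v.b = 0 → (β v).b = 0 := by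
    intro v hv
    rw [(h v).1, hv, map_zero, mul_zero]
  have hN : Nm σ (μ : K) = 1 := by
    have h3 := hβz (zel hσ 1 (map_one σ)) rfl
    have h4 := congrArg UM.c h3
    rw [hc _ (hb _ rfl), hc _ rfl, zel_c, mul_one] at h4
    have : (Nm σ (μ : K) - 1) ^ 2 = 0 := by
      linear_combination h4 - (Nm σ (μ : K)) * h2 + h2
    exact sub_eq_zero.mp (pow_eq_zero_iff two_ne_zero |>.mp this)
  ext
  · rw [hb u hu, hu]
  · rw [hc u hu, hN, one_mul]

/-- there is no `S₃`-like configuration in the automorphism group of the model group over the field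
with 16 elements -/
theorem no_S3 (hy : UHyp σ q) (hK : Nat.card K = 2 ^ (2 * 2)) (hq : q = 2 ^ 2)
    (a t : UM σ hσ ≃* UM σ hσ) (ha : a ≠ 1) (ha3 : a ^ 3 = 1) (ht2 : t ^ 2 = 1)
    (hat : a * t * a = t) : False := by
  have h2 : (2 : K) = 0 := CharTwo.two_eq_zero
  obtain ⟨μ₃, τ₃, f₃, hf₃, h₃⟩ := aut_form hy.tr a hy.pow
  obtain ⟨μ₂, τ₂, f₂, hf₂, h₂⟩ := aut_form hy.tr t hy.pow
  -- the cube
  have e3 : ∀ u, a (a (a u)) = u := by
    intro u
    have : (a ^ 3) u = u := by rw [ha3]; rfl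
    exact this
  have c1 : ∀ b : K, (μ₃ : K) * τ₃ μ₃ * τ₃ (τ₃ μ₃) * τ₃ (τ₃ (τ₃ b)) = b := by
    intro b
    have := congrArg UM.b (e3 (lift hy.tr hσ b))
    rw [(h₃ _).1, (h₃ _).1, (h₃ _).1, lift_b, map_mul, map_mul, map_mul] at this
    linear_combination this
  have c2 : (μ₃ : K) * τ₃ μ₃ * τ₃ (τ₃ μ₃) = 1 := by
    have := c1 1
    rwa [map_one, map_one, map_one, mul_one] at this
  have c3 : ∀ b, τ₃ (τ₃ (τ₃ b)) = b := by
    intro b
    have := c1 b
    rwa [c2, one_mul] at this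
  have hτ₃ : ∀ b, τ₃ b = b := ringAut_cube_eq_id h2 _ hK (by norm_num) τ₃ c3
  have hμ₃ : (μ₃ : K) ^ 3 = 1 := by
    rw [hτ₃, hτ₃] at c2
    linear_combination c2
  -- the involution
  have e2 : ∀ u, t (t u) = u := by
    intro u
    have : (t ^ 2) u = u := by rw [ht2]; rfl
    exact this
  have d1 : ∀ b : K, (μ₂ : K) * τ₂ μ₂ * τ₂ (τ₂ b) = b := by
    intro b
    have := congrArg UM.b (e2 (lift hy.tr hσ b))
    rw [(h₂ _).1, (h₂ _).1, lift_b, map_mul] at this
    linear_combination this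
  have d2 : (μ₂ : K) * τ₂ μ₂ = 1 := by
    have := d1 1
    rwa [map_one, map_one, mul_one] at this
  have d3 : ∀ b, τ₂ (τ₂ b) = b := by
    intro b
    have := d1 b
    rwa [d2, one_mul] at this
  have hσμ₃ : (μ₃ : K) ^ 2 ^ 2 = μ₃ := by
    have : (μ₃ : K) ^ 2 ^ 2 = (μ₃ : K) ^ 3 * μ₃ := by ring
    rw [this, hμ₃, one_mul]
  have hτ₂μ₃ : τ₂ μ₃ = μ₃ := ringAut_sq_fixes h2 2 hK τ₂ d3 _ hσμ₃
  -- the relation
  have r1 : ∀ u, a (t (a u)) = t u := by
    intro u
    have : (a * t * a) u = t u := by rw [hat]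
    exact this
  have r2 : (μ₃ : K) * μ₃ = 1 := by
    have := congrArg UM.b (r1 (lift hy.tr hσ 1))
    rw [(h₃ _).1, (h₂ _).1, (h₃ _).1, (h₂ _).1, lift_b] at this
    simp only [hτ₃, map_mul, map_one, mul_one, hτ₂μ₃] at this
    have hμ₂ : (μ₂ : K) ≠ 0 := μ₂.ne_zero
    have e : (μ₂ : K) * ((μ₃ : K) * μ₃) = μ₂ * 1 := by linear_combination this
    exact mul_left_cancel₀ hμ₂ e
  have hμ₃1 : (μ₃ : K) = 1 := by
    have : (μ₃ : K) ^ 3 = (μ₃ : K) * μ₃ * μ₃ := by ring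
    rw [this, r2, one_mul] at hμ₃
    exact hμ₃
  -- so `a` is central, hence of order at most two
  have hac : a ∈ centralAut σ hσ := by
    intro u
    rw [(h₃ u).1, hμ₃1, hτ₃, one_mul]
  obtain ⟨f, rfl⟩ := exists_cenAut hy hac
  have hsq := cenAut_sq (hσ := hσ) hy f
  apply ha
  have : cenAut hσ hy f ^ 3 = cenAut hσ hy f ^ 2 * cenAut hσ hy f := pow_succ _ 2
  rw [this, hsq, one_mul] at ha3
  exact ha3

end model

end Cfsg.Agent.Helper39.UAut
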